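import Groth.Prelude.Def_CAlg
import Mathlib.RingTheory.Ideal.AssociatedPrime.Basic
import Mathlib.RingTheory.Ideal.AssociatedPrime.Finiteness
import Mathlib.RingTheory.QuotSMulTop
import Mathlib.RingTheory.LocalRing.ResidueField.Basic
import Mathlib.RingTheory.Support
import Mathlib.RingTheory.KrullDimension.Regular
import Mathlib.RingTheory.Regular.LinearMap
import Mathlib.RingTheory.Nakayama

set_option autoImplicit false

universe u v

namespace Groth.Agent.Helper9.Depth

open RingTheory.Sequence

variable {A : Type u} [CommRing A] [IsLocalRing A] {M : Type v} [AddCommGroup M] [Module A M]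

lemma depth_eq_top_of_subsingleton [Subsingleton M] : LocCoh.depth A M = ⊤ := by
  unfold LocCoh.depth LocCoh.idealDepth
  rw [if_pos (Subsingleton.elim _ _)]

lemma smul_top_ne_top [Nontrivial M] [Module.Finite A M] :
    IsLocalRing.maximalIdeal A • (⊤ : Submodule A M) ≠ ⊤ :=
  (Submodule.top_ne_ideal_smul_of_le_jacobson_annihilator
    (IsLocalRing.maximalIdeal_le_jacobson _)).symm

lemma depth_eq_iSup [Nontrivial M] [Module.Finite A M] :
    LocCoh.depth A M = ⨆ (rs : List A)
      (_ : IsWeaklyRegular M rs ∧ ∀ r ∈ rs, r ∈ IsLocalRing.maximalIdeal A), (rs.length : ℕ∞) := by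
  unfold LocCoh.depth LocCoh.idealDepth
  rw [if_neg smul_top_ne_top]

lemma depth_eq_zero_iff_forall_not_regular [Nontrivial M] [Module.Finite A M] :
    LocCoh.depth A M = 0 ↔ ∀ x ∈ IsLocalRing.maximalIdeal A, ¬ IsSMulRegular M x := by
  rw [depth_eq_iSup]
  constructor
  · intro h x hx hreg
    have h1 : ((([x] : List A).length : ℕ) : ℕ∞) ≤ 0 := by
      rw [← h]
      refine le_iSup₂_of_le [x] ⟨(isWeaklyRegular_singleton_iff M x).2 hreg, ?_⟩ le_rfl
      intro r hr
      rw [List.mem_singleton] at hr
      rw [hr]
      exact hx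
    simp at h1
  · intro h
    rw [← bot_eq_zero, eq_bot_iff]
    refine iSup₂_le ?_
    rintro rs ⟨hreg, hmem⟩
    cases rs with
    | nil => simp
    | cons x rs' =>
      exfalso
      exact h x (hmem x (List.mem_cons_self)) ((isWeaklyRegular_cons_iff M x rs').1 hreg).1

theorem depth_eq_zero_iff_mem_associatedPrimes [IsNoetherianRing A] (M : Type v) [AddCommGroup M]
    [Module A M] [Module.Finite A M] :
    LocCoh.depth A M = 0 ↔ IsLocalRing.maximalIdeal A ∈ associatedPrimes A M := by
  rcases subsingleton_or_nontrivial M with hM | hM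
  · rw [depth_eq_top_of_subsingleton, associatedPrimes.eq_empty_of_subsingleton]
    simp
  · rw [depth_eq_zero_iff_forall_not_regular]
    have hfin : (associatedPrimes A M).Finite := associatedPrimes.finite A M
    have key := Ideal.subset_iUnion_iff_mem_of_isMaximal_of_finite
      (M := IsLocalRing.maximalIdeal A) hfin (IsLocalRing.maximalIdeal A) (IsLocalRing.maximalIdeal A)
      (fun I hI _ _ => IsAssociatedPrime.isPrime hI) (Ideal.IsMaximal.ne_top inferInstance)
      (Ideal.IsMaximal.ne_top inferInstance)
    rw [← key, biUnion_associatedPrimes_eq_compl_regular A M]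
    constructor
    · intro h x hx
      exact h x hx
    · intro h x hx
      exact h hx

end Groth.Agent.Helper9.Depth
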