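import Mathlib
import Groth.Prelude.Def_CAlg
import Groth.Agent.Lib.Helper9.Depth
import Groth.Agent.S5754

set_option autoImplicit false

universe u

namespace Groth.Agent.Helper9.Depth

open RingTheory.Sequence IsLocalRing CategoryTheory Abelian

section Dim

variable {R : Type*} [CommRing R]

lemma ringKrullDim_quotient_eq_coheight (p : PrimeSpectrum R) :
    ringKrullDim (R ⧸ p.asIdeal) = Order.coheight p := by
  rw [ringKrullDim_quotient, Order.coheight_eq_krullDim_Ici]
  have : PrimeSpectrum.zeroLocus (p.asIdeal : Set R) = Set.Ici p := by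
    ext q
    rw [PrimeSpectrum.mem_zeroLocus, Set.mem_Ici, ← PrimeSpectrum.asIdeal_le_asIdeal,
      SetLike.coe_subset_coe]
  rw [this]

lemma ringKrullDim_quotient_succ_le_of_lt {p q : PrimeSpectrum R} (h : p < q) :
    ringKrullDim (R ⧸ q.asIdeal) + 1 ≤ ringKrullDim (R ⧸ p.asIdeal) := by
  rw [ringKrullDim_quotient_eq_coheight, ringKrullDim_quotient_eq_coheight]
  exact_mod_cast Order.coheight_add_one_le h

lemma ringKrullDim_quotient_le_supportDim {M : Type*} [AddCommGroup M] [Module R M]
    {p : PrimeSpectrum R} (hp : p ∈ Module.support R M) :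
    ringKrullDim (R ⧸ p.asIdeal) ≤ Module.supportDim R M := by
  rw [ringKrullDim_quotient_eq_coheight, Order.coheight_eq_krullDim_Ici]
  exact Order.krullDim_le_of_strictMono
    (fun q : Set.Ici p => (⟨q.1, Module.mem_support_mono q.2 hp⟩ : Module.support R M))
    (fun a b h => h)

end Dim

section General

variable {A : Type u} [CommRing A] [IsLocalRing A] {M : Type u} [AddCommGroup M] [Module A M]

lemma le_depth_of_exists [Nontrivial M] [Module.Finite A M] (rs : List A)
    (hreg : IsWeaklyRegular M rs) (hmem : ∀ r ∈ rs, r ∈ maximalIdeal A) :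
    (rs.length : ℕ∞) ≤ LocCoh.depth A M := by
  rw [depth_eq_iSup]
  exact le_iSup₂_of_le rs ⟨hreg, hmem⟩ le_rfl

lemma exists_of_le_depth [Nontrivial M] [Module.Finite A M] (n : ℕ)
    (h : (n : ℕ∞) ≤ LocCoh.depth A M) :
    ∃ rs : List A, rs.length = n ∧ IsWeaklyRegular M rs ∧ ∀ r ∈ rs, r ∈ maximalIdeal A := by
  rw [depth_eq_iSup] at h
  by_contra hcon
  push Not at hcon
  have hlt : ∀ (rs : List A), IsWeaklyRegular M rs ∧ (∀ r ∈ rs, r ∈ maximalIdeal A) →
      rs.length < n := by
    rintro rs ⟨hreg, hmem⟩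
    by_contra hge
    push Not at hge
    have hsplit : rs = rs.take n ++ rs.drop n := (List.take_append_drop n rs).symm
    have hreg' : IsWeaklyRegular M (rs.take n) := by
      rw [hsplit, isWeaklyRegular_append_iff] at hreg
      exact hreg.1
    obtain ⟨r, hr, hr'⟩ := hcon (rs.take n) (by simp [hge]) hreg'
    exact hr' (hmem r (List.mem_of_mem_take hr))
  cases n with
  | zero =>
    obtain ⟨r, hr, -⟩ := hcon [] rfl (IsWeaklyRegular.nil A M)
    simp at hr
  | succ k =>
    have h1 : (⨆ (rs : List A) (_ : IsWeaklyRegular M rs ∧ ∀ r ∈ rs, r ∈ maximalIdeal A),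
        (rs.length : ℕ∞)) ≤ k := by
      refine iSup₂_le fun rs hrs => ?_
      exact_mod_cast Nat.lt_succ_iff.mp (hlt rs hrs)
    have h2 := h.trans h1
    have h3 : k + 1 ≤ k := by exact_mod_cast h2
    omega

lemma natCast_le_supportDim_of_le_depth [IsNoetherianRing A] [Nontrivial M] [Module.Finite A M]
    (n : ℕ) (h : (n : ℕ∞) ≤ LocCoh.depth A M) : (n : WithBot ℕ∞) ≤ Module.supportDim A M := by
  obtain ⟨rs, hlen, hreg, hmem⟩ := exists_of_le_depth n h
  have hR : IsRegular M rs := IsRegular.of_isWeaklyRegular_of_mem_maximalIdeal M hmem hreg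
  have h1 := Module.supportDim_add_length_eq_supportDim_of_isRegular rs hR
  haveI : Nontrivial (M ⧸ Ideal.ofList rs • (⊤ : Submodule A M)) :=
    Submodule.Quotient.nontrivial_iff.mpr hR.2.symm
  have h2 : (0 : WithBot ℕ∞) ≤ Module.supportDim A (M ⧸ Ideal.ofList rs • (⊤ : Submodule A M)) := by
    have hne := (Module.supportDim_ne_bot_iff_nontrivial A
      (M ⧸ Ideal.ofList rs • (⊤ : Submodule A M))).2 inferInstance
    rcases h3 : Module.supportDim A (M ⧸ Ideal.ofList rs • (⊤ : Submodule A M)) with _ | d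
    · exact absurd h3 hne
    · exact WithBot.coe_le_coe.2 bot_le
  rw [← h1, hlen]
  calc (n : WithBot ℕ∞) = 0 + n := (zero_add _).symm
    _ ≤ _ := add_le_add h2 le_rfl

lemma exists_depth_eq_nat [IsNoetherianRing A] [Nontrivial M] [Module.Finite A M] :
    ∃ n : ℕ, LocCoh.depth A M = n := by
  by_contra hcon
  push Not at hcon
  have htop : LocCoh.depth A M = ⊤ := by
    rcases h : LocCoh.depth A M with _ | n
    · rfl
    · exact absurd h (hcon n)
  have hlt : ringKrullDim A < ⊤ := ringKrullDim_lt_top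
  have hle : Module.supportDim A M ≤ ringKrullDim A := Module.supportDim_le_ringKrullDim A M
  have hall : ∀ n : ℕ, (n : WithBot ℕ∞) ≤ ringKrullDim A := fun n =>
    (natCast_le_supportDim_of_le_depth n (by rw [htop]; exact le_top)).trans hle
  obtain ⟨d, hd⟩ := WithBot.ne_bot_iff_exists.1 (ringKrullDim_ne_bot (R := A))
  have hdtop : d ≠ ⊤ := by
    intro h
    rw [h] at hd
    exact (ringKrullDim_ne_top (R := A)) hd.symm
  obtain ⟨m, hm⟩ := ENat.ne_top_iff_exists.1 hdtop
  have := hall (m + 1)
  rw [← hd, ← hm] at this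
  have h5 : m + 1 ≤ m := by exact_mod_cast this
  omega

lemma depth_le_supportDim [IsNoetherianRing A] [Nontrivial M] [Module.Finite A M] :
    ((LocCoh.depth A M : ℕ∞) : WithBot ℕ∞) ≤ Module.supportDim A M := by
  obtain ⟨n, hn⟩ := exists_depth_eq_nat (A := A) (M := M)
  rw [hn]
  exact natCast_le_supportDim_of_le_depth n (le_of_eq hn.symm)

lemma le_depth_iff_ext [IsNoetherianRing A] [Nontrivial M] [Module.Finite A M] (n : ℕ) :
    (n : ℕ∞) ≤ LocCoh.depth A M ↔
      ∀ i < n, Subsingleton (Ext (ModuleCat.of A (Shrink.{u} (A ⧸ maximalIdeal A)))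
        (ModuleCat.of A M) i) := by
  have smul_lt : maximalIdeal A • (⊤ : Submodule A (ModuleCat.of A M)) < ⊤ :=
    lt_top_iff_ne_top.2 (smul_top_ne_top (A := A) (M := M))
  have tfae := ModuleCat.exists_isRegular_tfae (maximalIdeal A) n (ModuleCat.of A M) smul_lt
  have h13 : (∀ i < n, Subsingleton (Ext (ModuleCat.of A (Shrink.{u} (A ⧸ maximalIdeal A)))
      (ModuleCat.of A M) i)) ↔ ∃ rs : List A, rs.length = n ∧ (∀ r ∈ rs, r ∈ maximalIdeal A) ∧
      IsRegular (ModuleCat.of A M) rs := tfae.out 1 3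
  rw [h13]
  constructor
  · intro h
    obtain ⟨rs, hlen, hreg, hmem⟩ := exists_of_le_depth n h
    exact ⟨rs, hlen, hmem, IsRegular.of_isWeaklyRegular_of_mem_maximalIdeal M hmem hreg⟩
  · rintro ⟨rs, hlen, hmem, hreg⟩
    rw [← hlen]
    exact le_depth_of_exists rs hreg.1 hmem

theorem depth_quotSMulTop_succ [IsNoetherianRing A] [Nontrivial M] [Module.Finite A M] {x : A}
    (hx : x ∈ maximalIdeal A) (hreg : IsSMulRegular M x) :
    LocCoh.depth A (QuotSMulTop x M) + 1 = LocCoh.depth A M := by
  haveI : Nontrivial (QuotSMulTop x M) := nontrivial_quotSMulTop_of_mem_maximalIdeal M hx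
  apply le_antisymm
  · obtain ⟨d, hd⟩ := exists_depth_eq_nat (A := A) (M := QuotSMulTop x M)
    rw [hd]
    obtain ⟨rs, hlen, hrs, hmem⟩ := exists_of_le_depth (M := QuotSMulTop x M) d (le_of_eq hd.symm)
    have h1 : IsWeaklyRegular M (x :: rs) := (isWeaklyRegular_cons_iff M x rs).2 ⟨hreg, hrs⟩
    have h2 := le_depth_of_exists (x :: rs) h1 (by
      intro r hr
      rcases List.mem_cons.1 hr with rfl | hr
      · exact hx
      · exact hmem r hr)
    rw [List.length_cons, hlen] at h2
    exact_mod_cast h2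
  · obtain ⟨d, hd⟩ := exists_depth_eq_nat (A := A) (M := M)
    rw [hd]
    cases d with
    | zero => simp
    | succ k =>
      have hk : (k : ℕ∞) ≤ LocCoh.depth A (QuotSMulTop x M) := by
        rw [le_depth_iff_ext]
        intro i hi
        have h_ext := (le_depth_iff_ext (M := M) (k + 1)).1 (le_of_eq hd.symm)
        have zero1 := AddCommGrpCat.isZero_of_iff_subsingleton.mpr (h_ext i (by omega))
        have zero2 := AddCommGrpCat.isZero_of_iff_subsingleton.mpr (h_ext (i + 1) (by omega))
        have hS : (ModuleCat.smulShortComplex (ModuleCat.of A M) x).ShortExact :=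
          IsSMulRegular.smulShortComplex_shortExact (M := ModuleCat.of A M) hreg
        exact AddCommGrpCat.subsingleton_of_isZero <| ShortComplex.Exact.isZero_of_both_zeros
          ((Ext.covariant_sequence_exact₃' (ModuleCat.of A (Shrink.{u} (A ⧸ maximalIdeal A))) hS)
            i (i + 1) rfl)
          (zero1.eq_zero_of_src _) (zero2.eq_zero_of_tgt _)
      calc ((k + 1 : ℕ) : ℕ∞) = (k : ℕ∞) + 1 := by push_cast; rfl
        _ ≤ LocCoh.depth A (QuotSMulTop x M) + 1 := add_le_add hk le_rfl

end General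

end Groth.Agent.Helper9.Depth
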