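import Mathlib
import Groth.Prelude.Def_CAlg
import Groth.Agent.Lib.Helper9.Depth2

set_option autoImplicit false
set_option linter.style.haveILetI false
set_option linter.unusedSectionVars false

universe u

namespace Groth.Agent.Helper9.Depth

open RingTheory.Sequence IsLocalRing

section CM

variable {A : Type u} [CommRing A] [IsLocalRing A] [IsNoetherianRing A]

lemma exists_supportDim_eq_nat (M : Type*) [AddCommGroup M] [Module A M] [Nontrivial M]
    [Module.Finite A M] : ∃ d : ℕ, Module.supportDim A M = d := by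
  have hne := (Module.supportDim_ne_bot_iff_nontrivial A M).2 inferInstance
  have hle : Module.supportDim A M ≤ ringKrullDim A := Module.supportDim_le_ringKrullDim A M
  have hlt : ringKrullDim A < ⊤ := ringKrullDim_lt_top
  obtain ⟨d, hd⟩ := WithBot.ne_bot_iff_exists.1 hne
  have hdtop : d ≠ ⊤ := by
    rintro rfl
    rw [← hd] at hle
    exact absurd (lt_of_le_of_lt hle hlt) (by simp)
  obtain ⟨m, hm⟩ := ENat.ne_top_iff_exists.1 hdtop
  exact ⟨m, by rw [← hd, ← hm]; rfl⟩

theorem natCast_le_dim_quotient_of_mem_associatedPrimes (n : ℕ) :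
    ∀ (M : Type u) [AddCommGroup M] [Module A M] [Module.Finite A M],
      LocCoh.depth A M = n → ∀ p ∈ associatedPrimes A M,
        (n : WithBot ℕ∞) ≤ ringKrullDim (A ⧸ p) := by
  induction n with
  | zero =>
    intro M _ _ _ _ p hp
    haveI := (AssociatedPrimes.mem_iff.mp hp).isPrime
    exact_mod_cast ringKrullDim_nonneg_of_nontrivial (R := A ⧸ p)
  | succ k ih =>
    intro M _ _ _ hd p hp
    have hpa := AssociatedPrimes.mem_iff.mp hp
    haveI hpp := hpa.isPrime
    haveI : Nontrivial M := by
      by_contra h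
      rw [not_nontrivial_iff_subsingleton] at h
      exact not_isAssociatedPrime_of_subsingleton hpa
    obtain ⟨rs, hlen, hreg, hmem⟩ := exists_of_le_depth (M := M) 1 (by
      rw [hd]; exact_mod_cast Nat.succ_le_succ (Nat.zero_le k))
    obtain ⟨x, rfl⟩ := List.length_eq_one_iff.mp hlen
    have hxreg : IsSMulRegular M x := (isWeaklyRegular_singleton_iff M x).mp hreg
    have hxm : x ∈ maximalIdeal A := hmem x (by simp)
    haveI : Nontrivial (QuotSMulTop x M) := nontrivial_quotSMulTop_of_mem_maximalIdeal M hxm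
    have hdq := depth_quotSMulTop_succ hxm hxreg
    have hdq' : LocCoh.depth A (QuotSMulTop x M) = k := by
      obtain ⟨e, he⟩ := exists_depth_eq_nat (A := A) (M := QuotSMulTop x M)
      rw [hd, he] at hdq
      have : e + 1 = k + 1 := by exact_mod_cast hdq
      rw [he]
      have : e = k := by omega
      rw [this]
    obtain ⟨_, y, hy⟩ := isAssociatedPrime_iff.mp hpa
    have hxp : x ∉ p := by
      intro hx
      have hx' := hx
      rw [hy, Submodule.mem_colon_singleton] at hx'
      have h0 : x • y = 0 := by simpa using hx'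
      have hy0 : y = 0 := hxreg (by simpa using h0)
      apply hpp.ne_top
      rw [Ideal.eq_top_iff_one, hy, Submodule.mem_colon_singleton]
      simp [hy0]
    have hne : p ⊔ Ideal.span {x} ≠ ⊤ := by
      intro h
      have hle : p ⊔ Ideal.span {x} ≤ maximalIdeal A :=
        sup_le (le_maximalIdeal hpp.ne_top) ((Ideal.span_singleton_le_iff_mem _).mpr hxm)
      rw [h] at hle
      exact (maximalIdeal.isMaximal A).ne_top (top_le_iff.mp hle)
    obtain ⟨q, hq⟩ := Ideal.nonempty_minimalPrimes hne
    have hqAss := Groth.Agent.S5754.result A M x hxreg p hp q hq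
    have hk := ih (QuotSMulTop x M) hdq' q hqAss
    haveI hqp : q.IsPrime := hq.1.1
    have hlt : (⟨p, hpp⟩ : PrimeSpectrum A) < ⟨q, hqp⟩ := by
      rw [← PrimeSpectrum.asIdeal_lt_asIdeal]
      refine lt_of_le_of_ne (le_sup_left.trans hq.1.2) ?_
      intro hpq
      apply hxp
      change x ∈ (⟨p, hpp⟩ : PrimeSpectrum A).asIdeal
      rw [hpq]
      exact hq.1.2 (Ideal.mem_sup_right (Ideal.mem_span_singleton_self x))
    have h3 := ringKrullDim_quotient_succ_le_of_lt hlt
    calc ((k + 1 : ℕ) : WithBot ℕ∞) = (k : WithBot ℕ∞) + 1 := by push_cast; rfl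
      _ ≤ ringKrullDim (A ⧸ q) + 1 := add_le_add hk le_rfl
      _ ≤ _ := h3

variable {M : Type u} [AddCommGroup M] [Module A M] [Module.Finite A M]

lemma nontrivial_of_isCM (hM : LocCoh.IsCohenMacaulayModule A M) : Nontrivial M := by
  rw [← Module.supportDim_ne_bot_iff_nontrivial A M, hM]
  exact WithBot.coe_ne_bot

theorem dim_quotient_eq_of_isCM (hM : LocCoh.IsCohenMacaulayModule A M) (p : Ideal A)
    (hp : p ∈ associatedPrimes A M) : ringKrullDim (A ⧸ p) = Module.supportDim A M := by
  haveI := nontrivial_of_isCM hM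
  obtain ⟨n, hn⟩ := exists_depth_eq_nat (A := A) (M := M)
  have h1 := natCast_le_dim_quotient_of_mem_associatedPrimes n M hn p hp
  have hpa := AssociatedPrimes.mem_iff.mp hp
  haveI := hpa.isPrime
  have hsupp : (⟨p, hpa.isPrime⟩ : PrimeSpectrum A) ∈ Module.support A M := by
    rw [Module.mem_support_iff_of_finite]; simpa [Submodule.annihilator_top] using hpa.annihilator_le
  have h2 := ringKrullDim_quotient_le_supportDim hsupp
  unfold LocCoh.IsCohenMacaulayModule at hM
  rw [hn] at hM
  exact le_antisymm h2 (by rw [hM]; exact h1)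

theorem isCM_quotSMulTop (hM : LocCoh.IsCohenMacaulayModule A M) {x : A}
    (hx : x ∈ maximalIdeal A) (hreg : IsSMulRegular M x) :
    LocCoh.IsCohenMacaulayModule A (QuotSMulTop x M) := by
  haveI := nontrivial_of_isCM hM
  haveI : Nontrivial (QuotSMulTop x M) := nontrivial_quotSMulTop_of_mem_maximalIdeal M hx
  have h1 := depth_quotSMulTop_succ hx hreg
  have h2 := Module.supportDim_quotSMulTop_succ_eq_supportDim hreg hx
  obtain ⟨d, hd⟩ := exists_supportDim_eq_nat (A := A) (QuotSMulTop x M)
  obtain ⟨e, he⟩ := exists_depth_eq_nat (A := A) (M := QuotSMulTop x M)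
  unfold LocCoh.IsCohenMacaulayModule at hM ⊢
  rw [hd, he]
  rw [← h2, ← h1, hd, he] at hM
  have h3 : d + 1 = e + 1 := by exact_mod_cast hM
  have : d = e := by omega
  rw [this]; rfl

theorem isSMulRegular_of_supportDim_drop (hM : LocCoh.IsCohenMacaulayModule A M) {x : A}
    (hx : x ∈ maximalIdeal A)
    (h : Module.supportDim A (QuotSMulTop x M) + 1 = Module.supportDim A M) :
    IsSMulRegular M x := by
  haveI := nontrivial_of_isCM hM
  haveI : Nontrivial (QuotSMulTop x M) := nontrivial_quotSMulTop_of_mem_maximalIdeal M hx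
  by_contra hnreg
  have hmem : x ∈ ⋃ p ∈ associatedPrimes A M, (p : Set A) := by
    rw [biUnion_associatedPrimes_eq_compl_regular]; exact hnreg
  simp only [Set.mem_iUnion] at hmem
  obtain ⟨p, hp, hxp⟩ := hmem
  have hdim := dim_quotient_eq_of_isCM hM p hp
  have hpa := AssociatedPrimes.mem_iff.mp hp
  have hsupp : (⟨p, hpa.isPrime⟩ : PrimeSpectrum A) ∈ Module.support A (QuotSMulTop x M) := by
    rw [Module.support_quotSMulTop]
    refine ⟨?_, ?_⟩
    · rw [Module.mem_support_iff_of_finite]; simpa [Submodule.annihilator_top] using hpa.annihilator_le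
    · simpa using hxp
  have h3 := ringKrullDim_quotient_le_supportDim hsupp
  change ringKrullDim (A ⧸ p) ≤ _ at h3
  rw [hdim, ← h] at h3
  obtain ⟨d, hd⟩ := exists_supportDim_eq_nat (A := A) (QuotSMulTop x M)
  rw [hd] at h3
  have : d + 1 ≤ d := by exact_mod_cast h3
  omega

end CM

end Groth.Agent.Helper9.Depth
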