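import Mathlib
import Groth.Prelude.Def_CAlg
import Groth.Agent.Lib.Helper9.Depth3

set_option autoImplicit false
set_option linter.style.haveILetI false
set_option linter.unusedSectionVars false

universe u

namespace Groth.Agent.Helper9.Depth

open RingTheory.Sequence IsLocalRing

section Congr

variable {A : Type u} [CommRing A] [IsLocalRing A]

lemma smul_top_eq_top_of_equiv {M N : Type*} [AddCommGroup M] [Module A M] [AddCommGroup N]
    [Module A N] (e : M ≃ₗ[A] N) (I : Ideal A) (h : I • (⊤ : Submodule A M) = ⊤) :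
    I • (⊤ : Submodule A N) = ⊤ := by
  have h1 := congrArg (Submodule.map e.toLinearMap) h
  rw [Submodule.map_smul'', Submodule.map_top, LinearMap.range_eq_top.2 e.surjective] at h1
  exact h1

lemma depth_congr {M N : Type*} [AddCommGroup M] [Module A M] [AddCommGroup N]
    [Module A N] (e : M ≃ₗ[A] N) : LocCoh.depth A M = LocCoh.depth A N := by
  unfold LocCoh.depth LocCoh.idealDepth
  have h1 : (maximalIdeal A • (⊤ : Submodule A M) = ⊤) ↔
      (maximalIdeal A • (⊤ : Submodule A N) = ⊤) :=
    ⟨smul_top_eq_top_of_equiv e _, smul_top_eq_top_of_equiv e.symm _⟩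
  have h2 : ∀ rs : List A, IsWeaklyRegular M rs ↔ IsWeaklyRegular N rs :=
    fun rs => e.isWeaklyRegular_congr rs
  by_cases hc : maximalIdeal A • (⊤ : Submodule A M) = ⊤
  · rw [if_pos hc, if_pos (h1.1 hc)]
  · rw [if_neg hc, if_neg (fun h => hc (h1.2 h))]
    simp only [h2]

lemma isCM_congr {M N : Type*} [AddCommGroup M] [Module A M] [AddCommGroup N]
    [Module A N] (e : M ≃ₗ[A] N) (h : LocCoh.IsCohenMacaulayModule A M) :
    LocCoh.IsCohenMacaulayModule A N := by
  unfold LocCoh.IsCohenMacaulayModule at h ⊢
  rw [← Module.supportDim_eq_of_equiv e, ← depth_congr e]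
  exact h

end Congr

section List

variable {A : Type u} [CommRing A] [IsLocalRing A] [IsNoetherianRing A]

lemma ofList_le_maximalIdeal (xs : List A) (hxs : ∀ x ∈ xs, x ∈ maximalIdeal A) :
    Ideal.ofList xs ≤ maximalIdeal A := by
  unfold Ideal.ofList
  rw [Ideal.span_le]
  intro x hx
  exact hxs x hx

lemma nontrivial_quotient_ofList (M : Type*) [AddCommGroup M] [Module A M] [Module.Finite A M]
    [Nontrivial M] (xs : List A) (hxs : ∀ x ∈ xs, x ∈ maximalIdeal A) :
    Nontrivial (M ⧸ (Ideal.ofList xs • (⊤ : Submodule A M))) := by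
  rw [Submodule.Quotient.nontrivial_iff]
  intro h
  have h2 : maximalIdeal A • (⊤ : Submodule A M) = ⊤ := by
    rw [eq_top_iff]
    calc (⊤ : Submodule A M) = Ideal.ofList xs • (⊤ : Submodule A M) := h.symm
      _ ≤ _ := Submodule.smul_mono_left (ofList_le_maximalIdeal xs hxs)
  exact smul_top_ne_top (A := A) (M := M) h2

theorem supportDim_le_quotient_add_length (xs : List A) :
    ∀ (M : Type u) [AddCommGroup M] [Module A M] [Module.Finite A M],
      (∀ x ∈ xs, x ∈ maximalIdeal A) →
      Module.supportDim A M ≤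
        Module.supportDim A (M ⧸ (Ideal.ofList xs • (⊤ : Submodule A M))) + xs.length := by
  induction xs with
  | nil =>
    intro M _ _ _ _
    rw [Ideal.ofList_nil, Submodule.bot_smul]
    simpa using (Module.supportDim_eq_of_equiv (Submodule.quotEquivOfEqBot (⊥ : Submodule A M) rfl)).ge
  | cons x xs ih =>
    intro M _ _ _ hmem
    have hx : x ∈ maximalIdeal A := hmem x (by simp)
    have h1 := Module.supportDim_le_supportDim_quotSMulTop_succ (M := M) hx
    have h2 := ih (QuotSMulTop x M) (fun y hy => hmem y (List.mem_cons_of_mem _ hy))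
    rw [Module.supportDim_eq_of_equiv
      (Submodule.quotOfListConsSMulTopEquivQuotSMulTopInner M x xs)]
    calc Module.supportDim A M ≤ Module.supportDim A (QuotSMulTop x M) + 1 := h1
      _ ≤ (Module.supportDim A (QuotSMulTop x M ⧸
            (Ideal.ofList xs • (⊤ : Submodule A (QuotSMulTop x M)))) + xs.length) + 1 :=
          add_le_add h2 le_rfl
      _ = _ := by rw [List.length_cons]; push_cast; rw [add_assoc]

theorem cm_list (xs : List A) :
    ∀ (M : Type u) [AddCommGroup M] [Module A M] [Module.Finite A M],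
      LocCoh.IsCohenMacaulayModule A M → (∀ x ∈ xs, x ∈ maximalIdeal A) →
      ((Module.supportDim A (M ⧸ (Ideal.ofList xs • (⊤ : Submodule A M))) + xs.length =
          Module.supportDim A M → IsWeaklyRegular M xs) ∧
        (IsWeaklyRegular M xs →
          LocCoh.IsCohenMacaulayModule A (M ⧸ (Ideal.ofList xs • (⊤ : Submodule A M))))) := by
  induction xs with
  | nil =>
    intro M _ _ _ hM _
    refine ⟨fun _ => IsWeaklyRegular.nil A M, fun _ => ?_⟩
    refine isCM_congr (Submodule.quotEquivOfEqBot _ ?_).symm hM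
    rw [Ideal.ofList_nil, Submodule.bot_smul]
  | cons x xs ih =>
    intro M _ _ _ hM hmem
    haveI := nontrivial_of_isCM hM
    have hx : x ∈ maximalIdeal A := hmem x (by simp)
    have hxs : ∀ y ∈ xs, y ∈ maximalIdeal A := fun y hy => hmem y (List.mem_cons_of_mem _ hy)
    haveI : Nontrivial (QuotSMulTop x M) := nontrivial_quotSMulTop_of_mem_maximalIdeal M hx
    let e := Submodule.quotOfListConsSMulTopEquivQuotSMulTopInner M x xs
    constructor
    · intro hdim
      haveI := nontrivial_quotient_ofList (QuotSMulTop x M) xs hxs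
      have h1 := Module.supportDim_le_supportDim_quotSMulTop_succ (M := M) hx
      have h2 := supportDim_le_quotient_add_length xs (QuotSMulTop x M) hxs
      rw [Module.supportDim_eq_of_equiv e] at hdim
      obtain ⟨a, ha⟩ := exists_supportDim_eq_nat (A := A)
        (QuotSMulTop x M ⧸ (Ideal.ofList xs • (⊤ : Submodule A (QuotSMulTop x M))))
      obtain ⟨b, hb⟩ := exists_supportDim_eq_nat (A := A) (QuotSMulTop x M)
      obtain ⟨c, hc⟩ := exists_supportDim_eq_nat (A := A) M
      rw [ha, hc, List.length_cons] at hdim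
      rw [hb, hc] at h1
      rw [ha, hb] at h2
      have hdim' : a + (xs.length + 1) = c := by exact_mod_cast hdim
      have h1' : c ≤ b + 1 := by exact_mod_cast h1
      have h2' : b ≤ a + xs.length := by exact_mod_cast h2
      have hbc : b + 1 = c := by omega
      have hab : a + xs.length = b := by omega
      have hreg : IsSMulRegular M x := by
        apply isSMulRegular_of_supportDim_drop hM hx
        rw [hb, hc]; exact_mod_cast hbc
      have hQ := isCM_quotSMulTop hM hx hreg
      have hxsreg := (ih (QuotSMulTop x M) hQ hxs).1 (by rw [ha, hb]; exact_mod_cast hab)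
      exact (isWeaklyRegular_cons_iff M x xs).2 ⟨hreg, hxsreg⟩
    · intro hreg
      obtain ⟨hreg1, hreg2⟩ := (isWeaklyRegular_cons_iff M x xs).1 hreg
      have hQ := isCM_quotSMulTop hM hx hreg1
      exact isCM_congr e.symm ((ih (QuotSMulTop x M) hQ hxs).2 hreg2)

end List

end Groth.Agent.Helper9.Depth
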