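import Mathlib
import Groth.Prelude.Def_CAlg
import Groth.Agent.Lib.Helper9.Depth4

set_option autoImplicit false
set_option linter.style.haveILetI false
set_option linter.unusedSectionVars false

universe u

namespace Groth.Agent.Helper9.Depth

open RingTheory.Sequence IsLocalRing

lemma exists_eq_natCast {x : WithBot ℕ∞} (h0 : x ≠ ⊥) (h1 : x < ⊤) : ∃ n : ℕ, x = n := by
  obtain ⟨d, hd⟩ := WithBot.ne_bot_iff_exists.1 h0
  have hdtop : d ≠ ⊤ := by
    rintro rfl
    rw [← hd] at h1
    exact absurd h1 (by simp)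
  obtain ⟨m, hm⟩ := ENat.ne_top_iff_exists.1 hdtop
  exact ⟨m, by rw [← hd, ← hm]; rfl⟩

section Gen

variable {R : Type*} [CommRing R]

lemma supportDim_quotient_prime {M : Type*} [AddCommGroup M] [Module R M] [Module.Finite R M]
    {p : PrimeSpectrum R} (hp : p ∈ Module.support R M) :
    Module.supportDim R (M ⧸ (p.asIdeal • (⊤ : Submodule R M))) =
      ringKrullDim (R ⧸ p.asIdeal) := by
  rw [ringKrullDim_quotient, Module.supportDim, Module.support_quotient]
  have : Module.support R M ∩ PrimeSpectrum.zeroLocus (p.asIdeal : Set R) =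
      PrimeSpectrum.zeroLocus (p.asIdeal : Set R) := by
    apply Set.inter_eq_right.2
    intro q hq
    rw [PrimeSpectrum.mem_zeroLocus, SetLike.coe_subset_coe] at hq
    exact Module.mem_support_mono hq hp
  rw [this]

lemma ringKrullDim_quotient_anti {p q : PrimeSpectrum R} (h : p ≤ q) :
    ringKrullDim (R ⧸ q.asIdeal) ≤ ringKrullDim (R ⧸ p.asIdeal) := by
  rw [ringKrullDim_quotient_eq_coheight, ringKrullDim_quotient_eq_coheight]
  exact_mod_cast Order.coheight_anti h

end Gen

variable {A : Type u} [CommRing A] [IsLocalRing A] [IsNoetherianRing A]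

lemma exists_ringKrullDim_quotient_eq_nat (p : Ideal A) [p.IsPrime] :
    ∃ a : ℕ, ringKrullDim (A ⧸ p) = a := by
  apply exists_eq_natCast
  · intro h
    have h0 : (0 : WithBot ℕ∞) ≤ ringKrullDim (A ⧸ p) := ringKrullDim_nonneg_of_nontrivial
    rw [h] at h0
    exact absurd h0 (by simp)
  · exact lt_of_le_of_lt (ringKrullDim_quotient_le p) ringKrullDim_lt_top

theorem exists_regular_in_prime (r : ℕ) :
    ∀ (M : Type u) [AddCommGroup M] [Module A M] [Module.Finite A M],
      LocCoh.IsCohenMacaulayModule A M → ∀ p : PrimeSpectrum A, p ∈ Module.support A M →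
      ringKrullDim (A ⧸ p.asIdeal) + r = Module.supportDim A M →
      ∃ xs : List A, xs.length = r ∧ (∀ x ∈ xs, x ∈ p.asIdeal) ∧ IsWeaklyRegular M xs := by
  induction r with
  | zero =>
    intro M _ _ _ _ p _ _
    exact ⟨[], rfl, by simp, IsWeaklyRegular.nil A M⟩
  | succ k ih =>
    intro M _ _ _ hM p hp hdim
    haveI := nontrivial_of_isCM hM
    obtain ⟨a, ha⟩ := exists_ringKrullDim_quotient_eq_nat p.asIdeal
    obtain ⟨c, hc⟩ := exists_supportDim_eq_nat (A := A) M
    have hac : a + (k + 1) = c := by rw [ha, hc] at hdim; exact_mod_cast hdim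
    have hex : ∃ x ∈ p.asIdeal, IsSMulRegular M x := by
      by_contra hcon
      push Not at hcon
      have hsub : (p.asIdeal : Set A) ⊆ ⋃ q ∈ associatedPrimes A M, (q : Set A) := by
        rw [biUnion_associatedPrimes_eq_compl_regular A M]
        intro x hx
        exact hcon x hx
      have hfin : (associatedPrimes A M).Finite := associatedPrimes.finite A M
      obtain ⟨q, hq, hpq⟩ : ∃ q ∈ associatedPrimes A M, p.asIdeal ≤ q := by
        have h1 := (Ideal.subset_union_prime (s := hfin.toFinset) (f := id) ⊥ ⊥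
          (fun i hi _ _ => by
            rw [Set.Finite.mem_toFinset] at hi
            exact IsAssociatedPrime.isPrime hi) (I := p.asIdeal)).1 (by simpa using hsub)
        obtain ⟨q, hq, hle⟩ := h1
        exact ⟨q, by simpa using hq, hle⟩
      have hqdim := dim_quotient_eq_of_isCM hM q hq
      haveI hqp : q.IsPrime := (AssociatedPrimes.mem_iff.mp hq).isPrime
      have hle : ringKrullDim (A ⧸ q) ≤ ringKrullDim (A ⧸ p.asIdeal) :=
        ringKrullDim_quotient_anti (p := p) (q := ⟨q, hqp⟩) hpq
      rw [hqdim, hc, ha] at hle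
      have : c ≤ a := by exact_mod_cast hle
      omega
    obtain ⟨x, hxp, hxreg⟩ := hex
    have hxm : x ∈ maximalIdeal A := le_maximalIdeal p.isPrime.ne_top hxp
    have hQ := isCM_quotSMulTop hM hxm hxreg
    have hsupp : p ∈ Module.support A (QuotSMulTop x M) := by
      rw [Module.support_quotSMulTop]
      exact ⟨hp, by simpa using hxp⟩
    have hsq := Module.supportDim_quotSMulTop_succ_eq_supportDim hxreg hxm
    haveI : Nontrivial (QuotSMulTop x M) := nontrivial_quotSMulTop_of_mem_maximalIdeal M hxm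
    obtain ⟨b, hb⟩ := exists_supportDim_eq_nat (A := A) (QuotSMulTop x M)
    have hbc : b + 1 = c := by rw [hb, hc] at hsq; exact_mod_cast hsq
    obtain ⟨xs, hlen, hmem, hreg⟩ := ih (QuotSMulTop x M) hQ p hsupp (by
      rw [ha, hb]; exact_mod_cast (by omega : a + k = b))
    refine ⟨x :: xs, by simp [hlen], ?_, (isWeaklyRegular_cons_iff M x xs).2 ⟨hxreg, hreg⟩⟩
    intro y hy
    rcases List.mem_cons.1 hy with rfl | hy
    · exact hxp
    · exact hmem y hy

theorem props_of_regular_in_prime {M : Type u} [AddCommGroup M] [Module A M] [Module.Finite A M]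
    (hM : LocCoh.IsCohenMacaulayModule A M) (p : PrimeSpectrum A) (hp : p ∈ Module.support A M)
    (r : ℕ)
    (hr : Module.supportDim A (M ⧸ (p.asIdeal • (⊤ : Submodule A M))) + r = Module.supportDim A M)
    (xs : List A) (hlen : xs.length = r) (hmem : ∀ x ∈ xs, x ∈ p.asIdeal)
    (hreg : IsWeaklyRegular M xs) :
    Module.supportDim A (M ⧸ (Ideal.ofList xs • (⊤ : Submodule A M))) =
        Module.supportDim A (M ⧸ (p.asIdeal • (⊤ : Submodule A M))) ∧
      Module.supportDim A (M ⧸ (p.asIdeal • (⊤ : Submodule A M))) = ringKrullDim (A ⧸ p.asIdeal) ∧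
      p.asIdeal ∈ associatedPrimes A (M ⧸ (Ideal.ofList xs • (⊤ : Submodule A M))) ∧
      ∀ q ∈ associatedPrimes A (M ⧸ (Ideal.ofList xs • (⊤ : Submodule A M))),
        q ≤ p.asIdeal → q = p.asIdeal := by
  haveI := nontrivial_of_isCM hM
  have hxsm : ∀ x ∈ xs, x ∈ maximalIdeal A :=
    fun x hx => le_maximalIdeal p.isPrime.ne_top (hmem x hx)
  have hR : IsRegular M xs := IsRegular.of_isWeaklyRegular_of_mem_maximalIdeal M hxsm hreg
  have h1 := Module.supportDim_add_length_eq_supportDim_of_isRegular xs hR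
  have hB := supportDim_quotient_prime hp
  haveI : Nontrivial (M ⧸ (Ideal.ofList xs • (⊤ : Submodule A M))) :=
    nontrivial_quotient_ofList M xs hxsm
  obtain ⟨a, ha⟩ := exists_ringKrullDim_quotient_eq_nat p.asIdeal
  obtain ⟨c, hc⟩ := exists_supportDim_eq_nat (A := A) M
  obtain ⟨d, hd⟩ := exists_supportDim_eq_nat (A := A)
    (M ⧸ (Ideal.ofList xs • (⊤ : Submodule A M)))
  have e1 : d + r = c := by rw [hd, hc, hlen] at h1; exact_mod_cast h1
  have e2 : a + r = c := by rw [hB, ha, hc] at hr; exact_mod_cast hr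
  have hda : d = a := by omega
  have hdimN : Module.supportDim A (M ⧸ (Ideal.ofList xs • (⊤ : Submodule A M))) =
      ringKrullDim (A ⧸ p.asIdeal) := by rw [hd, ha, hda]
  have hpN : p ∈ Module.support A (M ⧸ (Ideal.ofList xs • (⊤ : Submodule A M))) := by
    rw [Module.support_quotient]
    refine ⟨hp, ?_⟩
    rw [PrimeSpectrum.mem_zeroLocus, SetLike.coe_subset_coe]
    exact Ideal.span_le.2 (fun x hx => hmem x hx)
  have hmin : ∀ q : PrimeSpectrum A,
      q ∈ Module.support A (M ⧸ (Ideal.ofList xs • (⊤ : Submodule A M))) → q ≤ p → q = p := by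
    intro q hq hqp
    by_contra hne
    have hlt : q < p := lt_of_le_of_ne hqp hne
    have h2 := ringKrullDim_quotient_succ_le_of_lt hlt
    have h3 := ringKrullDim_quotient_le_supportDim hq
    rw [hdimN] at h3
    rw [ha] at h2 h3
    have h4 := h2.trans h3
    have : a + 1 ≤ a := by exact_mod_cast h4
    omega
  refine ⟨by rw [hB, hdimN], hB, ?_, ?_⟩
  · apply Module.associatedPrimes.minimalPrimes_annihilator_subset_associatedPrimes A
      (M ⧸ (Ideal.ofList xs • (⊤ : Submodule A M)))
    refine ⟨⟨p.isPrime, (Module.mem_support_iff_of_finite).1 hpN⟩, ?_⟩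
    rintro q ⟨hqprime, hqann⟩ hqp
    have h5 := hmin ⟨q, hqprime⟩ (Module.mem_support_iff_of_finite.2 hqann) hqp
    rw [← h5]
  · intro q hq hqp
    have hqa := AssociatedPrimes.mem_iff.mp hq
    have hqs : (⟨q, hqa.isPrime⟩ : PrimeSpectrum A) ∈
        Module.support A (M ⧸ (Ideal.ofList xs • (⊤ : Submodule A M))) := by
      rw [Module.mem_support_iff_of_finite]
      simpa [Submodule.annihilator_top] using hqa.annihilator_le
    exact congrArg PrimeSpectrum.asIdeal (hmin _ hqs hqp)

end Groth.Agent.Helper9.Depth
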