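import Mathlib
import Groth.Prelude.Def_CAlg
import Groth.Agent.Lib.Helper9.Depth7

set_option autoImplicit false
set_option linter.style.haveILetI false
set_option linter.unusedSectionVars false

universe u

namespace Groth.Agent.Helper9.Depth

open RingTheory.Sequence IsLocalRing

section Gen

variable {R : Type*} [CommRing R] {M : Type*} [AddCommGroup M] [Module R M]

lemma comap_mem_support_of_mem_support_localizedModule (p : PrimeSpectrum R)
    (Q : PrimeSpectrum (Localization.AtPrime p.asIdeal))
    (hQ : Q ∈ Module.support (Localization.AtPrime p.asIdeal)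
      (LocalizedModule p.asIdeal.primeCompl M)) :
    PrimeSpectrum.comap (algebraMap R (Localization.AtPrime p.asIdeal)) Q ∈
      Module.support R M := by
  rw [Module.mem_support_iff'] at hQ ⊢
  obtain ⟨y, hy⟩ := hQ
  induction y using LocalizedModule.induction_on with
  | _ m s =>
    refine ⟨m, fun a ha h0 => ?_⟩
    have ha' : algebraMap R (Localization.AtPrime p.asIdeal) a ∉ Q.asIdeal := ha
    apply hy _ ha'
    rw [algebraMap_smul, LocalizedModule.smul'_mk, h0, LocalizedModule.zero_mk]

theorem supportDim_localizedModule_add_le (p : PrimeSpectrum R) (hp : p ∈ Module.support R M) :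
    Module.supportDim (Localization.AtPrime p.asIdeal) (LocalizedModule p.asIdeal.primeCompl M) +
      ringKrullDim (R ⧸ p.asIdeal) ≤ Module.supportDim R M := by
  let P : Module.support R M := ⟨p, hp⟩
  let e := IsLocalization.AtPrime.primeSpectrumOrderIso (Localization.AtPrime p.asIdeal) p.asIdeal
  have h1 : Module.supportDim (Localization.AtPrime p.asIdeal)
      (LocalizedModule p.asIdeal.primeCompl M) ≤ ((Order.height P : ℕ∞) : WithBot ℕ∞) := by
    rw [Order.height_eq_krullDim_Iic]
    refine Order.krullDim_le_of_strictMono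
      (fun Q : Module.support (Localization.AtPrime p.asIdeal)
          (LocalizedModule p.asIdeal.primeCompl M) =>
        (⟨⟨(e Q.1).1, comap_mem_support_of_mem_support_localizedModule p Q.1 Q.2⟩, (e Q.1).2⟩ :
          Set.Iic P)) ?_
    intro Q Q' hlt
    exact e.strictMono hlt
  have h2 : ringKrullDim (R ⧸ p.asIdeal) ≤ ((Order.coheight P : ℕ∞) : WithBot ℕ∞) := by
    rw [ringKrullDim_quotient_eq_coheight, Order.coheight_eq_krullDim_Ici,
      Order.coheight_eq_krullDim_Ici]
    exact Order.krullDim_le_of_strictMono
      (fun q : Set.Ici p => (⟨⟨q.1, Module.mem_support_mono q.2 hp⟩, q.2⟩ : Set.Ici P))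
      (fun a b h => h)
  have h3 : ((Order.height P + Order.coheight P : ℕ∞) : WithBot ℕ∞) ≤ Module.supportDim R M := by
    haveI : Nonempty (Module.support R M) := ⟨P⟩
    rw [Module.supportDim, Order.krullDim_eq_iSup_height_add_coheight_of_nonempty]
    exact WithBot.coe_le_coe.2
      (le_iSup (fun a : Module.support R M => Order.height a + Order.coheight a) P)
  calc _ ≤ ((Order.height P : ℕ∞) : WithBot ℕ∞) + ((Order.coheight P : ℕ∞) : WithBot ℕ∞) :=
        add_le_add h1 h2
    _ = ((Order.height P + Order.coheight P : ℕ∞) : WithBot ℕ∞) := by push_cast; rfl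
    _ ≤ _ := h3

end Gen

variable {A : Type u} [CommRing A] [IsLocalRing A] [IsNoetherianRing A]

theorem cm_localization {M : Type u} [AddCommGroup M] [Module A M] [Module.Finite A M]
    (hM : LocCoh.IsCohenMacaulayModule A M) (p : PrimeSpectrum A)
    (hp : p ∈ Module.support A M) :
    LocCoh.IsCohenMacaulayModule (Localization.AtPrime p.asIdeal)
        (LocalizedModule p.asIdeal.primeCompl M) ∧
      Module.supportDim A M =
        Module.supportDim A (M ⧸ (p.asIdeal • (⊤ : Submodule A M))) +
          Module.supportDim (Localization.AtPrime p.asIdeal)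
            (LocalizedModule p.asIdeal.primeCompl M) := by
  haveI := nontrivial_of_isCM hM
  haveI : Nontrivial (LocalizedModule p.asIdeal.primeCompl M) := hp
  obtain ⟨a, ha⟩ := exists_ringKrullDim_quotient_eq_nat p.asIdeal
  obtain ⟨c, hc⟩ := exists_supportDim_eq_nat (A := A) M
  have hac : a ≤ c := by
    have := ringKrullDim_quotient_le_supportDim hp
    rw [ha, hc] at this
    exact_mod_cast this
  obtain ⟨r, hr⟩ : ∃ r, a + r = c := ⟨c - a, by omega⟩
  obtain ⟨xs, hlen, hmem, hreg⟩ := exists_regular_in_prime r M hM p hp (by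
    rw [ha, hc]; exact_mod_cast hr)
  have hreg' := hreg.isRegular_of_isLocalizedModule_of_mem (Localization.AtPrime p.asIdeal)
    p.asIdeal (LocalizedModule.mkLinearMap p.asIdeal.primeCompl M) hmem
  have hdepth : (r : ℕ∞) ≤ LocCoh.depth (Localization.AtPrime p.asIdeal)
      (LocalizedModule p.asIdeal.primeCompl M) := by
    have h1 := le_depth_of_exists (A := Localization.AtPrime p.asIdeal)
      (M := LocalizedModule p.asIdeal.primeCompl M)
      (xs.map (algebraMap A (Localization.AtPrime p.asIdeal))) hreg'.1 (by
        intro y hy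
        obtain ⟨x, hx, rfl⟩ := List.mem_map.1 hy
        exact (IsLocalization.AtPrime.to_map_mem_maximal_iff _ p.asIdeal x).2 (hmem x hx))
    simpa [hlen] using h1
  have hdim := supportDim_localizedModule_add_le (M := M) p hp
  obtain ⟨d, hd⟩ := exists_supportDim_eq_nat (A := Localization.AtPrime p.asIdeal)
    (LocalizedModule p.asIdeal.primeCompl M)
  obtain ⟨e, he⟩ := exists_depth_eq_nat (A := Localization.AtPrime p.asIdeal)
    (M := LocalizedModule p.asIdeal.primeCompl M)
  have hle := depth_le_supportDim (A := Localization.AtPrime p.asIdeal)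
    (M := LocalizedModule p.asIdeal.primeCompl M)
  rw [he] at hdepth
  rw [he, hd] at hle
  rw [hd, ha, hc] at hdim
  have h1 : r ≤ e := by exact_mod_cast hdepth
  have h2 : e ≤ d := by exact_mod_cast hle
  have h3 : d + a ≤ c := by exact_mod_cast hdim
  have hde : d = e := by omega
  have hdr : d = r := by omega
  constructor
  · unfold LocCoh.IsCohenMacaulayModule
    rw [hd, he, hde]; rfl
  · rw [supportDim_quotient_prime hp, ha, hc, hd, hdr]
    exact_mod_cast hr.symm

end Groth.Agent.Helper9.Depth
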