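import Mathlib
import Groth.Prelude.Def_CAlg
import Groth.Agent.Lib.Helper9.Depth8
import Groth.Agent.Lib.Lead.RLR2

set_option autoImplicit false
set_option linter.style.haveILetI false
set_option linter.unusedSectionVars false

universe u

namespace Groth.Agent.Helper9.RegLocExt

open RingTheory.Sequence IsLocalRing CategoryTheory Abelian Groth.Agent.Helper9.Depth

variable {A : Type u} [CommRing A]

lemma exists_ringKrullDim_quotient_eq_nat' [IsLocalRing A] [IsNoetherianRing A] (I : Ideal A)
    (hI : I ≠ ⊤) : ∃ a : ℕ, ringKrullDim (A ⧸ I) = a := by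
  haveI : Nontrivial (A ⧸ I) := Ideal.Quotient.nontrivial_iff.2 hI
  apply exists_eq_natCast
  · intro h
    have h0 : (0 : WithBot ℕ∞) ≤ ringKrullDim (A ⧸ I) := ringKrullDim_nonneg_of_nontrivial
    rw [h] at h0
    exact absurd h0 (by simp)
  · exact lt_of_le_of_lt (ringKrullDim_quotient_le I) ringKrullDim_lt_top

theorem exists_regular_in_ideal [IsLocalRing A] [IsNoetherianRing A] (r : ℕ) :
    ∀ (M : Type u) [AddCommGroup M] [Module A M] [Module.Finite A M],
      LocCoh.IsCohenMacaulayModule A M → ∀ (I : Ideal A), I ≤ maximalIdeal A →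
      ringKrullDim (A ⧸ I) + r ≤ Module.supportDim A M →
      ∃ xs : List A, xs.length = r ∧ (∀ x ∈ xs, x ∈ I) ∧ IsWeaklyRegular M xs := by
  induction r with
  | zero =>
    intro M _ _ _ _ I _ _
    exact ⟨[], rfl, by simp, IsWeaklyRegular.nil A M⟩
  | succ k ih =>
    intro M _ _ _ hM I hI hdim
    haveI := nontrivial_of_isCM hM
    have hItop : I ≠ ⊤ := fun h => (maximalIdeal.isMaximal A).ne_top (top_le_iff.1 (h ▸ hI))
    obtain ⟨a, ha⟩ := exists_ringKrullDim_quotient_eq_nat' I hItop
    obtain ⟨c, hc⟩ := exists_supportDim_eq_nat (A := A) M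
    have hac : a + (k + 1) ≤ c := by rw [ha, hc] at hdim; exact_mod_cast hdim
    have hex : ∃ x ∈ I, IsSMulRegular M x := by
      by_contra hcon
      push Not at hcon
      have hsub : (I : Set A) ⊆ ⋃ q ∈ associatedPrimes A M, (q : Set A) := by
        rw [biUnion_associatedPrimes_eq_compl_regular A M]
        intro x hx
        exact hcon x hx
      have hfin : (associatedPrimes A M).Finite := associatedPrimes.finite A M
      obtain ⟨q, hq, hpq⟩ : ∃ q ∈ associatedPrimes A M, I ≤ q := by
        have h1 := (Ideal.subset_union_prime (s := hfin.toFinset) (f := id) ⊥ ⊥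
          (fun i hi _ _ => by
            rw [Set.Finite.mem_toFinset] at hi
            exact IsAssociatedPrime.isPrime hi) (I := I)).1 (by simpa using hsub)
        obtain ⟨q, hq, hle⟩ := h1
        exact ⟨q, by simpa using hq, hle⟩
      have hqdim := dim_quotient_eq_of_isCM hM q hq
      have hle : ringKrullDim (A ⧸ q) ≤ ringKrullDim (A ⧸ I) :=
        ringKrullDim_le_of_surjective (Ideal.Quotient.factor hpq)
          (Ideal.Quotient.factor_surjective hpq)
      rw [hqdim, hc, ha] at hle
      have : c ≤ a := by exact_mod_cast hle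
      omega
    obtain ⟨x, hxI, hxreg⟩ := hex
    have hxm : x ∈ maximalIdeal A := hI hxI
    have hQ := isCM_quotSMulTop hM hxm hxreg
    have hsq := Module.supportDim_quotSMulTop_succ_eq_supportDim hxreg hxm
    haveI : Nontrivial (QuotSMulTop x M) := nontrivial_quotSMulTop_of_mem_maximalIdeal M hxm
    obtain ⟨b, hb⟩ := exists_supportDim_eq_nat (A := A) (QuotSMulTop x M)
    have hbc : b + 1 = c := by rw [hb, hc] at hsq; exact_mod_cast hsq
    obtain ⟨xs, hlen, hmem, hreg⟩ := ih (QuotSMulTop x M) hQ I hI (by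
      rw [ha, hb]; exact_mod_cast (by omega : a + k ≤ b))
    refine ⟨x :: xs, by simp [hlen], ?_, (isWeaklyRegular_cons_iff M x xs).2 ⟨hxreg, hreg⟩⟩
    intro y hy
    rcases List.mem_cons.1 hy with rfl | hy
    · exact hxI
    · exact hmem y hy

theorem isCM_self [IsRegularLocalRing A] : LocCoh.IsCohenMacaulayModule A A := by
  obtain ⟨n, hn⟩ : ∃ n : ℕ, ringKrullDim A = n := by
    apply exists_eq_natCast
    · intro h
      have h0 : (0 : WithBot ℕ∞) ≤ ringKrullDim A := ringKrullDim_nonneg_of_nontrivial
      rw [h] at h0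
      exact absurd h0 (by simp)
    · exact ringKrullDim_lt_top
  have hspan := Groth.Agent.Lead.RLR.spanFinrank_maximalIdeal_eq_of_dim hn
  have hfg : (maximalIdeal A).FG := IsNoetherian.noetherian _
  obtain ⟨s, hscard, hsspan⟩ := Submodule.FG.exists_span_finset_card_eq_spanFinrank hfg
  let e : s ≃ Fin n := Finset.equivFinOfCardEq (hscard.trans hspan)
  let x : Fin n → A := fun i => (e.symm i : A)
  have hrange : Set.range x = (s : Set A) := by
    ext y
    constructor
    · rintro ⟨i, rfl⟩
      exact (e.symm i).2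
    · intro hy
      exact ⟨e ⟨y, hy⟩, by simp [x]⟩
  have hx : Ideal.span (Set.range x) = maximalIdeal A := by
    rw [hrange]
    exact hsspan
  have hreg := Groth.Agent.Lead.RLR.isRegular_ofFn hn x hx
  have hmem : ∀ r ∈ List.ofFn x, r ∈ maximalIdeal A := by
    intro r hr
    rw [List.mem_ofFn] at hr
    obtain ⟨i, rfl⟩ := hr
    rw [← hx]
    exact Ideal.subset_span ⟨i, rfl⟩
  have h1 := le_depth_of_exists (A := A) (M := A) (List.ofFn x) hreg.toIsWeaklyRegular hmem
  rw [List.length_ofFn] at h1
  have h2 := depth_le_supportDim (A := A) (M := A)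
  obtain ⟨d, hd⟩ := exists_depth_eq_nat (A := A) (M := A)
  rw [Module.supportDim_self_eq_ringKrullDim, hn, hd] at h2
  rw [hd] at h1
  have h3 : n ≤ d := by exact_mod_cast h1
  have h4 : d ≤ n := by exact_mod_cast h2
  unfold LocCoh.IsCohenMacaulayModule
  rw [Module.supportDim_self_eq_ringKrullDim, hn, hd]
  have : n = d := le_antisymm h3 h4
  rw [this]
  rfl

lemma subsingleton_ext_of_isZero {X Y : ModuleCat.{u} A} (hX : Limits.IsZero X) (i : ℕ) :
    Subsingleton (Ext X Y i) := by
  refine subsingleton_of_forall_eq 0 (fun e => ?_)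
  rw [← Ext.mk₀_id_comp e, hX.eq_of_src (𝟙 X) 0, Ext.mk₀_zero, Ext.zero_comp]

theorem subsingleton_ext_of_supportDim [IsRegularLocalRing A] (M : Type u) [AddCommGroup M]
    [Module A M] [Module.Finite A M] (p : ℕ)
    (hdim : Module.supportDim A M + p ≤ ringKrullDim A) (i : ℕ) (hi : i < p) :
    Subsingleton (Ext (ModuleCat.of A M) (ModuleCat.of A A) i) := by
  rcases subsingleton_or_nontrivial M with hM | hM
  · exact subsingleton_ext_of_isZero (ModuleCat.isZero_of_subsingleton _) i
  · set I := Module.annihilator A M with hIdef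
    have hItop : I ≠ ⊤ := by
      intro h
      rw [hIdef, Module.annihilator_eq_top_iff] at h
      exact not_subsingleton M h
    have hI : I ≤ maximalIdeal A := le_maximalIdeal hItop
    have hCM : LocCoh.IsCohenMacaulayModule A A := isCM_self
    have hdim' : ringKrullDim (A ⧸ I) + p ≤ Module.supportDim A A := by
      rw [Module.supportDim_self_eq_ringKrullDim,
        ← Module.supportDim_eq_ringKrullDim_quotient_annihilator]
      exact hdim
    obtain ⟨xs, hlen, hmem, hreg⟩ := exists_regular_in_ideal p A hCM I hI hdim'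
    have hR : IsRegular A xs :=
      IsRegular.of_isWeaklyRegular_of_mem_maximalIdeal A (fun x hx => hI (hmem x hx)) hreg
    have hsupp : Module.support A M ⊆ PrimeSpectrum.zeroLocus (I : Set A) :=
      (Module.support_eq_zeroLocus (R := A) (M := M)).le
    have hlt : I • (⊤ : Submodule A A) < ⊤ := by
      rw [lt_top_iff_ne_top, smul_eq_mul, Ideal.mul_top]
      exact hItop
    exact ModuleCat.subsingleton_ext_of_exists_isRegular I (ModuleCat.of A M) hsupp
      (ModuleCat.of A A) hlt xs hmem hR i (hlen ▸ hi)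

end Groth.Agent.Helper9.RegLocExt
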