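import Mathlib
import Groth.Prelude.Def_Coh
import Groth.Prelude.Def_CxOX
import Groth.Agent.Lib.Helper13.QCohFin
import Groth.Agent.Lib.Helper13.Qcqs
import Groth.Agent.Lib.Helper13.FinTypeExt
import Groth.Agent.Lib.Helper28.CohSub

/-!
# Two coherent extensions of a module on an open are dominated by a third

If `F₁`, `F₂` are coherent on a Noetherian scheme `X` with `F₁|_U ≅ F₂|_U`, the fibre product
`G = F₁ ×_{j_* j^* F₂} F₂` is coherent and both projections are isomorphisms over `U`.
-/

set_option autoImplicit false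
universe u
open CategoryTheory CategoryTheory.Limits AlgebraicGeometry

namespace Groth.Agent.Helper9.CohGraph

theorem isFiniteType_biprod {X : Scheme.{u}} (A B : X.Modules)
    [hA : SheafOfModules.IsFiniteType (R := X.ringCatSheaf) A]
    [hB : SheafOfModules.IsFiniteType (R := X.ringCatSheaf) B] :
    SheafOfModules.IsFiniteType (R := X.ringCatSheaf) (A ⊞ B : X.Modules) := by
  have hS : (ShortComplex.mk (biprod.inl : A ⟶ A ⊞ B) (biprod.snd : A ⊞ B ⟶ B)
      biprod.inl_snd).ShortExact :=
    (ShortComplex.Splitting.ofHasBinaryBiproduct A B).shortExact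
  exact Groth.Agent.Helper13.FinType.isFiniteType_of_shortExact _ hS (h1 := hA) (h3 := hB)

theorem isIso_restrict_map_unit {U X : Scheme.{u}} (j : U ⟶ X) [IsOpenImmersion j]
    (M : X.Modules) :
    IsIso ((Scheme.Modules.restrictFunctor j).map
      ((Scheme.Modules.restrictAdjunction j).unit.app M)) := by
  have h := (Scheme.Modules.restrictAdjunction j).left_triangle_components M
  haveI : IsIso ((Scheme.Modules.restrictFunctor j).map
      ((Scheme.Modules.restrictAdjunction j).unit.app M) ≫
      (Scheme.Modules.restrictAdjunction j).counit.app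
        ((Scheme.Modules.restrictFunctor j).obj M)) := by
    rw [h]; infer_instance
  exact IsIso.of_isIso_comp_right _ ((Scheme.Modules.restrictAdjunction j).counit.app
    ((Scheme.Modules.restrictFunctor j).obj M))

theorem main (X : Scheme.{u}) [IsNoetherian X] (U : X.Opens)
    (F₁ F₂ : X.Modules) (h₁ : Coh.IsCoh F₁) (h₂ : Coh.IsCoh F₂)
    (e : F₁.restrict U.ι ≅ F₂.restrict U.ι) :
    ∃ (G : X.Modules) (p₁ : G ⟶ F₁) (p₂ : G ⟶ F₂), Coh.IsCoh G ∧
      IsIso ((Scheme.Modules.restrictFunctor U.ι).map p₁) ∧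
      IsIso ((Scheme.Modules.restrictFunctor U.ι).map p₂) := by
  haveI q₁ : F₁.IsQuasicoherent := h₁.1
  haveI q₂ : F₂.IsQuasicoherent := h₂.1
  haveI t₁ : SheafOfModules.IsFiniteType (R := X.ringCatSheaf) F₁ := h₁.2
  haveI t₂ : SheafOfModules.IsFiniteType (R := X.ringCatSheaf) F₂ := h₂.2
  haveI : TopologicalSpace.NoetherianSpace (U : Scheme.{u}) :=
    inferInstanceAs (TopologicalSpace.NoetherianSpace (U : Set X))
  haveI : QuasiCompact U.ι := inferInstance
  haveI : QuasiSeparated U.ι := inferInstance
  haveI hqP : ((Scheme.Modules.pushforward U.ι).obj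
      ((Scheme.Modules.restrictFunctor U.ι).obj F₂)).IsQuasicoherent :=
    Groth.Agent.Helper13.Qcqs.isQuasicoherent_pushforward_of_qcqs U.ι _
  obtain ⟨a, ha⟩ : ∃ a : F₁ ⟶ (Scheme.Modules.pushforward U.ι).obj
      ((Scheme.Modules.restrictFunctor U.ι).obj F₂),
      a = (Scheme.Modules.restrictAdjunction U.ι).unit.app F₁ ≫
        (Scheme.Modules.pushforward U.ι).map e.hom := ⟨_, rfl⟩
  obtain ⟨b, hb⟩ : ∃ b : F₂ ⟶ (Scheme.Modules.pushforward U.ι).obj
      ((Scheme.Modules.restrictFunctor U.ι).obj F₂),
      b = (Scheme.Modules.restrictAdjunction U.ι).unit.app F₂ := ⟨_, rfl⟩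
  haveI hGq : (pullback a b).IsQuasicoherent :=
    Groth.Agent.Helper13.QCohFin.isQuasicoherent_pullback a b
  have hpb : IsPullback ((Scheme.Modules.restrictFunctor U.ι).map (pullback.fst a b))
      ((Scheme.Modules.restrictFunctor U.ι).map (pullback.snd a b))
      ((Scheme.Modules.restrictFunctor U.ι).map a)
      ((Scheme.Modules.restrictFunctor U.ι).map b) :=
    (IsPullback.of_hasPullback a b).map (Scheme.Modules.restrictFunctor U.ι)
  haveI hb' : IsIso ((Scheme.Modules.restrictFunctor U.ι).map b) := by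
    rw [hb]; exact isIso_restrict_map_unit U.ι F₂
  haveI ha' : IsIso ((Scheme.Modules.restrictFunctor U.ι).map a) := by
    rw [ha, Functor.map_comp]
    haveI := isIso_restrict_map_unit U.ι F₁
    infer_instance
  refine ⟨pullback a b, pullback.fst a b, pullback.snd a b, ⟨hGq, ?_⟩, ?_, ?_⟩
  · haveI : (F₁ ⊞ F₂).IsQuasicoherent :=
      Groth.Agent.Helper13.QCohFin.isQuasicoherent_biprod F₁ F₂
    haveI hft : SheafOfModules.IsFiniteType (R := X.ringCatSheaf) (F₁ ⊞ F₂ : X.Modules) :=
      isFiniteType_biprod F₁ F₂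
    haveI : Mono (biprod.lift (pullback.fst a b) (pullback.snd a b)) := by
      constructor
      intro Z k l h
      apply pullback.hom_ext
      · have := congrArg (fun m => m ≫ biprod.fst) h
        simpa using this
      · have := congrArg (fun m => m ≫ biprod.snd) h
        simpa using this
    exact Groth.Agent.Helper28.CohSub.isFiniteType_of_mono
      (biprod.lift (pullback.fst a b) (pullback.snd a b))
  · exact hpb.isIso_fst_of_isIso
  · exact hpb.isIso_snd_of_isIso

end Groth.Agent.Helper9.CohGraph
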