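import Mathlib
import Groth.Prelude.Def_CohTop

/-!
# Stalks of inverse images of abelian sheaves (helper9)

`pullStalkIso f x : pull f ⋙ stalkF x ≅ stalkF (f x)`, obtained from uniqueness of left adjoints and the
fact that the direct image of a skyscraper sheaf is a skyscraper sheaf.
-/

universe u
open CategoryTheory CategoryTheory.Limits Opposite TopologicalSpace

namespace Groth.Agent.Helper9.StalkPull

open Classical in
/-- the stalk functor on abelian sheaves. -/
noncomputable abbrev stalkF {X : TopCat.{u}} (x : X) : CohTop.Ab X ⥤ AddCommGrpCat.{u} :=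
  TopCat.Sheaf.forget AddCommGrpCat.{u} X ⋙ TopCat.Presheaf.stalkFunctor AddCommGrpCat.{u} x

open Classical in
/-- the skyscraper sheaf functor at `x`. -/
noncomputable abbrev sky {X : TopCat.{u}} (x : X) : AddCommGrpCat.{u} ⥤ CohTop.Ab X :=
  skyscraperSheafFunctor x

open Classical in
/-- stalk is left adjoint to skyscraper. -/
noncomputable def stalkAdj {X : TopCat.{u}} (x : X) : stalkF x ⊣ sky x :=
  stalkSkyscraperSheafAdjunction x

variable {X Y : TopCat.{u}} (f : X ⟶ Y)

/-- the inverse image - direct image adjunction. -/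
noncomputable abbrev pullAdj : CohTop.pull f ⊣ CohTop.push f :=
  TopCat.Sheaf.pullbackPushforwardAdjunction AddCommGrpCat.{u} f

/-- the direct image of a skyscraper sheaf is a skyscraper sheaf. -/
noncomputable def skyPushIso (x : X) : sky x ⋙ CohTop.push f ≅ sky (f x) :=
  NatIso.ofComponents (fun A => Iso.refl _) (by
    intro A B φ
    exact (Category.comp_id ((sky x ⋙ CohTop.push f).map φ)).trans
      (Category.id_comp ((sky (f x)).map φ)).symm)

/-- the stalk of `f⁻¹F` at `x` is the stalk of `F` at `f x`. -/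
noncomputable def pullStalkIso (x : X) : CohTop.pull f ⋙ stalkF x ≅ stalkF (f x) :=
  ((pullAdj f).comp (stalkAdj x)).leftAdjointUniq
    ((stalkAdj (f x)).ofNatIsoRight (skyPushIso f x).symm)

end Groth.Agent.Helper9.StalkPull

namespace Groth.Agent.Helper9.StalkPull

variable {X Y : TopCat.{u}} (f : X ⟶ Y)

/-- morphisms of abelian sheaves agreeing on all stalks are equal. -/
lemma hom_ext_of_stalk {F G : CohTop.Ab Y} (φ ψ : F ⟶ G)
    (h : ∀ y : Y, (stalkF y).map φ = (stalkF y).map ψ) : φ = ψ := by
  apply Sheaf.hom_ext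
  apply NatTrans.ext
  funext U
  apply ConcreteCategory.hom_ext
  intro s
  apply TopCat.Presheaf.section_ext G U.unop
  intro y hy
  have h1 := TopCat.Presheaf.stalkFunctor_map_germ_apply U.unop y hy φ.hom s
  have h2 := TopCat.Presheaf.stalkFunctor_map_germ_apply U.unop y hy ψ.hom s
  have h3 : (TopCat.Presheaf.stalkFunctor AddCommGrpCat.{u} y).map φ.hom =
      (TopCat.Presheaf.stalkFunctor AddCommGrpCat.{u} y).map ψ.hom := h y
  rw [h3] at h1
  exact h1.symm.trans h2

lemma stalk_map_eq_of_pull_map_eq {F G : CohTop.Ab Y} (φ ψ : F ⟶ G)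
    (h : (CohTop.pull f).map φ = (CohTop.pull f).map ψ) (x : X) :
    (stalkF (f x)).map φ = (stalkF (f x)).map ψ := by
  have h1 := (pullStalkIso f x).hom.naturality φ
  have h2 := (pullStalkIso f x).hom.naturality ψ
  apply (cancel_epi ((pullStalkIso f x).hom.app F)).1
  have h3 : (CohTop.pull f ⋙ stalkF x).map φ = (CohTop.pull f ⋙ stalkF x).map ψ :=
    congrArg (fun m => (stalkF x).map m) h
  rw [← h1, ← h2, h3]

/-- the inverse image along a surjective map is faithful. -/
theorem faithful_pull (hf : Function.Surjective f) : (CohTop.pull f).Faithful where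
  map_injective {F G} φ ψ h := by
    apply hom_ext_of_stalk
    intro y
    obtain ⟨x, rfl⟩ := hf y
    exact stalk_map_eq_of_pull_map_eq f φ ψ h x

end Groth.Agent.Helper9.StalkPull
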