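import Mathlib
import Groth.Prelude.Def_DeltaF
import Groth.Prelude.Def_RDerDelta
import Groth.Agent.S6773
import Groth.Agent.S6774
import Groth.Agent.S14349
import Groth.Agent.Lib.Helper24.Horseshoe3
import Groth.Agent.Lib.Helper24.CechH

/-!
# Identifying right derived functors through universal δ-functors (helper9)

* `nonempty_iso_of_effaceable`: two effaceable δ-functors with isomorphic degree-zero parts are isomorphic
  in every degree;
* `rightDerived_iso_of_effaceable`: `RᵠG ≅ Tᵠ` for a left exact `G` and an effaceable δ-functor `T` with `T⁰ ≅ G`;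
* `rightDerived_comp_iso`: `Rᵠ(E ⋙ G) ≅ E ⋙ RᵠG` for `E` exact sending injectives to `G`-acyclics.
-/

universe v v' v'' u u' u''
open CategoryTheory CategoryTheory.Limits

namespace Groth.Agent.Helper9.DeltaIso

variable {A : Type u} [Category.{v} A] [Abelian A] {B : Type u'} [Category.{v'} B] [Abelian B]

/-- an isomorphism of δ-functors gives an isomorphism in each degree. -/
def isoApp {T T' : DeltaF.CohDeltaFunctor A B ℕ} (φ : T ≅ T') (q : ℕ) : T.F q ≅ T'.F q where
  hom := φ.hom.app q
  inv := φ.inv.app q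
  hom_inv_id := by
    rw [← DeltaF.CohDeltaFunctor.comp_app, φ.hom_inv_id, DeltaF.CohDeltaFunctor.id_app]
  inv_hom_id := by
    rw [← DeltaF.CohDeltaFunctor.comp_app, φ.inv_hom_id, DeltaF.CohDeltaFunctor.id_app]

theorem nonempty_iso_of_effaceable [EnoughInjectives A] (T T' : DeltaF.CohDeltaFunctor A B ℕ)
    (hT : ∀ (n : ℕ) (I : A), Injective I → IsZero ((T.F (n + 1)).obj I))
    (hT' : ∀ (n : ℕ) (I : A), Injective I → IsZero ((T'.F (n + 1)).obj I))
    (e : T.F 0 ≅ T'.F 0) (q : ℕ) : Nonempty (T.F q ≅ T'.F q) := by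
  have h1 := Groth.Agent.S6773.result T ((Groth.Agent.S14349.result T).2 hT)
  have h2 := Groth.Agent.S6773.result T' ((Groth.Agent.S14349.result T').2 hT')
  obtain ⟨φ, _, _⟩ := Groth.Agent.S6774.result T T' h1 h2 e
  exact ⟨isoApp φ q⟩

/-- the right derived functors of `G` as a δ-functor. -/
noncomputable def rDelta [EnoughInjectives A] (G : A ⥤ B) [G.Additive] :
    DeltaF.CohDeltaFunctor A B ℕ :=
  (Groth.Agent.Helper24.Horseshoe.derivedLES G).toCohDeltaFunctor

lemma rDelta_F [EnoughInjectives A] (G : A ⥤ B) [G.Additive] (n : ℕ) :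
    (rDelta G).F n = G.rightDerived n := rfl

theorem rightDerived_iso_of_effaceable [EnoughInjectives A] (G : A ⥤ B) [G.Additive]
    [PreservesFiniteLimits G] (T : DeltaF.CohDeltaFunctor A B ℕ)
    (hT : ∀ (n : ℕ) (I : A), Injective I → IsZero ((T.F (n + 1)).obj I))
    (e : G ≅ T.F 0) (q : ℕ) : Nonempty (G.rightDerived q ≅ T.F q) :=
  nonempty_iso_of_effaceable (rDelta G) T
    (fun n I _ => Functor.isZero_rightDerived_obj_injective_succ G n I) hT
    (G.rightDerivedZeroIsoSelf ≪≫ e) q

theorem rightDerived_comp_iso {A' : Type u''} [Category.{v''} A'] [Abelian A']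
    [EnoughInjectives A] [EnoughInjectives A']
    (E : A ⥤ A') [E.Additive] [PreservesFiniteLimits E] [PreservesFiniteColimits E]
    (G : A' ⥤ B) [G.Additive] [PreservesFiniteLimits G] [(E ⋙ G).Additive]
    (h : ∀ (n : ℕ) (I : A), Injective I → IsZero ((G.rightDerived (n + 1)).obj (E.obj I)))
    (q : ℕ) : Nonempty ((E ⋙ G).rightDerived q ≅ E ⋙ G.rightDerived q) :=
  rightDerived_iso_of_effaceable (E ⋙ G) (Groth.Agent.Helper24.CechH.comap E (rDelta G)) h
    (Functor.isoWhiskerLeft E G.rightDerivedZeroIsoSelf.symm) q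

end Groth.Agent.Helper9.DeltaIso
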