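import Mathlib
import Groth.Prelude.Def_CohCx
import Groth.Prelude.Def_LocCohZ
import Groth.Prelude.Def_CohPull

/-!
# Restriction of abelian sheaves to an open subspace (helper9)

* `restrAdj U : CohTop.restrFunctor U ⊣ CohTop.push (CohCx.incl U)` with explicit unit;
* `restrIsoPull U : CohTop.restrFunctor U ≅ CohTop.pull (CohCx.incl U)`;
* sections of `CohCx.sectSupp U F` over `V`: the sections of `F` over `V` vanishing on `cap U V = V ∩ U`;
* restriction of a flasque sheaf is flasque; exactness of restriction.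
-/

universe u
open CategoryTheory CategoryTheory.Limits Opposite TopologicalSpace

namespace Groth.Agent.Helper9.OpenRes

noncomputable def oeAdj {V X : TopCat.{u}} (j : V ⟶ X) (H : Topology.IsOpenEmbedding j) :
    letI := H.functor_isContinuous
    H.isOpenMap.functor.sheafPushforwardContinuous AddCommGrpCat.{u}
      (Opens.grothendieckTopology V) (Opens.grothendieckTopology X) ⊣ CohTop.push j := by
  haveI := H.functor_isContinuous
  exact Adjunction.sheafPushforwardContinuous (E := AddCommGrpCat.{u}) (H.isOpenMap.adjunction)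
    (Opens.grothendieckTopology V) (Opens.grothendieckTopology X)

variable {X : TopCat.{u}} (U : Opens X)

/-- restriction to an open is left adjoint to the direct image. -/
noncomputable def restrAdj : CohTop.restrFunctor U ⊣ CohTop.push (CohCx.incl U) :=
  oeAdj (CohCx.incl U) U.isOpenEmbedding

/-- the image in `X` of the preimage of `V` in `U` (equal to `V ⊓ U`). -/
def cap (V : Opens X) : Opens X :=
  (U.isOpenEmbedding.isOpenMap.functor).obj ((Opens.map (CohCx.incl U)).obj V)

lemma cap_le (V : Opens X) : cap U V ≤ V := by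
  rintro _ ⟨x, hx, rfl⟩
  exact hx

lemma cap_eq (V : Opens X) : cap U V = V ⊓ U := by
  ext x
  constructor
  · rintro ⟨y, hy, rfl⟩
    exact ⟨hy, y.2⟩
  · rintro ⟨h1, h2⟩
    exact ⟨⟨x, h2⟩, h1, rfl⟩

lemma cap_top : cap U ⊤ = U := by
  rw [cap_eq]; exact top_inf_eq U

lemma restrAdj_unit_app (F : CohTop.Ab X) (V : Opens X) :
    ((restrAdj U).unit.app F).hom.app (op V) = F.obj.map (homOfLE (cap_le U V)).op := by
  rfl

noncomputable instance : PreservesFiniteLimits (CohTop.restrFunctor U) := inferInstance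

noncomputable instance : PreservesFiniteColimits (CohTop.restrFunctor U) := by
  have := (restrAdj U).leftAdjoint_preservesColimits
  infer_instance

/-- restriction to an open is the inverse image along the inclusion. -/
noncomputable def restrIsoPull : CohTop.restrFunctor U ≅ CohTop.pull (CohCx.incl U) :=
  (restrAdj U).leftAdjointUniq
    (TopCat.Sheaf.pullbackPushforwardAdjunction AddCommGrpCat.{u} (CohCx.incl U))

lemma unit_restrIsoPull (F : CohTop.Ab X) :
    (restrAdj U).unit.app F ≫ (CohTop.push (CohCx.incl U)).map ((restrIsoPull U).hom.app F) =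
      (TopCat.Sheaf.pullbackPushforwardAdjunction AddCommGrpCat.{u} (CohCx.incl U)).unit.app F :=
  Adjunction.unit_leftAdjointUniq_hom_app _ _ F

/-- the inclusion `Γ_Z(F) ⟶ F`. -/
noncomputable def ι (F : CohTop.Ab X) : CohCx.sectSupp U F ⟶ F := kernel.ι _

instance (F : CohTop.Ab X) : Mono (ι U F) := by unfold ι; infer_instance

lemma ι_comp_unit (F : CohTop.Ab X) : ι U F ≫ (restrAdj U).unit.app F = 0 := by
  have h : ι U F ≫ (TopCat.Sheaf.pullbackPushforwardAdjunction AddCommGrpCat.{u}
      (CohCx.incl U)).unit.app F = 0 := kernel.condition _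
  rw [← unit_restrIsoPull, ← Category.assoc] at h
  exact (cancel_mono _).1 (h.trans zero_comp.symm)

/-- the short complex `Γ_Z(F) ⟶ F ⟶ j_*(F|_U)`. -/
noncomputable def sc (F : CohTop.Ab X) : ShortComplex (CohTop.Ab X) :=
  ShortComplex.mk (ι U F) ((restrAdj U).unit.app F) (ι_comp_unit U F)

lemma sc_exact (F : CohTop.Ab X) : (sc U F).Exact := by
  let S' : ShortComplex (CohTop.Ab X) := ShortComplex.mk (ι U F)
    ((TopCat.Sheaf.pullbackPushforwardAdjunction AddCommGrpCat.{u} (CohCx.incl U)).unit.app F)
    (kernel.condition _)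
  have hS' : S'.Exact := ShortComplex.exact_of_f_is_kernel _ (kernelIsKernel _)
  let φ : sc U F ⟶ S' :=
    { τ₁ := 𝟙 _
      τ₂ := 𝟙 _
      τ₃ := (CohTop.push (CohCx.incl U)).map ((restrIsoPull U).hom.app F)
      comm₁₂ := by simp [sc, S']
      comm₂₃ := by
        dsimp [sc, S']
        rw [unit_restrIsoPull, Category.id_comp] }
  have h1 : Epi φ.τ₁ := (inferInstance : Epi (𝟙 (CohCx.sectSupp U F)))
  have h2 : IsIso φ.τ₂ := (inferInstance : IsIso (𝟙 F))
  have h3 : Mono φ.τ₃ := by
    have : IsIso ((CohTop.push (CohCx.incl U)).map ((restrIsoPull U).hom.app F)) :=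
      Functor.map_isIso _ _
    exact (inferInstance : Mono ((CohTop.push (CohCx.incl U)).map ((restrIsoPull U).hom.app F)))
  exact (ShortComplex.exact_iff_of_epi_of_isIso_of_mono φ).2 hS'

lemma ι_app_injective (F : CohTop.Ab X) (V : Opens X) :
    Function.Injective ((ι U F).hom.app (op V)) := by
  have h1 : Mono ((sheafToPresheaf _ _).map (ι U F)) := inferInstance
  have h2 : Mono (((sheafToPresheaf _ _).map (ι U F)).app (op V)) := inferInstance
  exact (AddCommGrpCat.mono_iff_injective _).1 h2

lemma res_ι (F : CohTop.Ab X) (V : Opens X) (t : (CohCx.sectSupp U F).obj.obj (op V)) :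
    F.obj.map (homOfLE (cap_le U V)).op ((ι U F).hom.app (op V) t) = 0 := by
  have h := congrArg (fun φ => φ.hom.app (op V) t) (ι_comp_unit U F)
  exact h

lemma exists_ι_eq (F : CohTop.Ab X) (V : Opens X) (s : F.obj.obj (op V))
    (hs : F.obj.map (homOfLE (cap_le U V)).op s = 0) :
    ∃ t : (CohCx.sectSupp U F).obj.obj (op V), (ι U F).hom.app (op V) t = s :=
  TopCat.Sheaf.sections_exact_of_left_exact (S := sc U F) (sc_exact U F)
    (inferInstanceAs (Mono (ι U F))) s hs

/-- transport of a vanishing condition along an equality of opens. -/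
lemma map_eq_zero_iff_of_eq (F : CohTop.Ab X) {V W W' : Opens X} (h : W = W') (a : W ⟶ V)
    (b : W' ⟶ V) (s : F.obj.obj (op V)) :
    F.obj.map a.op s = 0 ↔ F.obj.map b.op s = 0 := by
  subst h
  rw [Subsingleton.elim a b]

lemma res_ι' (F : CohTop.Ab X) (V : Opens X) (t : (CohCx.sectSupp U F).obj.obj (op V)) :
    F.obj.map (homOfLE (inf_le_left : V ⊓ U ≤ V)).op ((ι U F).hom.app (op V) t) = 0 :=
  (map_eq_zero_iff_of_eq F (cap_eq U V) _ _ _).1 (res_ι U F V t)

lemma exists_ι_eq' (F : CohTop.Ab X) (V : Opens X) (s : F.obj.obj (op V))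
    (hs : F.obj.map (homOfLE (inf_le_left : V ⊓ U ≤ V)).op s = 0) :
    ∃ t : (CohCx.sectSupp U F).obj.obj (op V), (ι U F).hom.app (op V) t = s :=
  exists_ι_eq U F V s ((map_eq_zero_iff_of_eq F (cap_eq U V) _ _ _).2 hs)

/-- the restriction of a flasque sheaf to an open is flasque. -/
theorem restr_isFlasque (F : CohTop.Ab X) [TopCat.Sheaf.IsFlasque F] :
    TopCat.Sheaf.IsFlasque ((CohTop.restrFunctor U).obj F) where
  epi {V W} i := by
    exact TopCat.Presheaf.IsFlasque.epi (F := F.obj)
      ((U.isOpenEmbedding.isOpenMap.functor).map i.unop).op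

end Groth.Agent.Helper9.OpenRes
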