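import Mathlib
import Groth.Agent.Lib.Helper9.OpenRes1
import Groth.Agent.Lib.Helper24.Flasque

/-!
# The functor of sections with support in a closed subset (helper9)

`LocCohZ.sectSuppF U` is left exact, and exact on short exact sequences with flasque kernel.
-/

universe u
open CategoryTheory CategoryTheory.Limits Opposite TopologicalSpace

namespace Groth.Agent.Helper9.OpenRes

variable {X : TopCat.{u}} (U : Opens X)

/-- the inclusion `Γ_Z(F) ⟶ F`, typed on `(LocCohZ.sectSuppF U).obj F`. -/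
noncomputable def ιF (F : CohTop.Ab X) : (LocCohZ.sectSuppF U).obj F ⟶ F := ι U F

instance (F : CohTop.Ab X) : Mono (ιF U F) := inferInstanceAs (Mono (ι U F))

@[reassoc]
lemma map_ιF {F G : CohTop.Ab X} (φ : F ⟶ G) :
    (LocCohZ.sectSuppF U).map φ ≫ ιF U G = ιF U F ≫ φ := by
  dsimp only [LocCohZ.sectSuppF, ιF, ι]
  exact kernel.lift_ι _ _ _

lemma map_ι_apply {F G : CohTop.Ab X} (φ : F ⟶ G) (V : Opens X)
    (t : ((LocCohZ.sectSuppF U).obj F).obj.obj (op V)) :
    (ι U G).hom.app (op V) (((LocCohZ.sectSuppF U).map φ).hom.app (op V) t) =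
      φ.hom.app (op V) ((ι U F).hom.app (op V) t) :=
  congrArg (fun ψ => ψ.hom.app (op V) t) (map_ιF U φ)

@[reassoc]
lemma ιF_comp_unit (F : CohTop.Ab X) : ιF U F ≫ (restrAdj U).unit.app F = 0 := ι_comp_unit U F

lemma ιF_lift {F Z : CohTop.Ab X} (l : Z ⟶ F) (hl : l ≫ (restrAdj U).unit.app F = 0) :
    ∃ m : Z ⟶ (LocCohZ.sectSuppF U).obj F, m ≫ ιF U F = l := by
  haveI : Mono (sc U F).f := inferInstanceAs (Mono (ι U F))
  exact ⟨(sc_exact U F).lift l hl, (sc_exact U F).lift_f _ _⟩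

lemma mono_push_map {V Y : TopCat.{u}} (g : V ⟶ Y) {A B : CohTop.Ab V} (f : A ⟶ B) [Mono f] :
    Mono ((CohTop.push g).map f) := inferInstance

lemma mono_T_map {F G : CohTop.Ab X} (f : F ⟶ G) [Mono f] :
    Mono ((CohTop.push (CohCx.incl U)).map ((CohTop.restrFunctor U).map f)) := by
  haveI : Mono ((CohTop.restrFunctor U).map f) := inferInstance
  exact mono_push_map (CohCx.incl U) _

theorem sectSuppF_mono_map {F G : CohTop.Ab X} (f : F ⟶ G) [Mono f] :
    Mono ((LocCohZ.sectSuppF U).map f) := by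
  haveI : Mono ((LocCohZ.sectSuppF U).map f ≫ ιF U G) := by
    rw [map_ιF]; exact mono_comp (ιF U F) f
  exact mono_of_mono _ (ιF U G)

lemma lift_aux (S : ShortComplex (CohTop.Ab X)) (hS : S.ShortExact) {Z : CohTop.Ab X}
    (k : Z ⟶ (LocCohZ.sectSuppF U).obj S.X₂) (hk : k ≫ (LocCohZ.sectSuppF U).map S.g = 0) :
    ∃ m : Z ⟶ (LocCohZ.sectSuppF U).obj S.X₁, m ≫ (LocCohZ.sectSuppF U).map S.f = k := by
  haveI := hS.mono_f
  have ha : (k ≫ ιF U S.X₂) ≫ S.g = 0 := by
    rw [Category.assoc, ← map_ιF, ← Category.assoc, hk, zero_comp]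
  let l : Z ⟶ S.X₁ := hS.exact.lift (k ≫ ιF U S.X₂) ha
  have hl : l ≫ S.f = k ≫ ιF U S.X₂ := hS.exact.lift_f _ _
  have hl2 : l ≫ (restrAdj U).unit.app S.X₁ = 0 := by
    haveI := mono_T_map U S.f
    refine (cancel_mono ((CohTop.push (CohCx.incl U)).map ((CohTop.restrFunctor U).map S.f))).1 ?_
    have nat : S.f ≫ (restrAdj U).unit.app S.X₂ = (restrAdj U).unit.app S.X₁ ≫
        (CohTop.push (CohCx.incl U)).map ((CohTop.restrFunctor U).map S.f) :=
      (restrAdj U).unit.naturality S.f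
    rw [Category.assoc, zero_comp, ← nat, ← Category.assoc, hl, Category.assoc, ιF_comp_unit,
      comp_zero]
  obtain ⟨m, hm⟩ := ιF_lift U l hl2
  refine ⟨m, ?_⟩
  refine (cancel_mono (ιF U S.X₂)).1 ?_
  rw [Category.assoc, map_ιF, ← Category.assoc, hm, hl]

theorem sectSuppF_map_exact (S : ShortComplex (CohTop.Ab X)) (hS : S.ShortExact) :
    (S.map (LocCohZ.sectSuppF U)).Exact := by
  haveI := hS.mono_f
  haveI : Mono (S.map (LocCohZ.sectSuppF U)).f := sectSuppF_mono_map U S.f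
  refine ShortComplex.exact_of_f_is_kernel _ (KernelFork.IsLimit.ofι' _ _ (fun {Z} k hk => ?_))
  exact ⟨(lift_aux U S hS k hk).choose, (lift_aux U S hS k hk).choose_spec⟩

theorem sectSuppF_map_epi (S : ShortComplex (CohTop.Ab X)) (hS : S.ShortExact)
    [hF : TopCat.Sheaf.IsFlasque S.X₁] : Epi ((LocCohZ.sectSuppF U).map S.g) := by
  have : Sheaf.IsLocallySurjective ((LocCohZ.sectSuppF U).map S.g) := by
    apply Presheaf.isLocallySurjective_of_surjective
    intro V' s₃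
    let V : Opens X := V'.unop
    let r : op V ⟶ op (cap U V) := (homOfLE (cap_le U V)).op
    have hx₃ : S.X₃.obj.map r ((ι U S.X₃).hom.app (op V) s₃) = 0 := res_ι U S.X₃ V s₃
    have hsurj : Function.Surjective (S.g.hom.app (op V)) :=
      (AddCommGrpCat.epi_iff_surjective _).1
        (@TopCat.Sheaf.IsFlasque.epi_of_shortExact _ V S hS hF)
    obtain ⟨x₂, hx₂⟩ := hsurj ((ι U S.X₃).hom.app (op V) s₃)
    have e1 : S.g.hom.app (op (cap U V)) (S.X₂.obj.map r x₂) =
        S.X₃.obj.map r (S.g.hom.app (op V) x₂) :=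
      ConcreteCategory.congr_hom (S.g.hom.naturality r) x₂
    have h4 : S.g.hom.app (op (cap U V)) (S.X₂.obj.map r x₂) = 0 :=
      e1.trans ((congrArg (S.X₃.obj.map r) hx₂).trans hx₃)
    obtain ⟨x₁', hx₁'⟩ := TopCat.Sheaf.sections_exact_of_left_exact hS.exact hS.mono_f
      (S.X₂.obj.map r x₂) h4
    obtain ⟨x₁, hx₁⟩ := (AddCommGrpCat.epi_iff_surjective _).1
      (TopCat.Presheaf.IsFlasque.epi (F := S.X₁.obj) r) x₁'
    have e2 : S.X₂.obj.map r (S.f.hom.app (op V) x₁) =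
        S.f.hom.app (op (cap U V)) (S.X₁.obj.map r x₁) :=
      (ConcreteCategory.congr_hom (S.f.hom.naturality r) x₁).symm
    have hy : S.X₂.obj.map r (x₂ - S.f.hom.app (op V) x₁) = 0 := by
      rw [map_sub, e2, hx₁, hx₁', sub_self]
    obtain ⟨s₂, hs₂⟩ := exists_ι_eq U S.X₂ V _ hy
    refine ⟨s₂, ?_⟩
    apply ι_app_injective U S.X₃ V
    refine (map_ι_apply U S.g V s₂).trans ?_
    rw [hs₂, map_sub, hx₂]
    have e3 : S.g.hom.app (op V) (S.f.hom.app (op V) x₁) = 0 :=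
      congrArg (fun φ => φ.hom.app (op V) x₁) S.zero
    rw [e3, sub_zero]
  exact Sheaf.epi_of_isLocallySurjective _

theorem sectSuppF_map_shortExact (S : ShortComplex (CohTop.Ab X)) (hS : S.ShortExact)
    [hF : TopCat.Sheaf.IsFlasque S.X₁] : (S.map (LocCohZ.sectSuppF U)).ShortExact := by
  haveI := hS.mono_f
  exact
    { exact := sectSuppF_map_exact U S hS
      mono_f := sectSuppF_mono_map U S.f
      epi_g := sectSuppF_map_epi U S hS }

end Groth.Agent.Helper9.OpenRes
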