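import Mathlib
import Groth.Agent.Lib.Helper9.OpenRes2
import Groth.Agent.Lib.Helper9.DeltaIso

/-!
# `Γ_Z(X, -)` is `Hom(ℤ_X/ℤ_U, -)` (helper9)
-/

universe u
open CategoryTheory CategoryTheory.Limits Opposite TopologicalSpace

namespace Groth.Agent.Helper9.OpenRes

variable {X : TopCat.{u}} (U : Opens X)

instance preservesFiniteLimits_sectSuppF : PreservesFiniteLimits (LocCohZ.sectSuppF U) := by
  refine ((Functor.preservesFiniteLimits_tfae (LocCohZ.sectSuppF U)).out 0 3).1 (fun S hS => ?_)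
  haveI := hS.mono_f
  exact ⟨sectSuppF_map_exact U S hS, sectSuppF_mono_map U S.f⟩

instance preservesFiniteLimits_gammaZF : PreservesFiniteLimits (LocCohZ.gammaZF U) := by
  unfold LocCohZ.gammaZF
  infer_instance

/-- global sections of `Γ_Z(F)` are the global sections of `F` vanishing on `U`. -/
noncomputable def kEquiv (F : CohTop.Ab X) :
    ((LocCohZ.sectSuppF U).obj F).obj.obj (op ⊤) ≃+ LocCohZ.sectZ F (le_top : U ≤ ⊤) :=
  AddEquiv.ofBijective
    (AddMonoidHom.codRestrict ((ι U F).hom.app (op ⊤)).hom _ (fun t => by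
      rw [AddMonoidHom.mem_ker]
      exact (map_eq_zero_iff_of_eq F (cap_top U) (homOfLE (cap_le U ⊤))
        (homOfLE (le_top : U ≤ ⊤)) _).1 (res_ι U F ⊤ t)))
    ⟨fun a b h => ι_app_injective U F ⊤ (congrArg Subtype.val h), fun s => by
      obtain ⟨t, ht⟩ := exists_ι_eq U F ⊤ s.1
        ((map_eq_zero_iff_of_eq F (cap_top U) (homOfLE (cap_le U ⊤))
          (homOfLE (le_top : U ≤ ⊤)) _).2 (AddMonoidHom.mem_ker.1 s.2))
      exact ⟨t, Subtype.ext ht⟩⟩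

lemma kEquiv_val (F : CohTop.Ab X) (t : ((LocCohZ.sectSuppF U).obj F).obj.obj (op ⊤)) :
    (kEquiv U F t).1 = (ι U F).hom.app (op ⊤) t := rfl

open Abelian in
/-- `Hom(ℤ_X/ℤ_U, F) = Γ_Z(X, F)`. -/
noncomputable def extZeroEquiv (F : CohTop.Ab X) :
    Ext (LocCohZ.zq (le_top : U ≤ ⊤)) F 0 ≃+ ((LocCohZ.sectSuppF U).obj F).obj.obj (op ⊤) :=
  (LocCohZ.sect0Equiv F (le_top : U ≤ ⊤)).trans (kEquiv U F).symm

open Abelian in
lemma ι_extZeroEquiv (F : CohTop.Ab X) (x : Ext (LocCohZ.zq (le_top : U ≤ ⊤)) F 0) :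
    (ι U F).hom.app (op ⊤) (extZeroEquiv U F x) =
      CohFree.evalGen (Opens.grothendieckTopology X) ⊤ F
        (cokernel.π (CohCx.freeSheafMap (Opens.grothendieckTopology X)
          (homOfLE (le_top : U ≤ ⊤))) ≫ Ext.addEquiv₀ x) := by
  have h := congrArg Subtype.val
    ((kEquiv U F).apply_symm_apply (LocCohZ.sect0Equiv F (le_top : U ≤ ⊤) x))
  exact h

open Abelian in
lemma addEquiv₀_comp_mk₀ {C : Type*} [Category C] [Abelian C] [HasExt C] {A B D : C}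
    (x : Ext A B 0) (φ : B ⟶ D) :
    Ext.addEquiv₀ (x.comp (Ext.mk₀ φ) (add_zero 0)) = Ext.addEquiv₀ x ≫ φ := by
  apply (Ext.mk₀_bijective _ _).1
  rw [Ext.mk₀_addEquiv₀_apply, ← Ext.mk₀_comp_mk₀, Ext.mk₀_addEquiv₀_apply]

open Abelian in
/-- `Ext⁰(ℤ_X/ℤ_U, -) ≅ Γ_Z(X, -)` as functors. -/
noncomputable def gammaZFIso :
    extFunctorObj (LocCohZ.zq (le_top : U ≤ ⊤)) 0 ≅ LocCohZ.gammaZF U :=
  NatIso.ofComponents (fun F => (extZeroEquiv U F).toAddCommGrpIso) (fun {F G} φ => by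
    ext x
    apply ι_app_injective U G ⊤
    have h1 : (ι U G).hom.app (op ⊤) (extZeroEquiv U G (x.comp (Ext.mk₀ φ) (add_zero 0))) =
        φ.hom.app (op ⊤) ((ι U F).hom.app (op ⊤) (extZeroEquiv U F x)) := by
      rw [ι_extZeroEquiv, ι_extZeroEquiv, addEquiv₀_comp_mk₀, ← Category.assoc]
      rfl
    exact h1.trans (map_ι_apply U φ ⊤ (extZeroEquiv U F x)).symm)

end Groth.Agent.Helper9.OpenRes
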