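import Mathlib
import Groth.Agent.Lib.Helper9.DeltaIso
import Groth.Agent.Lib.Helper9.OpenRes3
import Groth.Agent.Lib.Helper24.Flasque
import Groth.Agent.S6023

/-!
# Excision for cohomology with supports (helper9)
-/

universe u
open CategoryTheory CategoryTheory.Limits Opposite TopologicalSpace

namespace Groth.Agent.Helper9.Excision

variable {X : TopCat.{u}}

/-- the image functor of the open subspace `V`. -/
abbrev jF (V : Opens X) : Opens (TopCat.of V) ⥤ Opens X := V.isOpenEmbedding.isOpenMap.functor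

lemma jtop (V : Opens X) : (jF V).obj ⊤ = V := OpenRes.cap_top V

lemma jW {W V : Opens X} (h : W ≤ V) : (jF V).obj ((Opens.map (CohCx.incl V)).obj W) = W :=
  (OpenRes.cap_eq V W).trans (inf_eq_left.2 h)

variable {W V : Opens X} (h : W ≤ V)

lemma map_map_apply (F : CohTop.Ab X) {A B C : Opens X} (a : B ⟶ A) (b : C ⟶ B)
    (s : F.obj.obj (op A)) : F.obj.map b.op (F.obj.map a.op s) = F.obj.map (b ≫ a).op s := by
  rw [op_comp, F.obj.map_comp]; rfl

lemma map_self_apply (F : CohTop.Ab X) {A : Opens X} (a : A ⟶ A)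
    (s : F.obj.obj (op A)) : F.obj.map a.op s = s := by
  rw [Subsingleton.elim a (𝟙 A), op_id, F.obj.map_id]; rfl

open Abelian in
lemma sect0Equiv_map {F G : CohTop.Ab X} (φ : F ⟶ G) {W V : Opens X} (h : W ≤ V)
    (x : LocCohZ.HZ F 0 h) :
    (LocCohZ.sect0Equiv G h (LocCohZ.map φ 0 h x)).1 =
      φ.hom.app (op V) (LocCohZ.sect0Equiv F h x).1 := by
  change CohFree.evalGen (Opens.grothendieckTopology X) V G
    (cokernel.π _ ≫ Ext.addEquiv₀ (x.comp (Ext.mk₀ φ) (add_zero 0))) = _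
  rw [OpenRes.addEquiv₀_comp_mk₀, ← Category.assoc]
  rfl

/-- sections of `F` over `V` vanishing on `W` are the global sections of `F|_V` vanishing on `W ∩ V`. -/
noncomputable def kerEquiv (F : CohTop.Ab X) :
    LocCohZ.sectZ F h ≃+ LocCohZ.sectZ ((CohTop.restrFunctor V).obj F)
      (le_top : (Opens.map (CohCx.incl V)).obj W ≤ ⊤) where
  toFun s := ⟨F.obj.map (homOfLE (jtop V).le).op s.1, by
    rw [AddMonoidHom.mem_ker]
    change F.obj.map ((jF V).map (homOfLE le_top)).op (F.obj.map (homOfLE (jtop V).le).op s.1) = 0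
    rw [map_map_apply, Subsingleton.elim ((jF V).map (homOfLE le_top) ≫ homOfLE (jtop V).le)
      (homOfLE (jW h).le ≫ homOfLE h), ← map_map_apply]
    have hs : F.obj.map (homOfLE h).op s.1 = 0 := AddMonoidHom.mem_ker.1 s.2
    rw [hs, map_zero]⟩
  invFun t := ⟨F.obj.map (homOfLE (jtop V).ge).op (t.1 : F.obj.obj (op ((jF V).obj ⊤))), by
    rw [AddMonoidHom.mem_ker]
    change F.obj.map (homOfLE h).op (F.obj.map (homOfLE (jtop V).ge).op
      (t.1 : F.obj.obj (op ((jF V).obj ⊤)))) = 0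
    rw [map_map_apply, Subsingleton.elim (homOfLE h ≫ homOfLE (jtop V).ge)
      (homOfLE (jW h).ge ≫ (jF V).map (homOfLE le_top)), ← map_map_apply]
    have ht : F.obj.map ((jF V).map (homOfLE le_top)).op
        (t.1 : F.obj.obj (op ((jF V).obj ⊤))) = 0 := AddMonoidHom.mem_ker.1 t.2
    rw [ht, map_zero]⟩
  left_inv s := Subtype.ext (by
    change F.obj.map (homOfLE (jtop V).ge).op (F.obj.map (homOfLE (jtop V).le).op s.1) = s.1
    rw [map_map_apply, map_self_apply])
  right_inv t := Subtype.ext (by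
    change F.obj.map (homOfLE (jtop V).le).op (F.obj.map (homOfLE (jtop V).ge).op
      (t.1 : F.obj.obj (op ((jF V).obj ⊤)))) = t.1
    rw [map_map_apply, map_self_apply])
  map_add' s t := Subtype.ext (map_add (F.obj.map (homOfLE (jtop V).le).op).hom s.1 t.1)

lemma kerEquiv_val (F : CohTop.Ab X) (s : LocCohZ.sectZ F h) :
    (kerEquiv h F s).1 = F.obj.map (homOfLE (jtop V).le).op s.1 := rfl

/-- the first δ-functor. -/
noncomputable abbrev T₁ := Groth.Agent.Helper24.CechH.extDelta.{u} (LocCohZ.zq h)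

/-- the second δ-functor. -/
noncomputable abbrev T₂ := Groth.Agent.Helper24.CechH.comap (CohTop.restrFunctor V)
    (Groth.Agent.Helper24.CechH.extDelta.{u}
      (LocCohZ.zq (le_top : (Opens.map (CohCx.incl V)).obj W ≤ ⊤)))

lemma hT₁ (n : ℕ) (I : CohTop.Ab X) (hI : Injective I) : IsZero (((T₁ h).F (n + 1)).obj I) := by
  haveI : Subsingleton (Abelian.Ext.{u} (LocCohZ.zq h) I (n + 1)) :=
    subsingleton_of_forall_eq 0 fun x => Abelian.Ext.eq_zero_of_injective x
  exact AddCommGrpCat.isZero_of_subsingleton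
    (AddCommGrpCat.of (Abelian.Ext.{u} (LocCohZ.zq h) I (n + 1)))

lemma hT₂ (n : ℕ) (I : CohTop.Ab X) (hI : Injective I) :
    IsZero (((T₂ (W := W) (V := V)).F (n + 1)).obj I) := by
  haveI := Groth.Agent.Helper24.Flasque.isFlasque_of_injective I
  haveI := OpenRes.restr_isFlasque V I
  have h1 := (Groth.Agent.S6023.result ((CohTop.restrFunctor V).obj I)).1
    ((Opens.map (CohCx.incl V)).obj W) ⊤ le_top (n + 1) (Nat.succ_pos n)
  exact @AddCommGrpCat.isZero_of_subsingleton
    (AddCommGrpCat.of (LocCohZ.HZ ((CohTop.restrFunctor V).obj I) (n + 1)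
      (le_top : (Opens.map (CohCx.incl V)).obj W ≤ ⊤))) h1

/-- the degree zero comparison. -/
noncomputable def e₀ (F : CohTop.Ab X) : LocCohZ.HZ F 0 h ≃+
    LocCohZ.HZc (CohTop.restr F V) 0 ((Opens.map (CohCx.incl V)).obj W) :=
  (LocCohZ.sect0Equiv F h).trans ((kerEquiv h F).trans
    (LocCohZ.sect0Equiv ((CohTop.restrFunctor V).obj F)
      (le_top : (Opens.map (CohCx.incl V)).obj W ≤ ⊤)).symm)

lemma sect0Equiv_e₀ (F : CohTop.Ab X) (x : LocCohZ.HZ F 0 h) :
    LocCohZ.sect0Equiv ((CohTop.restrFunctor V).obj F)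
      (le_top : (Opens.map (CohCx.incl V)).obj W ≤ ⊤) (e₀ h F x) =
      kerEquiv h F (LocCohZ.sect0Equiv F h x) := by
  unfold e₀
  rw [AddEquiv.trans_apply, AddEquiv.trans_apply, AddEquiv.apply_symm_apply]

lemma e₀_nat (F G : CohTop.Ab X) (φ : F ⟶ G) (x : LocCohZ.HZ F 0 h) :
    e₀ h G (LocCohZ.map φ 0 h x) = LocCohZ.map ((CohTop.restrFunctor V).map φ) 0
      (le_top : (Opens.map (CohCx.incl V)).obj W ≤ ⊤) (e₀ h F x) := by
  apply (LocCohZ.sect0Equiv ((CohTop.restrFunctor V).obj G)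
    (le_top : (Opens.map (CohCx.incl V)).obj W ≤ ⊤)).injective
  apply Subtype.ext
  rw [sect0Equiv_map, sect0Equiv_e₀, sect0Equiv_e₀, kerEquiv_val, kerEquiv_val, sect0Equiv_map]
  exact (ConcreteCategory.congr_hom (φ.hom.naturality (homOfLE (jtop V).le).op) _).symm

/-- the degree zero natural isomorphism. -/
noncomputable def eIso : (T₁ h).F 0 ≅ (T₂ (W := W) (V := V)).F 0 :=
  NatIso.ofComponents (fun F => (e₀ h F).toAddCommGrpIso)
    (fun {F G} φ => by
      ext x
      exact e₀_nat h F G φ x)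


theorem excision_iso (i : ℕ) : Nonempty ((T₁ h).F i ≅ (T₂ (W := W) (V := V)).F i) :=
  DeltaIso.nonempty_iso_of_effaceable (T₁ h) (T₂ (W := W) (V := V))
    (hT₁ h) hT₂ (eIso h) i

theorem excision' (i : ℕ) (θ : (T₁ h).F i ≅ (T₂ (W := W) (V := V)).F i) :
    ∃ e : ∀ F : CohTop.Ab X, LocCohZ.HZ F i h ≃+
        LocCohZ.HZc (CohTop.restr F V) i ((Opens.map (CohCx.incl V)).obj W),
      ∀ (F G : CohTop.Ab X) (φ : F ⟶ G) (x : LocCohZ.HZ F i h),
        e G (LocCohZ.map φ i h x) =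
          LocCohZ.map ((CohTop.restrFunctor V).map φ) i
            (le_top : (Opens.map (CohCx.incl V)).obj W ≤ ⊤) (e F x) := by
  refine ⟨fun F => (θ.app F).addCommGroupIsoToAddEquiv, ?_⟩
  intro F G φ x
  have hnat := ConcreteCategory.congr_hom (θ.hom.naturality φ) x
  exact hnat

theorem excision (i : ℕ) :
    ∃ e : ∀ F : CohTop.Ab X, LocCohZ.HZ F i h ≃+
        LocCohZ.HZc (CohTop.restr F V) i ((Opens.map (CohCx.incl V)).obj W),
      ∀ (F G : CohTop.Ab X) (φ : F ⟶ G) (x : LocCohZ.HZ F i h),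
        e G (LocCohZ.map φ i h x) =
          LocCohZ.map ((CohTop.restrFunctor V).map φ) i
            (le_top : (Opens.map (CohCx.incl V)).obj W ≤ ⊤) (e F x) :=
  (excision_iso h i).elim (excision' h i)

end Groth.Agent.Helper9.Excision
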