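import Mathlib
import Groth.Agent.Lib.Helper9.OpenRes1
import Groth.Agent.Lib.Helper9.Excision

/-!
# `Γ_Z` of a flasque sheaf is flasque (helper9)
-/

universe u
open CategoryTheory CategoryTheory.Limits Opposite TopologicalSpace

namespace Groth.Agent.Helper9.SuppFlasque

open Groth.Agent.Helper9.Excision (map_map_apply)

variable {X : TopCat.{u}}

/-- gluing two sections of an abelian sheaf. -/
lemma glue_two (F : CohTop.Ab X) {V W : Opens X} (a : F.obj.obj (op V)) (b : F.obj.obj (op W))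
    (hab : F.obj.map (homOfLE (inf_le_left : V ⊓ W ≤ V)).op a =
      F.obj.map (homOfLE (inf_le_right : V ⊓ W ≤ W)).op b) :
    ∃ c : F.obj.obj (op (V ⊔ W)), F.obj.map (homOfLE (le_sup_left : V ≤ V ⊔ W)).op c = a ∧
      F.obj.map (homOfLE (le_sup_right : W ≤ V ⊔ W)).op c = b := by
  obtain ⟨c, hc, -⟩ := TopCat.Sheaf.existsUnique_gluing' F
    (fun t : Bool => (Bool.rec W V t : Opens X)) (V ⊔ W)
    (fun t => homOfLE (by cases t; exacts [le_sup_right, le_sup_left]))
    (by
      refine sup_le ?_ ?_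
      · exact le_iSup (fun b : Bool => (Bool.rec W V b : Opens X)) true
      · exact le_iSup (fun b : Bool => (Bool.rec W V b : Opens X)) false)
    (fun t => Bool.rec (motive := fun t => F.obj.obj (op (Bool.rec W V t : Opens X))) b a t)
    (by
      intro i j
      cases i <;> cases j
      · rfl
      · change F.obj.map (Opens.infLELeft W V).op b = F.obj.map (Opens.infLERight W V).op a
        have h1 : W ⊓ V ≤ V ⊓ W := le_of_eq (inf_comm W V)
        have := congrArg (F.obj.map (homOfLE h1).op) hab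
        rw [map_map_apply, map_map_apply] at this
        exact this.symm
      · exact hab
      · rfl)
  exact ⟨c, hc true, hc false⟩

lemma surj_aux (A : CohTop.Ab X) [TopCat.Sheaf.IsFlasque A] (U : Opens X) {V₁ V₂ : Opens X}
    (hle : V₁ ≤ V₂) (t : (CohCx.sectSupp U A).obj.obj (op V₁)) :
    ∃ t' : (CohCx.sectSupp U A).obj.obj (op V₂),
      (CohCx.sectSupp U A).obj.map (homOfLE hle).op t' = t := by
  have hs0 : A.obj.map (homOfLE (inf_le_left : V₁ ⊓ U ≤ V₁)).op
      ((OpenRes.ι U A).hom.app (op V₁) t) = 0 := OpenRes.res_ι' U A V₁ t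
  obtain ⟨c, hc1, hc2⟩ := glue_two A ((OpenRes.ι U A).hom.app (op V₁) t)
    (0 : A.obj.obj (op (V₂ ⊓ U))) (by
      rw [map_zero]
      have h1 : V₁ ⊓ (V₂ ⊓ U) ≤ V₁ ⊓ U := inf_le_inf_left _ inf_le_right
      have := congrArg (A.obj.map (homOfLE h1).op) hs0
      rw [map_map_apply, map_zero] at this
      exact this)
  have hle' : V₁ ⊔ (V₂ ⊓ U) ≤ V₂ := sup_le hle inf_le_left
  have hepi : Epi (A.obj.map (homOfLE hle').op) :=
    TopCat.Presheaf.IsFlasque.epi (F := A.obj) (homOfLE hle').op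
  obtain ⟨c', hc'⟩ := (AddCommGrpCat.epi_iff_surjective _).1 hepi c
  have hc'0 : A.obj.map (homOfLE (inf_le_left : V₂ ⊓ U ≤ V₂)).op c' = 0 := by
    have := congrArg (A.obj.map (homOfLE (le_sup_right : V₂ ⊓ U ≤ V₁ ⊔ (V₂ ⊓ U))).op) hc'
    rw [map_map_apply, hc2] at this
    exact this
  obtain ⟨t', ht'⟩ := OpenRes.exists_ι_eq' U A V₂ c' hc'0
  refine ⟨t', ?_⟩
  apply OpenRes.ι_app_injective U A V₁
  have hnat := ConcreteCategory.congr_hom ((OpenRes.ι U A).hom.naturality (homOfLE hle).op) t'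
  refine hnat.trans ?_
  change A.obj.map (homOfLE hle).op ((OpenRes.ι U A).hom.app (op V₂) t') = _
  rw [ht']
  have := congrArg (A.obj.map (homOfLE (le_sup_left : V₁ ≤ V₁ ⊔ (V₂ ⊓ U))).op) hc'
  rw [map_map_apply, hc1] at this
  exact this

theorem sectSupp_isFlasque (A : CohTop.Ab X) [TopCat.Sheaf.IsFlasque A] (U : Opens X) :
    TopCat.Sheaf.IsFlasque ((LocCohZ.sectSuppF U).obj A) where
  epi {V₂ V₁} i := by
    rw [AddCommGrpCat.epi_iff_surjective]
    intro t
    obtain ⟨t', ht'⟩ := surj_aux A U (leOfHom i.unop) t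
    exact ⟨t', ht'⟩

end Groth.Agent.Helper9.SuppFlasque
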