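import Mathlib
import Groth.Agent.Lib.Helper9.SuppFlasque
import Groth.Agent.Lib.Helper9.StalkPull

/-!
# Sheaves on discrete spaces are flasque; the first step of the Godement resolution (helper9)
-/

universe u
open CategoryTheory CategoryTheory.Limits Opposite TopologicalSpace

namespace Groth.Agent.Helper9.DiscFlasque

open Groth.Agent.Helper9.Excision (map_map_apply)

variable {X : TopCat.{u}}

lemma surj_of_discrete [DiscreteTopology X] (F : CohTop.Ab X) {V W : Opens X} (hle : V ≤ W)
    (s : F.obj.obj (op V)) : ∃ t : F.obj.obj (op W), F.obj.map (homOfLE hle).op t = s := by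
  let V' : Opens X := ⟨(W : Set X) \ (V : Set X), isOpen_discrete _⟩
  have hbot : V ⊓ V' = ⊥ := by
    ext x
    simp only [Opens.coe_inf, Opens.coe_bot, Set.mem_inter_iff, Set.mem_empty_iff_false,
      iff_false]
    rintro ⟨h1, -, h2⟩
    exact h2 h1
  have hsub : Subsingleton (F.obj.obj (op (V ⊓ V'))) :=
    AddCommGrpCat.subsingleton_of_isZero ((TopCat.Sheaf.isTerminalOfEqEmpty F hbot).isZero)
  obtain ⟨c, hc1, -⟩ := SuppFlasque.glue_two F s (0 : F.obj.obj (op V'))
    (Subsingleton.elim (α := F.obj.obj (op (V ⊓ V'))) _ _)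
  have hW : W ≤ V ⊔ V' := by
    intro x hx
    by_cases hxV : x ∈ V
    · exact Or.inl hxV
    · exact Or.inr ⟨hx, hxV⟩
  refine ⟨F.obj.map (homOfLE hW).op c, ?_⟩
  rw [map_map_apply]
  exact hc1

/-- every abelian sheaf on a discrete space is flasque. -/
theorem isFlasque_of_discrete [DiscreteTopology X] (F : CohTop.Ab X) :
    TopCat.Sheaf.IsFlasque F where
  epi {W V} i := by
    rw [AddCommGrpCat.epi_iff_surjective]
    intro s
    obtain ⟨t, ht⟩ := surj_of_discrete F (leOfHom i.unop) s
    exact ⟨t, ht⟩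

/-- the first step of the Godement resolution. -/
theorem godement_step (F : CohTop.Ab X) :
    Mono ((TopCat.Sheaf.pullbackPushforwardAdjunction AddCommGrpCat.{u}
      (TopCat.adj₁.counit.app X)).unit.app F) ∧
    TopCat.Sheaf.IsFlasque ((CohTop.push (TopCat.adj₁.counit.app X)).obj
      ((CohTop.pull (TopCat.adj₁.counit.app X)).obj F)) := by
  constructor
  · haveI hfa : (TopCat.Sheaf.pullback AddCommGrpCat.{u} (TopCat.adj₁.counit.app X)).Faithful :=
      StalkPull.faithful_pull (TopCat.adj₁.counit.app X) (fun y => ⟨y, rfl⟩)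
    exact Adjunction.unit_mono_of_L_faithful
      (TopCat.Sheaf.pullbackPushforwardAdjunction AddCommGrpCat.{u} (TopCat.adj₁.counit.app X)) F
  · haveI : DiscreteTopology ↑((forget TopCat ⋙ TopCat.discrete).obj X) :=
      (inferInstance : DiscreteTopology (TopCat.discrete.obj ((forget TopCat).obj X)))
    haveI := isFlasque_of_discrete ((CohTop.pull (TopCat.adj₁.counit.app X)).obj F)
    exact TopCat.Sheaf.IsFlasque.pushforward_isFlasque _ _

end Groth.Agent.Helper9.DiscFlasque
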