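import Mathlib
import Groth.Prelude.Def_Coh
import Groth.Prelude.Def_Wider
import Groth.Agent.Lib.Helper13.ResFinLocFree
import Groth.Agent.Lib.Helper13.HomShAff
import Groth.Agent.Lib.Helper13.Qcqs
import Groth.Agent.Lib.Helper13.DirImgFull
import Groth.Agent.Lib.Lead.HomSh4

/-!
# Powers of an ideal killing the cohomology of finite locally free modules (helper9)

For a quasi-compact quasi-separated scheme `X`, a finite locally free module `F` and a global
function `g` with `D(g)` affine, some power `g ^ N • 𝟙 F` factors (up to a further power of `g`)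
through a finite sum of copies of the structure sheaf.  Consequently an element killing
`H^p(X, O_X)` times a power of `g` kills `H^p(X, F)`.
-/

set_option autoImplicit false
set_option maxHeartbeats 800000
universe u
open CategoryTheory CategoryTheory.Limits AlgebraicGeometry Opposite TopologicalSpace
open RefHull

namespace Groth.Agent.Helper9.PowKill

variable {X : Scheme.{u}}

/-- a morphism of modules commutes with multiplication by a global function. -/
theorem toSheaf_map_comp_smulAb {F G : X.Modules} (φ : F ⟶ G) (s : Coh.Γtop X) :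
    (SheafOfModules.toSheaf X.ringCatSheaf).map φ ≫ Coh.smulAb G s =
      Coh.smulAb F s ≫ (SheafOfModules.toSheaf X.ringCatSheaf).map φ := by
  ext U m
  change (Coh.smulAb G s).hom.app U ((φ.val.app U).hom m) =
    (φ.val.app U).hom ((Coh.smulAb F s).hom.app U m)
  rw [Coh.smulAb_app, Coh.smulAb_app]
  exact ((φ.val.app U).hom.map_smul (Coh.resTop X U s) m).symm

theorem smul_Hmap {F G : X.Modules} (φ : F ⟶ G) (s : Coh.Γtop X) (p : ℕ) (y : Coh.HH X F p) :
    s • (Sheaf.H.map ((SheafOfModules.toSheaf X.ringCatSheaf).map φ) p y : Coh.HH X G p) =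
      Sheaf.H.map ((SheafOfModules.toSheaf X.ringCatSheaf).map φ) p (s • y) := by
  change Sheaf.H.map (Coh.smulAb G s) p (Sheaf.H.map _ p y) =
    Sheaf.H.map _ p (Sheaf.H.map (Coh.smulAb F s) p y)
  rw [← Sheaf.H.map_comp_apply, ← Sheaf.H.map_comp_apply, toSheaf_map_comp_smulAb]

theorem Hmap_zero {F G : X.Modules} (p : ℕ) (x : Coh.HH X F p) :
    (Sheaf.H.map (0 : Coh.toAb F ⟶ Coh.toAb G) p x : Coh.HH X G p) = 0 := by
  change ((Sheaf.functorH _ p).map (0 : Coh.toAb F ⟶ Coh.toAb G)).hom x = 0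
  rw [Functor.map_zero]
  rfl

/-- **Lemma B.** -/
theorem smul_eq_zero_of_factor (F : X.Modules) (p : ℕ) {r : ℕ}
    (β : Fin r → (F ⟶ Coh.structureModule X)) (α : Fin r → (Coh.structureModule X ⟶ F))
    (s v w : Coh.Γtop X)
    (hs : ∀ y : Coh.HH X (Coh.structureModule X) p, s • y = 0)
    (h : Coh.smulAb F v ≫ (SheafOfModules.toSheaf X.ringCatSheaf).map (∑ k, β k ≫ α k) =
      Coh.smulAb F w)
    (x : Coh.HH X F p) : (s * w) • x = 0 := by
  have hw : w • x = (Sheaf.H.map ((SheafOfModules.toSheaf X.ringCatSheaf).map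
      (∑ k, β k ≫ α k)) p (v • x) : Coh.HH X F p) := by
    change Sheaf.H.map (Coh.smulAb F w) p x =
      Sheaf.H.map _ p (Sheaf.H.map (Coh.smulAb F v) p x)
    rw [← Sheaf.H.map_comp_apply, h]
  have key : ∀ (S : Finset (Fin r)) (z : Coh.HH X F p),
      s • (Sheaf.H.map ((SheafOfModules.toSheaf X.ringCatSheaf).map
        (∑ k ∈ S, β k ≫ α k)) p z : Coh.HH X F p) = 0 := by
    classical
    intro S z
    induction S using Finset.induction_on with
    | empty =>
      rw [Finset.sum_empty, Functor.map_zero, Hmap_zero, smul_zero]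
    | insert a S ha ih =>
      rw [Finset.sum_insert ha, Functor.map_add, Sheaf.H.map_add_apply, smul_add, ih, add_zero,
        Functor.map_comp, Sheaf.H.map_comp_apply, smul_Hmap, hs, map_zero]
  rw [mul_smul, hw]
  exact key Finset.univ _


open Groth.Agent.Lead.HomSh in
/-- **Lemma A.** -/
theorem exists_factor [CompactSpace X] [QuasiSeparatedSpace X]
    (F : X.Modules) (hF : FlatMod.IsFinLocFree F) (g : Γ(X, ⊤))
    (hV : IsAffineOpen (X.basicOpen g)) :
    ∃ (r : ℕ) (β : Fin r → (F ⟶ Coh.structureModule X))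
      (α : Fin r → (Coh.structureModule X ⟶ F)) (N M : ℕ),
      Coh.smulAb F (g ^ M) ≫ (SheafOfModules.toSheaf X.ringCatSheaf).map (∑ k, β k ≫ α k) =
        Coh.smulAb F (g ^ N) := by
  classical
  haveI hq : F.IsQuasicoherent :=
    Groth.Agent.Helper13.ResFinLocFree.isQuasicoherent_of_isFinLocFree F hF
  haveI hfp : SheafOfModules.IsFinitePresentation (R := X.ringCatSheaf) F :=
    Groth.Agent.Helper13.LocFree.isFinitePresentation_of_isFinLocFree F hF
  haveI hH : (homSh F (Coh.structureModule X)).IsQuasicoherent := isQuasicoherent_homSh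
  haveI hHF : (homSh F F).IsQuasicoherent := isQuasicoherent_homSh
  obtain ⟨hfin, hproj⟩ :=
    Groth.Agent.Helper13.LocFree.projective_sections_of_isFinLocFree F hF hV
  haveI := hfin
  haveI := hproj
  obtain ⟨r, a₀, ha₀⟩ := Module.Finite.exists_fin (R := Γ(X, X.basicOpen g))
    (M := Γ(F, X.basicOpen g))
  have hπ : Function.Surjective (Fintype.linearCombination Γ(X, X.basicOpen g) a₀) := by
    rw [← LinearMap.range_eq_top, Fintype.range_linearCombination, ha₀]
  obtain ⟨σ, hσ⟩ := Module.projective_lifting_property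
    (Fintype.linearCombination Γ(X, X.basicOpen g) a₀)
    (LinearMap.id : Γ(F, X.basicOpen g) →ₗ[Γ(X, X.basicOpen g)] Γ(F, X.basicOpen g)) hπ
  have hσ' : ∀ m : Γ(F, X.basicOpen g), ∑ k, σ m k • a₀ k = m := fun m => by
    have h1 := LinearMap.congr_fun hσ m
    rw [LinearMap.comp_apply, Fintype.linearCombination_apply, LinearMap.id_apply] at h1
    exact h1
  let b₀ : Fin r → (Γ(F, X.basicOpen g) →ₗ[Γ(X, X.basicOpen g)]
      Γ(Coh.structureModule X, X.basicOpen g)) := fun k =>
    { toFun := fun m => Groth.Agent.Helper13.LocFree.toO (X.basicOpen g) (σ m k)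
      map_add' := fun m m' => by rw [map_add]; rfl
      map_smul' := fun c m => by rw [map_smul]; rfl }
  let gk : Fin r → Γ(homSh F (Coh.structureModule X), X.basicOpen g) := fun k =>
    (Groth.Agent.Helper13.HomShAff.evEquiv hV).symm (b₀ k)
  have hgk : ∀ k (m : Γ(F, X.basicOpen g)), evalSec (gk k) m =
      Groth.Agent.Helper13.LocFree.toO (X.basicOpen g) (σ m k) := by
    intro k m
    have h1 : Groth.Agent.Helper13.HomShAff.evEquiv hV (gk k) = b₀ k :=
      LinearEquiv.apply_symm_apply _ _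
    exact LinearMap.congr_fun h1 m
  have hc : IsCompact ((⊤ : X.Opens) : Set X) := by
    rw [Opens.coe_top]; exact isCompact_univ
  have hqs : IsQuasiSeparated ((⊤ : X.Opens) : Set X) := IsQuasiSeparated.of_quasiSeparatedSpace _
  have hle : X.basicOpen g ≤ ⊤ := le_top
  have e1 : ∀ k, ∃ (n : ℕ) (h : Γ(homSh F (Coh.structureModule X), ⊤)),
      Groth.Agent.Helper13.Qcqs.res _ hle h =
        Groth.Agent.Helper13.Qcqs.resO hle g ^ n • gk k :=
    fun k => Groth.Agent.Helper13.Qcqs.exists_pow_smul_eq_res_of_qcqs _ hc hqs g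
      (X.basicOpen g) rfl hle (gk k)
  choose n₁ h₁ hh₁ using e1
  have e2 : ∀ k, ∃ (n : ℕ) (t : Γ(F, ⊤)),
      Groth.Agent.Helper13.Qcqs.res F hle t =
        Groth.Agent.Helper13.Qcqs.resO hle g ^ n • a₀ k :=
    fun k => Groth.Agent.Helper13.Qcqs.exists_pow_smul_eq_res_of_qcqs F hc hqs g
      (X.basicOpen g) rfl hle (a₀ k)
  choose n₂ t₂ ht₂ using e2
  set g' : Γ(X, X.basicOpen g) := Groth.Agent.Helper13.Qcqs.resO hle g with hg'
  let e : Fin r → ℕ := fun k => n₁ k + n₂ k
  let N₀ : ℕ := ∑ k, e k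
  have heN : ∀ k, n₁ k + n₂ k ≤ N₀ := fun k =>
    Finset.single_le_sum (f := e) (fun _ _ => Nat.zero_le _) (Finset.mem_univ k)
  let t' : Fin r → Γ(F, ⊤) := fun k => g ^ (N₀ - (n₁ k + n₂ k)) • t₂ k
  let β : Fin r → (F ⟶ Coh.structureModule X) := fun k =>
    Groth.Agent.Helper13.DirImgFull.homOfSec (h₁ k)
  let α : Fin r → (Coh.structureModule X ⟶ F) := fun k =>
    Groth.Agent.Helper13.LocFree.homOfSec F (t' k)
  have hβ : ∀ k (m : Γ(F, X.basicOpen g)), (β k).app (X.basicOpen g) m =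
      Groth.Agent.Helper13.LocFree.toO (X.basicOpen g) (g' ^ n₁ k * σ m k) := by
    intro k m
    have h1 : (β k).app (X.basicOpen g) m =
      evalSec (Groth.Agent.Helper13.DirImgFull.resTop (h₁ k) (X.basicOpen g)) m := rfl
    have h2 : Groth.Agent.Helper13.DirImgFull.resTop (h₁ k) (X.basicOpen g) =
      g' ^ n₁ k • gk k := hh₁ k
    rw [h1, h2, evalSec_smul_left, hgk]
    rfl
  have hα : ∀ k (c : Γ(X, X.basicOpen g)),
      (α k).app (X.basicOpen g) (Groth.Agent.Helper13.LocFree.toO (X.basicOpen g) c) =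
      (c * g' ^ (N₀ - (n₁ k + n₂ k)) * g' ^ n₂ k) • a₀ k := by
    intro k c
    have h0 := Groth.Agent.Helper13.LocFree.homOfSec_app F (t' k) (X.basicOpen g) c
    have h1 : F.presheaf.map (homOfLE (le_top : X.basicOpen g ≤ ⊤)).op (t' k) =
        g' ^ (N₀ - (n₁ k + n₂ k)) • (g' ^ n₂ k • a₀ k) := by
      have h2 := Groth.Agent.Helper13.Qcqs.res_pow_smul F hle g (N₀ - (n₁ k + n₂ k)) (t₂ k)
      rw [ht₂ k] at h2
      exact h2
    rw [h1, smul_smul, smul_smul] at h0
    exact h0
  have hΦV : ∀ m : Γ(F, X.basicOpen g),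
      (∑ k, β k ≫ α k).app (X.basicOpen g) m = g' ^ N₀ • m := by
    intro m
    rw [Groth.Agent.Helper13.LocFree.sum_app_apply]
    have h1 : ∀ k, (β k ≫ α k).app (X.basicOpen g) m = g' ^ N₀ • (σ m k • a₀ k) := by
      intro k
      rw [Groth.Agent.Helper13.LocFree.app_comp_apply, hβ, hα, smul_smul]
      congr 1
      have hN : g' ^ N₀ = g' ^ n₁ k * g' ^ (N₀ - (n₁ k + n₂ k)) * g' ^ n₂ k := by
        rw [← pow_add, ← pow_add]
        congr 1
        have := heN k
        omega
      rw [hN]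
      ring
    rw [Finset.sum_congr rfl (fun k _ => h1 k), ← Finset.smul_sum, hσ']
  have hid : ∀ (y : X) (v : F.presheaf.stalk y), stalkMapₗ (𝟙 F) y v = v := by
    intro y v
    obtain ⟨W, hy, m, rfl⟩ := TopCat.Presheaf.exists_germ_eq F.presheaf v
    rw [stalkMapₗ_germ]
    rfl
  have hT : Groth.Agent.Helper13.Qcqs.res (homSh F F) hle
      (ofHom (∑ k, β k ≫ α k) ⊤ + (-(g ^ N₀)) • ofHom (𝟙 F) ⊤) = 0 := by
    apply sec_ext
    intro y
    rw [Groth.Agent.Helper13.Qcqs.res_def, Groth.Agent.Lead.HomSh.map_apply,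
      Groth.Agent.Lead.HomSh.zero_apply]
    apply stalkHom_ext hV y.1 y.2
    intro m
    have hgerm : X.presheaf.germ (X.basicOpen g) y.1 y.2 g' = X.presheaf.germ ⊤ y.1 trivial g :=
      TopCat.Presheaf.germ_res_apply X.presheaf (homOfLE hle) y.1 y.2 g
    rw [Groth.Agent.Lead.HomSh.add_apply, Groth.Agent.Lead.HomSh.smul_apply, ofHom_apply,
      ofHom_apply, LinearMap.add_apply, LinearMap.smul_apply, hid, stalkMapₗ_germ, hΦV,
      LinearMap.zero_apply, Mero.germ_smul]
    simp only [map_neg, map_pow, neg_smul, hgerm]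
    exact add_neg_cancel _
  obtain ⟨M, hM⟩ := Groth.Agent.Helper13.Qcqs.exists_pow_smul_eq_zero_of_isCompact (homSh F F)
    hc g (X.basicOpen g) rfl hle _ hT
  refine ⟨r, β, α, M + N₀, M, ?_⟩
  ext U m
  obtain ⟨W⟩ := U
  revert m
  intro (m : Γ(F, W))
  change ((∑ k, β k ≫ α k).val.app (op W)).hom ((Coh.smulAb F (g ^ M)).hom.app (op W) m) =
    (Coh.smulAb F (g ^ (M + N₀))).hom.app (op W) m
  rw [Coh.smulAb_app, Coh.smulAb_app]
  apply sec_ext' F
  intro y
  have hy0 := congrArg (fun T : Γ(homSh F F, ⊤) => T.1 ⟨y.1, trivial⟩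
    (F.presheaf.germ W y.1 y.2 m)) hM
  simp only at hy0
  rw [Groth.Agent.Lead.HomSh.smul_apply, Groth.Agent.Lead.HomSh.add_apply,
    Groth.Agent.Lead.HomSh.smul_apply, ofHom_apply, ofHom_apply,
    Groth.Agent.Lead.HomSh.zero_apply, LinearMap.smul_apply, LinearMap.add_apply,
    LinearMap.smul_apply, hid, stalkMapₗ_germ, LinearMap.zero_apply] at hy0
  simp only [map_neg, map_pow, neg_smul, smul_add, smul_neg] at hy0
  have hres : ∀ c : Γ(X, ⊤), X.presheaf.germ W y.1 y.2
      (X.presheaf.map (homOfLE (le_top : W ≤ ⊤)).op c) = X.presheaf.germ ⊤ y.1 trivial c :=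
    fun c => TopCat.Presheaf.germ_res_apply X.presheaf (homOfLE le_top) y.1 y.2 c
  have hL : F.presheaf.germ W y.1 y.2
      (((∑ k, β k ≫ α k).val.app (op W)).hom
        (@HSMul.hSMul (X.ringCatSheaf.obj.obj (op W)) (F.val.obj (op W)) (F.val.obj (op W)) _
          (Coh.resTop X (op W) (g ^ M)) m)) =
      X.presheaf.germ ⊤ y.1 trivial g ^ M •
        F.presheaf.germ W y.1 y.2 ((∑ k, β k ≫ α k).app W m) := by
    have h1 : ((∑ k, β k ≫ α k).val.app (op W)).hom
        (@HSMul.hSMul (X.ringCatSheaf.obj.obj (op W)) (F.val.obj (op W)) (F.val.obj (op W)) _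
          (Coh.resTop X (op W) (g ^ M)) m) =
        (X.presheaf.map (homOfLE (le_top : W ≤ ⊤)).op (g ^ M) : Γ(X, W)) •
          ((∑ k, β k ≫ α k).app W m : Γ(F, W)) :=
      ((∑ k, β k ≫ α k).val.app (op W)).hom.map_smul (Coh.resTop X (op W) (g ^ M)) m
    rw [h1, Mero.germ_smul, hres, map_pow]
  have hR : F.presheaf.germ W y.1 y.2
      (@HSMul.hSMul (X.ringCatSheaf.obj.obj (op W)) (F.val.obj (op W)) (F.val.obj (op W)) _
          (Coh.resTop X (op W) (g ^ (M + N₀))) m) =
      X.presheaf.germ ⊤ y.1 trivial g ^ (M + N₀) • F.presheaf.germ W y.1 y.2 m := by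
    have h1 : (@HSMul.hSMul (X.ringCatSheaf.obj.obj (op W)) (F.val.obj (op W))
        (F.val.obj (op W)) _ (Coh.resTop X (op W) (g ^ (M + N₀))) m) =
        (X.presheaf.map (homOfLE (le_top : W ≤ ⊤)).op (g ^ (M + N₀)) : Γ(X, W)) •
          (m : Γ(F, W)) := rfl
    rw [h1, Mero.germ_smul, hres, map_pow]
  refine (hL.trans ?_).trans hR.symm
  rw [pow_add, mul_smul]
  exact eq_of_sub_eq_zero (by rw [sub_eq_add_neg]; exact hy0)

end Groth.Agent.Helper9.PowKill
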