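import Mathlib
import Groth.Agent.S0016
import Groth.Agent.S1109
import Groth.Agent.Lib.Helper13.QAffAcyc
import Groth.Agent.Lib.Helper13.ResFinLocFree
import Groth.Agent.Lib.Helper13.LocFree2
import Groth.Agent.Lib.Helper13.ToAbExact
import Groth.Agent.Lib.Lead.KerFree2
import Groth.Agent.Lib.Helper9.PowKill

/-!
# Dévissage by finite locally free resolutions (helper9)

On a quasi-compact locally Noetherian scheme with the resolution property, a property `P M i` of
the cohomology groups which holds for vanishing groups, is inherited by the third term of a short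
exact sequence from `P X₂ i` and `P X₁ (i+1)`, and holds for finite locally free modules in degrees
`> r`, holds for all coherent modules in degrees `> r`.
Also: the connecting map as a linear map, and finiteness in the long exact sequence.
-/

set_option autoImplicit false
universe u
open CategoryTheory CategoryTheory.Limits AlgebraicGeometry Opposite TopologicalSpace
open Groth.Agent.Helper13.ToAbExact

namespace Groth.Agent.Helper9.ResVan

variable {X : Scheme.{u}}

theorem isCoh_of_isFinLocFree (E : X.Modules) (hE : FlatMod.IsFinLocFree E) : Coh.IsCoh E := by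
  haveI hEq : E.IsQuasicoherent :=
    Groth.Agent.Helper13.ResFinLocFree.isQuasicoherent_of_isFinLocFree E hE
  haveI hEfp : SheafOfModules.IsFinitePresentation (R := X.ringCatSheaf) E :=
    Groth.Agent.Helper13.LocFree.isFinitePresentation_of_isFinLocFree E hE
  exact ⟨hEq, inferInstance⟩

theorem induction_of_resolution [IsLocallyNoetherian X] [CompactSpace X]
    (hres : PerfAux.HasResolutionProperty X) (r : ℕ) (P : X.Modules → ℕ → Prop)
    (hzero : ∀ (M : X.Modules) (i : ℕ), Subsingleton (Coh.HH X M i) → P M i)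
    (hses : ∀ S : ShortComplex X.Modules, S.ShortExact → ∀ i : ℕ,
      P S.X₂ i → P S.X₁ (i + 1) → P S.X₃ i)
    (hlf : ∀ E : X.Modules, FlatMod.IsFinLocFree E → ∀ i : ℕ, r < i → P E i)
    (F : X.Modules) (hF : Coh.IsCoh F) (i : ℕ) (hi : r < i) : P F i := by
  obtain ⟨d, hd⟩ := Groth.Agent.S0016.result X
  have key : ∀ a j : ℕ, r < j → d ≤ j + a → ∀ G : X.Modules, Coh.IsCoh G → P G j := by
    intro a
    induction a with
    | zero =>
      intro j _ hdj G hG
      exact hzero G j (hd G hG.1 j (by simpa using hdj))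
    | succ a ih =>
      intro j hj hdj G hG
      obtain ⟨E, π, hE, hπ⟩ := hres G hG.1 hG.2
      haveI := hπ
      have hK : Coh.IsCoh (kernel π) :=
        Groth.Agent.Lead.KerFree.isCoh_kernel (isCoh_of_isFinLocFree E hE) hG π
      have hS : (ShortComplex.mk (kernel.ι π) π (kernel.condition π)).ShortExact :=
        { exact := ShortComplex.exact_of_f_is_kernel _ (kernelIsKernel π) }
      exact hses _ hS j (hlf E hE j hj) (ih (j + 1) (by omega) (by omega) _ hK)
  exact key d i hi (by omega) F hF

theorem vanishing_of_resolution [IsLocallyNoetherian X] [CompactSpace X]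
    (hres : PerfAux.HasResolutionProperty X) (r : ℕ)
    (hlf : ∀ E : X.Modules, FlatMod.IsFinLocFree E → ∀ i : ℕ, r < i →
      Subsingleton (Coh.HH X E i))
    (F : X.Modules) (hF : Coh.IsCoh F) (i : ℕ) (hi : r < i) : Subsingleton (Coh.HH X F i) :=
  induction_of_resolution hres r (fun M i => Subsingleton (Coh.HH X M i)) (fun _ _ h => h)
    (fun S hS i h2 h1 => Groth.Agent.Helper13.QAffAcyc.HH_right S hS i h2 h1) hlf F hF i hi

open Abelian

/-- the endomorphism of the underlying short complex of abelian sheaves given by a global function. -/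
noncomputable def smulHom (S : ShortComplex X.Modules) (s : Coh.Γtop X) :
    S.map (toAbF X) ⟶ S.map (toAbF X) where
  τ₁ := Coh.smulAb S.X₁ s
  τ₂ := Coh.smulAb S.X₂ s
  τ₃ := Coh.smulAb S.X₃ s
  comm₁₂ := (Groth.Agent.Helper9.PowKill.toSheaf_map_comp_smulAb S.f s).symm
  comm₂₃ := (Groth.Agent.Helper9.PowKill.toSheaf_map_comp_smulAb S.g s).symm

/-- the connecting map `H^p(X₃) → H^{p+1}(X₁)` as a function. -/
noncomputable def deltaFun (S : ShortComplex X.Modules) (hS : S.ShortExact) (p : ℕ)
    (x : Coh.HH X S.X₃ p) : Coh.HH X S.X₁ (p + 1) :=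
  Ext.comp (Y := (S.map (toAbF X)).X₃) x (toAb_shortExact S hS).extClass rfl

theorem deltaFun_smul (S : ShortComplex X.Modules) (hS : S.ShortExact) (p : ℕ)
    (s : Coh.Γtop X) (x : Coh.HH X S.X₃ p) :
    deltaFun S hS p (s • x) = s • deltaFun S hS p x := by
  have hnat := ShortComplex.ShortExact.extClass_naturality (toAb_shortExact S hS)
    (toAb_shortExact S hS) (smulHom S s)
  change Ext.comp (Y := (S.map (toAbF X)).X₃)
      (Ext.comp (Y := (S.map (toAbF X)).X₃) x (Ext.mk₀ (smulHom S s).τ₃) (add_zero p))
      (toAb_shortExact S hS).extClass rfl =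
    Ext.comp (Y := (S.map (toAbF X)).X₁)
      (Ext.comp (Y := (S.map (toAbF X)).X₃) x (toAb_shortExact S hS).extClass rfl)
      (Ext.mk₀ (smulHom S s).τ₁) (add_zero (p + 1))
  rw [Ext.comp_assoc_of_second_deg_zero, Ext.comp_assoc_of_third_deg_zero, hnat]

variable (A : Type u) [CommRing A] [X.Over (Spec (CommRingCat.of A))]

/-- the connecting map as an `A`-linear map. -/
noncomputable def delta (S : ShortComplex X.Modules) (hS : S.ShortExact) (p : ℕ) :
    Coh.HH X S.X₃ p →ₗ[A] Coh.HH X S.X₁ (p + 1) where
  toFun := deltaFun S hS p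
  map_add' x y := Ext.add_comp (Y := (S.map (toAbF X)).X₃) x y _ rfl
  map_smul' a x := deltaFun_smul S hS p (Coh.toGlobal (X ↘ Spec (CommRingCat.of A)) a) x

/-- `H^p(g)` as an `A`-linear map. -/
noncomputable def gstar (S : ShortComplex X.Modules) (p : ℕ) :
    Coh.HH X S.X₂ p →ₗ[A] Coh.HH X S.X₃ p where
  toFun y := Sheaf.H.map ((SheafOfModules.toSheaf X.ringCatSheaf).map S.g) p y
  map_add' y z := map_add _ y z
  map_smul' a y := (Groth.Agent.Helper9.PowKill.smul_Hmap S.g
    (Coh.toGlobal (X ↘ Spec (CommRingCat.of A)) a) p y).symm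

theorem ker_delta (S : ShortComplex X.Modules) (hS : S.ShortExact) (p : ℕ) :
    LinearMap.ker (delta A S hS p) = LinearMap.range (gstar A S p) := by
  apply le_antisymm
  · intro x hx
    obtain ⟨y, hy⟩ := Ext.covariant_sequence_exact₃ _ (toAb_shortExact S hS) x
      (n₁ := p + 1) rfl hx
    exact ⟨y, hy⟩
  · rintro _ ⟨y, rfl⟩
    change Ext.comp (Y := (S.map (toAbF X)).X₃)
      (Ext.comp (Y := (S.map (toAbF X)).X₂) y (Ext.mk₀ (S.map (toAbF X)).g) (add_zero p))
      (toAb_shortExact S hS).extClass rfl = 0
    rw [Ext.comp_assoc_of_second_deg_zero, ShortComplex.ShortExact.comp_extClass, Ext.comp_zero]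

theorem finite_HH_right [IsNoetherianRing A] (S : ShortComplex X.Modules) (hS : S.ShortExact)
    (p : ℕ) (h2 : Module.Finite A (Coh.HH X S.X₂ p))
    (h1 : Module.Finite A (Coh.HH X S.X₁ (p + 1))) : Module.Finite A (Coh.HH X S.X₃ p) := by
  haveI := h1
  haveI := h2
  haveI : IsNoetherian A (Coh.HH X S.X₁ (p + 1)) := isNoetherian_of_isNoetherianRing_of_finite A _
  refine ⟨Submodule.fg_of_fg_map_of_fg_inf_ker (delta A S hS p) ?_ ?_⟩
  · exact IsNoetherian.noetherian _
  · rw [top_inf_eq, ker_delta, LinearMap.range_eq_map]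
    exact (Module.Finite.fg_top).map _

theorem finite_of_resolution [IsNoetherianRing A] [IsLocallyNoetherian X] [CompactSpace X]
    (hres : PerfAux.HasResolutionProperty X) (r : ℕ)
    (hlf : ∀ E : X.Modules, FlatMod.IsFinLocFree E → ∀ i : ℕ, r < i →
      Module.Finite A (Coh.HH X E i))
    (F : X.Modules) (hF : Coh.IsCoh F) (i : ℕ) (hi : r < i) : Module.Finite A (Coh.HH X F i) :=
  induction_of_resolution hres r (fun M i => Module.Finite A (Coh.HH X M i))
    (fun M i h => by
      haveI : Subsingleton (Coh.HH X M i) := h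
      exact Module.Finite.of_finite)
    (fun S hS i h2 h1 => finite_HH_right A S hS i h2 h1) hlf F hF i hi

omit [X.Over (Spec (CommRingCat.of A))] in
/-- regular, separated over an affine base, quasi-compact, locally Noetherian ⇒ resolution
property. -/
theorem hasResolutionProperty_of_regular {Y : Scheme.{u}} [IsAffine Y] (f : X ⟶ Y)
    [IsSeparated f] [CompactSpace X] [IsLocallyNoetherian X]
    (hreg : ∀ x : X, IsRegularLocalRing (X.presheaf.stalk x)) :
    PerfAux.HasResolutionProperty X :=
  Groth.Agent.S1109.result X hreg (fun U V hU hV =>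
    (isAffineHom_diagonal_iff (f := f)).mp inferInstance ⊤ (isAffineOpen_top _) U (by simp)
      V (by simp) hU hV)

end Groth.Agent.Helper9.ResVan
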