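import Mathlib
import Groth.Prelude.Def_Coh
import Groth.Prelude.Def_CohPull
import Groth.Prelude.Def_MoreMor
import Groth.Agent.Lib.Helper13.FTColim
import Groth.Agent.Lib.Helper13.PushEdgeSch
import Groth.Agent.Lib.Helper13.AcycEmbed
import Groth.Agent.Lib.Helper13.QCohKer
import Groth.Agent.Lib.Helper13.Qcqs
import Groth.Agent.Lib.Helper28.SchSupport
import Groth.Agent.Lib.Helper6.ThickAffB
import Groth.Agent.Lib.Helper15.AffStr4
import Groth.Agent.Lib.Helper9.CohGraph
import Groth.Agent.S0007
import Groth.Agent.S0028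

/-!
# Cohomological dimension of schemes with an affine stratification (helper9)

If `X` has an affine stratification with index set `{0, …, n}` then `H^p(X, F) = 0` for all
quasi-coherent `F` and `p > n`.
-/

set_option autoImplicit false
set_option linter.unusedSectionVars false
universe u
open CategoryTheory CategoryTheory.Limits AlgebraicGeometry Opposite TopologicalSpace
open Groth.Agent.Helper13 Groth.Agent.Helper13.FTColim Groth.Agent.Helper13.ToAbExact

namespace Groth.Agent.Helper9.AffStrat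

variable {X : Scheme.{u}}

/-! ### cohomology lemmas -/

theorem HH_subsingleton_of_iso {M M' : X.Modules} (e : M ≅ M') (p : ℕ)
    (h : Subsingleton (Coh.HH X M' p)) : Subsingleton (Coh.HH X M p) := by
  have hinj : Function.Injective (Sheaf.H.map ((toAbF X).map e.hom) p) := by
    apply Function.LeftInverse.injective (g := Sheaf.H.map ((toAbF X).map e.inv) p)
    intro x
    rw [← Sheaf.H.map_comp_apply, ← CategoryTheory.Functor.map_comp, e.hom_inv_id,
      CategoryTheory.Functor.map_id]
    exact Sheaf.H.map_id_apply x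
  haveI : Subsingleton (Sheaf.H ((toAbF X).obj M') p) := h
  exact hinj.subsingleton

open Abelian in
/-- connecting-map vanishing: `H^p(X₃) = 0` and `H^{p+1}(X₂) = 0` give `H^{p+1}(X₁) = 0` -/
theorem HH_subsingleton_X₁ (S : ShortComplex X.Modules) (hS : S.ShortExact) (p : ℕ)
    (h3 : Subsingleton (Coh.HH X S.X₃ p)) (h2 : Subsingleton (Coh.HH X S.X₂ (p + 1))) :
    Subsingleton (Coh.HH X S.X₁ (p + 1)) := by
  have hS' := toAb_shortExact S hS
  refine subsingleton_of_forall_eq 0 fun x₁ => ?_
  obtain ⟨x₃, hx₃⟩ := Ext.covariant_sequence_exact₁ _ hS' x₁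
    (Subsingleton.elim (α := Coh.HH X S.X₂ (p + 1)) _ _) (n₀ := p) rfl
  have h0 : x₃ = 0 := Subsingleton.elim (α := Coh.HH X S.X₃ p) x₃ 0
  rw [← hx₃, h0, Ext.zero_comp]
  rfl

/-- cohomology of a pushforward along an affine morphism -/
theorem HH_subsingleton_pushforward {Y : Scheme.{u}} (i : Y ⟶ X) [IsAffineHom i] (G : Y.Modules)
    [hG : G.IsQuasicoherent] (p : ℕ) (h : Subsingleton (Coh.HH Y G p)) :
    Subsingleton (Coh.HH X ((Scheme.Modules.pushforward i).obj G) p) := by
  haveI : Coh.IsQCoh G := hG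
  have hb := Groth.Agent.Helper13.PushEdgeSch.pushEdge_bijective i G p
    (fun q => Groth.Agent.S0028.result i G (q + 1) (Nat.succ_pos q))
  exact hb.injective.subsingleton

/-- reduction to the finite type quasi-coherent subsheaves -/
theorem HH_subsingleton_of_sub [CompactSpace X] [QuasiSeparatedSpace X] (G : X.Modules)
    [G.IsQuasicoherent] (p : ℕ)
    (h : ∀ j : JJ G, Subsingleton (Coh.HH X (sub G j) p)) : Subsingleton (Coh.HH X G p) := by
  haveI : PrespectralSpace X.toTopCat := inferInstanceAs (PrespectralSpace X)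
  haveI : QuasiSeparatedSpace X.toTopCat := inferInstanceAs (QuasiSeparatedSpace X)
  haveI : CompactSpace X.toTopCat := inferInstanceAs (CompactSpace X)
  obtain ⟨hcol⟩ := isColimit_cc G
  let F : CohTop.Ab X.toTopCat ⥤ AddCommGrpCat.{u} :=
    (Sheaf.cohomologyPresheafFunctor (Opens.grothendieckTopology X.toTopCat) p).flip.obj (op ⊤)
  haveI : PreservesColimitsOfShape (JJ G) F :=
    Groth.Agent.Helper13.ColimCoh.preservesColimitsOfShape_HU (X := X.toTopCat) (J := JJ G) ⊤
      (by simpa using isCompact_univ) (Groth.Agent.Helper13.ColimSec.qSep_of_quasiSeparatedSpace ⊤) p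
  have hz : ∀ x : F.obj (Coh.toAb G), x = 0 := by
    intro x
    obtain ⟨j, y, hy⟩ := DeltaFColim.exists_rep (DAb G ⋙ F) (isColimitOfPreserves F hcol) x
    have hsub : Subsingleton (Coh.HH X (sub G j) p) := h j
    have hsub' : Subsingleton (CohTop.HU (X := X.toTopCat) (Coh.toAb (sub G j)) p ⊤) :=
      @Function.Injective.subsingleton _ _ _
        (Groth.Agent.Helper13.HUTop.HUtopEquiv (X := X.toTopCat) (Coh.toAb (sub G j)) p).injective hsub
    have hy0 : y = 0 := @Subsingleton.elim _ hsub' _ _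
    rw [← hy, hy0]
    exact map_zero _
  have hsub : Subsingleton (CohTop.HU (X := X.toTopCat) (Coh.toAb G) p ⊤) :=
    ⟨fun a b => (hz a).trans (hz b).symm⟩
  exact @Function.Injective.subsingleton _ _ _
    (Groth.Agent.Helper13.HUTop.HUtopEquiv (X := X.toTopCat) (Coh.toAb G) p).symm.injective hsub

/-! ### modules vanishing on an open -/

theorem subsingleton_sections_of_isZero {Y : Scheme.{u}} (N : Y.Modules) (hN : IsZero N)
    (W : Y.Opens) : Subsingleton Γ(N, W) := by
  have h : ∀ t : Γ(N, W), t = 0 := by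
    intro t
    have h1 : (𝟙 N : N ⟶ N) = 0 := hN.eq_of_src _ _
    have h2 : (𝟙 N : N ⟶ N).app W t = (0 : N ⟶ N).app W t := by rw [h1]
    rw [Scheme.Modules.Hom.id_app, Scheme.Modules.Hom.zero_app] at h2
    exact h2
  exact ⟨fun a b => (h a).trans (h b).symm⟩

theorem stalk_subsingleton_of_isZero_restrict (M : X.Modules) (U : X.Opens)
    (h : IsZero (M.restrict U.ι)) (x : X) (hx : x ∈ U) : Subsingleton (M.presheaf.stalk x) := by
  have key : ∀ z : M.presheaf.stalk x, z = 0 := by
    intro z
    obtain ⟨V, hxV, t, rfl⟩ := TopCat.Presheaf.exists_germ_eq M.presheaf z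
    have hW : U.ι ''ᵁ (U.ι ⁻¹ᵁ V) ≤ V := by
      rw [Scheme.Hom.image_preimage_eq_opensRange_inf]; exact inf_le_right
    have hxW : x ∈ U.ι ''ᵁ (U.ι ⁻¹ᵁ V) := by
      rw [Scheme.Hom.image_preimage_eq_opensRange_inf, Scheme.Opens.opensRange_ι]
      exact ⟨hx, hxV⟩
    have h1 : M.presheaf.germ V x hxV t =
        M.presheaf.germ _ x hxW (M.presheaf.map (homOfLE hW).op t) :=
      (TopCat.Presheaf.germ_res_apply M.presheaf (homOfLE hW) x hxW t).symm
    haveI : Subsingleton Γ(M.restrict U.ι, U.ι ⁻¹ᵁ V) := subsingleton_sections_of_isZero _ h _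
    have h0 : (M.presheaf.map (homOfLE hW).op t) = 0 :=
      Subsingleton.elim (α := Γ(M.restrict U.ι, U.ι ⁻¹ᵁ V)) _ _
    rw [h1, h0, map_zero]
  exact ⟨fun a b => (key a).trans (key b).symm⟩

/-- the induction hypothesis, in the form used below -/
def IHyp (X : Scheme.{u}) (U : X.Opens) (n : ℕ) : Prop :=
  ∀ (Y : Scheme.{u}) (i : Y ⟶ X), IsClosedImmersion i → (∀ y : Y, i y ∉ U) →
    ∀ G : Y.Modules, G.IsQuasicoherent → ∀ q : ℕ, n < q → Subsingleton (Coh.HH Y G q)

theorem HH_subsingleton_of_ft_zeroOn (U : X.Opens) (n : ℕ) (IH : IHyp X U n)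
    (M : X.Modules) [M.IsQuasicoherent] [SheafOfModules.IsFiniteType (R := X.ringCatSheaf) M]
    (hM : IsZero (M.restrict U.ι)) (p : ℕ) (hp : n < p) : Subsingleton (Coh.HH X M p) := by
  obtain ⟨I, hI⟩ : ∃ I : X.IdealSheafData, I = Groth.Agent.Helper28.SchSupport.annIdeal M :=
    ⟨_, rfl⟩
  have hsupp : (I.support : Set X) = {x | ¬ Subsingleton (M.presheaf.stalk x)} := by
    rw [hI]; exact Groth.Agent.Helper28.SchSupport.support_annIdeal M
  haveI : IsIso ((Scheme.Modules.pullbackPushforwardAdjunction I.subschemeι).unit.app M) := by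
    rw [hI]; exact Groth.Agent.Helper28.SchSupport.isIso_unit_annIdeal M
  have e : M ≅ (Scheme.Modules.pushforward I.subschemeι).obj
      ((Scheme.Modules.pullback I.subschemeι).obj M) :=
    asIso ((Scheme.Modules.pullbackPushforwardAdjunction I.subschemeι).unit.app M)
  have hrange : ∀ y : I.subscheme, I.subschemeι y ∉ U := by
    intro y hy
    have h1 : I.subschemeι y ∈ (I.support : Set X) := by
      rw [← Scheme.IdealSheafData.range_subschemeι]; exact ⟨y, rfl⟩
    rw [hsupp] at h1
    exact h1 (stalk_subsingleton_of_isZero_restrict M U hM _ hy)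
  haveI hq : ((Scheme.Modules.pullback I.subschemeι).obj M).IsQuasicoherent := inferInstance
  have h2 := IH I.subscheme I.subschemeι inferInstance hrange _ hq p hp
  exact HH_subsingleton_of_iso e p (HH_subsingleton_pushforward I.subschemeι _ p h2)

theorem HH_subsingleton_of_zeroOn [CompactSpace X] [QuasiSeparatedSpace X] (U : X.Opens) (n : ℕ)
    (IH : IHyp X U n) (M : X.Modules) [M.IsQuasicoherent]
    (hM : IsZero (M.restrict U.ι)) (p : ℕ) (hp : n < p) : Subsingleton (Coh.HH X M p) := by
  apply HH_subsingleton_of_sub M p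
  intro j
  haveI := sub_isQuasicoherent M j
  haveI := sub_isFiniteType M j
  refine HH_subsingleton_of_ft_zeroOn U n IH (sub M j) ?_ p hp
  haveI : Mono ((Scheme.Modules.restrictFunctor U.ι).map (subι M j)) := inferInstance
  exact IsZero.of_mono ((Scheme.Modules.restrictFunctor U.ι).map (subι M j)) hM

/-! ### the inductive step -/

theorem step [CompactSpace X] [QuasiSeparatedSpace X] (U : X.Opens) [IsAffine U]
    [IsAffineHom U.ι] (n : ℕ) (IH : IHyp X U n) (F : X.Modules) [F.IsQuasicoherent]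
    (p : ℕ) (hp : n + 1 < p) : Subsingleton (Coh.HH X F p) := by
  obtain ⟨R, hR⟩ : ∃ R : X.Modules ⥤ (U : Scheme.{u}).Modules,
    R = Scheme.Modules.restrictFunctor U.ι := ⟨_, rfl⟩
  obtain ⟨η, hη⟩ : ∃ η : F ⟶ (Scheme.Modules.pushforward U.ι).obj
      ((Scheme.Modules.restrictFunctor U.ι).obj F),
      η = (Scheme.Modules.restrictAdjunction U.ι).unit.app F := ⟨_, rfl⟩
  haveI hRη : IsIso ((Scheme.Modules.restrictFunctor U.ι).map η) := by
    rw [hη]; exact Groth.Agent.Helper9.CohGraph.isIso_restrict_map_unit U.ι F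
  haveI hqP : ((Scheme.Modules.pushforward U.ι).obj
      ((Scheme.Modules.restrictFunctor U.ι).obj F)).IsQuasicoherent :=
    Groth.Agent.Helper13.Qcqs.isQuasicoherent_pushforward_of_qcqs U.ι _
  haveI hqK : (kernel η).IsQuasicoherent := Groth.Agent.Helper13.QCohLocal.isQuasicoherent_kernel η
  haveI hqQ : (cokernel η).IsQuasicoherent :=
    Groth.Agent.Helper13.QCohLocal.isQuasicoherent_cokernel η
  haveI hqI : (kernel (cokernel.π η)).IsQuasicoherent :=
    Groth.Agent.Helper13.QCohLocal.isQuasicoherent_kernel (cokernel.π η)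
  have hK0 : IsZero ((kernel η).restrict U.ι) :=
    (isZero_kernel_of_mono ((Scheme.Modules.restrictFunctor U.ι).map η)).of_iso
      (PreservesKernel.iso (Scheme.Modules.restrictFunctor U.ι) η)
  have hQ0 : IsZero ((cokernel η).restrict U.ι) :=
    (isZero_cokernel_of_epi ((Scheme.Modules.restrictFunctor U.ι).map η)).of_iso
      (PreservesCokernel.iso (Scheme.Modules.restrictFunctor U.ι) η)
  obtain ⟨q, rfl⟩ : ∃ q, p = q + 1 := ⟨p - 1, by omega⟩
  have vK : Subsingleton (Coh.HH X (kernel η) (q + 1)) :=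
    HH_subsingleton_of_zeroOn U n IH _ hK0 (q + 1) (by omega)
  have vQ : Subsingleton (Coh.HH X (cokernel η) q) :=
    HH_subsingleton_of_zeroOn U n IH _ hQ0 q (by omega)
  have vU : Subsingleton (Coh.HH (U : Scheme.{u}) ((Scheme.Modules.restrictFunctor U.ι).obj F)
      (q + 1)) := by
    haveI : Coh.IsQCoh ((Scheme.Modules.restrictFunctor U.ι).obj F) :=
      inferInstanceAs ((Scheme.Modules.restrictFunctor U.ι).obj F).IsQuasicoherent
    exact Groth.Agent.S0007.result (U : Scheme.{u}) _ (q + 1) (Nat.succ_pos q)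
  have vP : Subsingleton (Coh.HH X ((Scheme.Modules.pushforward U.ι).obj
      ((Scheme.Modules.restrictFunctor U.ι).obj F)) (q + 1)) :=
    HH_subsingleton_pushforward U.ι _ (q + 1) vU
  -- the two short exact sequences
  have hS₂ : (ShortComplex.mk (kernel.ι (cokernel.π η)) (cokernel.π η)
      (kernel.condition _)).ShortExact :=
    { exact := ShortComplex.exact_of_f_is_kernel _ (kernelIsKernel _)
      mono_f := inferInstanceAs (Mono (kernel.ι (cokernel.π η)))
      epi_g := inferInstanceAs (Epi (cokernel.π η)) }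
  have vI : Subsingleton (Coh.HH X (kernel (cokernel.π η)) (q + 1)) :=
    HH_subsingleton_X₁ _ hS₂ q vQ vP
  have hz : kernel.ι η ≫ Abelian.factorThruImage η = 0 := by
    rw [← cancel_mono (Abelian.image.ι η), Category.assoc, Abelian.image.fac, kernel.condition,
      zero_comp]
  have hS₁ : (ShortComplex.mk (kernel.ι η) (Abelian.factorThruImage η) hz).ShortExact :=
    { exact := ShortComplex.exact_of_f_is_kernel _
        (isKernelOfComp (Abelian.image.ι η) η (kernelIsKernel η) hz (Abelian.image.fac η))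
      mono_f := inferInstanceAs (Mono (kernel.ι η))
      epi_g := inferInstanceAs (Epi (Abelian.factorThruImage η)) }
  exact Groth.Agent.Helper13.AcycEmbed.HH_subsingleton_of_shortExact _ hS₁ (q + 1) vK vI

/-! ### stratifications -/

theorem affine_of_surjective_immersion {Z : Scheme.{u}} (ι : Z ⟶ X) [IsImmersion ι] [IsAffine Z]
    (hsurj : Function.Surjective ι.base) : IsAffine X := by
  haveI : IsClosedImmersion ι := IsClosedImmersion.of_isPreimmersion ι (by
    have : Set.range ι = Set.univ := Set.range_eq_univ.2 hsurj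
    rw [this]; exact isClosed_univ)
  exact Groth.Agent.Helper6.ThickAff.isAffine_of_isClosedImmersion_of_surjective ι hsurj

theorem open_stratum {Z : Scheme.{u}} (ι : Z ⟶ X) [IsImmersion ι] [IsAffine Z] [IsAffineHom ι]
    (U : X.Opens) (hr : Set.range ι = (U : Set X)) : IsAffine U ∧ IsAffineHom U.ι := by
  have hle : Set.range ι ⊆ Set.range U.ι := by rw [hr, Scheme.Opens.range_ι]
  obtain ⟨ι', hfac⟩ : ∃ ι' : Z ⟶ U, ι' ≫ U.ι = ι :=
    ⟨IsOpenImmersion.lift U.ι ι hle, IsOpenImmersion.lift_fac U.ι ι hle⟩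
  haveI : IsImmersion (ι' ≫ U.ι) := by rw [hfac]; infer_instance
  haveI : IsImmersion ι' := IsImmersion.of_comp ι' U.ι
  have hsurj : Function.Surjective ι'.base := by
    intro u
    have hu : U.ι u ∈ Set.range ι := by rw [hr]; exact u.2
    obtain ⟨z, hz⟩ := hu
    refine ⟨z, ?_⟩
    apply U.ι.isOpenEmbedding.injective
    have : U.ι (ι' z) = ι z := by rw [← Scheme.Hom.comp_apply, hfac]
    exact this.trans hz
  haveI : IsClosedImmersion ι' := IsClosedImmersion.of_isPreimmersion ι' (by
    have : Set.range ι' = Set.univ := Set.range_eq_univ.2 hsurj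
    rw [this]; exact isClosed_univ)
  refine ⟨Groth.Agent.Helper6.ThickAff.isAffine_of_isClosedImmersion_of_surjective ι' hsurj,
    ⟨fun V hV => ?_⟩⟩
  apply Groth.Agent.Helper6.ThickAff.isAffineOpen_of_isAffineOpen_preimage ι' hsurj
  have h1 : IsAffineOpen (ι ⁻¹ᵁ V) := hV.preimage ι
  have h2 : ι ⁻¹ᵁ V = ι' ⁻¹ᵁ (U.ι ⁻¹ᵁ V) := by rw [← Scheme.Hom.comp_preimage, hfac]
  rwa [h2] at h1

theorem strat_of_affineHom {Y : Scheme.{u}} (i : Y ⟶ X) [IsAffineHom i] (n : ℕ)
    (s : X → Fin (n + 2)) (hcl : ∀ k : Fin (n + 2), IsClosed {x : X | s x ≤ k})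
    (hstr : ∀ k : Fin (n + 2), ∃ (Z : Scheme.{u}) (ι : Z ⟶ X),
      IsImmersion ι ∧ IsAffine Z ∧ IsAffineHom ι ∧ Set.range ι = {x : X | s x = k})
    (hi : ∀ y : Y, s (i y) ≠ Fin.last (n + 1)) : MoreMor.HasAffineStratification Y n := by
  refine ⟨fun y => (s (i y)).castPred (hi y), fun k => ?_, fun k => ?_⟩
  · have h : {y : Y | (s (i y)).castPred (hi y) ≤ k} = i ⁻¹' {x : X | s x ≤ k.castSucc} := by
      ext y
      exact Fin.castPred_le_iff (hi y)
    rw [h]
    exact (hcl k.castSucc).preimage i.continuous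
  · obtain ⟨Z, ι, h1, h2, h3, h4⟩ := hstr k.castSucc
    haveI := h1
    haveI := h2
    haveI := h3
    haveI : IsAffineHom (pullback.snd ι i) := MorphismProperty.pullback_snd _ _ h3
    haveI : IsAffineHom (pullback.fst ι i) := MorphismProperty.pullback_fst _ _ ‹IsAffineHom i›
    refine ⟨pullback ι i, pullback.snd ι i, inferInstance, ?_, inferInstance, ?_⟩
    · exact isAffine_of_isAffineHom (pullback.fst ι i)
    · rw [Scheme.Pullback.range_snd, h4]
      ext y
      exact (Fin.castPred_eq_iff_eq_castSucc (s (i y)) (hi y) k).symm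

/-! ### the main theorem -/

theorem main (n : ℕ) : ∀ (X : Scheme.{u}), MoreMor.HasAffineStratification X n →
    ∀ F : X.Modules, F.IsQuasicoherent → ∀ p : ℕ, n < p → Subsingleton (Coh.HH X F p) := by
  induction n with
  | zero =>
    intro X hX F hF p hp
    obtain ⟨s, hcl, hstr⟩ := hX
    obtain ⟨Z, ι, h1, h2, h3, h4⟩ := hstr 0
    haveI := h1
    haveI := h2
    have hsurj : Function.Surjective ι.base := by
      intro x
      have hx : x ∈ Set.range ι := by
        rw [h4]
        exact Subsingleton.elim (α := Fin 1) _ _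
      exact hx
    haveI : IsAffine X := affine_of_surjective_immersion ι hsurj
    haveI : Coh.IsQCoh F := hF
    exact Groth.Agent.S0007.result X F p hp
  | succ n ih =>
    intro X hX F hF p hp
    obtain ⟨hc, hqs⟩ := Groth.Agent.Helper15.AffStr.qcqs_of_hasAffineStratification hX
    haveI := hc
    haveI := hqs
    obtain ⟨s, hcl, hstr⟩ := hX
    have hUo : IsOpen {x : X | s x = Fin.last (n + 1)} := by
      have h : {x : X | s x = Fin.last (n + 1)} = {x : X | s x ≤ (Fin.last n).castSucc}ᶜ := by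
        ext x
        simp only [Set.mem_setOf_eq, Set.mem_compl_iff]
        rw [Fin.ext_iff, Fin.le_def, Fin.val_last, Fin.coe_castSucc, Fin.val_last]
        have := (s x).isLt
        omega
      rw [h]
      exact (hcl _).isOpen_compl
    obtain ⟨U, hU⟩ : ∃ U : X.Opens, (U : Set X) = {x : X | s x = Fin.last (n + 1)} :=
      ⟨⟨_, hUo⟩, rfl⟩
    obtain ⟨Z, ι, h1, h2, h3, h4⟩ := hstr (Fin.last (n + 1))
    haveI := h1
    haveI := h2
    haveI := h3
    obtain ⟨hUa, hUh⟩ := open_stratum ι U (h4.trans hU.symm)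
    haveI := hUa
    haveI := hUh
    haveI : F.IsQuasicoherent := hF
    refine step U n ?_ F p hp
    intro Y i hi hiU G hG q hq
    haveI := hi
    refine ih Y (strat_of_affineHom i n s hcl hstr (fun y hy => hiU y ?_)) G hG q hq
    have : i y ∈ (U : Set X) := by rw [hU]; exact hy
    exact this

end Groth.Agent.Helper9.AffStrat
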