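import Mathlib
import Groth.Prelude.Def_LocCohZ

/-!
# Consequences of the long exact sequence `H^i_Z(V) → H^i(V) → H^i(W) → H^{i+1}_Z(V)` (helper9)
-/

universe u
set_option linter.style.haveILetI false
open CategoryTheory CategoryTheory.Limits Opposite TopologicalSpace
namespace Groth.Agent.Helper9.LocLES
open Abelian

variable {X : TopCat.{u}} (F : CohTop.Ab X) {W V : Opens X} (h : W ≤ V)

lemma res_eq (i : ℕ) (x : CohTop.HU F i V) :
    CohTop.res F i h x = (Ext.mk₀ (LocCohZ.zqSeq h).f).comp x (zero_add i) := rfl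

theorem res_injective_of_subsingleton (i : ℕ) (h0 : Subsingleton (LocCohZ.HZ F i h)) :
    Function.Injective (CohTop.res F i h) := by
  rw [injective_iff_map_eq_zero]
  intro x hx
  rw [res_eq] at hx
  obtain ⟨x₁, hx₁⟩ := Ext.contravariant_sequence_exact₂ (LocCohZ.zqSeq_shortExact h) F x hx
  have h1 : x₁ = 0 := Subsingleton.elim (α := LocCohZ.HZ F i h) _ _
  rw [← hx₁, h1, Ext.comp_zero]
  rfl

theorem res_surjective_of_subsingleton (i : ℕ) (h0 : Subsingleton (LocCohZ.HZ F (i + 1) h)) :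
    Function.Surjective (CohTop.res F i h) := by
  intro y
  obtain ⟨x₂, hx₂⟩ := Ext.contravariant_sequence_exact₁ (LocCohZ.zqSeq_shortExact h) F y
    (by omega : 1 + i = i + 1) (Subsingleton.elim (α := LocCohZ.HZ F (i + 1) h) _ _)
  exact ⟨x₂, hx₂⟩

lemma g_comp_eq_zero (i : ℕ) (hi : Function.Injective (CohTop.res F i h))
    (x₃ : LocCohZ.HZ F i h) : (Ext.mk₀ (LocCohZ.zqSeq h).g).comp x₃ (zero_add i) = 0 := by
  apply hi
  rw [res_eq, res_eq, Ext.mk₀_comp_mk₀_assoc, (LocCohZ.zqSeq h).zero, Ext.mk₀_zero, Ext.zero_comp,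
    Ext.comp_zero]

theorem subsingleton_zero (h0 : Function.Injective (CohTop.res F 0 h)) :
    Subsingleton (LocCohZ.HZ F 0 h) := by
  refine subsingleton_of_forall_eq 0 fun x₃ => ?_
  have h1 := g_comp_eq_zero F h 0 h0 x₃
  haveI : Epi (LocCohZ.zqSeq h).g := (LocCohZ.zqSeq_shortExact h).epi_g
  have h2 : ((Ext.mk₀ (LocCohZ.zqSeq h).g).precomp F (zero_add 0)) x₃ =
      ((Ext.mk₀ (LocCohZ.zqSeq h).g).precomp F (zero_add 0)) 0 :=
    h1.trans (map_zero ((Ext.mk₀ (LocCohZ.zqSeq h).g).precomp F (zero_add 0))).symm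
  exact Ext.precomp_mk₀_injective_of_epi F (LocCohZ.zqSeq h).g h2

theorem subsingleton_succ (j : ℕ) (hs : Function.Surjective (CohTop.res F j h))
    (hi : Function.Injective (CohTop.res F (j + 1) h)) :
    Subsingleton (LocCohZ.HZ F (j + 1) h) := by
  refine subsingleton_of_forall_eq 0 fun x₃ => ?_
  have h1 := g_comp_eq_zero F h (j + 1) hi x₃
  obtain ⟨x₁, hx₁⟩ := Ext.contravariant_sequence_exact₃ (LocCohZ.zqSeq_shortExact h) F x₃ h1
    (by omega : 1 + j = j + 1)
  obtain ⟨x₂, hx₂⟩ := hs x₁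
  rw [← hx₁, ← hx₂, res_eq]
  exact ShortComplex.ShortExact.extClass_comp_assoc _ _

theorem toHU_injective (j : ℕ) (hs : Function.Surjective (CohTop.res F j h)) :
    Function.Injective (LocCohZ.toHU F (j + 1) h) := by
  rw [injective_iff_map_eq_zero]
  intro x₃ h1
  obtain ⟨x₁, hx₁⟩ := Ext.contravariant_sequence_exact₃ (LocCohZ.zqSeq_shortExact h) F x₃ h1
    (by omega : 1 + j = j + 1)
  obtain ⟨x₂, hx₂⟩ := hs x₁
  rw [← hx₁, ← hx₂, res_eq]
  exact ShortComplex.ShortExact.extClass_comp_assoc _ _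

end Groth.Agent.Helper9.LocLES
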