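import Mathlib
import Groth.Prelude.Def_SuppFam
import Groth.Agent.Lib.Helper9.DeltaIso
import Groth.Agent.Lib.Helper9.Excision
import Groth.Agent.Lib.Helper13.DeltaPsh

/-!
# Local cohomology sheaves as sheafifications of presheaves of cohomology groups with supports (helper9)
-/

universe u
open CategoryTheory CategoryTheory.Limits Opposite TopologicalSpace

namespace Groth.Agent.Helper9.ShfSupp

open Groth.Agent.Helper9.Excision (map_map_apply map_self_apply sect0Equiv_map)

variable {X : TopCat.{u}}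

open Abelian in
lemma addEquiv₀_mk₀_comp {C : Type*} [Category C] [Abelian C] [HasExt C] {A B D : C}
    (f : A ⟶ B) (x : Ext B D 0) :
    Ext.addEquiv₀ ((Ext.mk₀ f).comp x (zero_add 0)) = f ≫ Ext.addEquiv₀ x := by
  apply (Ext.mk₀_bijective _ _).1
  rw [Ext.mk₀_addEquiv₀_apply, ← Ext.mk₀_comp_mk₀, Ext.mk₀_addEquiv₀_apply]

lemma sect0Equiv_resZ (F : CohTop.Ab X) {W V W' V' : Opens X} (h : W ≤ V) (h' : W' ≤ V')
    (hW : W' ≤ W) (hV : V' ≤ V) (x : LocCohZ.HZ F 0 h) :
    (LocCohZ.sect0Equiv F h' (LocCohZ.resZ F 0 h h' hW hV x)).1 =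
      F.obj.map (homOfLE hV).op (LocCohZ.sect0Equiv F h x).1 := by
  change CohFree.evalGen (Opens.grothendieckTopology X) V' F
    (cokernel.π _ ≫ Abelian.Ext.addEquiv₀
      ((Abelian.Ext.mk₀ (LocCohZ.zqMap h h' hW hV)).comp x (zero_add 0))) = _
  rw [addEquiv₀_mk₀_comp, ← Category.assoc]
  have h1 : cokernel.π (CohCx.freeSheafMap (Opens.grothendieckTopology X) (homOfLE h')) ≫
      LocCohZ.zqMap h h' hW hV =
      CohCx.freeSheafMap (Opens.grothendieckTopology X) (homOfLE hV) ≫
        cokernel.π (CohCx.freeSheafMap (Opens.grothendieckTopology X) (homOfLE h)) := by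
    unfold LocCohZ.zqMap
    rw [cokernel.π_desc]
  rw [h1, Category.assoc, CohFree.evalGen_freeSheafMap_comp]
  rfl

/-- a monotone family of pairs of opens `W V' ≤ V V'`. -/
structure PairFam (X : TopCat.{u}) where
  W : Opens X → Opens X
  V : Opens X → Opens X
  le : ∀ V', W V' ≤ V V'
  monoW : Monotone W
  monoV : Monotone V

/-- the functor `V' ↦ ℤ_{V V'}/ℤ_{W V'}`. -/
noncomputable def PairFam.E (P : PairFam X) : Opens X ⥤ CohTop.Ab X where
  obj V' := LocCohZ.zq (P.le V')
  map {V' V''} g := LocCohZ.zqMap (P.le V'') (P.le V') (P.monoW (leOfHom g)) (P.monoV (leOfHom g))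
  map_id V' := SuppFam.zqMap_id _
  map_comp g g' := (SuppFam.zqMap_comp _ _ _ _ _ _ _).symm

end Groth.Agent.Helper9.ShfSupp
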