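import Mathlib
import Groth.Agent.Lib.Helper9.ShfSupp

/-!
# Identifying `R^q G` with a sheafified presheaf of Ext groups with supports (helper9)
-/

universe u
open CategoryTheory CategoryTheory.Limits Opposite TopologicalSpace
namespace Groth.Agent.Helper9.ShfSupp
open Groth.Agent.Helper9.Excision (map_map_apply map_self_apply sect0Equiv_map)
open Groth.Agent.Helper13.DeltaPsh (extPsh postcomp)
variable {X : TopCat.{u}}

/-- the data identifying the sections of `G F` with sections of `F` with supports. -/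
structure SectData (G : CohTop.Ab X ⥤ CohTop.Ab X) (P : PairFam X) where
  κ : ∀ (F : CohTop.Ab X) (V' : Opens X), (G.obj F).obj.obj (op V') →+ F.obj.obj (op (P.V V'))
  inj : ∀ F V', Function.Injective (κ F V')
  ker : ∀ F V' (s : F.obj.obj (op (P.V V'))),
    (∃ t, κ F V' t = s) ↔ F.obj.map (homOfLE (P.le V')).op s = 0
  n1 : ∀ (F : CohTop.Ab X) {V₁ V₂ : Opens X} (hle : V₂ ≤ V₁) (t : (G.obj F).obj.obj (op V₁)),
    κ F V₂ ((G.obj F).obj.map (homOfLE hle).op t) =
      F.obj.map (homOfLE (P.monoV hle)).op (κ F V₁ t)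
  n2 : ∀ {F F' : CohTop.Ab X} (φ : F ⟶ F') (V' : Opens X) (t : (G.obj F).obj.obj (op V')),
    κ F' V' ((G.map φ).hom.app (op V') t) = φ.hom.app (op (P.V V')) (κ F V' t)

variable {G : CohTop.Ab X ⥤ CohTop.Ab X} {P : PairFam X} (D : SectData G P)

/-- sections of `G F` over `V'` are `H^0` with supports. -/
noncomputable def SectData.k (F : CohTop.Ab X) (V' : Opens X) :
    (G.obj F).obj.obj (op V') ≃+ LocCohZ.HZ F 0 (P.le V') :=
  (AddEquiv.ofBijective
    (AddMonoidHom.codRestrict (D.κ F V') (LocCohZ.sectZ F (P.le V')) (fun t => by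
      rw [AddMonoidHom.mem_ker]
      exact (D.ker F V' _).1 ⟨t, rfl⟩))
    ⟨fun a b hab => D.inj F V' (congrArg Subtype.val hab), fun s => by
      obtain ⟨t, ht⟩ := (D.ker F V' s.1).2 (AddMonoidHom.mem_ker.1 s.2)
      exact ⟨t, Subtype.ext ht⟩⟩).trans (LocCohZ.sect0Equiv F (P.le V')).symm

lemma SectData.k_spec (F : CohTop.Ab X) (V' : Opens X) (t : (G.obj F).obj.obj (op V')) :
    (LocCohZ.sect0Equiv F (P.le V') (D.k F V' t)).1 = D.κ F V' t := by
  unfold SectData.k
  rw [AddEquiv.trans_apply, AddEquiv.apply_symm_apply]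
  rfl

/-- the isomorphism of presheaves for a fixed sheaf. -/
noncomputable def SectData.isoApp (F : CohTop.Ab X) :
    (G.obj F).obj ≅ ((extPsh.{u} P.E).F 0).obj F :=
  NatIso.ofComponents (fun V' => (D.k F V'.unop).toAddCommGrpIso) (by
    intro V₁ V₂ g
    ext t
    apply (LocCohZ.sect0Equiv F (P.le V₂.unop)).injective
    apply Subtype.ext
    refine (D.k_spec F V₂.unop _).trans ?_
    refine Eq.trans ?_ (sect0Equiv_resZ F (P.le V₁.unop) (P.le V₂.unop)
      (P.monoW (leOfHom g.unop)) (P.monoV (leOfHom g.unop)) (D.k F V₁.unop t)).symm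
    rw [D.k_spec]
    exact D.n1 F (leOfHom g.unop) t)

/-- the natural isomorphism `G F ≅ (V' ↦ H^0_{V V' ∖ W V'}(V V', F))` of presheaves. -/
noncomputable def SectData.iso :
    G ⋙ sheafToPresheaf (Opens.grothendieckTopology X) AddCommGrpCat.{u} ≅ (extPsh.{u} P.E).F 0 :=
  NatIso.ofComponents (fun F => D.isoApp F) (by
    intro F F' φ
    ext V' t
    apply (LocCohZ.sect0Equiv F' (P.le V'.unop)).injective
    apply Subtype.ext
    refine (D.k_spec F' V'.unop _).trans ?_
    refine Eq.trans ?_ (sect0Equiv_map φ (P.le V'.unop) (D.k F V'.unop t)).symm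
    rw [D.k_spec]
    exact D.n2 φ V'.unop t)

include D in
theorem rightDerived_iso_sheafify [G.Additive] [PreservesFiniteLimits G] (q : ℕ) :
    Nonempty (G.rightDerived q ≅ (extPsh.{u} P.E).F q ⋙
      presheafToSheaf (Opens.grothendieckTopology X) AddCommGrpCat.{u}) := by
  let T := postcomp (extPsh.{u} P.E)
    (presheafToSheaf (Opens.grothendieckTopology X) AddCommGrpCat.{u})
  have hT : ∀ (n : ℕ) (I : CohTop.Ab X), Injective I → IsZero ((T.F (n + 1)).obj I) := by
    intro n I hI
    change IsZero ((presheafToSheaf (Opens.grothendieckTopology X) AddCommGrpCat.{u}).obj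
      (((extPsh.{u} P.E).F (n + 1)).obj I))
    apply Functor.map_isZero
    apply Functor.isZero
    intro d
    haveI : Subsingleton (Abelian.Ext.{u} (P.E.obj d.unop) I (n + 1)) :=
      subsingleton_of_forall_eq 0 fun x => Abelian.Ext.eq_zero_of_injective x
    exact AddCommGrpCat.isZero_of_subsingleton
      (AddCommGrpCat.of (Abelian.Ext.{u} (P.E.obj d.unop) I (n + 1)))
  have e0 : G ≅ T.F 0 := (Functor.rightUnitor G).symm ≪≫
    Functor.isoWhiskerLeft G (sheafificationNatIso _ _) ≪≫ (Functor.associator _ _ _).symm ≪≫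
    Functor.isoWhiskerRight D.iso (presheafToSheaf _ _)
  exact DeltaIso.rightDerived_iso_of_effaceable G T hT e0 q

end Groth.Agent.Helper9.ShfSupp
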