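import Mathlib
import Groth.Agent.Lib.Helper9.ShfSupp2
import Groth.Agent.Lib.Helper9.OpenRes3

/-!
# The local cohomology sheaves of a locally closed subset as sheafified presheaves (helper9)
-/

universe u
set_option linter.style.haveILetI false
open CategoryTheory CategoryTheory.Limits Opposite TopologicalSpace
namespace Groth.Agent.Helper9.ShfSupp
open Groth.Agent.Helper9.Excision (map_map_apply map_self_apply jF)
open Groth.Agent.Helper13.DeltaPsh (extPsh postcomp)
variable {X : TopCat.{u}} {W V : Opens X} (h : W ≤ V)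

/-- the pairs `W ⊓ V' ≤ V ⊓ V'`. -/
def lcFam : PairFam X where
  W V' := W ⊓ V'
  V V' := V ⊓ V'
  le V' := inf_le_inf_right V' h
  monoW := fun _ _ hle => inf_le_inf_left W hle
  monoV := fun _ _ hle => inf_le_inf_left V hle

/-- the preimage of `V'` in the subspace `V`. -/
abbrev pre (V V' : Opens X) : Opens (TopCat.of V) := (Opens.map (CohCx.incl V)).obj V'

lemma hcap (V V' : Opens X) : (jF V).obj (pre V V') = V ⊓ V' :=
  (OpenRes.cap_eq V V').trans (inf_comm _ _)

include h in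
lemma le1 (V' : Opens X) : W ⊓ V' ≤ (jF V).obj (pre V V' ⊓ SuppFam.inOpen V W) :=
  fun x hx => ⟨⟨x, h hx.1⟩, ⟨hx.2, hx.1⟩, rfl⟩

lemma le2 (V' : Opens X) : (jF V).obj (pre V V' ⊓ SuppFam.inOpen V W) ≤ W ⊓ V' := by
  rintro _ ⟨y, ⟨hy1, hy2⟩, rfl⟩
  exact ⟨hy2, hy1⟩

lemma map_ge_le (F : CohTop.Ab X) {A B : Opens X} (e : A = B) (s : F.obj.obj (op A)) :
    F.obj.map (homOfLE e.le).op (F.obj.map (homOfLE e.ge).op s) = s := by
  rw [map_map_apply, map_self_apply]

lemma map_le_ge (F : CohTop.Ab X) {A B : Opens X} (e : A = B) (s : F.obj.obj (op B)) :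
    F.obj.map (homOfLE e.ge).op (F.obj.map (homOfLE e.le).op s) = s := by
  rw [map_map_apply, map_self_apply]

/-- the inclusion `Γ_Z(F)(V') → F(V ∩ V')`. -/
noncomputable def ιV (F : CohTop.Ab X) (V' : Opens X) :
    ((SuppFam.sectSuppLC h).obj F).obj.obj (op V') →+
      F.obj.obj (op ((jF V).obj (pre V V'))) :=
  ((OpenRes.ι (SuppFam.inOpen V W) ((CohTop.restrFunctor V).obj F)).hom.app
    (op (pre V V'))).hom

lemma ιV_injective (F : CohTop.Ab X) (V' : Opens X) : Function.Injective (ιV h F V') :=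
  OpenRes.ι_app_injective (SuppFam.inOpen V W) ((CohTop.restrFunctor V).obj F) (pre V V')

lemma ιV_res (F : CohTop.Ab X) (V' : Opens X) (t : ((SuppFam.sectSuppLC h).obj F).obj.obj (op V')) :
    F.obj.map ((jF V).map (homOfLE
      (inf_le_left : pre V V' ⊓ SuppFam.inOpen V W ≤ pre V V'))).op (ιV h F V' t) = 0 :=
  OpenRes.res_ι' (SuppFam.inOpen V W) ((CohTop.restrFunctor V).obj F) (pre V V') t

lemma ιV_exists (F : CohTop.Ab X) (V' : Opens X) (s : F.obj.obj (op ((jF V).obj (pre V V'))))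
    (hs : F.obj.map ((jF V).map (homOfLE
      (inf_le_left : pre V V' ⊓ SuppFam.inOpen V W ≤ pre V V'))).op s = 0) :
    ∃ t, ιV h F V' t = s :=
  OpenRes.exists_ι_eq' (SuppFam.inOpen V W) ((CohTop.restrFunctor V).obj F) (pre V V') s hs

lemma ιV_nat1 (F : CohTop.Ab X) {V₁ V₂ : Opens X} (hle : V₂ ≤ V₁)
    (t : ((SuppFam.sectSuppLC h).obj F).obj.obj (op V₁)) :
    ιV h F V₂ (((SuppFam.sectSuppLC h).obj F).obj.map (homOfLE hle).op t) =
      F.obj.map ((jF V).map ((Opens.map (CohCx.incl V)).map (homOfLE hle))).op (ιV h F V₁ t) :=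
  ConcreteCategory.congr_hom
    ((OpenRes.ι (SuppFam.inOpen V W) ((CohTop.restrFunctor V).obj F)).hom.naturality
      ((Opens.map (CohCx.incl V)).map (homOfLE hle)).op) t

lemma ιV_nat2 {F F' : CohTop.Ab X} (φ : F ⟶ F') (V' : Opens X)
    (t : ((SuppFam.sectSuppLC h).obj F).obj.obj (op V')) :
    ιV h F' V' (((SuppFam.sectSuppLC h).map φ).hom.app (op V') t) =
      φ.hom.app (op ((jF V).obj (pre V V'))) (ιV h F V' t) :=
  OpenRes.map_ι_apply (SuppFam.inOpen V W) ((CohTop.restrFunctor V).map φ) (pre V V') t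

/-- sections of `Γ_Z(F)` over `V'` for `Z = V ∖ W` locally closed. -/
noncomputable def lcData : SectData (SuppFam.sectSuppLC h) (lcFam h) where
  κ F V' := (F.obj.map (homOfLE (hcap V V').ge).op).hom.comp (ιV h F V')
  inj F V' := fun a b hab => ιV_injective h F V' (by
    have h1 := congrArg (fun s => F.obj.map (homOfLE (hcap V V').le).op s) hab
    exact ((map_ge_le F (hcap V V') _).symm.trans h1).trans (map_ge_le F (hcap V V') _))
  ker F V' s := by
    constructor
    · rintro ⟨t, rfl⟩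
      change F.obj.map (homOfLE (inf_le_inf_right V' h : W ⊓ V' ≤ V ⊓ V')).op
        (F.obj.map (homOfLE (hcap V V').ge).op (ιV h F V' t)) = 0
      rw [map_map_apply, Subsingleton.elim
        (homOfLE (inf_le_inf_right V' h : W ⊓ V' ≤ V ⊓ V') ≫ homOfLE (hcap V V').ge)
        (homOfLE (le1 h V') ≫ (jF V).map (homOfLE
          (inf_le_left : pre V V' ⊓ SuppFam.inOpen V W ≤ pre V V'))), ← map_map_apply,
        ιV_res, map_zero]
    · intro hs
      have hs' : F.obj.map (homOfLE (inf_le_inf_right V' h : W ⊓ V' ≤ V ⊓ V')).op s = 0 := hs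
      obtain ⟨t, ht⟩ := ιV_exists h F V' (F.obj.map (homOfLE (hcap V V').le).op s) (by
        rw [map_map_apply, Subsingleton.elim
          ((jF V).map (homOfLE (inf_le_left : pre V V' ⊓ SuppFam.inOpen V W ≤ pre V V')) ≫
            homOfLE (hcap V V').le)
          (homOfLE (le2 V') ≫ homOfLE (inf_le_inf_right V' h : W ⊓ V' ≤ V ⊓ V')),
          ← map_map_apply, hs', map_zero])
      refine ⟨t, ?_⟩
      change F.obj.map (homOfLE (hcap V V').ge).op (ιV h F V' t) = s
      rw [ht]
      exact map_le_ge F (hcap V V') s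
  n1 F V₁ V₂ hle t := by
    change F.obj.map (homOfLE (hcap V V₂).ge).op
        (ιV h F V₂ (((SuppFam.sectSuppLC h).obj F).obj.map (homOfLE hle).op t)) =
      F.obj.map (homOfLE (inf_le_inf_left V hle)).op
        (F.obj.map (homOfLE (hcap V V₁).ge).op (ιV h F V₁ t))
    rw [ιV_nat1 h F hle t]
    refine (map_map_apply F _ _ _).trans ?_
    refine Eq.trans ?_ (map_map_apply F (homOfLE (hcap V V₁).ge)
      (homOfLE (inf_le_inf_left V hle)) _).symm
    have key : ∀ (m₁ m₂ : V ⊓ V₂ ⟶ (jF V).obj (pre V V₁))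
        (x : F.obj.obj (op ((jF V).obj (pre V V₁)))),
        F.obj.map m₁.op x = F.obj.map m₂.op x := fun m₁ m₂ x => by
      rw [Subsingleton.elim m₁ m₂]
    exact key _ _ _
  n2 {F F'} φ V' t := by
    change F'.obj.map (homOfLE (hcap V V').ge).op
        (ιV h F' V' (((SuppFam.sectSuppLC h).map φ).hom.app (op V') t)) =
      φ.hom.app (op (V ⊓ V')) (F.obj.map (homOfLE (hcap V V').ge).op (ιV h F V' t))
    rw [ιV_nat2]
    exact (ConcreteCategory.congr_hom (φ.hom.naturality (homOfLE (hcap V V').ge).op) _).symm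

lemma pfl_push {Z Y : TopCat.{u}} (j : Z ⟶ Y) : PreservesFiniteLimits (CohTop.push j) :=
  inferInstance

instance : PreservesFiniteLimits (SuppFam.sectSuppLC h) := by
  haveI h1 : PreservesFiniteLimits (CohTop.push (CohCx.incl V)) := pfl_push _
  haveI h2 : PreservesFiniteLimits (LocCohZ.sectSuppF (SuppFam.inOpen V W)) :=
    OpenRes.preservesFiniteLimits_sectSuppF _
  haveI h3 : PreservesFiniteLimits (CohTop.restrFunctor V) := inferInstance
  haveI h4 : PreservesFiniteLimits
      (LocCohZ.sectSuppF (SuppFam.inOpen V W) ⋙ CohTop.push (CohCx.incl V)) :=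
    comp_preservesFiniteLimits _ _
  exact comp_preservesFiniteLimits _ _

/-- the presheaf `V' ↦ H^q_{Z ∩ V'}(V', F)` in its two forms. -/
noncomputable def preIso (F : CohTop.Ab X) (q : ℕ) :
    ((extPsh.{u} (lcFam h).E).F q).obj F ≅ SuppFam.HZpre F q h :=
  NatIso.ofComponents (fun _ => Iso.refl _) (fun {_ _} _ =>
    (Category.comp_id _).trans (Category.id_comp _).symm)

theorem lc_iso (F : CohTop.Ab X) (q : ℕ) :
    Nonempty ((SuppFam.HZshLC h q).obj F ≅
      (presheafToSheaf (Opens.grothendieckTopology X) AddCommGrpCat.{u}).obj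
        (SuppFam.HZpre F q h)) := by
  obtain ⟨e⟩ := rightDerived_iso_sheafify (lcData h) q
  exact ⟨e.app F ≪≫ (presheafToSheaf _ _).mapIso (preIso h F q)⟩

end Groth.Agent.Helper9.ShfSupp
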