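import Mathlib

/-!
# Right derived functors of three functors forming a short exact sequence on injectives (helper9)

Let `α : G ⟶ M`, `β : M ⟶ T` be natural transformations of additive functors between abelian
categories with `α ≫ β = 0`, such that `0 → G I → M I → T I → 0` is short exact for every injective `I`.
We construct the connecting natural transformations `θ q : RᵠT ⟶ Rᵠ⁺¹G` and show they are isomorphisms
when the neighbouring derived functors of `M` vanish.
-/

universe v v' u u'
open CategoryTheory CategoryTheory.Limits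

namespace Groth.Agent.Helper9.DerTriple

variable {A : Type u} [Category.{v} A] [Abelian A]
  {B : Type u'} [Category.{v'} B] [Abelian B]
  {G M T : A ⥤ B} [G.Additive] [M.Additive] [T.Additive] (α : G ⟶ M) (β : M ⟶ T)

/-- the hypotheses. -/
structure Hyp : Prop where
  zero : α ≫ β = 0
  shortExact : ∀ I : A, Injective I →
    ∀ w : α.app I ≫ β.app I = 0, (ShortComplex.mk (α.app I) (β.app I) w).ShortExact

variable {α β}

/-- the short complex of complexes `G K ⟶ M K ⟶ T K`. -/
noncomputable def scx (h : Hyp α β) (K : CochainComplex A ℕ) :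
    ShortComplex (CochainComplex B ℕ) :=
  ShortComplex.mk ((NatTrans.mapHomologicalComplex α (ComplexShape.up ℕ)).app K)
    ((NatTrans.mapHomologicalComplex β (ComplexShape.up ℕ)).app K) (by
      ext n
      simp only [HomologicalComplex.comp_f, NatTrans.mapHomologicalComplex_app_f,
        HomologicalComplex.zero_f]
      exact congrArg (fun t => t.app (K.X n)) h.zero)

/-- functoriality of `scx`. -/
noncomputable def scxMap (h : Hyp α β) {K K' : CochainComplex A ℕ} (φ : K ⟶ K') :
    scx h K ⟶ scx h K' where
  τ₁ := (G.mapHomologicalComplex _).map φ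
  τ₂ := (M.mapHomologicalComplex _).map φ
  τ₃ := (T.mapHomologicalComplex _).map φ
  comm₁₂ := (NatTrans.mapHomologicalComplex α (ComplexShape.up ℕ)).naturality φ
  comm₂₃ := (NatTrans.mapHomologicalComplex β (ComplexShape.up ℕ)).naturality φ

lemma scx_shortExact (h : Hyp α β) (K : CochainComplex A ℕ) (hK : ∀ n, Injective (K.X n)) :
    (scx h K).ShortExact := by
  apply HomologicalComplex.shortExact_of_degreewise_shortExact
  intro n
  exact h.shortExact (K.X n) (hK n) _

variable [HasInjectiveResolutions A]

lemma shortExact_res (h : Hyp α β) {X : A} (I : InjectiveResolution X) :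
    (scx h I.cocomplex).ShortExact :=
  scx_shortExact h _ (fun n => I.injective n)

/-- the connecting map for a resolution. -/
noncomputable def δres (h : Hyp α β) {X : A} (I : InjectiveResolution X) (q : ℕ) :
    ((T.mapHomologicalComplex (ComplexShape.up ℕ)).obj I.cocomplex).homology q ⟶
      ((G.mapHomologicalComplex (ComplexShape.up ℕ)).obj I.cocomplex).homology (q + 1) :=
  (shortExact_res h I).δ q (q + 1) rfl

lemma δres_naturality (h : Hyp α β) {X Y : A} (I : InjectiveResolution X)
    (J : InjectiveResolution Y) (φ : I.cocomplex ⟶ J.cocomplex) (q : ℕ) :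
    δres h I q ≫ HomologicalComplex.homologyMap
        ((G.mapHomologicalComplex (ComplexShape.up ℕ)).map φ) (q + 1) =
      HomologicalComplex.homologyMap ((T.mapHomologicalComplex (ComplexShape.up ℕ)).map φ) q ≫
        δres h J q :=
  HomologicalComplex.HomologySequence.δ_naturality (scxMap h φ) (shortExact_res h I)
    (shortExact_res h J) q (q + 1) rfl

/-- the connecting morphism objectwise, for an arbitrary resolution. -/
noncomputable def θres (h : Hyp α β) {X : A} (I : InjectiveResolution X) (q : ℕ) :
    (T.rightDerived q).obj X ⟶ (G.rightDerived (q + 1)).obj X :=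
  (I.isoRightDerivedObj T q).hom ≫ δres h I q ≫ (I.isoRightDerivedObj G (q + 1)).inv

lemma nat_aux {C : Type*} [Category C] {X Y X' Y' H H' K K' : C} (a : X ⟶ X') (b : Y ⟶ Y')
    (i : X ≅ H) (i' : X' ≅ H') (j : Y ≅ K) (j' : Y' ≅ K') (d : H ⟶ K) (d' : H' ⟶ K')
    (u : H ⟶ H') (v : K ⟶ K') (h1 : a ≫ i'.hom = i.hom ≫ u) (h2 : j.inv ≫ b = v ≫ j'.inv)
    (h3 : d ≫ v = u ≫ d') :
    a ≫ (i'.hom ≫ d' ≫ j'.inv) = (i.hom ≫ d ≫ j.inv) ≫ b := by
  rw [← Category.assoc, h1, Category.assoc, ← Category.assoc u, ← h3, Category.assoc,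
    Category.assoc, Category.assoc, h2]

lemma θres_naturality (h : Hyp α β) {X Y : A} (f : X ⟶ Y) (I : InjectiveResolution X)
    (J : InjectiveResolution Y) (φ : I.cocomplex ⟶ J.cocomplex)
    (comm : I.ι.f 0 ≫ φ.f 0 = f ≫ J.ι.f 0) (q : ℕ) :
    (T.rightDerived q).map f ≫ θres h J q = θres h I q ≫ (G.rightDerived (q + 1)).map f :=
  nat_aux _ _ _ _ _ _ _ _ _ _
    (InjectiveResolution.isoRightDerivedObj_hom_naturality f I J φ comm T q)
    (InjectiveResolution.isoRightDerivedObj_inv_naturality f I J φ comm G (q + 1))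
    (δres_naturality h I J φ q)

/-- the connecting natural transformation `RᵠT ⟶ Rᵠ⁺¹G`. -/
noncomputable def θ (h : Hyp α β) (q : ℕ) : T.rightDerived q ⟶ G.rightDerived (q + 1) where
  app X := θres h (injectiveResolution X) q
  naturality X Y f := θres_naturality h f (injectiveResolution X) (injectiveResolution Y)
    (InjectiveResolution.desc f _ _) (InjectiveResolution.desc_commutes_zero f _ _) q

lemma isZero_homology_of_acyclic {X : A} (I : InjectiveResolution X) (n : ℕ)
    (hM : IsZero ((M.rightDerived n).obj X)) :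
    IsZero (((M.mapHomologicalComplex (ComplexShape.up ℕ)).obj I.cocomplex).homology n) :=
  IsZero.of_iso hM (I.isoRightDerivedObj M n).symm

lemma isIso_θres (h : Hyp α β) {X : A} (I : InjectiveResolution X) (q : ℕ)
    (hM : IsZero ((M.rightDerived q).obj X)) (hM' : IsZero ((M.rightDerived (q + 1)).obj X)) :
    IsIso (θres h I q) := by
  have hδ : IsIso (δres h I q) := (shortExact_res h I).isIso_δ q (q + 1) rfl
    (isZero_homology_of_acyclic I q hM) (isZero_homology_of_acyclic I (q + 1) hM')
  exact ((I.isoRightDerivedObj T q) ≪≫ (@asIso _ _ _ _ (δres h I q) hδ) ≪≫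
    (I.isoRightDerivedObj G (q + 1)).symm).isIso_hom

theorem isIso_θ (h : Hyp α β) (q : ℕ) (hM : ∀ X, IsZero ((M.rightDerived q).obj X))
    (hM' : ∀ X, IsZero ((M.rightDerived (q + 1)).obj X)) : IsIso (θ h q) := by
  haveI : ∀ X, IsIso ((θ h q).app X) := fun X => isIso_θres h _ q (hM X) (hM' X)
  exact NatIso.isIso_of_isIso_app _

lemma epi_θres (h : Hyp α β) {X : A} (I : InjectiveResolution X) (q : ℕ)
    (hM' : IsZero ((M.rightDerived (q + 1)).obj X)) : Epi (θres h I q) := by
  haveI : Epi (δres h I q) := (shortExact_res h I).epi_δ q (q + 1) rfl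
    (isZero_homology_of_acyclic I (q + 1) hM')
  exact epi_comp' (inferInstance : Epi (I.isoRightDerivedObj T q).hom)
    (epi_comp' this (inferInstance : Epi (I.isoRightDerivedObj G (q + 1)).inv))

end Groth.Agent.Helper9.DerTriple
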