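import Mathlib
import Groth.Agent.Lib.Helper9.DerTriple1

/-!
# Degree one: `R¹G ≅ coker(M ⟶ T)` (helper9)
-/

universe v v' u u'
open CategoryTheory CategoryTheory.Limits

namespace Groth.Agent.Helper9.DerTriple

variable {A : Type u} [Category.{v} A] [Abelian A]
  {B : Type u'} [Category.{v'} B] [Abelian B]

/-- a natural transformation into which `β` composes to zero, objectwise a cokernel, is a cokernel. -/
lemma isIso_cokernel_desc {M T R : A ⥤ B} {β : M ⟶ T} (π : T ⟶ R) (w : β ≫ π = 0)
    (hepi : ∀ X, Epi (π.app X))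
    (hex : ∀ X, (ShortComplex.mk (β.app X) (π.app X) (congrArg (fun t => t.app X) w)).Exact) :
    IsIso (cokernel.desc β π w) := by
  haveI : ∀ X, IsIso ((cokernel.desc β π w).app X) := by
    intro X
    let ev := (evaluation A B).obj X
    let c : CokernelCofork β := CokernelCofork.ofπ (cokernel.π β) (cokernel.condition β)
    have hc : IsColimit (c.map ev) := CokernelCofork.mapIsColimit c (cokernelIsCokernel β) ev
    haveI := hepi X
    have hc' : IsColimit (CokernelCofork.ofπ (π.app X) (congrArg (fun t => t.app X) w)) :=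
      (hex X).gIsCokernel
    let e := IsColimit.coconePointUniqueUpToIso hc hc'
    have he : e.hom = (cokernel.desc β π w).app X := by
      apply Cofork.IsColimit.hom_ext hc
      have h1 : Cofork.π (c.map ev) ≫ e.hom = π.app X :=
        IsColimit.comp_coconePointUniqueUpToIso_hom hc hc' WalkingParallelPair.one
      have h2 : Cofork.π (c.map ev) ≫ (cokernel.desc β π w).app X = π.app X := by
        have := congrArg (fun t => t.app X) (cokernel.π_desc β π w)
        exact this
      rw [h1, h2]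
    rw [← he]
    infer_instance
  exact NatIso.isIso_of_isIso_app _

lemma aux1 {C : Type*} [Category C] {X H R K Y : C} (a : X ⟶ H) (i : R ≅ H) (d : H ⟶ K)
    (j : K ⟶ Y) : (a ≫ i.inv) ≫ (i.hom ≫ d ≫ j) = a ≫ d ≫ j := by simp

lemma aux2 {C : Type*} [Category C] [HasZeroMorphisms C] {X H H' K Y Z : C} (b : X ⟶ Z)
    (zT : Z ⟶ H) (d : H ⟶ K) (j : K ⟶ Y) (zM : X ⟶ H') (g : H' ⟶ H)
    (h1 : b ≫ zT = zM ≫ g) (h2 : g ≫ d = 0) : b ≫ zT ≫ d ≫ j = 0 := by
  rw [← Category.assoc, h1, Category.assoc, reassoc_of% h2, zero_comp, comp_zero]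

lemma aux3 {C : Type*} [Category C] {Z H K Y : C} (zT : Z ⟶ H) (d : H ⟶ K) (j : Y ≅ K) :
    (zT ≫ d ≫ j.inv) ≫ j.hom = zT ≫ d := by simp

variable {G M T : A ⥤ B} [G.Additive] [M.Additive] [T.Additive] {α : G ⟶ M} {β : M ⟶ T}
  [HasInjectiveResolutions A]

/-- `F X ≅ H⁰(F I)` for a left exact functor `F`. -/
noncomputable def zeroIso (F : A ⥤ B) [F.Additive] [PreservesFiniteLimits F] {X : A}
    (I : InjectiveResolution X) :
    F.obj X ≅ ((F.mapHomologicalComplex (ComplexShape.up ℕ)).obj I.cocomplex).homology 0 :=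
  asIso (I.toRightDerivedZero' F) ≪≫ (CochainComplex.isoHomologyπ₀ _)

lemma zeroIso_hom (F : A ⥤ B) [F.Additive] [PreservesFiniteLimits F] {X : A}
    (I : InjectiveResolution X) :
    (zeroIso F I).hom = I.toRightDerivedZero' F ≫
      ((F.mapHomologicalComplex (ComplexShape.up ℕ)).obj I.cocomplex).homologyπ 0 := by
  simp [zeroIso]

lemma toRightDerivedZero_app_eq (F : A ⥤ B) [F.Additive] [PreservesFiniteLimits F] {X : A}
    (I : InjectiveResolution X) :
    F.toRightDerivedZero.app X = (zeroIso F I).hom ≫ (I.isoRightDerivedObj F 0).inv := by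
  rw [I.toRightDerivedZero_eq F]
  simp [zeroIso]

variable [PreservesFiniteLimits M] [PreservesFiniteLimits T]

lemma toRightDerivedZero'_nat (β : M ⟶ T) {X : A} (I : InjectiveResolution X) :
    β.app X ≫ I.toRightDerivedZero' T = I.toRightDerivedZero' M ≫
      HomologicalComplex.cyclesMap
        ((NatTrans.mapHomologicalComplex β (ComplexShape.up ℕ)).app I.cocomplex) 0 := by
  rw [← cancel_mono (HomologicalComplex.iCycles _ 0), Category.assoc, Category.assoc,
    InjectiveResolution.toRightDerivedZero'_comp_iCycles, HomologicalComplex.cyclesMap_i,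
    InjectiveResolution.toRightDerivedZero'_comp_iCycles_assoc,
    NatTrans.mapHomologicalComplex_app_f]
  exact (β.naturality (I.ι.f 0)).symm

lemma zeroIso_nat (h : Hyp α β) {X : A} (I : InjectiveResolution X) :
    β.app X ≫ (zeroIso T I).hom = (zeroIso M I).hom ≫
      HomologicalComplex.homologyMap (scx h I.cocomplex).g 0 := by
  rw [zeroIso_hom, zeroIso_hom, ← Category.assoc, toRightDerivedZero'_nat, Category.assoc,
    Category.assoc]
  congr 1
  exact (HomologicalComplex.homologyπ_naturality _ 0).symm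

/-- the map `T ⟶ R¹G`. -/
noncomputable def π₁ (h : Hyp α β) : T ⟶ G.rightDerived 1 := T.toRightDerivedZero ≫ θ h 0

lemma π₁_app (h : Hyp α β) (X : A) :
    (π₁ h).app X = (zeroIso T (injectiveResolution X)).hom ≫ δres h (injectiveResolution X) 0 ≫
      ((injectiveResolution X).isoRightDerivedObj G 1).inv := by
  change T.toRightDerivedZero.app X ≫ θres h (injectiveResolution X) 0 = _
  rw [toRightDerivedZero_app_eq T (injectiveResolution X)]
  exact aux1 _ _ _ _

lemma β_π₁ (h : Hyp α β) : β ≫ π₁ h = 0 := by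
  ext X
  rw [NatTrans.comp_app, π₁_app, NatTrans.app_zero]
  exact aux2 _ _ _ _ _ _ (zeroIso_nat h _)
    ((shortExact_res h (injectiveResolution X)).comp_δ 0 1 rfl)

lemma π₁_exact (h : Hyp α β) (X : A) :
    (ShortComplex.mk (β.app X) ((π₁ h).app X)
      (congrArg (fun t => t.app X) (β_π₁ h))).Exact := by
  let I := injectiveResolution X
  have hE := (shortExact_res h I).homology_exact₃ 0 1 rfl
  refine ShortComplex.exact_of_iso (ShortComplex.isoMk (zeroIso M I) (zeroIso T I)
    (I.isoRightDerivedObj G 1) ?_ ?_).symm hE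
  · exact (zeroIso_nat h I).symm
  · dsimp
    rw [π₁_app]
    exact (aux3 _ _ _).symm

lemma π₁_epi (h : Hyp α β) (hM1 : ∀ X, IsZero ((M.rightDerived 1).obj X)) (X : A) :
    Epi ((π₁ h).app X) := by
  rw [π₁_app]
  have hδ : Epi (δres h (injectiveResolution X) 0) :=
    (shortExact_res h (injectiveResolution X)).epi_δ 0 1 rfl
      (isZero_homology_of_acyclic (injectiveResolution X) 1 (hM1 X))
  exact epi_comp' (inferInstance : Epi (zeroIso T (injectiveResolution X)).hom)
    (epi_comp' hδ (inferInstance : Epi ((injectiveResolution X).isoRightDerivedObj G 1).inv))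

theorem nonempty_iso_cokernel (h : Hyp α β) (hM1 : ∀ X, IsZero ((M.rightDerived 1).obj X)) :
    Nonempty (G.rightDerived 1 ≅ cokernel β) := by
  haveI := isIso_cokernel_desc (π₁ h) (β_π₁ h) (π₁_epi h hM1) (π₁_exact h)
  exact ⟨(asIso (cokernel.desc β (π₁ h) (β_π₁ h))).symm⟩

theorem nonempty_iso_succ (h : Hyp α β) (hM : ∀ (n : ℕ) X, IsZero ((M.rightDerived (n + 1)).obj X))
    (q : ℕ) (hq : 1 ≤ q) : Nonempty (G.rightDerived (q + 1) ≅ T.rightDerived q) := by
  obtain ⟨n, rfl⟩ : ∃ n, q = n + 1 := ⟨q - 1, by omega⟩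
  haveI := isIso_θ h (n + 1) (hM n) (hM (n + 1))
  exact ⟨(asIso (θ h (n + 1))).symm⟩

end Groth.Agent.Helper9.DerTriple
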