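import Mathlib
import Groth.Agent.Lib.Helper9.OpenRes3
import Groth.Agent.Lib.Helper9.DerTriple2

/-!
# Local cohomology sheaves and higher direct images from the open complement (helper9)
-/

universe u
open CategoryTheory CategoryTheory.Limits Opposite TopologicalSpace

namespace Groth.Agent.Helper9.OpenRes

lemma isZero_rightDerived_id {A : Type*} [Category A] [Abelian A] [HasInjectiveResolutions A]
    (n : ℕ) (X : A) : IsZero (((𝟭 A).rightDerived (n + 1)).obj X) := by
  refine IsZero.of_iso ?_ ((injectiveResolution X).isoRightDerivedObj (𝟭 A) (n + 1))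
  refine (HomologicalComplex.exactAt_iff_isZero_homology _ _).1 ?_
  exact (injectiveResolution X).cocomplex_exactAt_succ n

section General
variable {V X : TopCat.{u}} (j : V ⟶ X)

lemma pullPush_additive : (CohTop.pull j ⋙ CohTop.push j).Additive := by
  haveI := CohPull.additive_pull j
  infer_instance

lemma pullPush_pfl : PreservesFiniteLimits (CohTop.pull j ⋙ CohTop.push j) := by
  haveI := CohPull.preservesFiniteLimits_pull j
  infer_instance

/-- `Rⁱ(j_* j⁻¹) ≅ j⁻¹ ⋙ Rⁱj_*` provided `j⁻¹` of an injective is isomorphic to a flasque sheaf. -/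
lemma rightDerived_pullPush (hj : ∀ I : CohTop.Ab X, Injective I →
      ∃ F : CohTop.Ab V, TopCat.Sheaf.IsFlasque F ∧ Nonempty ((CohTop.pull j).obj I ≅ F))
    [(CohTop.pull j ⋙ CohTop.push j).Additive] (i : ℕ) :
    Nonempty ((CohTop.pull j ⋙ CohTop.push j).rightDerived i ≅
      CohTop.pull j ⋙ CohTop.Rpush j i) := by
  haveI := CohPull.additive_pull j
  haveI := CohPull.preservesFiniteLimits_pull j
  haveI := CohPull.preservesFiniteColimits_pull j
  refine DeltaIso.rightDerived_comp_iso (CohTop.pull j) (CohTop.push j) (fun n I hI => ?_) i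
  obtain ⟨F, hF, ⟨e⟩⟩ := hj I hI
  exact IsZero.of_iso (Groth.Agent.Helper24.Flasque.Rpush_succ_isZero j n F hF)
    (((CohTop.push j).rightDerived (n + 1)).mapIso e)

end General

variable {X : TopCat.{u}} (U : Opens X)

theorem epi_unit_of_flasque (F : CohTop.Ab X) [TopCat.Sheaf.IsFlasque F] :
    Epi ((restrAdj U).unit.app F) := by
  have : Sheaf.IsLocallySurjective ((restrAdj U).unit.app F) := by
    apply Presheaf.isLocallySurjective_of_surjective
    intro V
    exact (AddCommGrpCat.epi_iff_surjective _).1
      (TopCat.Presheaf.IsFlasque.epi (F := F.obj) (homOfLE (cap_le U V.unop)).op)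
  exact Sheaf.epi_of_isLocallySurjective _

theorem epi_unit_of_flasque' (F : CohTop.Ab X) [TopCat.Sheaf.IsFlasque F] :
    Epi ((TopCat.Sheaf.pullbackPushforwardAdjunction AddCommGrpCat.{u} (CohCx.incl U)).unit.app F) := by
  rw [← unit_restrIsoPull]
  have h1 := epi_unit_of_flasque U F
  have h2 : IsIso ((CohTop.push (CohCx.incl U)).map ((restrIsoPull U).hom.app F)) :=
    Functor.map_isIso _ _
  exact epi_comp' h1 (IsIso.epi_of_iso _)

lemma ι_comp_unit'' (F : CohTop.Ab X) :
    ιF U F ≫ (TopCat.Sheaf.pullbackPushforwardAdjunction AddCommGrpCat.{u}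
      (CohCx.incl U)).unit.app F = 0 := kernel.condition _

/-- the inclusion `Γ_Z ⟶ 𝟭` as a natural transformation. -/
noncomputable def αnat : LocCohZ.sectSuppF U ⟶ 𝟭 (CohTop.Ab X) where
  app F := ιF U F
  naturality F G φ := map_ιF U φ

theorem hyp [(CohTop.pull (CohCx.incl U) ⋙ CohTop.push (CohCx.incl U)).Additive] :
    DerTriple.Hyp (αnat U)
      (TopCat.Sheaf.pullbackPushforwardAdjunction AddCommGrpCat.{u} (CohCx.incl U)).unit where
  zero := by
    apply NatTrans.ext
    funext F
    exact ι_comp_unit'' U F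
  shortExact I hI w := by
    haveI := Groth.Agent.Helper24.Flasque.isFlasque_of_injective I
    exact
      { exact := ShortComplex.exact_of_f_is_kernel _ (kernelIsKernel _)
        mono_f := inferInstanceAs (Mono (ιF U I))
        epi_g := epi_unit_of_flasque' U I }

end Groth.Agent.Helper9.OpenRes
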