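import Mathlib
import Groth.Prelude.Def_LocCohZ
import Groth.Prelude.Def_CxOX
import Groth.Agent.Lib.Helper9.DeltaIso
import Groth.Agent.Lib.Helper13.ModFlasque
import Groth.Agent.Lib.Helper13.RpushCmp
import Groth.Agent.Lib.Helper13.Qcqs
import Groth.Agent.Lib.Helper13.QCohKer
import Groth.Agent.Lib.Helper18.BasisCrit
import Groth.Agent.Lib.Helper24.Flasque

/-!
# Quasi-coherence of local cohomology sheaves (helper9)

For an open immersion `j : U ⟶ Y` with closed complement `Z`:
* `Γ_Z = DCoh.gammaZ j` is left exact;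
* for an injective module `I` the unit `I ⟶ j_* j^* I` is an epimorphism (injectives are flasque);
* `R^q (j_* j^*) ≅ j^* ⋙ R^q j_*`;
* the long exact sequence `… → H^q(M) → R^q(j_*j^*)(M) → ℋ^{q+1}_Z(M) → …`, giving
  `ℋ^{q+2}_Z(M) ≅ R^{q+1} j_* (M|_U)` and `ℋ^1_Z(M) = coker (M → j_* j^* M)`;
* `main`: quasi-coherence of `ℋ^q_Z(M)` from quasi-coherence of `R^{q} j_* (M|_U)`.
-/

set_option autoImplicit false
universe u
open CategoryTheory CategoryTheory.Limits TopologicalSpace AlgebraicGeometry Opposite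

namespace Groth.Agent.Helper9.LocCohQC

variable {U Y : Scheme.{u}} (j : U ⟶ Y) [IsOpenImmersion j]

/-- `j_* j^*`. -/
noncomputable abbrev P : Y.Modules ⥤ Y.Modules :=
  Scheme.Modules.restrictFunctor j ⋙ Scheme.Modules.pushforward j

/-- the unit `𝟭 ⟶ j_* j^*`. -/
noncomputable abbrev η : 𝟭 Y.Modules ⟶ P j := (Scheme.Modules.restrictAdjunction j).unit

/-- `Γ_Z`. -/
noncomputable abbrev G : Y.Modules ⥤ Y.Modules := DCoh.gammaZ j

/-- `Γ_Z ⟶ 𝟭`. -/
noncomputable abbrev ι : G j ⟶ 𝟭 Y.Modules := CxOX.gammaZι j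

instance mono_ι_app (F : Y.Modules) : Mono ((ι j).app F) :=
  inferInstanceAs (Mono (kernel.ι ((η j).app F)))

lemma ι_η (F : Y.Modules) : (ι j).app F ≫ (η j).app F = 0 := kernel.condition _

lemma ι_nat {A B : Y.Modules} (f : A ⟶ B) : (G j).map f ≫ (ι j).app B = (ι j).app A ≫ f :=
  (ι j).naturality f

lemma η_nat {A B : Y.Modules} (f : A ⟶ B) : f ≫ (η j).app B = (η j).app A ≫ (P j).map f :=
  (η j).naturality f

instance preservesFiniteLimits_P : PreservesFiniteLimits (P j) := inferInstance

/-- `Γ_Z` is left exact. -/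
instance preservesFiniteLimits_G : PreservesFiniteLimits (G j) := by
  rw [Functor.preservesFiniteLimits_iff_forall_exact_map_and_mono]
  intro S hS
  haveI := hS.mono_f
  have hmono : Mono ((G j).map S.f) := by
    haveI : Mono ((G j).map S.f ≫ (ι j).app S.X₂) := by
      rw [ι_nat]; infer_instance
    exact mono_of_mono _ ((ι j).app S.X₂)
  refine ⟨?_, hmono⟩
  apply ShortComplex.exact_of_f_is_kernel
  haveI : Mono (S.map (G j)).f := hmono
  refine KernelFork.IsLimit.ofι' _ _ (fun {W} (k : W ⟶ (G j).obj S.X₂) hk => ?_)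
  have hk' : k ≫ (G j).map S.g = 0 := hk
  have h1 : (k ≫ (ι j).app S.X₂) ≫ S.g = 0 := by
    rw [Category.assoc, ← ι_nat, ← Category.assoc, hk', zero_comp]
  let a : W ⟶ S.X₁ := hS.exact.lift (k ≫ (ι j).app S.X₂) h1
  have ha : a ≫ S.f = k ≫ (ι j).app S.X₂ := hS.exact.lift_f _ _
  haveI : Mono ((P j).map S.f) := inferInstance
  have h2 : a ≫ (η j).app S.X₁ = 0 := by
    rw [← cancel_mono ((P j).map S.f), Category.assoc, ← η_nat, ← Category.assoc, ha,
      Category.assoc, ι_η, comp_zero, zero_comp]
  let l : W ⟶ (G j).obj S.X₁ := kernel.lift _ a h2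
  have hl : l ≫ (ι j).app S.X₁ = a := kernel.lift_ι _ _ _
  refine ⟨l, ?_⟩
  show l ≫ (G j).map S.f = k
  rw [← cancel_mono ((ι j).app S.X₂), Category.assoc, ι_nat, ← Category.assoc, hl, ha]

/-- injective modules are flasque: the unit to `j_* j^*` is an epimorphism. -/
lemma epi_η_of_injective (F : Y.Modules) [Injective F] : Epi ((η j).app F) := by
  refine Groth.Agent.Helper18.BasisCrit.epi_of_basis _ (B := Set.univ) ?_ ?_
  · rw [Opens.isBasis_iff_nbhd]
    intro V x hx
    exact ⟨V, trivial, hx, le_rfl⟩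
  · intro V _
    have hI : @Injective (SheafOfModules.{u} Y.ringCatSheaf) _ F :=
      ⟨fun {A B} g f hf => @Injective.factors Y.Modules _ F _ A B g f hf⟩
    have hm : Mono (homOfLE (j.image_preimage_le V)) := ⟨fun _ _ _ => Subsingleton.elim _ _⟩
    exact @Groth.Agent.Helper13.ModFlasque.restrict_surjective_of_injective _ _ _ Y.ringCatSheaf _ _ F hI
      _ _ (homOfLE (j.image_preimage_le V)) hm

lemma shortExact_of_injective (F : Y.Modules) [Injective F] :
    (ShortComplex.mk ((ι j).app F) ((η j).app F) (ι_η j F)).ShortExact where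
  exact := ShortComplex.exact_of_f_is_kernel _ (kernelIsKernel ((η j).app F))
  mono_f := mono_ι_app j F
  epi_g := epi_η_of_injective j F

/-- the restriction of an injective module is flasque. -/
theorem isFlasque_toAb_restrict (F : Y.Modules) [Injective F] :
    TopCat.Sheaf.IsFlasque (X := U.toTopCat)
      (Coh.toAb ((Scheme.Modules.restrictFunctor j).obj F)) where
  epi {V W} i := by
    rw [AddCommGrpCat.epi_iff_surjective]
    have hm : Mono (j.opensFunctor.map i.unop) := ⟨fun _ _ _ => Subsingleton.elim _ _⟩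
    have hI : @Injective (SheafOfModules.{u} Y.ringCatSheaf) _ F :=
      ⟨fun {A B} g f hf => @Injective.factors Y.Modules _ F _ A B g f hf⟩
    exact @Groth.Agent.Helper13.ModFlasque.restrict_surjective_of_injective _ _ _ Y.ringCatSheaf _ _ F hI
      _ _ (j.opensFunctor.map i.unop) hm

lemma isZero_of_isZero_toAb (N : Y.Modules) (h : IsZero (Coh.toAb N)) : IsZero N := by
  rw [IsZero.iff_id_eq_zero]
  apply (SheafOfModules.toSheaf Y.ringCatSheaf).map_injective
  exact h.eq_of_src _ _

lemma isZero_Rpush_restrict_injective [HasInjectiveResolutions U.Modules] (n : ℕ) (F : Y.Modules)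
    (hF : Injective F) :
    IsZero (((Scheme.Modules.pushforward j).rightDerived (n + 1)).obj
      ((Scheme.Modules.restrictFunctor j).obj F)) := by
  obtain ⟨e⟩ := Groth.Agent.Helper13.RpushCmp.main j ((Scheme.Modules.restrictFunctor j).obj F) (n + 1)
  have hfl := isFlasque_toAb_restrict j F
  have hz := Groth.Agent.Helper24.Flasque.Rpush_succ_isZero j.base n _ hfl
  exact isZero_of_isZero_toAb _ (IsZero.of_iso hz e)

theorem rightDerived_P_iso [HasInjectiveResolutions Y.Modules] [HasInjectiveResolutions U.Modules]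
    (q : ℕ) :
    Nonempty ((P j).rightDerived q ≅
      Scheme.Modules.restrictFunctor j ⋙ (Scheme.Modules.pushforward j).rightDerived q) := by
  haveI : EnoughInjectives Y.Modules :=
    Groth.Agent.Helper13.RpushCmp.enoughInjectives_of_hasInjectiveResolutions
  haveI : EnoughInjectives U.Modules :=
    Groth.Agent.Helper13.RpushCmp.enoughInjectives_of_hasInjectiveResolutions
  exact Groth.Agent.Helper9.DeltaIso.rightDerived_comp_iso (Scheme.Modules.restrictFunctor j)
    (Scheme.Modules.pushforward j) (fun n F hF => isZero_Rpush_restrict_injective j n F hF) q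

section LES

variable {M : Y.Modules} (I : InjectiveResolution M)

/-- `Γ_Z(I^•) ⟶ I^•`. -/
noncomputable def fι :
    ((G j).mapHomologicalComplex (ComplexShape.up ℕ)).obj I.cocomplex ⟶ I.cocomplex where
  f i := (ι j).app (I.cocomplex.X i)
  comm' i k _ := ((ι j).naturality (I.cocomplex.d i k)).symm

/-- `I^• ⟶ j_*j^*(I^•)`. -/
noncomputable def gη :
    I.cocomplex ⟶ ((P j).mapHomologicalComplex (ComplexShape.up ℕ)).obj I.cocomplex where
  f i := (η j).app (I.cocomplex.X i)
  comm' i k _ := ((η j).naturality (I.cocomplex.d i k)).symm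

lemma fι_gη : fι j I ≫ gη j I = 0 := by
  refine HomologicalComplex.hom_ext _ _ (fun i => ?_)
  exact ι_η j _

/-- `0 → Γ_Z(I^•) → I^• → j_*j^*(I^•) → 0`. -/
noncomputable def S : ShortComplex (CochainComplex Y.Modules ℕ) :=
  ShortComplex.mk (fι j I) (gη j I) (fι_gη j I)

lemma S_shortExact : (S j I).ShortExact :=
  HomologicalComplex.shortExact_of_degreewise_shortExact _
    (fun i => shortExact_of_injective j (I.cocomplex.X i))

end LES

open Groth.Agent.Helper13.QCohLocal in
/-- quasi-coherence of the local cohomology sheaves, given that of the higher direct images of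
`M|_U`. -/
theorem main [QuasiCompact j] [HasInjectiveResolutions Y.Modules]
    [HasInjectiveResolutions U.Modules] (M : Y.Modules) [hM : M.IsQuasicoherent]
    (hR : ∀ q : ℕ, (((Scheme.Modules.pushforward j).rightDerived (q + 1)).obj
      ((Scheme.Modules.restrictFunctor j).obj M)).IsQuasicoherent) (q : ℕ) :
    (((DCoh.gammaZ j).rightDerived q).obj M).IsQuasicoherent := by
  haveI hPM : ((P j).obj M).IsQuasicoherent :=
    Groth.Agent.Helper13.Qcqs.isQuasicoherent_pushforward_of_qcqs j
      ((Scheme.Modules.restrictFunctor j).obj M)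
  obtain ⟨I⟩ := (HasInjectiveResolutions.out M : HasInjectiveResolution M).out
  have hS := S_shortExact j I
  match q with
  | 0 =>
    have e0 : ((G j).rightDerived 0).obj M ≅ kernel ((η j).app M) :=
      (G j).rightDerivedZeroIsoSelf.app M
    haveI : ((𝟭 Y.Modules).obj M).IsQuasicoherent := hM
    haveI : (kernel ((η j).app M)).IsQuasicoherent := isQuasicoherent_kernel _
    exact isQuasicoherent_of_iso e0.symm
  | 1 =>
    have h1 : IsZero ((S j I).X₂.homology 1) := (I.cocomplex_exactAt_succ 0).isZero_homology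
    let T := ShortComplex.mk _ _ (hS.comp_δ 0 1 rfl)
    have hex : T.Exact := hS.homology_exact₃ 0 1 rfl
    haveI : Epi T.g := hS.epi_δ 0 1 rfl h1
    have eA : (S j I).X₂.homology 0 ≅ M :=
      (asIso (HomologicalComplex.homologyMap I.ι 0)).symm ≪≫
        HomologicalComplex.singleObjHomologySelfIso (ComplexShape.up ℕ) 0 M
    have eB : (S j I).X₃.homology 0 ≅ (P j).obj M :=
      (I.isoRightDerivedObj (P j) 0).symm ≪≫ (P j).rightDerivedZeroIsoSelf.app M
    haveI : T.X₁.IsQuasicoherent := isQuasicoherent_of_iso eA.symm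
    haveI : T.X₂.IsQuasicoherent := isQuasicoherent_of_iso eB.symm
    have eC : cokernel T.f ≅ T.X₃ :=
      IsColimit.coconePointUniqueUpToIso (cokernelIsCokernel T.f) hex.gIsCokernel
    haveI : (cokernel T.f).IsQuasicoherent := isQuasicoherent_cokernel T.f
    have e1 : ((G j).rightDerived 1).obj M ≅ T.X₃ := I.isoRightDerivedObj (G j) 1
    exact isQuasicoherent_of_iso (eC ≪≫ e1.symm)
  | (n + 2) =>
    have hi : IsZero ((S j I).X₂.homology (n + 1)) :=
      (I.cocomplex_exactAt_succ n).isZero_homology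
    have hj : IsZero ((S j I).X₂.homology (n + 2)) :=
      (I.cocomplex_exactAt_succ (n + 1)).isZero_homology
    have eδ : (S j I).X₃.homology (n + 1) ≅ (S j I).X₁.homology (n + 2) :=
      hS.δIso (n + 1) (n + 2) rfl hi hj
    obtain ⟨eP⟩ := rightDerived_P_iso j (n + 1)
    have e : ((Scheme.Modules.pushforward j).rightDerived (n + 1)).obj
        ((Scheme.Modules.restrictFunctor j).obj M) ≅ ((G j).rightDerived (n + 2)).obj M :=
      (eP.app M).symm ≪≫ I.isoRightDerivedObj (P j) (n + 1) ≪≫ eδ ≪≫
        (I.isoRightDerivedObj (G j) (n + 2)).symm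
    haveI := hR n
    exact isQuasicoherent_of_iso e

end Groth.Agent.Helper9.LocCohQC
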