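import Mathlib
import Groth.Agent.Lib.Helper9.DeltaIso
import Groth.Agent.Lib.Helper24.Flasque
import Groth.Agent.S0904

/-!
# Direct image along a closed embedding is exact; cohomology along exact direct images (helper9)
-/

universe u
open CategoryTheory CategoryTheory.Limits Opposite TopologicalSpace

namespace Groth.Agent.Helper9.ClosedEmb

/-- an exact functor has vanishing higher right derived functors. -/
lemma isZero_rightDerived_of_exact {A B : Type*} [Category A] [Abelian A] [Category B] [Abelian B]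
    [HasInjectiveResolutions A] (F : A ⥤ B) [F.Additive] [PreservesFiniteLimits F]
    [PreservesFiniteColimits F] (n : ℕ) (X : A) : IsZero ((F.rightDerived (n + 1)).obj X) := by
  refine IsZero.of_iso ?_ ((injectiveResolution X).isoRightDerivedObj F (n + 1))
  refine (HomologicalComplex.exactAt_iff_isZero_homology _ _).1 ?_
  have h := (injectiveResolution X).cocomplex_exactAt_succ n
  exact ShortComplex.Exact.map h F

variable {X Y : TopCat.{u}} (f : X ⟶ Y)

theorem epi_push_map (hf : Topology.IsClosedEmbedding f) {F G : CohTop.Ab X} (φ : F ⟶ G)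
    [hφe : Epi φ] : Epi ((CohTop.push f).map φ) := by
  refine (TopCat.Sheaf.isLocallySurjective_iff_epi ((CohTop.push f).map φ)).1 ?_
  have hφ := (TopCat.Presheaf.isLocallySurjective_iff _).1
    ((TopCat.Sheaf.isLocallySurjective_iff_epi φ).2 hφe)
  refine (TopCat.Presheaf.isLocallySurjective_iff _).2 ?_
  intro V t y hy
  by_cases hyr : y ∈ Set.range f
  · obtain ⟨x, rfl⟩ := hyr
    obtain ⟨W', hW'le, ⟨s, hs⟩, hxW'⟩ := hφ ((Opens.map f).obj V) t x hy
    obtain ⟨W₀, hW₀o, hW₀⟩ := hf.isInducing.isOpen_iff.1 W'.2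
    let W : Opens Y := ⟨W₀, hW₀o⟩ ⊓ V
    have hW : W' = (Opens.map f).obj W := by
      ext z
      constructor
      · intro hz
        refine ⟨?_, hW'le hz⟩
        change f z ∈ W₀
        have : z ∈ f ⁻¹' W₀ := by rw [hW₀]; exact hz
        exact this
      · rintro ⟨hz, -⟩
        have : z ∈ f ⁻¹' W₀ := hz
        rw [hW₀] at this
        exact this
    subst hW
    refine ⟨W, inf_le_right, ⟨s, ?_⟩, ?_⟩
    · exact hs
    · refine ⟨?_, hy⟩
      have : x ∈ f ⁻¹' W₀ := by rw [hW₀]; exact hxW'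
      exact this
  · let W : Opens Y := ⟨(Set.range f)ᶜ, hf.isClosed_range.isOpen_compl⟩ ⊓ V
    have hbot : (Opens.map f).obj W = ⊥ := by
      ext z
      simp only [Opens.coe_bot, Set.mem_empty_iff_false, iff_false]
      rintro ⟨hz, -⟩
      exact hz ⟨z, rfl⟩
    have hsub : Subsingleton (G.obj.obj (op ((Opens.map f).obj W))) :=
      AddCommGrpCat.subsingleton_of_isZero
        ((TopCat.Sheaf.isTerminalOfEqEmpty G hbot).isZero)
    refine ⟨W, inf_le_right, ⟨0, ?_⟩, ⟨hyr, hy⟩⟩
    exact Subsingleton.elim (α := G.obj.obj (op ((Opens.map f).obj W))) _ _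

theorem preservesFiniteColimits_push (hf : Topology.IsClosedEmbedding f) :
    PreservesFiniteColimits (CohTop.push f) := by
  refine ((Functor.preservesFiniteColimits_tfae (CohTop.push f)).out 0 3).1 (fun S hS => ?_)
  haveI := hS.epi_g
  refine ⟨?_, epi_push_map f hf S.g⟩
  have hpfl : PreservesFiniteLimits (CohTop.push f) := inferInstance
  have h3 := ((Functor.preservesFiniteLimits_tfae (CohTop.push f)).out 3 0).1 hpfl
  exact (h3 S hS).1

/-- if `f_*` is exact then `H^p(X, F) ≅ H^p(Y, f_* F)`. -/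
theorem nonempty_H_equiv [PreservesFiniteColimits (CohTop.push f)] (F : CohTop.Ab X) (p : ℕ) :
    Nonempty (CohTop.H F p ≃+ CohTop.H ((CohTop.push f).obj F) p) := by
  let ZX : CohTop.Ab X := (constantSheaf (Opens.grothendieckTopology X) AddCommGrpCat.{u}).obj
    (AddCommGrpCat.of (ULift ℤ))
  let ZY : CohTop.Ab Y := (constantSheaf (Opens.grothendieckTopology Y) AddCommGrpCat.{u}).obj
    (AddCommGrpCat.of (ULift ℤ))
  let T₁ := Groth.Agent.Helper24.CechH.extDelta ZX
  let T₂ := Groth.Agent.Helper24.CechH.comap (CohTop.push f)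
    (Groth.Agent.Helper24.CechH.extDelta ZY)
  have hT₁ : ∀ (n : ℕ) (I : CohTop.Ab X), Injective I → IsZero ((T₁.F (n + 1)).obj I) := by
    intro n I hI
    haveI : Subsingleton (Abelian.Ext.{u} ZX I (n + 1)) :=
      subsingleton_of_forall_eq 0 fun x => Abelian.Ext.eq_zero_of_injective x
    exact AddCommGrpCat.isZero_of_subsingleton (AddCommGrpCat.of (Abelian.Ext.{u} ZX I (n + 1)))
  have hT₂ : ∀ (n : ℕ) (I : CohTop.Ab X), Injective I → IsZero ((T₂.F (n + 1)).obj I) := by
    intro n I hI
    haveI : Injective ((CohTop.push f).obj I) := Groth.Agent.S0904.result f I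
    haveI : Subsingleton (Abelian.Ext.{u} ZY ((CohTop.push f).obj I) (n + 1)) :=
      subsingleton_of_forall_eq 0 fun x => Abelian.Ext.eq_zero_of_injective x
    exact AddCommGrpCat.isZero_of_subsingleton
      (AddCommGrpCat.of (Abelian.Ext.{u} ZY ((CohTop.push f).obj I) (n + 1)))
  let e₀ : ∀ G : CohTop.Ab X, CohTop.H G 0 ≃+ CohTop.H ((CohTop.push f).obj G) 0 := fun G =>
    (Sheaf.H.equiv₀ G (isTerminalTop (α := Opens X))).trans
      (Sheaf.H.equiv₀ ((CohTop.push f).obj G) (isTerminalTop (α := Opens Y))).symm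
  let e : T₁.F 0 ≅ T₂.F 0 := NatIso.ofComponents (fun G => (e₀ G).toAddCommGrpIso)
    (fun {G G'} φ => by
      ext x
      change e₀ G' (Sheaf.H.map φ 0 x) = Sheaf.H.map ((CohTop.push f).map φ) 0 (e₀ G x)
      dsimp only [e₀, AddEquiv.trans_apply]
      have h1 := Sheaf.H.equiv₀_naturality (hT := isTerminalTop (α := Opens X)) φ x
      have h2 := Sheaf.H.equiv₀_symm_naturality (hT := isTerminalTop (α := Opens Y))
        ((CohTop.push f).map φ) (Sheaf.H.equiv₀ G (isTerminalTop (α := Opens X)) x)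
      refine Eq.trans ?_ h2.symm
      exact congrArg _ h1.symm)
  obtain ⟨i⟩ := DeltaIso.nonempty_iso_of_effaceable T₁ T₂ hT₁ hT₂ e p
  exact ⟨(i.app F).addCommGroupIsoToAddEquiv⟩

end Groth.Agent.Helper9.ClosedEmb
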