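import Mathlib

/-!
# Derived adjunction on bounded below derived categories
-/

set_option autoImplicit false
universe w v u
open CategoryTheory CategoryTheory.Limits

namespace Groth.Agent.Helper9.DerAdj

section HomotopyAdj

variable {A B : Type*} [Category A] [Category B] [Preadditive A] [Preadditive B]
  {L : A ⥤ B} {R : B ⥤ A} (adj : L ⊣ R) [L.Additive] [R.Additive]
  {ι : Type*} (c : ComplexShape ι)

/-- The unit at the level of complexes. -/
def unitCx (K : HomologicalComplex A c) :
    K ⟶ (R.mapHomologicalComplex c).obj ((L.mapHomologicalComplex c).obj K) where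
  f i := adj.unit.app (K.X i)
  comm' i j _ := adj.unit_naturality (K.d i j)

/-- The counit at the level of complexes. -/
def counitCx (M : HomologicalComplex B c) :
    (L.mapHomologicalComplex c).obj ((R.mapHomologicalComplex c).obj M) ⟶ M where
  f i := adj.counit.app (M.X i)
  comm' i j _ := (adj.counit_naturality (M.d i j)).symm

lemma unitCx_naturality {K K' : HomologicalComplex A c} (g : K ⟶ K') :
    g ≫ unitCx adj c K' = unitCx adj c K ≫
      (R.mapHomologicalComplex c).map ((L.mapHomologicalComplex c).map g) := by
  ext i
  exact (adj.unit_naturality (g.f i)).symm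

lemma counitCx_naturality {M M' : HomologicalComplex B c} (g : M ⟶ M') :
    (L.mapHomologicalComplex c).map ((R.mapHomologicalComplex c).map g) ≫ counitCx adj c M' =
      counitCx adj c M ≫ g := by
  ext i
  exact adj.counit_naturality (g.f i)

lemma left_triangle_cx (K : HomologicalComplex A c) :
    (L.mapHomologicalComplex c).map (unitCx adj c K) ≫
      counitCx adj c ((L.mapHomologicalComplex c).obj K) = 𝟙 _ := by
  ext i
  exact adj.left_triangle_components (K.X i)

lemma right_triangle_cx (M : HomologicalComplex B c) :
    unitCx adj c ((R.mapHomologicalComplex c).obj M) ≫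
      (R.mapHomologicalComplex c).map (counitCx adj c M) = 𝟙 _ := by
  ext i
  exact adj.right_triangle_components (M.X i)

/-- The adjunction on homotopy categories. -/
noncomputable def homotopyAdj : L.mapHomotopyCategory c ⊣ R.mapHomotopyCategory c where
  unit :=
    { app := fun X => (HomotopyCategory.quotient A c).map (unitCx adj c X.as)
      naturality := by
        rintro ⟨K⟩ ⟨K'⟩ f
        obtain ⟨g, rfl⟩ := (HomotopyCategory.quotient A c).map_surjective f
        have h := congrArg (fun f => (HomotopyCategory.quotient A c).map f)
          (unitCx_naturality adj c g)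
        simp only [Functor.map_comp] at h
        exact h }
  counit :=
    { app := fun Y => (HomotopyCategory.quotient B c).map (counitCx adj c Y.as)
      naturality := by
        rintro ⟨M⟩ ⟨M'⟩ f
        obtain ⟨g, rfl⟩ := (HomotopyCategory.quotient B c).map_surjective f
        have h := congrArg (fun f => (HomotopyCategory.quotient B c).map f)
          (counitCx_naturality adj c g)
        simp only [Functor.map_comp] at h
        exact h }
  left_triangle_components := by
    rintro ⟨K⟩
    have h := congrArg (fun f => (HomotopyCategory.quotient B c).map f) (left_triangle_cx adj c K)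
    simp only [Functor.map_comp, Functor.map_id] at h
    exact h
  right_triangle_components := by
    rintro ⟨M⟩
    have h := congrArg (fun f => (HomotopyCategory.quotient A c).map f) (right_triangle_cx adj c M)
    simp only [Functor.map_comp, Functor.map_id] at h
    exact h

end HomotopyAdj

section Plus

variable {A B : Type u} [Category.{v} A] [Category.{v} B] [Abelian A] [Abelian B]
  {L : A ⥤ B} {R : B ⥤ A} (adj : L ⊣ R) [L.Additive] [R.Additive]

/-- The adjunction on bounded below homotopy categories. -/
noncomputable def plusAdj : L.mapHomotopyCategoryPlus ⊣ R.mapHomotopyCategoryPlus :=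
  (homotopyAdj adj (ComplexShape.up ℤ)).restrictFullyFaithful
    (HomotopyCategory.Plus.fullyFaithfulι A) (HomotopyCategory.Plus.fullyFaithfulι B)
    (Iso.refl _) (Iso.refl _)

variable [HasDerivedCategory.{w} A] [HasDerivedCategory.{w} B]
  [EnoughInjectives A] [EnoughInjectives B] [PreservesFiniteLimits L] [PreservesFiniteColimits L]

omit [EnoughInjectives A] [EnoughInjectives B] [R.Additive] in
lemma inverts : (HomotopyCategory.Plus.quasiIso A).IsInvertedBy
    (L.mapHomotopyCategoryPlus ⋙ DerivedCategory.Plus.Qh) := by
  intro X Y f hf
  apply Localization.inverts DerivedCategory.Plus.Qh (HomotopyCategory.Plus.quasiIso B)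
  obtain ⟨K, rfl⟩ := HomotopyCategory.Plus.quotient_obj_surjective X
  obtain ⟨K', rfl⟩ := HomotopyCategory.Plus.quotient_obj_surjective Y
  obtain ⟨g, rfl⟩ := (HomotopyCategory.Plus.quotient A).map_surjective f
  have hg : QuasiIso g.hom := by
    have : HomotopyCategory.quasiIso A _ ((HomotopyCategory.quotient A _).map g.hom) := hf
    rwa [HomotopyCategory.quotient_map_mem_quasiIso_iff, HomologicalComplex.mem_quasiIso_iff]
      at this
  show HomotopyCategory.quasiIso B _
    ((HomotopyCategory.quotient B _).map ((L.mapHomologicalComplex _).map g.hom))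
  rw [HomotopyCategory.quotient_map_mem_quasiIso_iff, HomologicalComplex.mem_quasiIso_iff]
  infer_instance

include adj in
theorem nonempty_derived_adj :
    Nonempty (L.rightDerivedFunctorPlus ⊣ R.rightDerivedFunctorPlus) := by
  haveI : IsIso L.rightDerivedFunctorPlusUnit :=
    Functor.isIso_of_isRightDerivedFunctor_of_inverts L.rightDerivedFunctorPlus
      L.rightDerivedFunctorPlusUnit (inverts (L := L))
  let e : DerivedCategory.Plus.Qh ⋙ L.rightDerivedFunctorPlus ≅
      L.mapHomotopyCategoryPlus ⋙ DerivedCategory.Plus.Qh :=
    (asIso L.rightDerivedFunctorPlusUnit).symm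
  haveI h1 : L.rightDerivedFunctorPlus.IsLeftDerivedFunctor e.hom
      (HomotopyCategory.Plus.quasiIso A) :=
    Functor.isLeftDerivedFunctor_of_inverts (HomotopyCategory.Plus.quasiIso A) _ e
  haveI h3 : (L.rightDerivedFunctorPlus ⋙ R.rightDerivedFunctorPlus).IsLeftDerivedFunctor
      ((Functor.associator _ _ _).inv ≫ Functor.whiskerRight e.hom R.rightDerivedFunctorPlus)
      (HomotopyCategory.Plus.quasiIso A) :=
    Functor.isLeftDerivedFunctor_of_inverts (HomotopyCategory.Plus.quasiIso A) _
      ((Functor.associator _ _ _).symm ≪≫ Functor.isoWhiskerRight e R.rightDerivedFunctorPlus)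
  haveI h4 : (R.rightDerivedFunctorPlus ⋙ L.rightDerivedFunctorPlus).IsRightDerivedFunctor
      (Functor.whiskerRight R.rightDerivedFunctorPlusUnit L.rightDerivedFunctorPlus ≫
        (Functor.associator _ _ _).hom) (HomotopyCategory.Plus.quasiIso B) := by
    apply (HomotopyCategory.Plus.localizerMorphism_derives (C := B)
      ((R.mapHomotopyCategoryPlus ⋙ DerivedCategory.Plus.Qh) ⋙
        L.rightDerivedFunctorPlus)).isRightDerivedFunctor_of_isIso
    intro X₁
    simp only [NatTrans.comp_app, Functor.whiskerRight_app, Functor.associator_hom_app,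
      Category.comp_id]
    infer_instance
  exact ⟨(plusAdj adj).derived (HomotopyCategory.Plus.quasiIso A)
    (HomotopyCategory.Plus.quasiIso B) e.hom R.rightDerivedFunctorPlusUnit⟩

end Plus

end Groth.Agent.Helper9.DerAdj
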