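import Mathlib
import Groth.Prelude.Def_DCoh3
import Groth.Prelude.Def_CxOX
import Groth.Prelude.Def_CohB1
import Groth.Agent.Lib.Helper29.OpenRes

/-!
# Supports of cohomology sheaves and restriction to opens in `D(O_X)` (helper9)

* `isZero_restrict_of_stalks` / `subsingleton_stalk_of_isZero_restrict`: `M|_W = 0` iff the stalks of `M`
  vanish on `W`;
* `HDRestrictIso`: `H^i(E|_W) ≅ H^i(E)|_W`;
* `isZero_restrictD_of_stalks`: `E|_W = 0` if all cohomology sheaves have vanishing stalks on `W`;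
* `subsingleton_stalk_HD_of_isZero_restrictD`: the converse;
* `isZero_Rpush_obj`: `Rg_*` preserves zero objects;
* `nonempty_restrictD_Rpush_iso`: `(Rj_* E)|_U ≅ E` for an open immersion `j`;
* `isZero_restrictD_Rpush`: `(Rf_* E)|_V = 0` if `E|_{f⁻¹V} = 0`.
-/

set_option autoImplicit false
universe u
open CategoryTheory CategoryTheory.Limits TopologicalSpace AlgebraicGeometry Opposite

attribute [local instance] HasDerivedCategory.standard

namespace Groth.Agent.Helper9.SuppD

open Groth.Agent.Helper29.OpenMVC Groth.Agent.Helper29.OpenRes Groth.Agent.Helper11.KI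

variable {X : Scheme.{u}}

theorem isZero_of_subsingleton_sections (N : X.Modules) (h : ∀ V : X.Opens, Subsingleton Γ(N, V)) :
    IsZero N := by
  rw [IsZero.iff_id_eq_zero]
  apply Scheme.Modules.hom_ext
  intro V
  haveI := h V
  ext x
  exact Subsingleton.elim _ _

theorem subsingleton_sections_of_isZero (N : X.Modules) (h : IsZero N) (V : X.Opens) :
    Subsingleton Γ(N, V) := by
  have h0 : (𝟙 N : N ⟶ N) = 0 := h.eq_of_src _ _
  refine ⟨fun s t => ?_⟩
  have hs : ∀ a : Γ(N, V), a = 0 := fun a => by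
    have := congrArg (fun φ : N ⟶ N => (φ.app V) a) h0
    simpa using this
  rw [hs s, hs t]

theorem subsingleton_sections_of_stalks (M : X.Modules) (O : X.Opens)
    (h : ∀ x ∈ O, Subsingleton (M.presheaf.stalk x)) : Subsingleton Γ(M, O) := by
  refine ⟨fun s t => ?_⟩
  apply TopCat.Presheaf.section_ext ⟨M.presheaf, M.isSheaf⟩ O s t
  intro x hx
  haveI := h x hx
  exact Subsingleton.elim _ _

theorem isZero_restrict_of_stalks (M : X.Modules) (W : X.Opens)
    (h : ∀ x ∈ W, Subsingleton (M.presheaf.stalk x)) :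
    IsZero ((Scheme.Modules.restrictFunctor W.ι).obj M) := by
  apply isZero_of_subsingleton_sections
  intro V
  exact subsingleton_sections_of_stalks M (W.ι ''ᵁ V) (fun x hx => h x (W.ι_image_le V hx))

theorem subsingleton_stalk_of_isZero_restrict (M : X.Modules) (W : X.Opens)
    (hz : IsZero ((Scheme.Modules.restrictFunctor W.ι).obj M)) (x : X) (hx : x ∈ W) :
    Subsingleton (M.presheaf.stalk x) := by
  have h0 : ∀ a : M.presheaf.stalk x, a = 0 := by
    intro a
    obtain ⟨O, hxO, s, rfl⟩ := TopCat.Presheaf.germ_exist M.presheaf (x := x) a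
    have hxO' : x ∈ W.ι ''ᵁ (W.ι ⁻¹ᵁ O) := ⟨⟨x, hx⟩, hxO, rfl⟩
    have hle : W.ι ''ᵁ (W.ι ⁻¹ᵁ O) ≤ O := W.ι.image_preimage_le O
    have h1 := TopCat.Presheaf.germ_res_apply M.presheaf (homOfLE hle) x hxO' s
    rw [← h1]
    haveI : Subsingleton Γ(M, W.ι ''ᵁ (W.ι ⁻¹ᵁ O)) :=
      subsingleton_sections_of_isZero _ hz (W.ι ⁻¹ᵁ O)
    rw [Subsingleton.elim (M.presheaf.map (homOfLE hle).op s) 0, map_zero]
  exact ⟨fun a b => by rw [h0 a, h0 b]⟩

/-- restriction commutes with cohomology sheaves -/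
noncomputable def HDRestrictIso (E : DCoh.D X) (W : X.Opens) (i : ℤ) :
    DCoh.HD ((DCoh.restrictD W.ι).obj E) i ≅
      (Scheme.Modules.restrictFunctor W.ι).obj (DCoh.HD E i) := by
  let Z₀ := DerivedCategory.Q.objPreimage E
  let e0 : DerivedCategory.Q.obj Z₀ ≅ E := DerivedCategory.Q.objObjPreimageIso E
  let K := ((Scheme.Modules.restrictFunctor W.ι).mapHomologicalComplex (ComplexShape.up ℤ)).obj Z₀
  let e1 : (DCoh.restrictD W.ι).obj E ≅ DerivedCategory.Q.obj K :=
    (DCoh.restrictD W.ι).mapIso e0.symm ≪≫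
      (Scheme.Modules.restrictFunctor W.ι).mapDerivedCategoryFactors.app Z₀
  let e2 : Z₀.homology i ≅ DCoh.HD E i :=
    ((DerivedCategory.homologyFunctorFactors X.Modules i).app Z₀).symm ≪≫
      (DerivedCategory.homologyFunctor X.Modules i).mapIso e0
  let e3 : K.homology i ≅ (Scheme.Modules.restrictFunctor W.ι).obj (Z₀.homology i) :=
    (Z₀.sc i).mapHomologyIso (Scheme.Modules.restrictFunctor W.ι)
  exact (DerivedCategory.homologyFunctor _ i).mapIso e1 ≪≫
    (DerivedCategory.homologyFunctorFactors _ i).app K ≪≫ e3 ≪≫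
    (Scheme.Modules.restrictFunctor W.ι).mapIso e2

theorem isZero_of_homology {A : Type*} [Category A] [Abelian A] [HasDerivedCategory A]
    (Y : DerivedCategory A)
    (h : ∀ n : ℤ, IsZero ((DerivedCategory.homologyFunctor A n).obj Y)) : IsZero Y := by
  haveI : Y.IsLE 0 := by rw [DerivedCategory.isLE_iff]; intro i _; exact h i
  haveI : Y.IsGE 1 := by rw [DerivedCategory.isGE_iff]; intro i _; exact h i
  exact DerivedCategory.TStructure.t.isZero Y 0 1 (by omega)

theorem isZero_restrictD_of_stalks (E : DCoh.D X) (W : X.Opens)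
    (h : ∀ (i : ℤ) (x : X), x ∈ W → Subsingleton ((DCoh.HD E i).presheaf.stalk x)) :
    IsZero ((DCoh.restrictD W.ι).obj E) := by
  apply isZero_of_homology
  intro n
  exact IsZero.of_iso (isZero_restrict_of_stalks _ W (h n)) (HDRestrictIso E W n)

theorem subsingleton_stalk_HD_of_isZero_restrictD (E : DCoh.D X) (W : X.Opens)
    (hz : IsZero ((DCoh.restrictD W.ι).obj E)) (i : ℤ) (x : X) (hx : x ∈ W) :
    Subsingleton ((DCoh.HD E i).presheaf.stalk x) := by
  apply subsingleton_stalk_of_isZero_restrict _ W _ x hx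
  exact IsZero.of_iso ((DerivedCategory.homologyFunctor _ i).map_isZero hz) (HDRestrictIso E W i).symm

/-- `E|_W = 0` when the cohomology sheaves of `E` are supported in a set disjoint from `W`. -/
theorem isZero_restrictD_of_support (E : DCoh.D X) (W : X.Opens) (T : Set X)
    (hE : ∀ i : ℤ, CohB1.support (DCoh.HD E i) ⊆ T) (hWT : ∀ x ∈ W, x ∉ T) :
    IsZero ((DCoh.restrictD W.ι).obj E) := by
  apply isZero_restrictD_of_stalks
  intro i x hx
  by_contra hns
  exact hWT x hx (hE i hns)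

section Rpush

variable {A B : Scheme.{u}} (g : A ⟶ B) [DCoh.HasRpush g]

/-- `Rg_* E ≅ Q(g_* I)` for a K-injective `I` representing `E` -/
noncomputable def RpushIso (E : DCoh.D A) (I : CochainComplex A.Modules ℤ) [I.IsKInjective]
    (e : E ≅ DerivedCategory.Q.obj I) :
    DerivedCategory.Q.obj (((Scheme.Modules.pushforward g).mapHomologicalComplex
      (ComplexShape.up ℤ)).obj I) ≅ (DCoh.Rpush g).obj E :=
  haveI h1 : IsIso ((βp g).app ((quo _).obj I)) := isIso_unit.{u+1} _ (DCoh.Rpush g) (βp g) I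
  @asIso _ _ _ _ ((βp g).app ((quo _).obj I)) h1 ≪≫ (DCoh.Rpush g).mapIso e.symm

theorem isZero_Rpush_obj (E : DCoh.D A) (hE : IsZero E) : IsZero ((DCoh.Rpush g).obj E) := by
  let Z : CochainComplex A.Modules ℤ := HomologicalComplex.zero
  have hZ : IsZero Z := HomologicalComplex.isZero_zero
  haveI : Z.IsKInjective := ⟨fun f _ => ⟨Homotopy.ofEq (hZ.eq_of_tgt _ _)⟩⟩
  have e : E ≅ DerivedCategory.Q.obj Z := hE.iso (DerivedCategory.Q.map_isZero hZ)
  refine IsZero.of_iso ?_ (RpushIso g E Z e).symm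
  exact Functor.map_isZero _ (Functor.map_isZero _ hZ)

end Rpush

/-- `(Rj_* E)|_U ≅ E` for an open immersion `j` -/
theorem nonempty_restrictD_Rpush_iso {U : Scheme.{u}} (j : U ⟶ X) [IsOpenImmersion j]
    [DCoh.HasRpush j] (E : DCoh.D U) :
    Nonempty ((DCoh.restrictD j).obj ((DCoh.Rpush j).obj E) ≅ E) := by
  obtain ⟨I, hI, -, ⟨e⟩⟩ := exists_res E
  have eR := RpushIso j E I e
  let c : ((Scheme.Modules.restrictFunctor j).mapHomologicalComplex (ComplexShape.up ℤ)).obj
      (((Scheme.Modules.pushforward j).mapHomologicalComplex (ComplexShape.up ℤ)).obj I) ≅ I :=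
    (NatIso.mapHomologicalComplex (asIso (Scheme.Modules.restrictAdjunction j).counit)
      (ComplexShape.up ℤ)).app I ≪≫
      (Functor.mapHomologicalComplexIdIso _ (ComplexShape.up ℤ)).app I
  exact ⟨(DCoh.restrictD j).mapIso eR.symm ≪≫
    (Scheme.Modules.restrictFunctor j).mapDerivedCategoryFactors.app _ ≪≫
    DerivedCategory.Q.mapIso c ≪≫ e.symm⟩

/-- `(Rf_* E)|_V = 0` when `E|_{f⁻¹V} = 0` -/
theorem isZero_restrictD_Rpush {Y : Scheme.{u}} (f : X ⟶ Y) [DCoh.HasRpush f] (V : Y.Opens)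
    (E : DCoh.D X) (hE : IsZero ((DCoh.restrictD (f ⁻¹ᵁ V).ι).obj E)) :
    IsZero ((DCoh.restrictD V.ι).obj ((DCoh.Rpush f).obj E)) := by
  haveI : DCoh.HasRpush (f ∣_ V) :=
    Groth.Agent.Helper11.KI.hasRightDerivedFunctor (DCoh.pushKh (f ∣_ V))
  obtain ⟨φ⟩ := main6508 f V
  exact IsZero.of_iso (isZero_Rpush_obj (f ∣_ V) _ hE) (φ.app E)

end Groth.Agent.Helper9.SuppD
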