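import Mathlib
import Groth.Agent.Lib.Helper9.LocCohQC
import Groth.Agent.Lib.Helper13.RpushShf
import Groth.Agent.Lib.Helper13.ShfZero
import Groth.Agent.Lib.Helper13.VanishBound
import Groth.Agent.Lib.Helper24.ModGroth

/-!
# Vanishing of local cohomology sheaves (helper9)

* `isZero_gammaZ_succ_of_P`, `isZero_gammaZ_succ_of_Rpush`: `R^q j_*(M|_U) = 0 ⟹ ℋ^{q+1}_Z(M) = 0`;
* `isZero_Rpush_of_basis`: `R^q f_* N = 0` if `H^q(f⁻¹ W, N) = 0` on a basis of opens `W`;
* `isZero_of_isEmpty`: modules on the empty scheme vanish;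
* `main7252`: `ℋ^i_T(F) = 0` for `i > c` when `T` is locally cut out by at most `c` functions.
-/

set_option autoImplicit false
universe u
open CategoryTheory CategoryTheory.Limits TopologicalSpace AlgebraicGeometry Opposite

namespace Groth.Agent.Helper9.LocCohQC

variable {U Y : Scheme.{u}} (j : U ⟶ Y) [IsOpenImmersion j]

theorem isZero_gammaZ_succ_of_P [HasInjectiveResolutions Y.Modules] (M : Y.Modules) (q : ℕ)
    (h : IsZero (((P j).rightDerived q).obj M)) :
    IsZero (((G j).rightDerived (q + 1)).obj M) := by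
  obtain ⟨I⟩ := (HasInjectiveResolutions.out M : HasInjectiveResolution M).out
  have hS := S_shortExact j I
  have hj : IsZero ((S j I).X₂.homology (q + 1)) := (I.cocomplex_exactAt_succ q).isZero_homology
  haveI : Epi (hS.δ q (q + 1) rfl) := hS.epi_δ q (q + 1) rfl hj
  have h3 : IsZero ((S j I).X₃.homology q) := IsZero.of_iso h (I.isoRightDerivedObj (P j) q).symm
  have h1 : IsZero ((S j I).X₁.homology (q + 1)) := IsZero.of_epi (hS.δ q (q + 1) rfl) h3
  exact IsZero.of_iso h1 (I.isoRightDerivedObj (G j) (q + 1))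

theorem isZero_gammaZ_succ_of_Rpush [HasInjectiveResolutions Y.Modules]
    [HasInjectiveResolutions U.Modules] (M : Y.Modules) (q : ℕ)
    (h : IsZero (((Scheme.Modules.pushforward j).rightDerived q).obj
      ((Scheme.Modules.restrictFunctor j).obj M))) :
    IsZero (((DCoh.gammaZ j).rightDerived (q + 1)).obj M) := by
  obtain ⟨eP⟩ := rightDerived_P_iso j q
  exact isZero_gammaZ_succ_of_P j M q (IsZero.of_iso h (eP.app M))

theorem isZero_Rpush_of_basis {X S : Scheme.{u}} (f : X ⟶ S) [HasInjectiveResolutions X.Modules]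
    (N : X.Modules) (q : ℕ) (B : Set S.Opens) (hB : Opens.IsBasis B)
    (h : ∀ W ∈ B, Subsingleton (CohTop.HU (X := X.toTopCat) (Coh.toAb N) q (f ⁻¹ᵁ W))) :
    IsZero (((Scheme.Modules.pushforward f).rightDerived q).obj N) := by
  obtain ⟨e⟩ := Groth.Agent.Helper13.RpushCmp.main f N q
  apply isZero_of_isZero_toAb
  refine IsZero.of_iso ?_ e
  obtain ⟨e'⟩ := Groth.Agent.Helper13.RpushShf.main (Opens.grothendieckTopology X)
    (Opens.grothendieckTopology S) (TopologicalSpace.Opens.map f.base) (Coh.toAb N) q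
  refine IsZero.of_iso ?_ e'
  exact Groth.Agent.Helper13.ShfZero.isZero_presheafToSheaf_of_basis (Y := S.toTopCat) _ B hB h

lemma subsingleton_sections_of_eq_bot {X : Scheme.{u}} (F : X.Modules) {V : X.Opens}
    (h : V = ⊥) : Subsingleton Γ(F, V) := by
  have hT := TopCat.Sheaf.isTerminalOfEqEmpty ⟨F.presheaf, F.isSheaf⟩ h
  have hz : IsZero (F.presheaf.obj (op V)) :=
    IsZero.of_iso (isZero_zero _) (hT.uniqueUpToIso HasZeroObject.zeroIsTerminal)
  exact AddCommGrpCat.subsingleton_of_isZero hz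

lemma isZero_of_isEmpty {X : Scheme.{u}} [IsEmpty X] (N : X.Modules) : IsZero N := by
  rw [IsZero.iff_id_eq_zero]
  apply Scheme.Modules.hom_ext
  intro V
  have hV : V = ⊥ := by
    ext x
    exact (IsEmpty.false x).elim
  haveI := subsingleton_sections_of_eq_bot N hV
  ext x
  exact Subsingleton.elim _ _

theorem main7252 {X : Scheme.{u}} (U : X.Opens) [HasInjectiveResolutions X.Modules]
    (c : ℕ) (hT : ∀ x : X, ∃ (V : X.Opens) (fs : Finset Γ(X, V)), x ∈ V ∧ fs.card ≤ c ∧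
      X.zeroLocus (U := V) (↑fs : Set Γ(X, V)) ∩ (V : Set ↥X) = (U : Set ↥X)ᶜ ∩ (V : Set ↥X))
    (F : X.Modules) (hF : F.IsQuasicoherent) (i : ℕ) (hi : c < i) :
    IsZero (((DCoh.gammaZ U.ι).rightDerived i).obj F) := by
  haveI : EnoughInjectives (U : Scheme.{u}).Modules :=
    Groth.Agent.Helper24.ModGroth.enoughInjectives_sheafOfModules (U : Scheme.{u}).ringCatSheaf
  haveI : HasInjectiveResolutions (U : Scheme.{u}).Modules := inferInstance
  obtain ⟨q, rfl⟩ : ∃ q, i = q + 1 := ⟨i - 1, by omega⟩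
  have hcq : c ≤ q := by omega
  apply isZero_gammaZ_succ_of_Rpush
  rcases Nat.eq_zero_or_pos q with rfl | hq
  · -- `c = 0`, so `U = ⊥`
    have hU : U = ⊥ := by
      rw [eq_bot_iff]
      intro x hx
      obtain ⟨V, fs, hxV, hcard, hZ⟩ := hT x
      have hfs : fs = ∅ := Finset.card_eq_zero.1 (by omega)
      subst hfs
      have : x ∈ X.zeroLocus (U := V) (↑(∅ : Finset Γ(X, V)) : Set Γ(X, V)) ∩ (V : Set ↥X) := by
        rw [Finset.coe_empty, Scheme.zeroLocus_empty_eq_univ]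
        exact ⟨trivial, hxV⟩
      rw [hZ] at this
      exact (this.1 hx).elim
    subst hU
    haveI : IsEmpty ((⊥ : X.Opens) : Scheme.{u}) := ⟨fun x => x.2⟩
    exact Functor.map_isZero _ (isZero_of_isEmpty _)
  · obtain ⟨m, rfl⟩ : ∃ m, q = m + 1 := ⟨q - 1, by omega⟩
    let B : Set X.Opens := {W | IsAffineOpen W ∧ ∃ (V : X.Opens) (fs : Finset Γ(X, V)),
      W ≤ V ∧ fs.card ≤ c ∧
      X.zeroLocus (U := V) (↑fs : Set Γ(X, V)) ∩ (V : Set ↥X) = (U : Set ↥X)ᶜ ∩ (V : Set ↥X)}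
    have hB : Opens.IsBasis B := by
      rw [Opens.isBasis_iff_nbhd]
      intro O x hxO
      obtain ⟨V, fs, hxV, hcard, hZ⟩ := hT x
      obtain ⟨_, ⟨W, hW, rfl⟩, hxW, hWO⟩ := X.isBasis_affineOpens.exists_subset_of_mem_open
        (show x ∈ ((V ⊓ O : X.Opens) : Set X) from ⟨hxV, hxO⟩) (V ⊓ O).isOpen
      exact ⟨W, ⟨hW, V, fs, fun y hy => (hWO hy).1, hcard, hZ⟩, hxW, fun y hy => (hWO hy).2⟩
    refine isZero_Rpush_of_basis U.ι _ (m + 1) B hB ?_
    rintro W ⟨hWaff, V, fs, hWV, hcard, hZ⟩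
    haveI : ((Scheme.Modules.restrictFunctor U.ι).obj F).IsQuasicoherent :=
      Scheme.Modules.isQuasicoherent_restrictFunctor U.ι F
    let gs : Γ(X, V) → Γ(X, W) := fun f => X.presheaf.map (homOfLE hWV).op f
    have hD : ∀ f, X.basicOpen (gs f) = W ⊓ X.basicOpen f := fun f => Scheme.basicOpen_res _ _ _
    have hcov : (W ⊓ U : X.Opens) = ⨆ f : fs, X.basicOpen (gs f.1) := by
      ext x
      simp only [Opens.coe_inf, Set.mem_inter_iff, SetLike.mem_coe, Opens.mem_iSup]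
      constructor
      · rintro ⟨hxW, hxU⟩
        have hxV : x ∈ V := hWV hxW
        have h1 : x ∉ X.zeroLocus (U := V) (↑fs : Set Γ(X, V)) := by
          intro h0
          have : x ∈ (U : Set ↥X)ᶜ ∩ (V : Set ↥X) := hZ ▸ ⟨h0, hxV⟩
          exact this.1 hxU
        rw [Scheme.mem_zeroLocus_iff] at h1
        push_neg at h1
        obtain ⟨f, hf, hxf⟩ := h1
        refine ⟨⟨f, hf⟩, ?_⟩
        rw [hD]
        exact ⟨hxW, hxf⟩
      · rintro ⟨f, hxf⟩
        rw [hD] at hxf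
        refine ⟨hxf.1, ?_⟩
        by_contra hxU
        have : x ∈ X.zeroLocus (U := V) (↑fs : Set Γ(X, V)) ∩ (V : Set ↥X) :=
          hZ ▸ ⟨hxU, hWV hxf.1⟩
        exact (Scheme.mem_zeroLocus_iff _ _ _).1 this.1 f.1 f.2 hxf.2
    let A : fs → (U : Scheme.{u}).Opens := fun f => U.ι ⁻¹ᵁ X.basicOpen (gs f.1)
    have hDU : ∀ f : fs, X.basicOpen (gs f.1) ≤ U := fun f =>
      (le_iSup (fun f : fs => X.basicOpen (gs f.1)) f).trans (hcov ▸ inf_le_right)
    have hsup : ⨆ f, A f = U.ι ⁻¹ᵁ W := by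
      ext y
      simp only [Opens.coe_iSup, Set.mem_iUnion, SetLike.mem_coe]
      constructor
      · rintro ⟨f, hy⟩
        exact X.basicOpen_le _ hy
      · intro hy
        have hyU : U.ι y ∈ U := y.2
        have : U.ι y ∈ (W ⊓ U : X.Opens) := ⟨hy, hyU⟩
        rw [hcov, Opens.mem_iSup] at this
        exact this
    let 𝒜 : Set (U : Scheme.{u}).Opens :=
      {A | ∃ g : Γ(X, W), X.basicOpen g ≤ U ∧ A = U.ι ⁻¹ᵁ X.basicOpen g}
    have h𝒜 : ∀ A ∈ 𝒜, IsAffineOpen A := by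
      rintro A ⟨g, hg, rfl⟩
      exact (hWaff.basicOpen g).preimage_of_isOpenImmersion U.ι
        (by rw [Scheme.Opens.opensRange_ι]; exact hg)
    have hinf : ∀ A ∈ 𝒜, ∀ A' ∈ 𝒜, A ⊓ A' ∈ 𝒜 := by
      rintro _ ⟨g, hg, rfl⟩ _ ⟨h, hh, rfl⟩
      refine ⟨g * h, ?_, ?_⟩
      · rw [Scheme.basicOpen_mul]; exact inf_le_left.trans hg
      · rw [Scheme.basicOpen_mul]; rfl
    have hA : ∀ f, A f ∈ 𝒜 := fun f => ⟨gs f.1, hDU f, rfl⟩
    rw [← hsup]
    rcases fs.eq_empty_or_nonempty with hfs | hfs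
    · haveI : IsEmpty fs := by rw [hfs]; infer_instance
      rw [iSup_of_empty]
      exact Groth.Agent.Helper13.AffineVanish.HU_subsingleton_of_isAffineOpen _ ⊥
        (isAffineOpen_bot _) m
    · haveI : Nonempty fs := hfs.to_subtype
      refine Groth.Agent.Helper13.VanishBound.HU_iSup_subsingleton _ 𝒜 h𝒜 hinf A hA (m + 1) ?_
      rw [Nat.card_eq_fintype_card, Fintype.card_coe]
      omega

end Groth.Agent.Helper9.LocCohQC
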