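import Groth.Prelude.Def_Flat
import Mathlib.Topology.KrullDimension
import Mathlib.Topology.NoetherianSpace
import Mathlib.Topology.Semicontinuity.Basic

set_option autoImplicit false

namespace Groth.Agent.Helper9.TopDim

open TopologicalSpace Order Set Topology

variable {X : Type*} [TopologicalSpace X]

lemma coheight_le_dim_of_open (U : Set X) (hU : IsOpen U) (Z : IrreducibleCloseds X)
    (h : ((Z : Set X) ∩ U).Nonempty) :
    ((Order.coheight Z : ℕ∞) : WithBot ℕ∞) ≤ topologicalKrullDim U := by
  have hemb : IsOpenEmbedding (Subtype.val : U → X) := hU.isOpenEmbedding_subtypeVal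
  let e := IrreducibleCloseds.orderIsoOfIsOpenEmbedding _ hemb
  have hZ : (Subtype.val ⁻¹' (Z : Set X) : Set U).Nonempty := by
    obtain ⟨x, hxZ, hxU⟩ := h
    exact ⟨⟨x, hxU⟩, hxZ⟩
  let W : IrreducibleCloseds U := e.symm ⟨Z, hZ⟩
  have h1 : IrreducibleCloseds.map Subtype.val hemb.continuous W = Z := by
    have := e.apply_symm_apply ⟨Z, hZ⟩
    exact congrArg Subtype.val this
  rw [← h1, hemb.coheight_map W]
  exact Order.coheight_le_krullDim W

lemma dim_le_of_forall_coheight (d : WithBot ℕ∞)
    (h : ∀ Z : IrreducibleCloseds X, ((Order.coheight Z : ℕ∞) : WithBot ℕ∞) ≤ d) :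
    topologicalKrullDim X ≤ d := by
  unfold topologicalKrullDim
  rw [Order.krullDim_eq_iSup_coheight]
  exact iSup_le h

lemma localDim_le_dim (x : X) : FlatMor.localDim X x ≤ topologicalKrullDim X := by
  unfold FlatMor.localDim
  refine (iInf_le _ (⟨⊤, trivial⟩ : {U : Opens X // x ∈ U})).trans ?_
  exact topologicalKrullDim_subspace_le X _

lemma localDim_le_of_mem (U : Opens X) (x : X) (hx : x ∈ U) :
    FlatMor.localDim X x ≤ topologicalKrullDim (U : Set X) := by
  unfold FlatMor.localDim
  exact iInf_le _ (⟨U, hx⟩ : {U : Opens X // x ∈ U})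

lemma coheight_le_localDim (Z : IrreducibleCloseds X) (x : X) (hx : x ∈ Z) :
    ((Order.coheight Z : ℕ∞) : WithBot ℕ∞) ≤ FlatMor.localDim X x := by
  unfold FlatMor.localDim
  refine le_iInf ?_
  rintro ⟨U, hU⟩
  exact coheight_le_dim_of_open (U : Set X) U.isOpen Z ⟨x, hx, hU⟩

theorem dim_eq_iSup_localDim : topologicalKrullDim X = ⨆ x : X, FlatMor.localDim X x := by
  apply le_antisymm
  · apply dim_le_of_forall_coheight
    intro Z
    obtain ⟨x, hx⟩ := Z.isIrreducible.nonempty
    exact (coheight_le_localDim Z x hx).trans (le_iSup (fun x => FlatMor.localDim X x) x)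
  · exact iSup_le localDim_le_dim

theorem upperSemicontinuous_localDim : UpperSemicontinuous fun x : X => FlatMor.localDim X x := by
  intro x y hxy
  unfold FlatMor.localDim at hxy
  rw [iInf_lt_iff] at hxy
  obtain ⟨⟨U, hU⟩, hUy⟩ := hxy
  filter_upwards [U.isOpen.mem_nhds hU] with x' hx'
  exact lt_of_le_of_lt (localDim_le_of_mem U x' hx') hUy

theorem dim_eq_iSup_of_open_cover {ι : Type*} (U : ι → Opens X) (hcov : ⨆ i, U i = ⊤) :
    topologicalKrullDim X = ⨆ i, topologicalKrullDim (U i) := by
  apply le_antisymm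
  · apply dim_le_of_forall_coheight
    intro Z
    obtain ⟨x, hx⟩ := Z.isIrreducible.nonempty
    have hxU : x ∈ ((⨆ i, U i : Opens X) : Set X) := by rw [hcov]; trivial
    rw [Opens.coe_iSup, Set.mem_iUnion] at hxU
    obtain ⟨i, hi⟩ := hxU
    exact (coheight_le_dim_of_open (U i : Set X) (U i).isOpen Z ⟨x, hx, hi⟩).trans
      (le_iSup (fun i => topologicalKrullDim (U i)) i)
  · exact iSup_le fun i => topologicalKrullDim_subspace_le X _

lemma isPreirreducible_of_image {Y : Type*} [TopologicalSpace Y] {f : Y → X} (hf : IsInducing f)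
    {s : Set Y} (hs : IsPreirreducible (f '' s)) : IsPreirreducible s := by
  intro u v hu hv hsu hsv
  obtain ⟨u', hu', rfl⟩ := hf.isOpen_iff.1 hu
  obtain ⟨v', hv', rfl⟩ := hf.isOpen_iff.1 hv
  obtain ⟨a, has, hau⟩ := hsu
  obtain ⟨b, hbs, hbv⟩ := hsv
  obtain ⟨z, ⟨c, hcs, rfl⟩, hzu, hzv⟩ :=
    hs u' v' hu' hv' ⟨f a, ⟨a, has, rfl⟩, hau⟩ ⟨f b, ⟨b, hbs, rfl⟩, hbv⟩
  exact ⟨c, hcs, hzu, hzv⟩

/-- The irreducible closed subset of a closed subspace `Y` given by an irreducible closed subset
of `X` contained in `Y`. -/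
def restrictClosed (Y : Set X) (Z : IrreducibleCloseds X) (h : (Z : Set X) ⊆ Y) :
    IrreducibleCloseds Y where
  carrier := Subtype.val ⁻¹' (Z : Set X)
  isIrreducible' := by
    refine ⟨?_, ?_⟩
    · obtain ⟨x, hx⟩ := Z.isIrreducible.nonempty
      exact ⟨⟨x, h hx⟩, hx⟩
    · apply isPreirreducible_of_image IsInducing.subtypeVal
      rw [Subtype.image_preimage_coe, Set.inter_eq_right.2 h]
      exact Z.isIrreducible.isPreirreducible
  isClosed' := Z.isClosed.preimage continuous_subtype_val

lemma map_restrictClosed (Y : Set X) (_hY : IsClosed Y) (Z : IrreducibleCloseds X)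
    (h : (Z : Set X) ⊆ Y) :
    IrreducibleCloseds.map Subtype.val continuous_subtype_val (restrictClosed Y Z h) = Z := by
  apply IrreducibleCloseds.ext
  rw [IrreducibleCloseds.coe_map]
  change closure (Subtype.val '' (Subtype.val ⁻¹' (Z : Set X))) = Z
  rw [Subtype.image_preimage_coe, Set.inter_eq_right.2 h, Z.isClosed.closure_eq]

lemma height_le_dim_of_closed (Y : Set X) (hY : IsClosed Y) (Z : IrreducibleCloseds X)
    (h : (Z : Set X) ⊆ Y) :
    ((Order.height Z : ℕ∞) : WithBot ℕ∞) ≤ topologicalKrullDim Y := by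
  have hemb : IsClosedEmbedding (Subtype.val : Y → X) := hY.isClosedEmbedding_subtypeVal
  have key : Order.height (restrictClosed Y Z h) =
      Order.height (IrreducibleCloseds.map Subtype.val continuous_subtype_val
        (restrictClosed Y Z h)) := by
    apply Order.height_eq_of_strictMono _
      (IrreducibleCloseds.map_strictMono_of_isInducing IsInducing.subtypeVal)
    intro a b hb
    have hbY : (b : Set X) ⊆ Y := by
      intro x hx
      have h1 : x ∈ ((IrreducibleCloseds.map Subtype.val continuous_subtype_val a :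
          IrreducibleCloseds X) : Set X) := hb.le hx
      rw [IrreducibleCloseds.coe_map] at h1
      have h2 : closure (Subtype.val '' (a : Set Y)) ⊆ Y :=
        closure_minimal (by rintro _ ⟨y, _, rfl⟩; exact y.2) hY
      exact h2 h1
    refine ⟨restrictClosed Y b hbY, lt_of_le_of_ne ?_ ?_, map_restrictClosed Y hY b hbY⟩
    · intro y hy
      have h1 : (y : X) ∈ ((IrreducibleCloseds.map Subtype.val continuous_subtype_val a :
          IrreducibleCloseds X) : Set X) := hb.le hy
      rw [IrreducibleCloseds.coe_map, (hemb.isClosedMap _ a.isClosed).closure_eq] at h1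
      obtain ⟨y', hy', hyy'⟩ := h1
      rwa [← Subtype.ext hyy']
    · intro heq
      have := map_restrictClosed Y hY b hbY
      rw [heq] at this
      exact hb.ne this.symm
  rw [map_restrictClosed Y hY Z h] at key
  rw [← key]
  exact Order.height_le_krullDim _

lemma dim_le_of_forall_height (d : WithBot ℕ∞)
    (h : ∀ Z : IrreducibleCloseds X, ((Order.height Z : ℕ∞) : WithBot ℕ∞) ≤ d) :
    topologicalKrullDim X ≤ d := by
  unfold topologicalKrullDim
  rw [Order.krullDim_eq_iSup_height]
  exact iSup_le h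

lemma subset_of_locallyFinite_closed_cover {ι : Type*} (Y : ι → Set X) (hY : ∀ i, IsClosed (Y i))
    (hlf : LocallyFinite Y) (hcov : ⋃ i, Y i = Set.univ) (Z : Set X) (hZ : IsIrreducible Z)
    (_hZc : IsClosed Z) : ∃ i, Z ⊆ Y i := by
  obtain ⟨x, hx⟩ := hZ.nonempty
  obtain ⟨V, hV, hfin⟩ := hlf x
  obtain ⟨W, hWV, hWo, hxW⟩ := mem_nhds_iff.1 hV
  have hfin' : {i | (Y i ∩ W).Nonempty}.Finite :=
    hfin.subset (fun i ⟨y, hy1, hy2⟩ => ⟨y, hy1, hWV hy2⟩)
  classical
  let t : Finset (Set X) := insert Wᶜ (hfin'.toFinset.image Y)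
  have ht : ∀ z ∈ t, IsClosed z := by
    intro z hz
    rcases Finset.mem_insert.1 hz with rfl | hz
    · exact hWo.isClosed_compl
    · obtain ⟨i, _, rfl⟩ := Finset.mem_image.1 hz
      exact hY i
  have hcov' : Z ⊆ ⋃₀ (t : Set (Set X)) := by
    intro z hz
    by_cases hzW : z ∈ W
    · have : z ∈ ⋃ i, Y i := by rw [hcov]; trivial
      obtain ⟨i, hi⟩ := Set.mem_iUnion.1 this
      refine ⟨Y i, ?_, hi⟩
      apply Finset.mem_coe.2
      apply Finset.mem_insert_of_mem
      exact Finset.mem_image.2 ⟨i, hfin'.mem_toFinset.2 ⟨z, hi, hzW⟩, rfl⟩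
    · exact ⟨Wᶜ, Finset.mem_coe.2 (Finset.mem_insert_self _ _), hzW⟩
  obtain ⟨z, hz, hZz⟩ := isIrreducible_iff_sUnion_isClosed.1 hZ t ht hcov'
  rcases Finset.mem_insert.1 hz with rfl | hz
  · exact absurd hxW (hZz hx)
  · obtain ⟨i, _, rfl⟩ := Finset.mem_image.1 hz
    exact ⟨i, hZz⟩

theorem dim_eq_iSup_of_locallyFinite_closed_cover {ι : Type*} (Y : ι → Set X)
    (hY : ∀ i, IsClosed (Y i)) (hlf : LocallyFinite Y) (hcov : ⋃ i, Y i = Set.univ) :
    topologicalKrullDim X = ⨆ i, topologicalKrullDim (Y i) := by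
  apply le_antisymm
  · apply dim_le_of_forall_height
    intro Z
    obtain ⟨i, hi⟩ := subset_of_locallyFinite_closed_cover Y hY hlf hcov Z Z.isIrreducible Z.isClosed
    exact (height_le_dim_of_closed (Y i) (hY i) Z hi).trans
      (le_iSup (fun i => topologicalKrullDim (Y i)) i)
  · exact iSup_le fun i => topologicalKrullDim_subspace_le X _

theorem dim_eq_iSup_localDim_closedPoints [NoetherianSpace X] [T0Space X] :
    topologicalKrullDim X = ⨆ x ∈ {x : X | IsClosed ({x} : Set X)}, FlatMor.localDim X x := by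
  apply le_antisymm
  · apply dim_le_of_forall_coheight
    intro Z
    obtain ⟨x, hxZ, hx⟩ := Z.isClosed.exists_closed_singleton Z.isIrreducible.nonempty
    exact (coheight_le_localDim Z x hxZ).trans
      (le_iSup₂ (f := fun x (_ : x ∈ {x : X | IsClosed ({x} : Set X)}) => FlatMor.localDim X x) x hx)
  · exact iSup₂_le fun x _ => localDim_le_dim x

/-- The closure of a point as an irreducible closed set. -/
def pointClosure (x : X) : IrreducibleCloseds X :=
  ⟨closure {x}, isIrreducible_singleton.closure, isClosed_closure⟩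

lemma dim_nonneg_of_nonempty [Nonempty X] : 0 ≤ topologicalKrullDim X := by
  unfold topologicalKrullDim
  have : Nonempty (IrreducibleCloseds X) := ⟨pointClosure (Classical.arbitrary X)⟩
  exact Order.krullDim_nonneg

theorem dim_eq_zero_iff_finite_discrete [NoetherianSpace X] [T0Space X] [Nonempty X] :
    topologicalKrullDim X = 0 ↔ Finite X ∧ DiscreteTopology X := by
  constructor
  · intro h
    have hmax : ∀ Z : IrreducibleCloseds X, IsMax Z := by
      have : Order.krullDim (IrreducibleCloseds X) ≤ 0 := h.le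
      exact Order.krullDim_nonpos_iff_forall_isMax.1 this
    -- each irreducible component is a subsingleton
    have hsub : ∀ Z ∈ irreducibleComponents X, Z.Subsingleton := by
      intro Z hZ x hx y hy
      have hZc : IsClosed Z := isClosed_of_mem_irreducibleComponents Z hZ
      have hZi : IsIrreducible Z := hZ.1
      let Z' : IrreducibleCloseds X := ⟨Z, hZi, hZc⟩
      have hxZ : pointClosure x ≤ Z' := closure_minimal (Set.singleton_subset_iff.2 hx) hZc
      have hyZ : pointClosure y ≤ Z' := closure_minimal (Set.singleton_subset_iff.2 hy) hZc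
      have hx' : Z' ≤ pointClosure x := hmax _ hxZ
      have hy' : Z' ≤ pointClosure y := hmax _ hyZ
      have h1 : closure ({x} : Set X) = closure {y} := by
        have e1 : (pointClosure x : Set X) = (pointClosure y : Set X) :=
          congrArg (fun W : IrreducibleCloseds X => (W : Set X))
            ((le_antisymm hxZ hx').trans (le_antisymm hyZ hy').symm)
        exact e1
      exact ((specializes_iff_closure_subset.2 h1.ge).antisymm
        (specializes_iff_closure_subset.2 h1.le)).eq
    have hfin : (irreducibleComponents X).Finite := NoetherianSpace.finite_irreducibleComponents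
    have hfinX : (Set.univ : Set X).Finite := by
      rw [← sUnion_irreducibleComponents]
      exact hfin.sUnion fun Z hZ => (hsub Z hZ).finite
    have hF : Finite X := Set.finite_univ_iff.1 hfinX
    have hT1 : T1Space X := by
      constructor
      intro x
      have hxZ := irreducibleComponent_mem_irreducibleComponents x
      have : irreducibleComponent x = {x} :=
        Set.Subsingleton.eq_singleton_of_mem (hsub _ hxZ) mem_irreducibleComponent
      rw [← this]
      exact isClosed_irreducibleComponent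
    exact ⟨hF, inferInstance⟩
  · rintro ⟨_, _⟩
    exact le_antisymm (topologicalKrullDim_zero_of_discreteTopology X) dim_nonneg_of_nonempty

lemma lt_one_iff_le_zero (d : WithBot ℕ∞) : d < 1 ↔ d ≤ 0 := by
  induction d using WithBot.recBotCoe with
  | bot => simp
  | coe n =>
    rw [show (1 : WithBot ℕ∞) = ((1 : ℕ∞) : WithBot ℕ∞) from rfl,
      show (0 : WithBot ℕ∞) = ((0 : ℕ∞) : WithBot ℕ∞) from rfl, WithBot.coe_lt_coe,
      WithBot.coe_le_coe, Order.lt_one_iff, nonpos_iff_eq_zero]

theorem isOpen_singleton_iff_localDim_eq_zero [NoetherianSpace X] [T0Space X] (x : X) :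
    IsOpen ({x} : Set X) ↔ FlatMor.localDim X x = 0 := by
  have hnonneg : 0 ≤ FlatMor.localDim X x := by
    unfold FlatMor.localDim
    refine le_iInf ?_
    rintro ⟨U, hU⟩
    have : Nonempty (U : Set X) := ⟨⟨x, hU⟩⟩
    exact dim_nonneg_of_nonempty
  constructor
  · intro h
    refine le_antisymm ?_ hnonneg
    refine (localDim_le_of_mem ⟨{x}, h⟩ x rfl).trans ?_
    have : DiscreteTopology (({x} : Set X)) := inferInstance
    exact topologicalKrullDim_zero_of_discreteTopology _
  · intro h
    have h1 : FlatMor.localDim X x < 1 := by rw [h]; exact zero_lt_one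
    unfold FlatMor.localDim at h1
    rw [iInf_lt_iff] at h1
    obtain ⟨⟨U, hU⟩, hUd⟩ := h1
    have hU0 : topologicalKrullDim (U : Set X) = 0 := by
      have : Nonempty (U : Set X) := ⟨⟨x, hU⟩⟩
      exact le_antisymm ((lt_one_iff_le_zero _).1 hUd) dim_nonneg_of_nonempty
    have : Nonempty (U : Set X) := ⟨⟨x, hU⟩⟩
    have : NoetherianSpace (U : Set X) := NoetherianSpace.set _
    obtain ⟨_, hdisc⟩ := dim_eq_zero_iff_finite_discrete.1 hU0
    have hopen : IsOpen ({⟨x, hU⟩} : Set (U : Set X)) := isOpen_discrete _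
    have := U.isOpen.isOpenEmbedding_subtypeVal.isOpenMap _ hopen
    simpa using this

lemma dim_le_of_range_subset {A B : Type*} [TopologicalSpace A] [TopologicalSpace B]
    {f : A → X} {g : B → X} (hf : IsInducing f) (hg : IsInducing g)
    (hr : Set.range f ⊆ Set.range g) : topologicalKrullDim A ≤ topologicalKrullDim B := by
  let h : A → B := fun a => (hr ⟨a, rfl⟩).choose
  have hh : g ∘ h = f := by
    funext a
    exact (hr ⟨a, rfl⟩).choose_spec
  have hcont : Continuous h := by
    rw [hg.continuous_iff, hh]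
    exact hf.continuous
  have hind : IsInducing h := by
    apply IsInducing.of_comp hcont hg.continuous
    rw [hh]
    exact hf
  exact hind.topologicalKrullDim_le

lemma isInducing_val_val {Y : Set X} (S : Set Y) :
    IsInducing (fun z : S => ((z : Y) : X)) :=
  IsInducing.subtypeVal.comp IsInducing.subtypeVal

omit [TopologicalSpace X] in
lemma range_val_val {Y : Set X} (S : Set Y) :
    Set.range (fun z : S => ((z : Y) : X)) = Subtype.val '' S := by
  ext a
  constructor
  · rintro ⟨z, rfl⟩
    exact ⟨z.1, z.2, rfl⟩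
  · rintro ⟨y, hy, rfl⟩
    exact ⟨⟨y, hy⟩, rfl⟩

theorem localDim_eq_iSup_of_finite_closed_cover (x : X) {ι : Type*} [Finite ι] (Y : ι → Set X)
    (hY : ∀ i, IsClosed (Y i)) (hx : ∀ i, x ∈ Y i) (hcov : ⋃ i, Y i = Set.univ) :
    FlatMor.localDim X x = ⨆ i, FlatMor.localDim (Y i) ⟨x, hx i⟩ := by
  have hne : Nonempty ι := by
    by_contra hcon
    rw [not_nonempty_iff] at hcon
    have : x ∈ ⋃ i, Y i := by rw [hcov]; trivial
    obtain ⟨i, _⟩ := Set.mem_iUnion.1 this
    exact hcon.elim i
  apply le_antisymm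
  · by_contra hcon
    rw [not_le] at hcon
    have hlt : ∀ i, FlatMor.localDim (Y i) ⟨x, hx i⟩ < FlatMor.localDim X x :=
      fun i => lt_of_le_of_lt (le_iSup (fun i => FlatMor.localDim (Y i) ⟨x, hx i⟩) i) hcon
    have hex : ∀ i, ∃ V : Opens X, x ∈ V ∧
        topologicalKrullDim (Subtype.val ⁻¹' (V : Set X) : Set (Y i)) < FlatMor.localDim X x := by
      intro i
      have := hlt i
      conv_lhs at this => unfold FlatMor.localDim
      rw [iInf_lt_iff] at this
      obtain ⟨⟨U, hU⟩, hUd⟩ := this
      obtain ⟨V, hV, hVU⟩ := isOpen_induced_iff.1 U.isOpen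
      refine ⟨⟨V, hV⟩, ?_, ?_⟩
      · have : (⟨x, hx i⟩ : Y i) ∈ Subtype.val ⁻¹' V := by rw [hVU]; exact hU
        exact this
      · have : (Subtype.val ⁻¹' (((⟨V, hV⟩ : Opens X)) : Set X) : Set (Y i)) = (U : Set (Y i)) := hVU
        rw [this]
        exact hUd
    choose V hVx hVd using hex
    let W : Opens X := ⟨⋂ i, (V i : Set X), isOpen_iInter_of_finite fun i => (V i).isOpen⟩
    have hxW : x ∈ W := Set.mem_iInter.2 hVx
    have hcovW : ⋃ i, (Subtype.val ⁻¹' (Y i) : Set (W : Set X)) = Set.univ := by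
      rw [← Set.preimage_iUnion, hcov, Set.preimage_univ]
    have hdimW := dim_eq_iSup_of_locallyFinite_closed_cover
      (fun i => (Subtype.val ⁻¹' (Y i) : Set (W : Set X)))
      (fun i => (hY i).preimage continuous_subtype_val) (locallyFinite_of_finite _) hcovW
    obtain ⟨i0, hi0⟩ := exists_eq_ciSup_of_finite
      (f := fun i => topologicalKrullDim (Subtype.val ⁻¹' (Y i) : Set (W : Set X)))
    have h1 : topologicalKrullDim (Subtype.val ⁻¹' (Y i0) : Set (W : Set X)) ≤
        topologicalKrullDim (Subtype.val ⁻¹' (V i0 : Set X) : Set (Y i0)) := by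
      apply dim_le_of_range_subset (isInducing_val_val _) (isInducing_val_val _)
      rw [range_val_val, range_val_val]
      rintro _ ⟨w, hw, rfl⟩
      exact ⟨⟨w.1, hw⟩, Set.mem_iInter.1 w.2 i0, rfl⟩
    have h2 : FlatMor.localDim X x ≤ topologicalKrullDim (W : Set X) := localDim_le_of_mem W x hxW
    have h3 : topologicalKrullDim (W : Set X) < FlatMor.localDim X x := by
      rw [hdimW, ← hi0]
      exact lt_of_le_of_lt h1 (hVd i0)
    exact absurd h2 (not_le.2 h3)
  · refine iSup_le fun i => ?_
    conv_rhs => unfold FlatMor.localDim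
    refine le_iInf ?_
    rintro ⟨U, hU⟩
    let U' : Opens (Y i) := ⟨Subtype.val ⁻¹' (U : Set X), U.isOpen.preimage continuous_subtype_val⟩
    refine (localDim_le_of_mem U' ⟨x, hx i⟩ hU).trans ?_
    apply dim_le_of_range_subset (isInducing_val_val _) IsInducing.subtypeVal
    rw [range_val_val, Subtype.range_coe]
    rintro _ ⟨w, hw, rfl⟩
    exact hw

end Groth.Agent.Helper9.TopDim
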