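import Mathlib
import Groth.Prelude.Def_OmegaPn
import Groth.Agent.Lib.Helper6.IdealComap

/-!
# Infinitesimal neighbourhoods: base change, and the symmetry of the neighbourhoods of the diagonal
-/

set_option autoImplicit false
universe u
open CategoryTheory CategoryTheory.Limits AlgebraicGeometry TopologicalSpace Opposite

namespace Groth.Agent.Helper9.PrinPart7

open PrinPart Scheme.IdealSheafData

section BaseChange

variable {Y X Y' X' : Scheme.{u}}

instance isClosedImmersion_infNbhdι (i : Y ⟶ X) (n : ℕ) : IsClosedImmersion (infNbhdι i n) := by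
  unfold infNbhdι
  infer_instance

theorem ker_infNbhdι (i : Y ⟶ X) (n : ℕ) : (infNbhdι i n).ker = i.ker ^ (n + 1) := by
  unfold infNbhdι
  exact ker_subschemeι _

theorem ker_of_isPullback (f : Y ⟶ X) [IsClosedImmersion f] (v : X' ⟶ X) (u : Y' ⟶ Y)
    (f' : Y' ⟶ X') (hsq : IsPullback u f' f v) : f'.ker = f.ker.comap v := by
  have h1 : f' = hsq.flip.isoPullback.hom ≫ pullback.fst v f :=
    (hsq.flip.isoPullback_hom_fst).symm
  rw [h1, Scheme.Hom.ker_comp_of_isIso, ker_fst_of_isClosedImmersion]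

theorem isPullback_infNbhd (f : Y ⟶ X) [IsClosedImmersion f] (v : X' ⟶ X) (u : Y' ⟶ Y)
    (f' : Y' ⟶ X') (hsq : IsPullback u f' f v) (n : ℕ)
    (w : infNbhd f' n ⟶ infNbhd f n) (hw : w ≫ infNbhdι f n = infNbhdι f' n ≫ v) :
    IsPullback w (infNbhdι f' n) (infNbhdι f n) v := by
  refine (isPullback_of_isClosedImmersion (infNbhdι f' n) (infNbhdι f n) w v hw.symm ?_).flip
  rw [ker_infNbhdι, ker_infNbhdι, Groth.Agent.Helper6.IdealComap.comap_pow,
    ker_of_isPullback f v u f' hsq]

end BaseChange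

section Pow

variable {X Y : Scheme.{u}}

theorem pow_le_map_pow (g : X ⟶ Y) [IsAffineHom g] (I : X.IdealSheafData) (J : Y.IdealSheafData)
    (h : J ≤ I.map g) (m : ℕ) : J ^ m ≤ (I ^ m).map g := by
  intro U
  rw [ideal_map_of_isAffineHom, ideal_pow, ideal_pow]
  have h1 := h U
  rw [ideal_map_of_isAffineHom] at h1
  exact (Ideal.pow_right_mono h1 m).trans (Ideal.le_comap_pow _ m)

end Pow

section Symmetry

variable {X S : Scheme.{u}} (f : X ⟶ S) (n : ℕ)

/-- the swap of the two factors of `X ×_S X`. -/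
noncomputable abbrev sw : pullback f f ⟶ pullback f f := (pullbackSymmetry f f).hom

theorem sw_sw : sw f ≫ sw f = 𝟙 _ := by
  apply pullback.hom_ext <;> simp [sw]

theorem diag_sw : pullback.diagonal f ≫ sw f = pullback.diagonal f := by
  apply pullback.hom_ext <;> simp [sw]

theorem sw_apply_sw (z : ↥(pullback f f)) : sw f (sw f z) = z := by
  rw [← Scheme.Hom.comp_apply, sw_sw]
  rfl

theorem preimage_range_diag :
    (sw f) ⁻¹' (Set.range (pullback.diagonal f)) = Set.range (pullback.diagonal f) := by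
  ext z
  constructor
  · rintro ⟨x, hx⟩
    refine ⟨x, ?_⟩
    have h1 : sw f (pullback.diagonal f x) = sw f (sw f z) := congrArg _ hx
    rw [sw_apply_sw, ← Scheme.Hom.comp_apply, diag_sw] at h1
    exact h1
  · rintro ⟨x, rfl⟩
    exact ⟨x, by rw [← Scheme.Hom.comp_apply, diag_sw]⟩

theorem sw_mem_coborder (z : ↥(pullback f f))
    (hz : z ∈ coborder (Set.range (pullback.diagonal f))) :
    sw f z ∈ coborder (Set.range (pullback.diagonal f)) := by
  have h := coborder_preimage (sw f).isOpenEmbedding.isOpenMap (sw f).continuous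
    (Set.range (pullback.diagonal f))
  rw [preimage_range_diag] at h
  rw [h] at hz
  exact hz

/-- the swap restricted to the open where the diagonal is closed. -/
noncomputable def swW : ((pullback.diagonal f).coborderRange : Scheme.{u}) ⟶
    ((pullback.diagonal f).coborderRange : Scheme.{u}) :=
  IsOpenImmersion.lift (pullback.diagonal f).coborderRange.ι
    ((pullback.diagonal f).coborderRange.ι ≫ sw f) (by
      rintro _ ⟨z, rfl⟩
      rw [Scheme.Opens.range_ι]
      exact sw_mem_coborder f _ z.2)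

@[reassoc]
theorem swW_ι : swW f ≫ (pullback.diagonal f).coborderRange.ι =
    (pullback.diagonal f).coborderRange.ι ≫ sw f :=
  IsOpenImmersion.lift_fac _ _ _

theorem swW_swW : swW f ≫ swW f = 𝟙 _ := by
  rw [← cancel_mono (pullback.diagonal f).coborderRange.ι, Category.assoc, swW_ι, swW_ι_assoc,
    sw_sw, Category.comp_id, Category.id_comp]

instance isIso_swW : IsIso (swW f) := ⟨swW f, swW_swW f, swW_swW f⟩

theorem diagCl_swW : diagCl f ≫ swW f = diagCl f := by
  rw [← cancel_mono (pullback.diagonal f).coborderRange.ι, Category.assoc, swW_ι,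
    Scheme.Hom.liftCoborder_ι_assoc, diag_sw, Scheme.Hom.liftCoborder_ι]

theorem ker_le_map : (diagCl f).ker ^ (n + 1) ≤ ((diagCl f).ker ^ (n + 1)).map (swW f) :=
  pow_le_map_pow (swW f) _ _ (le_of_eq (by rw [map_ker, diagCl_swW])) (n + 1)

/-- the symmetry of the `n`-th infinitesimal neighbourhood of the diagonal. -/
noncomputable def sigma : nbhd f n ⟶ nbhd f n :=
  subschemeMap _ _ (swW f) (ker_le_map f n)

theorem sigma_ι : sigma f n ≫ nbhdι f n = nbhdι f n ≫ sw f := by
  unfold sigma nbhdι infNbhdι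
  rw [← Category.assoc, subschemeMap_subschemeι, Category.assoc, swW_ι, Category.assoc]

instance mono_nbhdι : Mono (nbhdι f n) := by
  unfold nbhdι infNbhdι
  infer_instance

theorem exists_sigma :
    ∃ σ : nbhd f n ⟶ nbhd f n,
      σ ≫ nbhdι f n = nbhdι f n ≫ (pullbackSymmetry f f).hom ∧
      σ ≫ σ = 𝟙 (nbhd f n) ∧
      σ ≫ pr1 f n = pr2 f n ∧ σ ≫ pr2 f n = pr1 f n ∧
      toNbhd f n ≫ σ = toNbhd f n := by
  refine ⟨sigma f n, sigma_ι f n, ?_, ?_, ?_, ?_⟩
  · rw [← cancel_mono (nbhdι f n), Category.assoc, sigma_ι, ← Category.assoc, sigma_ι,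
      Category.assoc, sw_sw, Category.comp_id, Category.id_comp]
  · unfold pr1 pr2
    rw [← Category.assoc, sigma_ι, Category.assoc, pullbackSymmetry_hom_comp_fst]
  · unfold pr1 pr2
    rw [← Category.assoc, sigma_ι, Category.assoc, pullbackSymmetry_hom_comp_snd]
  · rw [← cancel_mono (nbhdι f n), Category.assoc, sigma_ι, ← Category.assoc, toNbhd_ι, diag_sw]

end Symmetry

end Groth.Agent.Helper9.PrinPart7
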