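import Mathlib
import Groth.Prelude.Def_OmegaPn
import Groth.Agent.Lib.Helper9.PrinPart7
import Groth.Agent.Lib.Helper18.CnBC

/-!
# Base change of the graded pieces `I^n/I^(n+1)` of a closed immersion

Generalisation to `ker^n` of helper18's treatment of the conormal sheaf (`CnBC`).
-/

set_option autoImplicit false
set_option backward.isDefEq.respectTransparency false
set_option linter.style.haveILetI false
set_option linter.unusedSectionVars false
set_option maxRecDepth 8000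
universe u
open CategoryTheory CategoryTheory.Limits AlgebraicGeometry TopologicalSpace Opposite TensorProduct

namespace Groth.Agent.Helper9.GrBC1

section Alg

variable {A' A B : Type u} [CommRing A'] [CommRing A] [CommRing B] (f : A' →+* A) (p : A →+* B)
  {M' M P Q : Type u} [AddCommGroup M'] [Module A' M'] [AddCommGroup M] [Module A M]
  [AddCommGroup P] [Module B P] [AddCommGroup Q] [Module B Q]
  (ι' : M' →ₗ[A'] A') (ι : M →ₗ[A] A) (hι : Function.Injective ι)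
  (ρ : M' →+ M) (hρ : ∀ s', ι (ρ s') = f (ι' s'))
  (θ : M' →+ P)
  (κ : M →+ Q) (hκ : ∀ a s, κ (a • s) = p a • κ s)
  (Φ : P →ₗ[B] Q) (hΦ : ∀ s', Φ (θ s') = κ (ρ s'))

include hι hρ hκ hΦ in
/-- generalisation of helper18's `inj_key`: the square of the ideal is replaced by any ideal `J'`
inside the range of `ι'`, and flatness by injectivity of `A ⊗ M' → A ⊗ A'`. -/
theorem inj_gen (hp : Function.Surjective p)
    (hinj : letI := f.toAlgebra; Function.Injective (LinearMap.lTensor A ι'))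
    (hθ : ∀ r s', θ (r • s') = p (f r) • θ s')
    (J' : Ideal A') (hJ' : J' ≤ (LinearMap.range ι' : Ideal A'))
    (hθ0 : ∀ s', ι' s' ∈ J' → θ s' = 0)
    (hθspan : Submodule.span B (Set.range θ) = ⊤)
    (hκ0 : ∀ s, κ s = 0 → ι s ∈ Ideal.map f J') : Function.Injective Φ := by
  letI := f.toAlgebra
  letI mAP : Module A P := Module.compHom P p
  letI mA'P : Module A' P := Module.compHom P (p.comp f)
  haveI : IsScalarTower A' A P := ⟨fun r a n => by
    change p (r • a) • n = p (f r) • (p a • n)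
    rw [Algebra.smul_def, map_mul, mul_smul]; rfl⟩
  letI mA'M : Module A' M := Module.compHom M f
  haveI : IsScalarTower A' A M := ⟨fun r a n => by
    change (r • a) • n = f r • (a • n)
    rw [Algebra.smul_def, mul_smul]; rfl⟩
  let θl : M' →ₗ[A'] P := { toFun := θ, map_add' := map_add θ, map_smul' := fun r s' => hθ r s' }
  let Θ : A ⊗[A'] M' →ₗ[A] P := θl.liftBaseChange A
  let ρl : M' →ₗ[A'] M :=
    { toFun := ρ, map_add' := map_add ρ
      map_smul' := fun r s' => hι (by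
        change ι (ρ (r • s')) = ι (f r • ρ s')
        rw [hρ, LinearMap.map_smul ι' r s', LinearMap.map_smul ι (f r) (ρ s'), hρ, smul_eq_mul,
          map_mul, smul_eq_mul]) }
  let R : A ⊗[A'] M' →ₗ[A] M := ρl.liftBaseChange A
  have hμeq : ∀ t, ι (R t) = TensorProduct.rid A' A (LinearMap.lTensor A ι' t) := by
    intro t
    induction t using TensorProduct.induction_on with
    | zero => simp
    | tmul a s' =>
      change ι (a • ρ s') = _
      rw [map_smul, hρ, LinearMap.lTensor_tmul, TensorProduct.rid_tmul, smul_eq_mul,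
        Algebra.smul_def, mul_comm]
      rfl
    | add x y hx hy => rw [map_add, map_add, hx, hy, map_add, map_add]
  have hμ : Function.Injective (fun t => ι (R t)) := by
    intro t₁ t₂ h
    simp only [hμeq] at h
    exact hinj ((TensorProduct.rid A' A).injective h)
  have hΘs : ∀ n : P, ∃ t, Θ t = n := by
    intro n
    have hn : n ∈ Submodule.span B (Set.range θ) := by rw [hθspan]; trivial
    induction hn using Submodule.span_induction with
    | mem x hx =>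
      obtain ⟨s', rfl⟩ := hx
      exact ⟨1 ⊗ₜ s', by simp [Θ, θl]⟩
    | zero => exact ⟨0, map_zero _⟩
    | add x y _ _ hx hy =>
      obtain ⟨t₁, rfl⟩ := hx
      obtain ⟨t₂, rfl⟩ := hy
      exact ⟨t₁ + t₂, map_add _ _ _⟩
    | smul b x _ hx =>
      obtain ⟨t₁, rfl⟩ := hx
      obtain ⟨a, rfl⟩ := hp b
      exact ⟨a • t₁, by rw [map_smul]; rfl⟩
  have hΦΘ : ∀ t, Φ (Θ t) = κ (R t) := by
    intro t
    induction t using TensorProduct.induction_on with
    | zero => simp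
    | tmul a s' =>
      change Φ (p a • θ s') = κ (a • ρ s')
      rw [map_smul, hΦ, hκ]
    | add x y hx hy => rw [map_add, map_add, hx, hy, map_add, map_add]
  have hle : Ideal.map f J' ≤ Submodule.map (ι ∘ₗ R) (LinearMap.ker Θ) := by
    rw [Ideal.map, Ideal.span_le]
    rintro _ ⟨y, hy, rfl⟩
    obtain ⟨s', rfl⟩ : y ∈ (LinearMap.range ι' : Ideal A') := hJ' hy
    refine ⟨1 ⊗ₜ s', ?_, ?_⟩
    · change Θ (1 ⊗ₜ s') = 0
      have : Θ (1 ⊗ₜ s') = θ s' := by simp [Θ, θl]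
      rw [this]
      exact hθ0 s' hy
    · change ι (R (1 ⊗ₜ s')) = f (ι' s')
      have : R (1 ⊗ₜ s') = ρ s' := by simp [R, ρl]
      rw [this, hρ]
  rw [injective_iff_map_eq_zero]
  intro n hn
  obtain ⟨t, rfl⟩ := hΘs n
  rw [hΦΘ] at hn
  have h1 := hκ0 _ hn
  obtain ⟨t₂, ht₂, ht₂'⟩ := hle h1
  have : t₂ = t := hμ ht₂'
  rw [← this]
  exact ht₂

include hι hρ hκ hΦ in
theorem inj_flat (hf : f.Flat) (hp : Function.Surjective p) (hι' : Function.Injective ι')
    (hθ : ∀ r s', θ (r • s') = p (f r) • θ s')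
    (J' : Ideal A') (hJ' : J' ≤ (LinearMap.range ι' : Ideal A'))
    (hθ0 : ∀ s', ι' s' ∈ J' → θ s' = 0)
    (hθspan : Submodule.span B (Set.range θ) = ⊤)
    (hκ0 : ∀ s, κ s = 0 → ι s ∈ Ideal.map f J') : Function.Injective Φ := by
  refine inj_gen f p ι' ι hι ρ hρ θ κ hκ Φ hΦ hp ?_ hθ J' hJ' hθ0 hθspan hκ0
  letI := f.toAlgebra
  haveI : Module.Flat A' A := hf
  exact Module.Flat.lTensor_preserves_injective_linearMap (M := A) ι' hι'

end Alg

open OmegaSh PrinPart Groth.Agent.Helper18.DerLib Groth.Agent.Helper18.AffHom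
  Groth.Agent.Helper18.Rec Groth.Agent.Helper13.EffCartier Groth.Agent.Helper13.Pullback

section Ideal

variable {Q : Scheme.{u}} (I : Q.IdealSheafData)

theorem qcI : (ClSub.idealMod I).IsQuasicoherent :=
  (SheafOfModules.isQuasicoherent Q.ringCatSheaf).prop_of_iso (idealModIso I).symm inferInstance

/-- the inclusion of the ideal on sections as a linear map -/
noncomputable def ιl (V : Q.Opens) : Γ(ClSub.idealMod I, V) →ₗ[Γ(Q, V)] Γ(Q, V) where
  toFun := idealSect I V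
  map_add' := map_add _
  map_smul' b s := by
    change idealSect I V (b • s) = b * idealSect I V s
    exact Groth.Agent.Helper18.CnDiff.idealSect_smul I V b s

theorem ιl_apply (V : Q.Opens) (s : Γ(ClSub.idealMod I, V)) : ιl I V s = idealSect I V s := rfl

theorem ιl_injective (V : Q.Opens) : Function.Injective (ιl I V) := by
  intro s t h
  exact idealModι_app_injective V I h

theorem idealSect_mem {V : Q.Opens} (hV : IsAffineOpen V) (s : Γ(ClSub.idealMod I, V)) :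
    idealSect I V s ∈ I.ideal ⟨V, hV⟩ :=
  (mem_ideal_iff I ⟨V, hV⟩ _).2 ⟨(idealModIso I).hom.app V s,
    Groth.Agent.Helper18.OmegaSec.fn_idealModIso I s⟩

theorem exists_idealSect_eq_of_mem {V : Q.Opens} (hV : IsAffineOpen V) (x : Γ(Q, V))
    (hx : x ∈ I.ideal ⟨V, hV⟩) : ∃ s : Γ(ClSub.idealMod I, V), idealSect I V s = x := by
  obtain ⟨k, hk⟩ := (mem_ideal_iff I ⟨V, hV⟩ _).1 hx
  refine ⟨(idealModIso I).inv.app V k, ?_⟩
  rw [← Groth.Agent.Helper18.OmegaSec.fn_idealModIso]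
  have : (idealModIso I).hom.app V ((idealModIso I).inv.app V k) = k :=
    iso_inv_hom_app (idealModIso I).symm V k
  rw [this, hk]

theorem range_ιl {V : Q.Opens} (hV : IsAffineOpen V) :
    (LinearMap.range (ιl I V) : Ideal Γ(Q, V)) = I.ideal ⟨V, hV⟩ := by
  ext x
  constructor
  · rintro ⟨s, rfl⟩
    exact idealSect_mem I hV s
  · intro hx
    obtain ⟨s, hs⟩ := exists_idealSect_eq_of_mem I hV x hx
    exact ⟨s, hs⟩

theorem subschemeι_app_idealSect (W : Q.Opens) (s : Γ(ClSub.idealMod I, W)) :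
    I.subschemeι.app W (idealSect I W s) = 0 := by
  rw [← Groth.Agent.Helper18.OmegaSec.fn_idealModIso]
  exact Groth.Agent.Helper13.VanishIdeal.app_idealι I.subschemeι W ((idealModIso I).hom.app W s)

theorem exists_idealSect_eq (W : Q.Opens) (x : Γ(Q, W)) (hx : I.subschemeι.app W x = 0) :
    ∃ s : Γ(ClSub.idealMod I, W), idealSect I W s = x := by
  obtain ⟨k, hk⟩ := Groth.Agent.Helper13.KerSec.exists_kernel_section
    (Groth.Agent.Helper13.VanishIdeal.sharp I.subschemeι) W x hx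
  refine ⟨(idealModIso I).inv.app W k, ?_⟩
  rw [← Groth.Agent.Helper18.OmegaSec.fn_idealModIso]
  have : (idealModIso I).hom.app W ((idealModIso I).inv.app W k) = k :=
    iso_inv_hom_app (idealModIso I).symm W k
  rw [this]
  exact hk

end Ideal

section Classes

variable {P Q : Scheme.{u}} (k : P ⟶ Q) [IsClosedImmersion k]

theorem coborder_top : k.coborderRange = ⊤ := by
  apply Opens.ext
  exact k.isClosedEmbedding.isClosed_range.coborder_eq

theorem isAffineOpen_pre {V : Q.Opens} (hV : IsAffineOpen V) : IsAffineOpen (k ⁻¹ᵁ V) :=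
  Groth.Agent.Helper18.ConormalImm.isAffineOpen_preimage k hV (by rw [coborder_top]; exact le_top)

theorem app_surj {V : Q.Opens} (hV : IsAffineOpen V) : Function.Surjective (k.app V) :=
  Groth.Agent.Helper18.ConormalImm.app_surjective k hV (by rw [coborder_top]; exact le_top)

section General

variable (M : Q.Modules) [M.IsQuasicoherent]

/-- over an affine open, every section of `k^* M` is the pullback of a section of `M`. -/
theorem exists_pullSect_eq {V : Q.Opens} (hV : IsAffineOpen V)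
    (m : Γ((Scheme.Modules.pullback k).obj M, k ⁻¹ᵁ V)) :
    ∃ s : Γ(M, V), pullSect k M V s = m := by
  have hT : IsAffineOpen (k ⁻¹ᵁ V) := isAffineOpen_pre k hV
  letI alg : Algebra Γ(Q, V) Γ(P, k ⁻¹ᵁ V) := (k.appLE V (k ⁻¹ᵁ V) le_rfl).hom.toAlgebra
  have halg : ∀ b : Γ(Q, V), algebraMap Γ(Q, V) Γ(P, k ⁻¹ᵁ V) b = k.app V b := fun b => by
    change k.appLE V (k ⁻¹ᵁ V) le_rfl b = _
    rw [Scheme.Hom.appLE_eq_app]
  have hsurj : Function.Surjective (algebraMap Γ(Q, V) Γ(P, k ⁻¹ᵁ V)) := by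
    intro c
    obtain ⟨b, hb⟩ := app_surj k hV c
    exact ⟨b, (halg b).trans hb⟩
  let α := sectionsPullbackEquiv k M hT hV le_rfl
  obtain ⟨s, hs⟩ := TensorProduct.mk_surjective Γ(Q, V) Γ(M, V) Γ(P, k ⁻¹ᵁ V) hsurj (α m)
  refine ⟨s, ?_⟩
  apply α.injective
  rw [← hs]
  have h1 := sectionsPullbackEquiv_pullRes k M hT hV le_rfl s
  rw [pullRes_refl] at h1
  exact h1

/-- over an affine open, a section of `M` with zero pullback lies in `(ker k♯) M`. -/
theorem mem_smul_top_of_pullSect_eq_zero {V : Q.Opens} (hV : IsAffineOpen V) (s : Γ(M, V))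
    (h : pullSect k M V s = 0) :
    s ∈ (RingHom.ker (k.app V).hom) • (⊤ : Submodule Γ(Q, V) Γ(M, V)) := by
  have hT : IsAffineOpen (k ⁻¹ᵁ V) := isAffineOpen_pre k hV
  letI alg : Algebra Γ(Q, V) Γ(P, k ⁻¹ᵁ V) := (k.appLE V (k ⁻¹ᵁ V) le_rfl).hom.toAlgebra
  have halg : ∀ b : Γ(Q, V), algebraMap Γ(Q, V) Γ(P, k ⁻¹ᵁ V) b = k.app V b := fun b => by
    change k.appLE V (k ⁻¹ᵁ V) le_rfl b = _
    rw [Scheme.Hom.appLE_eq_app]
  have hsurj : Function.Surjective (algebraMap Γ(Q, V) Γ(P, k ⁻¹ᵁ V)) := by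
    intro c
    obtain ⟨b, hb⟩ := app_surj k hV c
    exact ⟨b, (halg b).trans hb⟩
  have hker : RingHom.ker (algebraMap Γ(Q, V) Γ(P, k ⁻¹ᵁ V)) = RingHom.ker (k.app V).hom := by
    ext b
    rw [RingHom.mem_ker, RingHom.mem_ker, halg]
  have h1 : (1 : Γ(P, k ⁻¹ᵁ V)) ⊗ₜ[Γ(Q, V)] s = 0 := by
    have h5 := sectionsPullbackEquiv_pullRes k M hT hV le_rfl s
    rw [pullRes_refl] at h5
    rw [← h5, h, map_zero]
  have hmem := Groth.Agent.Helper18.CnAlg.mem_smul_top_of_one_tmul_eq_zero hsurj s h1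
  rw [hker] at hmem
  exact hmem

/-- a section of `M` lying in `(ker k♯) M` has zero pullback. -/
theorem pullSect_eq_zero_of_mem {V : Q.Opens} (s : Γ(M, V))
    (hs : s ∈ (RingHom.ker (k.app V).hom) • (⊤ : Submodule Γ(Q, V) Γ(M, V))) :
    pullSect k M V s = 0 := by
  refine Submodule.smul_induction_on hs ?_ ?_
  · intro a ha t _
    have h := OmegaSh.pullSect_smul k M V a t
    have ha0 : k.app V a = 0 := ha
    rw [ha0, zero_smul] at h
    exact h
  · intro x y hx hy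
    rw [map_add, hx, hy, add_zero]

end General

variable (n : ℕ)

theorem ideal_pow_eq {V : Q.Opens} (hV : IsAffineOpen V) :
    (k.ker ^ n).ideal ⟨V, hV⟩ = (RingHom.ker (k.app V).hom) ^ n := by
  rw [Scheme.IdealSheafData.ideal_pow, Pi.pow_apply, Scheme.Hom.ker_apply]

theorem qcGr : (grMod k n).IsQuasicoherent := by
  haveI := qcI (k.ker ^ n)
  unfold grMod
  exact isQuasicoherent_pullback k _

theorem exists_grSect_eq {V : Q.Opens} (hV : IsAffineOpen V) (m : Γ(grMod k n, k ⁻¹ᵁ V)) :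
    ∃ s : Γ(ClSub.idealMod (k.ker ^ n), V), grSect k n V s = m := by
  haveI := qcI (k.ker ^ n)
  exact exists_pullSect_eq k (ClSub.idealMod (k.ker ^ n)) hV m

theorem ιl_mem_of_grSect_eq_zero {V : Q.Opens} (hV : IsAffineOpen V)
    (s : Γ(ClSub.idealMod (k.ker ^ n), V)) (h : grSect k n V s = 0) :
    ιl (k.ker ^ n) V s ∈ (RingHom.ker (k.app V).hom) ^ (n + 1) := by
  haveI := qcI (k.ker ^ n)
  have hmem := mem_smul_top_of_pullSect_eq_zero k (ClSub.idealMod (k.ker ^ n)) hV s h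
  have h6 : ιl (k.ker ^ n) V s ∈ Submodule.map (ιl (k.ker ^ n) V)
      ((RingHom.ker (k.app V).hom) • ⊤) := ⟨s, hmem, rfl⟩
  rw [Submodule.map_smul'', Submodule.map_top, range_ιl _ hV, ideal_pow_eq k n hV] at h6
  rw [pow_succ']
  exact h6

theorem grSect_eq_zero_of_mem {V : Q.Opens} (hV : IsAffineOpen V)
    (s : Γ(ClSub.idealMod (k.ker ^ n), V))
    (h : ιl (k.ker ^ n) V s ∈ (RingHom.ker (k.app V).hom) ^ (n + 1)) :
    grSect k n V s = 0 := by
  haveI := qcI (k.ker ^ n)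
  apply pullSect_eq_zero_of_mem k (ClSub.idealMod (k.ker ^ n)) s
  rw [pow_succ'] at h
  have h7 : ιl (k.ker ^ n) V s ∈ Submodule.map (ιl (k.ker ^ n) V)
      (RingHom.ker (k.app V).hom • ⊤) := by
    rw [Submodule.map_smul'', Submodule.map_top, range_ιl _ hV, ideal_pow_eq k n hV]
    exact h
  obtain ⟨s₁, hs₁, hs₁'⟩ := h7
  rw [← ιl_injective _ V hs₁']
  exact hs₁

end Classes

section Chart

variable {Z X Z' X' : Scheme.{u}} (i : Z ⟶ X) (i' : Z' ⟶ X') [IsClosedImmersion i]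
  [IsClosedImmersion i'] (g : X ⟶ X') (gZ : Z ⟶ Z')

theorem pow_eq_comap (hker : i.ker = i'.ker.comap g) (m : ℕ) :
    i.ker ^ m = (i'.ker ^ m).comap g := by
  rw [Groth.Agent.Helper6.IdealComap.comap_pow, hker]

theorem subschemeι_app_app (hker : i.ker = i'.ker.comap g) (m : ℕ) (U' : X'.Opens)
    (x : Γ(X', U')) (hx : (i'.ker ^ m).subschemeι.app U' x = 0) :
    (i.ker ^ m).subschemeι.app (g ⁻¹ᵁ U') (g.app U' x) = 0 := by
  have H : i'.ker ^ m ≤ (i.ker ^ m).map g := by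
    rw [pow_eq_comap i i' g hker m]
    exact (i'.ker ^ m).le_map_comap g
  have hsq := Scheme.IdealSheafData.subschemeMap_subschemeι (i.ker ^ m) (i'.ker ^ m) g H
  have h1 := Scheme.Hom.congr_app hsq.symm U'
  have h2 : ((i.ker ^ m).subschemeι ≫ g).app U' x =
      (i.ker ^ m).subschemeι.app (g ⁻¹ᵁ U') (g.app U' x) := rfl
  have h3 : (Scheme.IdealSheafData.subschemeMap (i.ker ^ m) (i'.ker ^ m) g H ≫
      (i'.ker ^ m).subschemeι).app U' x = 0 := by
    change (Scheme.IdealSheafData.subschemeMap (i.ker ^ m) (i'.ker ^ m) g H).app _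
      ((i'.ker ^ m).subschemeι.app U' x) = 0
    rw [hx, map_zero]
  rw [← h2, h1, CommRingCat.comp_apply, h3]
  exact map_zero _

/-- `ρ` on sections: the section of `I^m` induced by `g♯` from a section of `I'^m`. -/
noncomputable def rhoFun (hker : i.ker = i'.ker.comap g) (m : ℕ) (U' : X'.Opens)
    (s' : Γ(ClSub.idealMod (i'.ker ^ m), U')) : Γ(ClSub.idealMod (i.ker ^ m), g ⁻¹ᵁ U') :=
  (exists_idealSect_eq (i.ker ^ m) (g ⁻¹ᵁ U') _
    (subschemeι_app_app i i' g hker m U' _ (subschemeι_app_idealSect (i'.ker ^ m) U' s'))).choose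

theorem rhoFun_spec (hker : i.ker = i'.ker.comap g) (m : ℕ) (U' : X'.Opens)
    (s' : Γ(ClSub.idealMod (i'.ker ^ m), U')) :
    idealSect (i.ker ^ m) (g ⁻¹ᵁ U') (rhoFun i i' g hker m U' s') =
      g.app U' (idealSect (i'.ker ^ m) U' s') :=
  (exists_idealSect_eq (i.ker ^ m) (g ⁻¹ᵁ U') _
    (subschemeι_app_app i i' g hker m U' _ (subschemeι_app_idealSect (i'.ker ^ m) U' s'))).choose_spec

variable {U' : X'.Opens} {U : X.Opens}

theorem idealSect_res_rhoFun (hker : i.ker = i'.ker.comap g) (m : ℕ) (hUU' : U ≤ g ⁻¹ᵁ U')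
    (s' : Γ(ClSub.idealMod (i'.ker ^ m), U')) :
    idealSect (i.ker ^ m) U (res (ClSub.idealMod (i.ker ^ m)) hUU' (rhoFun i i' g hker m U' s')) =
      (g.appLE U' U hUU').hom (idealSect (i'.ker ^ m) U' s') := by
  rw [res, Groth.Agent.Helper18.CnDiff.idealSect_map, rhoFun_spec]
  rw [Scheme.Hom.appLE]
  rfl

/-- `ρ` restricted to the chart -/
noncomputable def rhoC (hker : i.ker = i'.ker.comap g) (m : ℕ) (hUU' : U ≤ g ⁻¹ᵁ U') :
    Γ(ClSub.idealMod (i'.ker ^ m), U') →+ Γ(ClSub.idealMod (i.ker ^ m), U) :=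
  AddMonoidHom.mk'
    (fun s' => res (ClSub.idealMod (i.ker ^ m)) hUU' (rhoFun i i' g hker m U' s'))
    (fun s' t' => by
      show res (ClSub.idealMod (i.ker ^ m)) hUU' (rhoFun i i' g hker m U' (s' + t')) =
        res (ClSub.idealMod (i.ker ^ m)) hUU' (rhoFun i i' g hker m U' s') +
        res (ClSub.idealMod (i.ker ^ m)) hUU' (rhoFun i i' g hker m U' t')
      apply Groth.Agent.Helper18.CnMap.idealSect_injective (i.ker ^ m) U
      have e1 := idealSect_res_rhoFun i i' g hker m hUU' (s' + t')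
      have e2 := idealSect_res_rhoFun i i' g hker m hUU' s'
      have e3 := idealSect_res_rhoFun i i' g hker m hUU' t'
      rw [map_add, e1, e2, e3, map_add, map_add])

theorem ιl_rhoC (hker : i.ker = i'.ker.comap g) (m : ℕ) (hUU' : U ≤ g ⁻¹ᵁ U')
    (s' : Γ(ClSub.idealMod (i'.ker ^ m), U')) :
    ιl (i.ker ^ m) U (rhoC i i' g hker m hUU' s') =
      (g.appLE U' U hUU').hom (ιl (i'.ker ^ m) U' s') :=
  idealSect_res_rhoFun i i' g hker m hUU' s'

theorem ideal_chart (hker : i.ker = i'.ker.comap g) (m : ℕ) (hU' : IsAffineOpen U')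
    (hU : IsAffineOpen U) (hUU' : U ≤ g ⁻¹ᵁ U') :
    (i.ker ^ m).ideal ⟨U, hU⟩ =
      ((i'.ker ^ m).ideal ⟨U', hU'⟩).map (g.appLE U' U hUU').hom :=
  (congrArg (fun J : X.IdealSheafData => J.ideal ⟨U, hU⟩) (pow_eq_comap i i' g hker m)).trans
    (Groth.Agent.Helper6.IdealComap.ideal_comap g (i'.ker ^ m) ⟨U, hU⟩ ⟨U', hU'⟩ hUU')

theorem pow_chart (hker : i.ker = i'.ker.comap g) (m : ℕ) (hU' : IsAffineOpen U')
    (hU : IsAffineOpen U) (hUU' : U ≤ g ⁻¹ᵁ U') :
    (RingHom.ker (i.app U).hom) ^ m =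
      Ideal.map (g.appLE U' U hUU').hom ((RingHom.ker (i'.app U').hom) ^ m) := by
  rw [← ideal_pow_eq i m hU, ← ideal_pow_eq i' m hU']
  exact ideal_chart i i' g hker m hU' hU hUU'

theorem range_chart (hker : i.ker = i'.ker.comap g) (m : ℕ) (hU' : IsAffineOpen U')
    (hU : IsAffineOpen U) (hUU' : U ≤ g ⁻¹ᵁ U') :
    LinearMap.range (ιl (i.ker ^ m) U) =
      Ideal.map (g.appLE U' U hUU').hom (LinearMap.range (ιl (i'.ker ^ m) U')) := by
  have h1 := range_ιl (i.ker ^ m) hU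
  have h2 := range_ιl (i'.ker ^ m) hU'
  rw [h2]
  exact h1.trans (ideal_chart i i' g hker m hU' hU hUU')

theorem chart_le (hw : gZ ≫ i' = i ≫ g) (hUU' : U ≤ g ⁻¹ᵁ U') :
    i ⁻¹ᵁ U ≤ gZ ⁻¹ᵁ (i' ⁻¹ᵁ U') := by
  change i ⁻¹ᵁ U ≤ (gZ ≫ i') ⁻¹ᵁ U'
  rw [hw]
  intro x hx
  exact hUU' hx

variable (n : ℕ)

/-- `θ` on the chart -/
noncomputable def thetaC (hle : i ⁻¹ᵁ U ≤ gZ ⁻¹ᵁ (i' ⁻¹ᵁ U')) :
    Γ(ClSub.idealMod (i'.ker ^ n), U') →+
      Γ((Scheme.Modules.pullback gZ).obj (grMod i' n), i ⁻¹ᵁ U) :=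
  AddMonoidHom.mk' (fun s' => pullRes gZ (grMod i' n) hle (grSect i' n U' s'))
    (fun s' t' => by
      unfold pullRes
      rw [map_add, map_add, map_add])

theorem thetaC_apply (hle : i ⁻¹ᵁ U ≤ gZ ⁻¹ᵁ (i' ⁻¹ᵁ U'))
    (s' : Γ(ClSub.idealMod (i'.ker ^ n), U')) :
    thetaC i i' gZ n hle s' = pullRes gZ (grMod i' n) hle (grSect i' n U' s') := rfl

theorem appLE_square (hw : gZ ≫ i' = i ≫ g) (hUU' : U ≤ g ⁻¹ᵁ U') (r : Γ(X', U')) :
    (gZ.appLE (i' ⁻¹ᵁ U') (i ⁻¹ᵁ U) (chart_le i i' g gZ hw hUU')).hom ((i'.app U').hom r) =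
      (i.app U).hom ((g.appLE U' U hUU').hom r) := by
  have h : g.appLE U' U hUU' ≫ i.appLE U (i ⁻¹ᵁ U) le_rfl =
      i'.appLE U' (i' ⁻¹ᵁ U') le_rfl ≫
        gZ.appLE (i' ⁻¹ᵁ U') (i ⁻¹ᵁ U) (chart_le i i' g gZ hw hUU') := by
    simp only [Scheme.Hom.appLE_comp_appLE, hw]
  have h2 := congr($h r)
  rw [CommRingCat.comp_apply, CommRingCat.comp_apply, Scheme.Hom.appLE_eq_app,
    Scheme.Hom.appLE_eq_app] at h2
  exact h2.symm

theorem thetaC_smul (hw : gZ ≫ i' = i ≫ g) (hUU' : U ≤ g ⁻¹ᵁ U') (r : Γ(X', U'))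
    (s' : Γ(ClSub.idealMod (i'.ker ^ n), U')) :
    thetaC i i' gZ n (chart_le i i' g gZ hw hUU') (r • s') =
      (i.app U).hom ((g.appLE U' U hUU').hom r) •
        thetaC i i' gZ n (chart_le i i' g gZ hw hUU') s' := by
  rw [thetaC_apply, thetaC_apply]
  have h1 : grSect i' n U' (r • s') = i'.app U' r • grSect i' n U' s' :=
    OmegaSh.pullSect_smul i' _ U' r s'
  rw [h1, pullRes, pullRes, OmegaSh.pullSect_smul]
  have h := res_smul ((Scheme.Modules.pullback gZ).obj (grMod i' n))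
    (chart_le i i' g gZ hw hUU') (gZ.app (i' ⁻¹ᵁ U') (i'.app U' r))
    (pullSect gZ (grMod i' n) (i' ⁻¹ᵁ U') (grSect i' n U' s'))
  rw [res] at h
  rw [h, ← appLE_square i i' g gZ hw hUU' r]
  rfl

theorem thetaC_eq_zero (hU' : IsAffineOpen U') (hle : i ⁻¹ᵁ U ≤ gZ ⁻¹ᵁ (i' ⁻¹ᵁ U'))
    (s' : Γ(ClSub.idealMod (i'.ker ^ n), U'))
    (h : ιl (i'.ker ^ n) U' s' ∈ (RingHom.ker (i'.app U').hom) ^ (n + 1)) :
    thetaC i i' gZ n hle s' = 0 := by
  rw [thetaC_apply, grSect_eq_zero_of_mem i' n hU' s' h, pullRes, map_zero, map_zero]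

theorem span_thetaC (hU' : IsAffineOpen U') (hU : IsAffineOpen U)
    (hle : i ⁻¹ᵁ U ≤ gZ ⁻¹ᵁ (i' ⁻¹ᵁ U')) :
    Submodule.span Γ(Z, i ⁻¹ᵁ U) (Set.range (thetaC i i' gZ n hle)) = ⊤ := by
  haveI := qcGr i' n
  have h := span_pullRes gZ (grMod i' n) (isAffineOpen_pre i hU)
    (isAffineOpen_pre i' hU') hle Set.univ (by simp)
  rw [eq_top_iff, ← h]
  apply Submodule.span_mono
  rintro _ ⟨t, -, rfl⟩
  obtain ⟨s', rfl⟩ := exists_grSect_eq i' n hU' t
  exact ⟨s', rfl⟩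

variable (φ : (Scheme.Modules.pullback gZ).obj (grMod i' n) ⟶ grMod i n)

theorem phi_thetaC (hφ : IsGrMap i i' g gZ n φ) (hker : i.ker = i'.ker.comap g)
    (hUU' : U ≤ g ⁻¹ᵁ U') (s' : Γ(ClSub.idealMod (i'.ker ^ n), U')) :
    φ.app (i ⁻¹ᵁ U) (thetaC i i' gZ n (chart_le i i' g gZ hφ.1 hUU') s') =
      grSect i n U (rhoC i i' g hker n hUU' s') := by
  have h := hφ.2 U' s' (rhoFun i i' g hker n U' s') (rhoFun_spec i i' g hker n U' s')
    (i ⁻¹ᵁ U) (chart_le i i' g gZ hφ.1 hUU') (fun _ hx => hUU' hx)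
  rw [thetaC_apply, pullRes]
  have h1 := app_res φ (chart_le i i' g gZ hφ.1 hUU')
    (pullSect gZ (grMod i' n) (i' ⁻¹ᵁ U') (grSect i' n U' s'))
  rw [res] at h1
  rw [h1]
  refine h.trans ?_
  exact (OmegaSh.pullSect_map i (ClSub.idealMod (i.ker ^ n)) hUU'
    (rhoFun i i' g hker n U' s')).symm

theorem kappa_smul (a : Γ(X, U)) (s : Γ(ClSub.idealMod (i.ker ^ n), U)) :
    (grSect i n U).hom (a • s) = (i.app U).hom a • (grSect i n U).hom s :=
  OmegaSh.pullSect_smul i _ U a s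

theorem surjective_chart (hφ : IsGrMap i i' g gZ n φ) (hker : i.ker = i'.ker.comap g)
    (hU' : IsAffineOpen U') (hU : IsAffineOpen U) (hUU' : U ≤ g ⁻¹ᵁ U') :
    Function.Surjective (φ.app (i ⁻¹ᵁ U)) := by
  have h := Groth.Agent.Helper18.CnBCAlg.surj_key (g.appLE U' U hUU').hom (i.app U).hom
    (ιl (i'.ker ^ n) U') (ιl (i.ker ^ n) U) (ιl_injective (i.ker ^ n) U)
    (range_chart i i' g hker n hU' hU hUU')
    (rhoC i i' g hker n hUU') (ιl_rhoC i i' g hker n hUU')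
    (thetaC i i' gZ n (chart_le i i' g gZ hφ.1 hUU')) (grSect i n U).hom (kappa_smul i n)
    (appLin φ (i ⁻¹ᵁ U)) (phi_thetaC i i' g gZ n φ hφ hker hUU')
    (fun m => exists_grSect_eq i n hU m)
  exact h

/-- injectivity on a chart, given injectivity of `A ⊗ I'^n → A ⊗ A'`. -/
theorem injective_chart_gen (hφ : IsGrMap i i' g gZ n φ) (hker : i.ker = i'.ker.comap g)
    (hU' : IsAffineOpen U') (hU : IsAffineOpen U) (hUU' : U ≤ g ⁻¹ᵁ U')
    (hinj : letI := (g.appLE U' U hUU').hom.toAlgebra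
      Function.Injective (LinearMap.lTensor Γ(X, U) (ιl (i'.ker ^ n) U'))) :
    Function.Injective (φ.app (i ⁻¹ᵁ U)) := by
  have h := inj_gen (g.appLE U' U hUU').hom (i.app U).hom
    (ιl (i'.ker ^ n) U') (ιl (i.ker ^ n) U) (ιl_injective (i.ker ^ n) U)
    (rhoC i i' g hker n hUU') (ιl_rhoC i i' g hker n hUU')
    (thetaC i i' gZ n (chart_le i i' g gZ hφ.1 hUU')) (grSect i n U).hom (kappa_smul i n)
    (appLin φ (i ⁻¹ᵁ U)) (phi_thetaC i i' g gZ n φ hφ hker hUU')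
    (app_surj i hU) hinj
    (thetaC_smul i i' g gZ n hφ.1 hUU')
    ((RingHom.ker (i'.app U').hom) ^ (n + 1))
    (by
      rw [range_ιl (i'.ker ^ n) hU', ideal_pow_eq i' n hU']
      exact Ideal.pow_le_pow_right (Nat.le_succ n))
    (thetaC_eq_zero i i' gZ n hU' (chart_le i i' g gZ hφ.1 hUU'))
    (span_thetaC i i' gZ n hU' hU (chart_le i i' g gZ hφ.1 hUU'))
    (fun s hs => by
      rw [← pow_chart i i' g hker (n + 1) hU' hU hUU']
      exact ιl_mem_of_grSect_eq_zero i n hU s hs)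
  exact h

theorem injective_chart (hφ : IsGrMap i i' g gZ n φ) (hker : i.ker = i'.ker.comap g)
    (hU' : IsAffineOpen U') (hU : IsAffineOpen U) (hUU' : U ≤ g ⁻¹ᵁ U')
    (hflat : (g.appLE U' U hUU').hom.Flat) :
    Function.Injective (φ.app (i ⁻¹ᵁ U)) := by
  apply injective_chart_gen i i' g gZ n φ hφ hker hU' hU hUU'
  letI := (g.appLE U' U hUU').hom.toAlgebra
  haveI : Module.Flat Γ(X', U') Γ(X, U) := hflat
  exact Module.Flat.lTensor_preserves_injective_linearMap (M := Γ(X, U))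
    (ιl (i'.ker ^ n) U') (ιl_injective (i'.ker ^ n) U')

end Chart

section Main

variable {Z X Z' X' : Scheme.{u}} (i : Z ⟶ X) (i' : Z' ⟶ X') [IsClosedImmersion i]
  [IsClosedImmersion i'] (g : X ⟶ X') (gZ : Z ⟶ Z') (n : ℕ)
  (φ : (Scheme.Modules.pullback gZ).obj (grMod i' n) ⟶ grMod i n)

theorem exists_chart (x : Z) :
    ∃ (U' : X'.Opens) (U : X.Opens), IsAffineOpen U' ∧ IsAffineOpen U ∧
      U ≤ g ⁻¹ᵁ U' ∧ x ∈ i ⁻¹ᵁ U := by
  obtain ⟨_, ⟨U', hU', rfl⟩, hxU', -⟩ :=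
    X'.isBasis_affineOpens.exists_subset_of_mem_open (Set.mem_univ (g (i x))) isOpen_univ
  have hx : i x ∈ g ⁻¹ᵁ U' := hxU'
  obtain ⟨_, ⟨U, hU, rfl⟩, hxU, hUle⟩ :=
    X.isBasis_affineOpens.exists_subset_of_mem_open hx (g ⁻¹ᵁ U').2
  exact ⟨U', U, hU', hU, hUle, hxU⟩

theorem main (hφ : IsGrMap i i' g gZ n φ) (hker : i.ker = i'.ker.comap g) :
    Epi φ ∧ (Flat g → IsIso φ) := by
  haveI q0 : (grMod i' n).IsQuasicoherent := qcGr i' n
  haveI q1 : ((Scheme.Modules.pullback gZ).obj (grMod i' n)).IsQuasicoherent :=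
    isQuasicoherent_pullback gZ (grMod i' n)
  haveI q2 : (grMod i n).IsQuasicoherent := qcGr i n
  let 𝒰 : Set Z.Opens := {V | ∃ (U' : X'.Opens) (U : X.Opens), IsAffineOpen U' ∧
    IsAffineOpen U ∧ U ≤ g ⁻¹ᵁ U' ∧ V = i ⁻¹ᵁ U}
  have hA : ∀ V ∈ 𝒰, IsAffineOpen V := by
    rintro _ ⟨U', U, hU', hU, hUU', rfl⟩
    exact isAffineOpen_pre i hU
  have hcov : ∀ x : Z, ∃ V ∈ 𝒰, x ∈ V := by
    intro x
    obtain ⟨U', U, hU', hU, hUU', hx⟩ := exists_chart i g x
    exact ⟨i ⁻¹ᵁ U, ⟨U', U, hU', hU, hUU', rfl⟩, hx⟩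
  have hsurj : ∀ V ∈ 𝒰, Function.Surjective (φ.app V) := by
    rintro _ ⟨U', U, hU', hU, hUU', rfl⟩
    exact surjective_chart i i' g gZ n φ hφ hker hU' hU hUU'
  refine ⟨Groth.Agent.Helper18.QCBasic.epi_of_cover φ 𝒰 hA hcov hsurj, ?_⟩
  intro hg
  apply Groth.Agent.Helper18.QCBasic.isIso_of_cover φ 𝒰 hA hcov
  rintro _ ⟨U', U, hU', hU, hUU', rfl⟩
  exact ⟨injective_chart i i' g gZ n φ hφ hker hU' hU hUU' (g.flat_appLE hU' hU hUU'),
    surjective_chart i i' g gZ n φ hφ hker hU' hU hUU'⟩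

end Main

end Groth.Agent.Helper9.GrBC1
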