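import Mathlib
import Groth.Agent.Lib.Helper24.FlatPull
import Groth.Agent.Lib.Helper13.Qcqs
import Groth.Agent.Lib.Helper13.PullbackLocal
import Groth.Agent.Lib.Helper13.QCohKer
import Groth.Agent.Lib.Helper13.QCohLocal

/-!
# Quasi-coherence of an arbitrary module descends along flat surjective quasi-compact morphisms
-/

set_option autoImplicit false
set_option backward.isDefEq.respectTransparency false
universe u

open CategoryTheory CategoryTheory.Limits AlgebraicGeometry

namespace Groth.Agent.Helper9.QCohDesc

open Groth.Agent.Helper5 Groth.Agent.Helper5.Sky Groth.Agent.Helper5.StalkCx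
open Groth.Agent.Helper13.QCohLocal

/-- extension of scalars along a flat local homomorphism of local rings reflects zero objects -/
theorem isZero_of_isZero_extendScalars {R S : Type u} [CommRing R] [CommRing S] [IsLocalRing R]
    [IsLocalRing S] (φ : R →+* S) (hφ : φ.Flat) [hl : IsLocalHom φ] (N : ModuleCat.{u} R)
    (h : IsZero ((ModuleCat.extendScalars φ).obj N)) : IsZero N := by
  letI : Algebra R S := φ.toAlgebra
  haveI : Module.Flat R S := hφ
  haveI : IsLocalHom (algebraMap R S) := hl
  haveI : Module.FaithfullyFlat R S := Module.FaithfullyFlat.of_flat_of_isLocalHom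
  haveI h1 : Subsingleton (TensorProduct R S N) := ModuleCat.subsingleton_of_isZero h
  haveI : Subsingleton N := Module.FaithfullyFlat.lTensor_reflects_triviality R S N
  exact ModuleCat.isZero_of_subsingleton N

variable {X Y : Scheme.{u}} (f : X ⟶ Y)

/-- pullback along a flat surjective morphism reflects zero objects (arbitrary modules) -/
theorem isZero_of_isZero_pullback [Flat f] [Surjective f]
    (K : Y.Modules) (hK : IsZero ((Scheme.Modules.pullback f).obj K)) : IsZero K := by
  apply isZero_of_stalks
  intro y
  obtain ⟨x, rfl⟩ := f.surjective y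
  have h1 : IsZero ((DerSch.stalkFunctor X x).obj ((Scheme.Modules.pullback f).obj K)) :=
    (DerSch.stalkFunctor X x).map_isZero hK
  have h2 : IsZero ((ModuleCat.extendScalars (φst f x)).obj
      ((DerSch.stalkFunctor Y (f.base x)).obj K)) :=
    IsZero.of_iso h1 ((pullbackStalkIso f x).app K).symm
  exact isZero_of_isZero_extendScalars (φst f x) (Flat.stalkMap f x) _ h2

/-- the unit `N ⟶ f_* f^* N` is a monomorphism for `f` flat and surjective -/
theorem mono_unit [Flat f] [Surjective f] (N : Y.Modules) :
    Mono ((Scheme.Modules.pullbackPushforwardAdjunction f).unit.app N) := by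
  haveI := Groth.Agent.Helper24.FlatPull.preservesFiniteLimits_pullback f
  haveI : (Scheme.Modules.pullback f).Additive :=
    (Scheme.Modules.pullbackPushforwardAdjunction f).left_adjoint_additive
  obtain ⟨η, hη⟩ : ∃ η : N ⟶ (Scheme.Modules.pushforward f).obj ((Scheme.Modules.pullback f).obj N),
    η = (Scheme.Modules.pullbackPushforwardAdjunction f).unit.app N := ⟨_, rfl⟩
  rw [← hη]
  apply Preadditive.mono_of_kernel_zero
  have hz : IsZero (kernel η) := by
    apply isZero_of_isZero_pullback f
    have h1 : (Scheme.Modules.pullback f).map (kernel.ι η) ≫ (Scheme.Modules.pullback f).map η = 0 := by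
      rw [← Functor.map_comp, kernel.condition, Functor.map_zero]
    have h2 : (Scheme.Modules.pullback f).map η ≫
        (Scheme.Modules.pullbackPushforwardAdjunction f).counit.app
          ((Scheme.Modules.pullback f).obj N) = 𝟙 _ := by
      rw [hη]
      exact (Scheme.Modules.pullbackPushforwardAdjunction f).left_triangle_components N
    have h3 : (Scheme.Modules.pullback f).map (kernel.ι η) = 0 := by
      have h4 : (Scheme.Modules.pullback f).map (kernel.ι η) =
          ((Scheme.Modules.pullback f).map (kernel.ι η) ≫ (Scheme.Modules.pullback f).map η) ≫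
            (Scheme.Modules.pullbackPushforwardAdjunction f).counit.app
              ((Scheme.Modules.pullback f).obj N) := by
        rw [Category.assoc, h2, Category.comp_id]
      rw [h4, h1, zero_comp]
    haveI : Mono ((Scheme.Modules.pullback f).map (kernel.ι η)) := inferInstance
    exact IsZero.of_mono_eq_zero _ h3
  exact hz.eq_of_src _ _

/-- the core case: `f` flat, surjective, quasi-compact and quasi-separated -/
theorem isQuasicoherent_of_pullback_qcqs [Flat f] [Surjective f] [QuasiCompact f]
    [QuasiSeparated f] (M : Y.Modules)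
    [hM : ((Scheme.Modules.pullback f).obj M).IsQuasicoherent] : M.IsQuasicoherent := by
  haveI : PreservesColimitsOfSize.{0, 0} (Scheme.Modules.pullback f) :=
    (Scheme.Modules.pullbackPushforwardAdjunction f).leftAdjoint_preservesColimits
  obtain ⟨η, hη⟩ : ∃ η : M ⟶ (Scheme.Modules.pushforward f).obj ((Scheme.Modules.pullback f).obj M),
    η = (Scheme.Modules.pullbackPushforwardAdjunction f).unit.app M := ⟨_, rfl⟩
  haveI : Mono η := hη ▸ mono_unit f M
  haveI hQ0 : ((Scheme.Modules.pushforward f).obj
      ((Scheme.Modules.pullback f).obj M)).IsQuasicoherent :=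
    Groth.Agent.Helper13.Qcqs.isQuasicoherent_pushforward_of_qcqs f _
  haveI hLQ0 : ((Scheme.Modules.pullback f).obj ((Scheme.Modules.pushforward f).obj
      ((Scheme.Modules.pullback f).obj M))).IsQuasicoherent := inferInstance
  haveI hck : (cokernel ((Scheme.Modules.pullback f).map η)).IsQuasicoherent :=
    Groth.Agent.Helper13.QCohLocal.isQuasicoherent_cokernel _
  haveI hLC : ((Scheme.Modules.pullback f).obj (cokernel η)).IsQuasicoherent :=
    Groth.Agent.Helper13.QCohLocal.isQuasicoherent_of_iso
      (PreservesCokernel.iso (Scheme.Modules.pullback f) η).symm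
  haveI hQ1 : ((Scheme.Modules.pushforward f).obj
      ((Scheme.Modules.pullback f).obj (cokernel η))).IsQuasicoherent :=
    Groth.Agent.Helper13.Qcqs.isQuasicoherent_pushforward_of_qcqs f _
  obtain ⟨η', hη'⟩ : ∃ η' : cokernel η ⟶ (Scheme.Modules.pushforward f).obj
      ((Scheme.Modules.pullback f).obj (cokernel η)),
    η' = (Scheme.Modules.pullbackPushforwardAdjunction f).unit.app (cokernel η) := ⟨_, rfl⟩
  haveI : Mono η' := hη' ▸ mono_unit f (cokernel η)
  haveI hker : (kernel (cokernel.π η ≫ η')).IsQuasicoherent :=
    Groth.Agent.Helper13.QCohLocal.isQuasicoherent_kernel _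
  have hS : (ShortComplex.mk η (cokernel.π η) (cokernel.condition η)).Exact :=
    ShortComplex.exact_cokernel η
  have hlim : IsLimit (KernelFork.ofι η (cokernel.condition η)) := hS.fIsKernel
  let e1 : M ≅ kernel (cokernel.π η) :=
    hlim.conePointUniqueUpToIso (limit.isLimit (parallelPair (cokernel.π η) 0))
  let e2 : kernel (cokernel.π η ≫ η') ≅ kernel (cokernel.π η) := kernelCompMono (cokernel.π η) η'
  exact Groth.Agent.Helper13.QCohLocal.isQuasicoherent_of_iso (e2 ≪≫ e1.symm)

/-- quasi-coherence of an arbitrary module descends along a flat, surjective, quasi-compact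
morphism -/
theorem isQuasicoherent_of_pullback [Flat f] [Surjective f] [QuasiCompact f] (M : Y.Modules)
    [hM : ((Scheme.Modules.pullback f).obj M).IsQuasicoherent] : M.IsQuasicoherent := by
  apply Groth.Agent.Helper13.QCohLocal.isQuasicoherent_of_restrict_fromSpec
  intro V
  obtain ⟨j, hj⟩ : ∃ j : Spec Γ(Y, V.1) ⟶ Y, j = V.2.fromSpec := ⟨_, rfl⟩
  haveI : IsOpenImmersion j := hj ▸ inferInstance
  suffices hsuff : (M.restrict j).IsQuasicoherent by
    subst hj
    exact hsuff
  obtain ⟨X', p, hp1, hp2, hp3⟩ :=
    Scheme.exists_hom_isAffine_of_isZariskiLocalAtSource (P := @Flat) (pullback f j)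
  haveI := hp1
  haveI : Flat p := hp2
  haveI := hp3
  obtain ⟨g, hg⟩ : ∃ g : X' ⟶ Spec Γ(Y, V.1), g = p ≫ pullback.snd f j := ⟨_, rfl⟩
  haveI : Flat g := hg ▸ inferInstance
  haveI : Surjective g := hg ▸ inferInstance
  haveI : IsAffineHom g := inferInstance
  have hw : g ≫ j = (p ≫ pullback.fst f j) ≫ f := by
    rw [hg, Category.assoc, Category.assoc, pullback.condition]
  let e : (Scheme.Modules.pullback g).obj ((Scheme.Modules.pullback j).obj M) ≅
      (Scheme.Modules.pullback (p ≫ pullback.fst f j)).obj ((Scheme.Modules.pullback f).obj M) :=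
    (Scheme.Modules.pullbackComp g j).app M ≪≫ (Scheme.Modules.pullbackCongr hw).app M ≪≫
      ((Scheme.Modules.pullbackComp (p ≫ pullback.fst f j) f).app M).symm
  haveI h1 : ((Scheme.Modules.pullback (p ≫ pullback.fst f j)).obj
      ((Scheme.Modules.pullback f).obj M)).IsQuasicoherent := inferInstance
  haveI h2 : ((Scheme.Modules.pullback g).obj
      ((Scheme.Modules.pullback j).obj M)).IsQuasicoherent :=
    Groth.Agent.Helper13.QCohLocal.isQuasicoherent_of_iso e.symm
  haveI h3 : ((Scheme.Modules.pullback j).obj M).IsQuasicoherent :=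
    isQuasicoherent_of_pullback_qcqs g _
  exact Groth.Agent.Helper13.QCohLocal.isQuasicoherent_of_iso
    ((Scheme.Modules.restrictFunctorIsoPullback j).app M).symm

end Groth.Agent.Helper9.QCohDesc
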