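import Groth.Agent.Lib.Helper9.PBasis

/-!
# p-bases II: the case `B^p ⊆ A ⊆ B`, and derivations
-/

set_option autoImplicit false
set_option linter.unusedSectionVars false
universe u v

namespace Groth.Agent.Helper9.PBasis

open EGA41

section

variable {p : ℕ} [hp : Fact p.Prime] {A B : Type u} [CommRing A] [CommRing B] [Algebra A B]
  {ι : Type u} {x : ι → B}

lemma pPower_le_bot (hpow : ∀ b : B, b ^ p ∈ Set.range (algebraMap A B)) :
    pPowerSubalgebra p A B ≤ ⊥ :=
  Algebra.adjoin_le (by rintro _ ⟨b, rfl⟩; exact Algebra.mem_bot.mpr (hpow b))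

/-- When `A → B` is injective with image containing `B^p`, `A ≃ A[B^p]`. -/
noncomputable def equivA (hinj : Function.Injective (algebraMap A B))
    (hpow : ∀ b : B, b ^ p ∈ Set.range (algebraMap A B)) : A ≃+* pPowerSubalgebra p A B :=
  RingEquiv.ofBijective (algebraMap A (pPowerSubalgebra p A B))
    ⟨fun a b h => hinj (by simpa using congrArg Subtype.val h), fun c => by
      obtain ⟨a, ha⟩ := Algebra.mem_bot.mp (pPower_le_bot hpow c.2)
      exact ⟨a, Subtype.ext ha⟩⟩

lemma coe_equivA (hinj : Function.Injective (algebraMap A B))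
    (hpow : ∀ b : B, b ^ p ∈ Set.range (algebraMap A B)) (a : A) :
    ((equivA hinj hpow a : pPowerSubalgebra p A B) : B) = algebraMap A B a := rfl

variable {E : Type v} [CommRing E]

/-- Structure theorem when `B^p ⊆ A ⊆ B`. -/
theorem existsUnique_lift' (hinj : Function.Injective (algebraMap A B))
    (hpow : ∀ b : B, b ^ p ∈ Set.range (algebraMap A B)) (hx : IsPBasis p A x)
    (g₀ : A →+* E) (z : ι → E) (hz : ∀ i a, algebraMap A B a = x i ^ p → z i ^ p = g₀ a) :
    ∃! φ : B →+* E, (∀ a, φ (algebraMap A B a) = g₀ a) ∧ ∀ i, φ (x i) = z i := by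
  let e := equivA (p := p) hinj hpow
  let g : pPowerSubalgebra p A B →+* E := g₀.comp e.symm.toRingHom
  have hg : ∀ a, g (e a) = g₀ a := fun a => by simp [g]
  have hz' : ∀ i, z i ^ p = g (xpow p A x i) := fun i => by
    obtain ⟨a, ha⟩ := e.surjective (xpow p A x i)
    rw [← ha, hg]
    exact hz i a (by rw [← coe_equivA hinj hpow, ha]; rfl)
  obtain ⟨φ, ⟨h1, h2⟩, huniq⟩ := existsUnique_lift hx g z hz'
  refine ⟨φ, ⟨fun a => ?_, h2⟩, fun ψ hψ => huniq ψ ⟨fun c => ?_, hψ.2⟩⟩
  · rw [← coe_equivA hinj hpow, h1, hg]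
  · obtain ⟨a, rfl⟩ := e.surjective c
    rw [hg]
    exact hψ.1 a

end

section Der

open TrivSqZeroExt

variable {p : ℕ} [hp : Fact p.Prime] {A B : Type u} [CommRing A] [CommRing B] [Algebra A B]
  {ι : Type u} {x : ι → B} {L : Type v} [AddCommGroup L] [Module B L]

/-- the opposite action (local). -/
@[reducible] def oppModule : Module Bᵐᵒᵖ L :=
  Module.compHom L ((RingHom.id B).fromOpposite fun _ _ => mul_comm _ _)

attribute [local instance] oppModule

local instance : IsCentralScalar B L := ⟨fun _ _ => rfl⟩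

/-- The ring homomorphism `b ↦ (b, D b)` attached to a derivation. -/
def secOfDer (D : Derivation ℤ B L) : B →+* TrivSqZeroExt B L where
  toFun b := inl b + inr (D b)
  map_one' := by simp
  map_mul' a b := by
    ext
    · simp
    · simp [add_comm]
  map_zero' := by simp
  map_add' a b := by
    ext
    · simp
    · simp

@[simp] lemma fst_secOfDer (D : Derivation ℤ B L) (b : B) : (secOfDer D b).fst = b := by
  simp [secOfDer]

@[simp] lemma snd_secOfDer (D : Derivation ℤ B L) (b : B) : (secOfDer D b).snd = D b := by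
  simp [secOfDer]

/-- The derivation attached to a ring-homomorphic section of `fst`. -/
def derOfSec (φ : B →+* TrivSqZeroExt B L) (hφ : ∀ b, (φ b).fst = b) : Derivation ℤ B L :=
  Derivation.mk' ((sndHom B L).restrictScalars ℤ ∘ₗ φ.toAddMonoidHom.toIntLinearMap)
    fun a b => by
      change (φ (a * b)).snd = a • (φ b).snd + b • (φ a).snd
      rw [map_mul, snd_mul, hφ, hφ, op_smul_eq_smul]

@[simp] lemma derOfSec_apply (φ : B →+* TrivSqZeroExt B L) (hφ : ∀ b, (φ b).fst = b) (b : B) :
    derOfSec φ hφ b = (φ b).snd := rfl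

lemma pow_p_eq [CharP B p] (b : B) (l : L) :
    (inl b + inr l : TrivSqZeroExt B L) ^ p = inl (b ^ p) := by
  ext
  · simp
  · rw [snd_pow]
    simp only [fst_add, fst_inl, fst_inr, add_zero, snd_add, snd_inl, snd_inr, zero_add]
    rw [← Nat.cast_smul_eq_nsmul B, CharP.cast_eq_zero, zero_smul]

/-- Two derivations of `B` agreeing on `A[B^p]` and on a `p`-basis are equal. -/
lemma der_ext (hx : IsPBasis p A x) {D D' : Derivation ℤ B L}
    (h1 : ∀ c : pPowerSubalgebra p A B, D (c : B) = D' (c : B)) (h2 : ∀ i, D (x i) = D' (x i)) :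
    D = D' := by
  have : secOfDer D = secOfDer D' := ringHom_ext hx
    (fun c => by simp [secOfDer, h1]) (fun i => by simp [secOfDer, h2])
  ext b
  have := congrArg (fun φ => (φ b).snd) this
  simpa using this

/-- Existence of a derivation with prescribed restriction to `A[B^p]` (given as a ring map
`c ↦ (c, d c)`) and prescribed values on the `p`-basis. -/
theorem exists_der [CharP B p] (hx : IsPBasis p A x) (g : pPowerSubalgebra p A B →+* TrivSqZeroExt B L)
    (hg : ∀ c, (g c).fst = c) (hgp : ∀ i, g (xpow p A x i) = inl (x i ^ p)) (y : ι → L) :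
    ∃ D : Derivation ℤ B L, (∀ c : pPowerSubalgebra p A B, D (c : B) = (g c).snd) ∧
      ∀ i, D (x i) = y i := by
  obtain ⟨φ, ⟨h1, h2⟩, -⟩ := existsUnique_lift hx g (fun i => inl (x i) + inr (y i))
    (fun i => by rw [pow_p_eq, hgp])
  have hφ : ∀ b, (φ b).fst = b := by
    have : (fstHom B B L).toRingHom.comp φ = RingHom.id B := ringHom_ext hx
      (fun c => by simp [h1, hg]) (fun i => by simp [h2])
    intro b
    exact congrArg (fun ψ => ψ b) this
  exact ⟨derOfSec φ hφ, fun c => by simp [h1], fun i => by simp [h2]⟩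

end Der

end Groth.Agent.Helper9.PBasis
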