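import Groth.Agent.Lib.Helper9.PBasis3

/-!
# p-bases IV: generation, reindexing, finite character
-/

set_option autoImplicit false
set_option linter.unusedSectionVars false
universe u v

namespace Groth.Agent.Helper9.PBasis

open EGA41

section

variable {p : ℕ} [hp : Fact p.Prime] {A B : Type u} [CommRing A] [CommRing B] [Algebra A B]

/-- all monomials lie in the span of reduced monomials -/
lemma pMonomial_mem_span {ι : Type u} (x : ι → B) (f : ι →₀ ℕ) :
    pMonomial x f ∈ Submodule.span (pPowerSubalgebra p A B)
      (Set.range fun e : RIdx p ι => pMonomial x e.1) := by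
  rw [pMonomial_eq p (A := A) x f, ← smul_eq_mul, ← Subalgebra.smul_def]
  exact Submodule.smul_mem _ _ (Submodule.subset_span ⟨red p f, rfl⟩)

lemma mem_closure_iff_monomial {ι : Type u} (x : ι → B) {b : B}
    (hb : b ∈ Submonoid.closure (Set.range x)) : ∃ f : ι →₀ ℕ, b = pMonomial x f := by
  induction hb using Submonoid.closure_induction with
  | mem b hb =>
    obtain ⟨i, rfl⟩ := hb
    exact ⟨Finsupp.single i 1, by rw [pMonomial_single, pow_one]⟩
  | one => exact ⟨0, (pMonomial_zero x).symm⟩
  | mul a b _ _ ha hb =>
    obtain ⟨f, rfl⟩ := ha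
    obtain ⟨g, rfl⟩ := hb
    exact ⟨f + g, (pMonomial_add x f g).symm⟩

lemma pMonomial_mem_closure {ι : Type u} (x : ι → B) (f : ι →₀ ℕ) :
    pMonomial x f ∈ Submonoid.closure (Set.range x) :=
  Submonoid.prod_mem _ fun i _ => pow_mem (Submonoid.subset_closure (Set.mem_range_self i)) _

/-- `A'[x]` is the span of the reduced monomials. -/
theorem adjoin_eq_span {ι : Type u} (x : ι → B) :
    Subalgebra.toSubmodule (Algebra.adjoin (pPowerSubalgebra p A B) (Set.range x)) =
      Submodule.span (pPowerSubalgebra p A B) (Set.range fun e : RIdx p ι => pMonomial x e.1) := by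
  rw [Algebra.adjoin_eq_span]
  apply le_antisymm
  · rw [Submodule.span_le]
    intro b hb
    obtain ⟨f, rfl⟩ := mem_closure_iff_monomial x hb
    exact pMonomial_mem_span x f
  · apply Submodule.span_mono
    rintro _ ⟨e, rfl⟩
    exact pMonomial_mem_closure x e.1

theorem isPGenerating_iff_adjoin {ι : Type u} (x : ι → B) :
    IsPGenerating p A x ↔ Algebra.adjoin (pPowerSubalgebra p A B) (Set.range x) = ⊤ := by
  unfold IsPGenerating
  rw [← adjoin_eq_span, Algebra.toSubmodule_eq_top]

/-- An `A`-derivation in characteristic `p` kills `A[B^p]`. -/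
lemma der_coe_eq_zero [CharP B p] {M : Type v} [AddCommGroup M] [Module B M] [Module A M]
    [IsScalarTower A B M] (d : Derivation A B M) (c : pPowerSubalgebra p A B) : d (c : B) = 0 := by
  have : Set.EqOn d (0 : Derivation A B M) (Algebra.adjoin A (Set.range fun b : B => b ^ p)) :=
    Derivation.eqOn_adjoin (by
      rintro _ ⟨b, rfl⟩
      change d (b ^ p) = 0
      rw [Derivation.leibniz_pow, ← Nat.cast_smul_eq_nsmul B, CharP.cast_eq_zero, zero_smul])
  exact this c.2

/-- For `y ∈ A'[Y]`, `d y` lies in the span of `d '' Y`. -/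
lemma der_mem_span [CharP B p] {M : Type v} [AddCommGroup M] [Module B M] [Module A M]
    [IsScalarTower A B M] (d : Derivation A B M) (Y : Set B) {y : B}
    (hy : y ∈ Algebra.adjoin (pPowerSubalgebra p A B) Y) : d y ∈ Submodule.span B (d '' Y) := by
  induction hy using Algebra.adjoin_induction with
  | mem y hy => exact Submodule.subset_span ⟨y, hy, rfl⟩
  | algebraMap c =>
    change d (c : B) ∈ _
    rw [der_coe_eq_zero]
    exact zero_mem _
  | add a b _ _ ha hb => rw [map_add]; exact add_mem ha hb
  | mul a b _ _ ha hb =>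
    rw [Derivation.leibniz]
    exact add_mem (Submodule.smul_mem _ _ hb) (Submodule.smul_mem _ _ ha)

/-- Transport of reduced exponents along an injection. -/
noncomputable def pushIdx {ι κ : Type u} (f : ι → κ) (hf : Function.Injective f) (e : RIdx p ι) :
    RIdx p κ :=
  ⟨e.1.mapDomain f, fun j => by
    by_cases hj : j ∈ Set.range f
    · obtain ⟨i, rfl⟩ := hj
      rw [Finsupp.mapDomain_apply hf]
      exact e.2 i
    · rw [Finsupp.mapDomain_of_notMem_range _ _ hj]
      exact hp.out.pos⟩

lemma pushIdx_injective {ι κ : Type u} (f : ι → κ) (hf : Function.Injective f) :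
    Function.Injective (pushIdx (p := p) f hf) := fun e e' h =>
  Subtype.ext (Finsupp.mapDomain_injective hf (congrArg Subtype.val h))

lemma pMonomial_pushIdx {ι κ : Type u} (f : ι → κ) (hf : Function.Injective f) (y : κ → B)
    (e : RIdx p ι) : pMonomial y (pushIdx f hf e).1 = pMonomial (y ∘ f) e.1 := by
  unfold pMonomial pushIdx
  exact Finsupp.prod_mapDomain_index_inj hf

theorem isPIndependent_comp {ι κ : Type u} {y : κ → B} (hy : IsPIndependent p A y) (f : ι → κ)
    (hf : Function.Injective f) : IsPIndependent p A (y ∘ f) := by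
  unfold IsPIndependent at hy ⊢
  have := hy.comp (pushIdx f hf) (pushIdx_injective f hf)
  convert this using 1
  ext e
  exact (pMonomial_pushIdx f hf y e).symm

theorem isPIndependent_equiv {ι κ : Type u} (y : κ → B) (f : ι ≃ κ) :
    IsPIndependent p A (y ∘ f) ↔ IsPIndependent p A y := by
  refine ⟨fun h => ?_, fun h => isPIndependent_comp h f f.injective⟩
  have := isPIndependent_comp h f.symm f.symm.injective
  convert this using 1
  ext j
  simp

/-- Finite character of `p`-independence. -/
theorem isPIndependent_of_finset {ι : Type u} (x : ι → B)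
    (h : ∀ J : Finset ι, IsPIndependent p A (fun j : J => x j)) : IsPIndependent p A x := by
  classical
  unfold IsPIndependent
  rw [linearIndependent_iff_finset_linearIndependent]
  intro s
  let J : Finset ι := s.biUnion fun e => e.1.support
  have hsupp : ∀ e : s, (↑e.1.1.support : Set ι) ⊆ Set.range (Subtype.val : J → ι) := by
    intro e i hi
    rw [Subtype.range_coe]
    exact Finset.mem_biUnion.mpr ⟨e.1, e.2, hi⟩
  let r : s → RIdx p J := fun e =>
    ⟨e.1.1.comapDomain (Subtype.val : J → ι) Subtype.val_injective.injOn, fun j => by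
      rw [Finsupp.comapDomain_apply]; exact e.1.2 j⟩
  have hr : ∀ e : s, pushIdx (Subtype.val : J → ι) Subtype.val_injective (r e) = e.1 := fun e =>
    Subtype.ext (Finsupp.mapDomain_comapDomain _ Subtype.val_injective _ (hsupp e))
  have hrinj : Function.Injective r := fun e e' hee' => by
    apply Subtype.ext
    rw [← hr e, ← hr e', hee']
  have := (h J).comp r hrinj
  convert this using 1
  ext e
  simp only [Function.comp_apply]
  rw [← hr e, pMonomial_pushIdx]
  rfl

end

end Groth.Agent.Helper9.PBasis
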