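import Mathlib
import Groth.Prelude.Def_EGA41
import Groth.Agent.Lib.Helper9.PBasis4
import Groth.Agent.Lib.Helper9.PBasis2

/-!
# p-bases in towers `B^p ⊆ A → C ⊆ B` (EGA 0_IV 21.1.9)
-/

set_option autoImplicit false
set_option linter.unusedSectionVars false
universe u v

namespace Groth.Agent.Helper9.PBasis

open EGA41

section Transfer

/-- Transfer of linear independence between two rings acting compatibly on the same module. -/
lemma li_transfer {R R' M ι : Type*} [Ring R] [Ring R'] [AddCommGroup M] [Module R M]
    [Module R' M] {v : ι → M} (hv : LinearIndependent R v)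
    (h : ∀ r' : R', ∃ r : R, ∀ m : M, r • m = r' • m)
    (hf : ∀ r' : R', (∀ m : M, r' • m = 0) → r' = 0) : LinearIndependent R' v := by
  choose i hi using h
  have := hv.map_of_injective_injective i (AddMonoidHom.id M)
    (fun r hr => hf r (fun m => by rw [← hi, hr, zero_smul])) (fun m hm => hm) (fun r m => hi r m)
  simpa using this

/-- Converse of `linearIndependent_smul` when `b` spans. -/
lemma li_of_li_smul {R S M ι ι' : Type*} [Ring R] [Ring S] [AddCommGroup M] [Module R S]
    [Module S M] [Module R M] [IsScalarTower R S M] {b : ι → S} {c : ι' → M}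
    (hb : Submodule.span R (Set.range b) = ⊤)
    (h : LinearIndependent R fun q : ι × ι' => b q.1 • c q.2) : LinearIndependent S c := by
  have h' : LinearIndependent R fun q : ι' × ι => b q.2 • c q.1 :=
    (linearIndependent_equiv' (Equiv.prodComm ι' ι) (f := fun q : ι × ι' => b q.1 • c q.2)
      (g := fun q : ι' × ι => b q.2 • c q.1) rfl).mpr h
  rw [LinearIndependent, Finsupp.linearCombination_smul] at h'
  have hsurj : Function.Surjective (Finsupp.linearCombination R b) := by
    rw [← LinearMap.range_eq_top, Finsupp.range_linearCombination]; exact hb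
  rw [LinearIndependent, ← LinearMap.ker_eq_bot, LinearMap.ker_eq_bot']
  intro l hl
  obtain ⟨l', rfl⟩ := Finsupp.mapRange_surjective (α := ι') _ (map_zero _) hsurj l
  obtain ⟨l'', rfl⟩ := (Finsupp.curryLinearEquiv R (α := ι') (β := ι) (M := R)).surjective l'
  have h0 : l'' = 0 := by
    apply h'
    simp only [LinearMap.coe_comp, Function.comp_apply, map_zero]
    exact hl
  subst h0
  rw [map_zero, Finsupp.mapRange_zero]

end Transfer

section Tower

variable {p : ℕ} [hp : Fact p.Prime]

/-- Reduced exponents on a disjoint union. -/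
noncomputable def sumIdx (ι κ : Type u) : RIdx p (ι ⊕ κ) ≃ RIdx p ι × RIdx p κ where
  toFun g := (⟨(Finsupp.sumFinsuppEquivProdFinsupp g.1).1, fun i => g.2 (Sum.inl i)⟩,
    ⟨(Finsupp.sumFinsuppEquivProdFinsupp g.1).2, fun j => g.2 (Sum.inr j)⟩)
  invFun q := ⟨Finsupp.sumElim q.1.1 q.2.1, fun s => by
    rcases s with i | j
    · exact q.1.2 i
    · exact q.2.2 j⟩
  left_inv g := by
    apply Subtype.ext
    exact Finsupp.sumFinsuppEquivProdFinsupp.left_inv g.1
  right_inv q := by
    apply Prod.ext
    · apply Subtype.ext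
      exact congrArg Prod.fst (Finsupp.sumFinsuppEquivProdFinsupp.right_inv (q.1.1, q.2.1))
    · apply Subtype.ext
      exact congrArg Prod.snd (Finsupp.sumFinsuppEquivProdFinsupp.right_inv (q.1.1, q.2.1))

lemma pMonomial_sumIdx_symm {B : Type u} [CommRing B] {ι κ : Type u} (a : ι → B) (b : κ → B)
    (q : RIdx p ι × RIdx p κ) :
    pMonomial (Sum.elim a b) ((sumIdx ι κ).symm q).1 = pMonomial a q.1.1 * pMonomial b q.2.1 := by
  change (Finsupp.sumElim q.1.1 q.2.1).prod _ = _
  rw [Finsupp.prod_sumElim]
  rfl

variable {A C B : Type u} [CommRing A] [CommRing C] [CommRing B] [Algebra A C] [Algebra C B]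
  [Algebra A B] [IsScalarTower A C B]

/-- (i) p-generators in towers. -/
theorem isPGenerating_sum {ι κ : Type u} (x : ι → C) (y : κ → B)
    (hx : IsPGenerating p A x) (hy : IsPGenerating p C y) :
    IsPGenerating p A (Sum.elim (fun i => algebraMap C B (x i)) y) := by
  rw [isPGenerating_iff_adjoin] at hx hy ⊢
  set T := Algebra.adjoin (pPowerSubalgebra p A B)
    (Set.range (Sum.elim (fun i => algebraMap C B (x i)) y)) with hT
  have hTpow : ∀ b : B, b ^ p ∈ T := fun b =>
    T.algebraMap_mem ⟨b ^ p, Algebra.subset_adjoin ⟨b, rfl⟩⟩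
  have hTA : ∀ a : A, algebraMap A B a ∈ T := fun a =>
    T.algebraMap_mem ⟨algebraMap A B a, Subalgebra.algebraMap_mem _ a⟩
  have step1 : ∀ c : C, algebraMap C B c ∈ T := by
    intro c
    have hc : c ∈ Algebra.adjoin (pPowerSubalgebra p A C) (Set.range x) := by rw [hx]; trivial
    induction hc using Algebra.adjoin_induction with
    | mem c hc =>
      obtain ⟨i, rfl⟩ := hc
      exact Algebra.subset_adjoin ⟨Sum.inl i, rfl⟩
    | algebraMap s =>
      obtain ⟨s, hs⟩ := s
      change algebraMap C B s ∈ T
      unfold pPowerSubalgebra at hs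
      induction hs using Algebra.adjoin_induction with
      | mem c hc =>
        obtain ⟨c, rfl⟩ := hc
        change algebraMap C B (c ^ p) ∈ T
        rw [map_pow]
        exact hTpow _
      | algebraMap a =>
        rw [← IsScalarTower.algebraMap_apply]
        exact hTA a
      | add c c' _ _ h h' => rw [map_add]; exact T.add_mem h h'
      | mul c c' _ _ h h' => rw [map_mul]; exact T.mul_mem h h'
    | add c c' _ _ h h' => rw [map_add]; exact T.add_mem h h'
    | mul c c' _ _ h h' => rw [map_mul]; exact T.mul_mem h h'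
  rw [eq_top_iff]
  intro b hb0
  clear hb0
  have hb : b ∈ Algebra.adjoin (pPowerSubalgebra p C B) (Set.range y) := by rw [hy]; trivial
  induction hb using Algebra.adjoin_induction with
  | mem b hb =>
    obtain ⟨j, rfl⟩ := hb
    exact Algebra.subset_adjoin ⟨Sum.inr j, rfl⟩
  | algebraMap s =>
    obtain ⟨s, hs⟩ := s
    change s ∈ T
    unfold pPowerSubalgebra at hs
    induction hs using Algebra.adjoin_induction with
    | mem b hb =>
      obtain ⟨b, rfl⟩ := hb
      exact hTpow b
    | algebraMap c => exact step1 c
    | add c c' _ _ h h' => exact T.add_mem h h'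
    | mul c c' _ _ h h' => exact T.mul_mem h h'
  | add c c' _ _ h h' => exact T.add_mem h h'
  | mul c c' _ _ h h' => exact T.mul_mem h h'

/-- (ii) p-independence in towers. -/
theorem isPIndependent_sum_iff (hinj : Function.Injective (algebraMap C B))
    (hpow : ∀ b : B, b ^ p ∈ Set.range (algebraMap A B)) {ι κ : Type u} (x : ι → C) (y : κ → B)
    (hx : IsPBasis p A x) :
    IsPIndependent p C y ↔ IsPIndependent p A (Sum.elim (fun i => algebraMap C B (x i)) y) := by
  have hpowC : ∀ c : C, c ^ p ∈ Set.range (algebraMap A C) := by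
    intro c
    obtain ⟨a, ha⟩ := hpow (algebraMap C B c)
    exact ⟨a, hinj (by rw [← IsScalarTower.algebraMap_apply, ha, map_pow])⟩
  have hpowCB : ∀ b : B, b ^ p ∈ Set.range (algebraMap C B) := by
    intro b
    obtain ⟨a, ha⟩ := hpow b
    exact ⟨algebraMap A C a, by rw [← IsScalarTower.algebraMap_apply, ha]⟩
  have hAB := pPower_le_bot (p := p) hpow
  have hAC := pPower_le_bot (p := p) hpowC
  have hCB := pPower_le_bot (p := p) hpowCB
  set mx : RIdx p ι → C := fun e => pMonomial x e.1 with hmx
  set my : RIdx p κ → B := fun f => pMonomial y f.1 with hmy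
  have T1 : IsPIndependent p C y ↔ LinearIndependent C my := by
    constructor
    · intro h
      refine li_transfer h (fun c => ⟨⟨algebraMap C B c, Subalgebra.algebraMap_mem _ c⟩,
        fun m => ?_⟩) (fun c hc => ?_)
      · rw [Subalgebra.smul_def, smul_eq_mul, Algebra.smul_def]
      · apply hinj
        have := hc 1
        rwa [Algebra.smul_def, mul_one, ← map_zero (algebraMap C B)] at this
    · intro h
      refine li_transfer h (fun s => ?_) (fun s hs => ?_)
      · obtain ⟨c, hc⟩ := Algebra.mem_bot.mp (hCB s.2)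
        exact ⟨c, fun m => by rw [Subalgebra.smul_def, Algebra.smul_def, hc, smul_eq_mul]⟩
      · have := hs 1
        rw [Subalgebra.smul_def, smul_eq_mul, mul_one] at this
        exact Subtype.ext this
  have T2 : ∀ {I : Type u} (F : I → B), LinearIndependent (pPowerSubalgebra p A C) F ↔
      LinearIndependent (pPowerSubalgebra p A B) F := by
    intro I F
    constructor
    · intro h
      refine li_transfer h (fun s => ?_) (fun s hs => ?_)
      · obtain ⟨a, ha⟩ := Algebra.mem_bot.mp (hAB s.2)
        refine ⟨⟨algebraMap A C a, Subalgebra.algebraMap_mem _ a⟩, fun m => ?_⟩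
        rw [Subalgebra.smul_def, Subalgebra.smul_def, Algebra.smul_def,
          ← IsScalarTower.algebraMap_apply, ha, smul_eq_mul]
      · have := hs 1
        rw [Subalgebra.smul_def, smul_eq_mul, mul_one] at this
        exact Subtype.ext this
    · intro h
      refine li_transfer h (fun s => ?_) (fun s hs => ?_)
      · obtain ⟨a, ha⟩ := Algebra.mem_bot.mp (hAC s.2)
        refine ⟨⟨algebraMap A B a, Subalgebra.algebraMap_mem _ a⟩, fun m => ?_⟩
        rw [Subalgebra.smul_def, Subalgebra.smul_def, Algebra.smul_def (s : C), ← ha,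
          ← IsScalarTower.algebraMap_apply, smul_eq_mul]
      · have := hs 1
        rw [Subalgebra.smul_def, Algebra.smul_def, mul_one] at this
        exact Subtype.ext (hinj (by rw [this]; simp))
  have Mid : LinearIndependent C my ↔ LinearIndependent (pPowerSubalgebra p A C)
      (fun q : RIdx p ι × RIdx p κ => mx q.1 • my q.2) :=
    ⟨fun h => linearIndependent_smul hx.1 h, fun h => li_of_li_smul hx.2 h⟩
  rw [T1, Mid, T2]
  unfold IsPIndependent
  refine linearIndependent_equiv' (sumIdx ι κ).symm ?_
  funext q
  simp only [Function.comp_apply]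
  rw [pMonomial_sumIdx_symm, Algebra.smul_def]
  congr 1
  simp only [hmx]
  unfold pMonomial
  rw [map_finsuppProd]
  refine Finsupp.prod_congr fun i _ => ?_
  rw [map_pow]

end Tower

end Groth.Agent.Helper9.PBasis
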