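import Groth.Agent.Lib.Helper9.PBasisField3
import Groth.Agent.Lib.Helper9.PBasisTower

/-!
# p-bases of field extensions IV: existence, towers and differentials
-/

set_option autoImplicit false
set_option linter.unusedSectionVars false
universe u v

namespace Groth.Agent.Helper9.PBasis

open EGA41

/-- A linear map sending a basis to a linearly independent family is injective. -/
lemma injective_of_li_comp_basis {R M N ι : Type*} [Ring R] [AddCommGroup M] [AddCommGroup N]
    [Module R M] [Module R N] (b : Module.Basis ι R M) (f : M →ₗ[R] N)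
    (h : LinearIndependent R (f ∘ b)) : Function.Injective f := by
  rw [← LinearMap.ker_eq_bot, LinearMap.ker_eq_bot']
  intro v hv
  have h1 : Finsupp.linearCombination R (f ∘ b) (b.repr v) = 0 := by
    rw [← LinearMap.map_finsupp_linearCombination, b.linearCombination_repr, hv]
  have h2 := linearIndependent_iff.mp h _ h1
  exact b.repr.map_eq_zero_iff.mp h2

section

variable {p : ℕ} [hp : Fact p.Prime] {k K : Type u} [Field k] [Field K] [Algebra k K] [CharP K p]

variable (p k K) in
/-- Every field extension in characteristic `p` has a `p`-basis. -/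
theorem exists_pBasis : ∃ T : Set K, IsPBasis p k (Subtype.val : T → K) := by
  obtain ⟨T, -, hT⟩ := exists_pBasis_of_setIndep (p := p) (k := k) (K := K) (L := ∅)
    (isPIndependent_of_isEmpty _)
  exact ⟨T, hT⟩

end

/-- EGA 0_IV 21.4.? : for fields `L^p ⊆ K ⊆ L`, `L ⊗_K Ω_{K/L^p} → Ω_{L/L^p}` is injective. -/
theorem mapBaseChange_injective_of_pow_mem (p : ℕ) [Fact p.Prime] {R K L : Type u} [Field R]
    [Field K] [Field L] [Algebra R K] [Algebra K L] [Algebra R L] [IsScalarTower R K L] [CharP L p]
    (hpow : ∀ y : L, y ^ p ∈ Set.range (algebraMap R L)) :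
    Function.Injective (KaehlerDifferential.mapBaseChange R K L) := by
  haveI : CharP K p := RingHom.charP (algebraMap K L) (algebraMap K L).injective p
  obtain ⟨TK, hTK⟩ := exists_pBasis p R K
  obtain ⟨TL, hTL⟩ := exists_pBasis p K L
  have hz : IsPBasis p R (Sum.elim (fun t : TK => algebraMap K L (t : K)) (Subtype.val : TL → L)) :=
    ⟨(isPIndependent_sum_iff (algebraMap K L).injective hpow _ _ hTK).mp hTL.1,
      isPGenerating_sum _ _ hTK.2 hTL.2⟩
  obtain ⟨bK, hbK⟩ := exists_basis_kaehler hTK
  obtain ⟨bL, hbL⟩ := exists_basis_kaehler hz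
  apply injective_of_li_comp_basis (bK.baseChange L)
  have : (KaehlerDifferential.mapBaseChange R K L) ∘ (bK.baseChange L) = bL ∘ Sum.inl := by
    funext t
    simp only [Function.comp_apply, Module.Basis.baseChange_apply, hbK, hbL, Sum.elim_inl]
    rw [KaehlerDifferential.mapBaseChange_tmul, one_smul, KaehlerDifferential.map_D]
  rw [this]
  exact bL.linearIndependent.comp _ Sum.inl_injective

end Groth.Agent.Helper9.PBasis
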