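import Mathlib
import Groth.Prelude.Def_EGA41

/-!
# p-bases: the structure theorem (EGA 0_IV 21.1–21.2)

If `x` is a `p`-basis of `B` over `A`, then `B = A'[X_i]/(X_i^p - x_i^p)` with `A' = A[B^p]`:
ring homomorphisms out of `B` are freely determined by their restriction to `A'` and the images `z i`
of the `x i`, subject to `z i ^ p = g (x i ^ p)`.
-/

set_option autoImplicit false
set_option linter.unusedSectionVars false
universe u v

namespace Groth.Agent.Helper9.PBasis

open EGA41

section

variable (p : ℕ) [hp : Fact p.Prime] {A B : Type u} [CommRing A] [CommRing B] [Algebra A B]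
  {ι : Type u} (x : ι → B)

/-- Reduced exponent vectors. -/
abbrev RIdx (p : ℕ) (ι : Type u) := {e : ι →₀ ℕ // ∀ i, e i < p}

variable (A) in
/-- `x i ^ p` as an element of `A[B^p]`. -/
def xpow (i : ι) : pPowerSubalgebra p A B := ⟨x i ^ p, Algebra.subset_adjoin ⟨x i, rfl⟩⟩

@[simp] lemma coe_xpow (i : ι) : ((xpow p A x i : pPowerSubalgebra p A B) : B) = x i ^ p := rfl

variable (A) in
/-- The `A[B^p]`-coefficient of the monomial `x^f`. -/
noncomputable def quo (f : ι →₀ ℕ) : pPowerSubalgebra p A B := f.prod fun i n => xpow p A x i ^ (n / p)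

/-- The reduction mod `p` of an exponent vector. -/
noncomputable def red (f : ι →₀ ℕ) : RIdx p ι :=
  ⟨f.mapRange (· % p) (Nat.zero_mod p), fun i => by
    rw [Finsupp.mapRange_apply]; exact Nat.mod_lt _ hp.out.pos⟩

lemma coe_quo (f : ι →₀ ℕ) :
    ((quo p A x f : pPowerSubalgebra p A B) : B) = f.prod fun i n => (x i ^ p) ^ (n / p) := by
  unfold quo
  change (pPowerSubalgebra p A B).val (f.prod fun i n => xpow p A x i ^ (n / p)) = _
  rw [map_finsuppProd]
  rfl

lemma pMonomial_eq (f : ι →₀ ℕ) :
    pMonomial x f = (quo p A x f : B) * pMonomial x (red p f).1 := by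
  rw [coe_quo]
  unfold pMonomial red
  rw [Finsupp.prod_mapRange_index (fun i => pow_zero _), ← Finsupp.prod_mul]
  refine Finsupp.prod_congr fun i _ => ?_
  rw [← pow_mul, ← pow_add, Nat.div_add_mod]

lemma pMonomial_zero : pMonomial x (0 : ι →₀ ℕ) = 1 := Finsupp.prod_zero_index

lemma pMonomial_add (e f : ι →₀ ℕ) : pMonomial x (e + f) = pMonomial x e * pMonomial x f :=
  Finsupp.prod_add_index' (fun _ => pow_zero _) (fun _ _ _ => pow_add _ _ _)

lemma pMonomial_single (i : ι) (n : ℕ) : pMonomial x (Finsupp.single i n) = x i ^ n :=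
  Finsupp.prod_single_index (pow_zero _)

/-- `single i 1` as a reduced exponent. -/
noncomputable def sgl (i : ι) : RIdx p ι :=
  ⟨Finsupp.single i 1, fun j => by
    classical
    rw [Finsupp.single_apply]
    split_ifs
    · exact hp.out.one_lt
    · exact hp.out.pos⟩

/-- `0` as a reduced exponent. -/
def zer : RIdx p ι := ⟨0, fun _ => hp.out.pos⟩

variable {E : Type v} [CommRing E]

/-- Monomials in a family `z` of `E`. -/
noncomputable def zmon (z : ι → E) (f : ι →₀ ℕ) : E := f.prod fun i n => z i ^ n

lemma zmon_zero (z : ι → E) : zmon z (0 : ι →₀ ℕ) = 1 := Finsupp.prod_zero_index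

lemma zmon_add (z : ι → E) (e f : ι →₀ ℕ) : zmon z (e + f) = zmon z e * zmon z f :=
  Finsupp.prod_add_index' (fun _ => pow_zero _) (fun _ _ _ => pow_add _ _ _)

lemma zmon_single (z : ι → E) (i : ι) (n : ℕ) : zmon z (Finsupp.single i n) = z i ^ n :=
  Finsupp.prod_single_index (pow_zero _)

lemma zmon_eq (g : pPowerSubalgebra p A B →+* E) (z : ι → E)
    (hz : ∀ i, z i ^ p = g (xpow p A x i)) (f : ι →₀ ℕ) :
    zmon z f = g (quo p A x f) * zmon z (red p f).1 := by
  unfold quo zmon red
  rw [map_finsuppProd, Finsupp.prod_mapRange_index (fun i => pow_zero _), ← Finsupp.prod_mul]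
  refine Finsupp.prod_congr fun i _ => ?_
  rw [map_pow, ← hz, ← pow_mul, ← pow_add, Nat.div_add_mod]

variable {p x}

/-- The basis of reduced monomials. -/
noncomputable def bas (hx : IsPBasis p A x) : Module.Basis (RIdx p ι) (pPowerSubalgebra p A B) B :=
  Module.Basis.mk hx.1 hx.2.ge

lemma bas_apply (hx : IsPBasis p A x) (e : RIdx p ι) : bas hx e = pMonomial x e.1 := by
  unfold bas
  rw [Module.Basis.mk_apply]

lemma basis_induction (hx : IsPBasis p A x) (P : B → Prop) (h0 : P 0)
    (hadd : ∀ a b, P a → P b → P (a + b))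
    (hm : ∀ (c : pPowerSubalgebra p A B) (e : RIdx p ι), P (c • pMonomial x e.1)) (b : B) : P b := by
  rw [← (bas hx).linearCombination_repr b, Finsupp.linearCombination_apply, Finsupp.sum]
  refine Finset.sum_induction _ P hadd h0 fun e _ => ?_
  rw [bas_apply]
  exact hm _ e

/-- The additive map underlying the lift. -/
noncomputable def liftFun (hx : IsPBasis p A x) (g : pPowerSubalgebra p A B →+* E) (z : ι → E) :
    B →+ E where
  toFun b := ((bas hx).repr b).sum fun e c => g c * zmon z e.1
  map_zero' := by simp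
  map_add' a b := by
    rw [map_add, Finsupp.sum_add_index'] <;> simp [add_mul]

lemma liftFun_smul (hx : IsPBasis p A x) (g : pPowerSubalgebra p A B →+* E) (z : ι → E)
    (c : pPowerSubalgebra p A B) (e : RIdx p ι) :
    liftFun hx g z (c • pMonomial x e.1) = g c * zmon z e.1 := by
  change (((bas hx).repr (c • pMonomial x e.1)).sum fun e c => g c * zmon z e.1) = _
  rw [← bas_apply hx, map_smul, Module.Basis.repr_self, Finsupp.smul_single, smul_eq_mul, mul_one,
    Finsupp.sum_single_index (by simp)]

lemma liftFun_mul (hx : IsPBasis p A x) (g : pPowerSubalgebra p A B →+* E) (z : ι → E)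
    (hz : ∀ i, z i ^ p = g (xpow p A x i)) (a b : B) :
    liftFun hx g z (a * b) = liftFun hx g z a * liftFun hx g z b := by
  induction a using basis_induction hx with
  | h0 => simp
  | hadd a a' ha ha' => rw [add_mul, map_add, ha, ha', map_add, add_mul]
  | hm c e =>
    induction b using basis_induction hx with
    | h0 => simp
    | hadd b b' hb hb' => rw [mul_add, map_add, hb, hb', map_add, mul_add]
    | hm c' e' =>
      have h1 : (c • pMonomial x e.1) * (c' • pMonomial x e'.1) =
          (c * c' * quo p A x (e.1 + e'.1)) • pMonomial x (red p (e.1 + e'.1)).1 := by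
        rw [smul_mul_smul_comm, ← pMonomial_add, pMonomial_eq p (A := A) x (e.1 + e'.1)]
        simp only [Subalgebra.smul_def, smul_eq_mul, Subalgebra.coe_mul]
        ring
      rw [h1, liftFun_smul, liftFun_smul, liftFun_smul, map_mul, map_mul, mul_assoc (g c * g c'),
        ← zmon_eq p x g z hz, zmon_add]
      ring

lemma liftFun_one (hx : IsPBasis p A x) (g : pPowerSubalgebra p A B →+* E) (z : ι → E) :
    liftFun hx g z 1 = 1 := by
  have := liftFun_smul hx g z 1 (zer p)
  simpa [zer, pMonomial_zero, zmon_zero] using this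

/-- The lift as a ring homomorphism. -/
noncomputable def lift (hx : IsPBasis p A x) (g : pPowerSubalgebra p A B →+* E) (z : ι → E)
    (hz : ∀ i, z i ^ p = g (xpow p A x i)) : B →+* E :=
  { liftFun hx g z with
    map_one' := liftFun_one hx g z
    map_mul' := liftFun_mul hx g z hz }

lemma lift_coe (hx : IsPBasis p A x) (g : pPowerSubalgebra p A B →+* E) (z : ι → E)
    (hz : ∀ i, z i ^ p = g (xpow p A x i)) (c : pPowerSubalgebra p A B) :
    lift hx g z hz (c : B) = g c := by
  have := liftFun_smul hx g z c (zer p)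
  change liftFun hx g z (c : B) = g c
  simpa [zer, pMonomial_zero, zmon_zero, Subalgebra.smul_def] using this

lemma lift_x (hx : IsPBasis p A x) (g : pPowerSubalgebra p A B →+* E) (z : ι → E)
    (hz : ∀ i, z i ^ p = g (xpow p A x i)) (i : ι) :
    lift hx g z hz (x i) = z i := by
  have := liftFun_smul hx g z 1 (sgl p i)
  change liftFun hx g z (x i) = z i
  simpa [sgl, pMonomial_single, zmon_single] using this

/-- Two ring homomorphisms out of `B` agreeing on `A[B^p]` and on the `x i` are equal. -/
lemma ringHom_ext (hx : IsPBasis p A x) {φ ψ : B →+* E}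
    (h1 : ∀ c : pPowerSubalgebra p A B, φ (c : B) = ψ (c : B)) (h2 : ∀ i, φ (x i) = ψ (x i)) :
    φ = ψ := by
  ext b
  induction b using basis_induction hx with
  | h0 => simp
  | hadd a a' ha ha' => rw [map_add, map_add, ha, ha']
  | hm c e =>
    rw [Subalgebra.smul_def, smul_eq_mul, map_mul, map_mul, h1]
    congr 1
    unfold pMonomial
    rw [map_finsuppProd, map_finsuppProd]
    refine Finsupp.prod_congr fun i _ => ?_
    rw [map_pow, map_pow, h2]

/-- **Structure theorem for `p`-bases.** -/
theorem existsUnique_lift (hx : IsPBasis p A x) (g : pPowerSubalgebra p A B →+* E) (z : ι → E)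
    (hz : ∀ i, z i ^ p = g (xpow p A x i)) :
    ∃! φ : B →+* E, (∀ c : pPowerSubalgebra p A B, φ (c : B) = g c) ∧ ∀ i, φ (x i) = z i := by
  refine ⟨lift hx g z hz, ⟨lift_coe hx g z hz, lift_x hx g z hz⟩, fun ψ hψ => ?_⟩
  refine ringHom_ext hx (fun c => ?_) (fun i => ?_)
  · rw [hψ.1, lift_coe]
  · rw [hψ.2, lift_x]

end

end Groth.Agent.Helper9.PBasis
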