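import Mathlib
import Groth.Prelude.Def_EGA41
import Groth.Agent.Lib.Helper9.PBasis

/-!
# p-bases over a perfect base ring: formal smoothness with prescribed lifts (EGA 0_IV 21.2.7)
-/

set_option autoImplicit false
set_option linter.unusedSectionVars false
universe u v

namespace Groth.Agent.Helper9.PBasis

open EGA41

section Perfect

variable (p : ℕ) [hp : Fact p.Prime] {A B : Type u} [CommRing A] [CommRing B] [Algebra A B]
  {ι : Type u} (x : ι → B)

/-- `A` perfect, `B` of characteristic `p`: every element of `A[B^p]` is a `p`-th power. -/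
lemma exists_pow_eq_of_perfect [CharP A p] [PerfectRing A p] [CharP B p]
    (c : B) (hc : c ∈ pPowerSubalgebra p A B) : ∃ b : B, b ^ p = c := by
  unfold pPowerSubalgebra at hc
  induction hc using Algebra.adjoin_induction with
  | mem y hy => obtain ⟨b, rfl⟩ := hy; exact ⟨b, rfl⟩
  | algebraMap a =>
    obtain ⟨a', ha'⟩ := surjective_frobenius A p a
    exact ⟨algebraMap A B a', by rw [← map_pow, ← frobenius_def, ha']⟩
  | add y y' _ _ hy hy' =>
    obtain ⟨b, hb⟩ := hy
    obtain ⟨b', hb'⟩ := hy'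
    exact ⟨b + b', by rw [add_pow_char, hb, hb']⟩
  | mul y y' _ _ hy hy' =>
    obtain ⟨b, hb⟩ := hy
    obtain ⟨b', hb'⟩ := hy'
    exact ⟨b * b', by rw [mul_pow, hb, hb']⟩

variable (A B) in
/-- Frobenius as a ring isomorphism `B ≃+* A[B^p]` for `A` perfect, `B` reduced. -/
noncomputable def frobEquiv [CharP A p] [PerfectRing A p] [CharP B p] [IsReduced B] :
    B ≃+* pPowerSubalgebra p A B :=
  RingEquiv.ofBijective
    ((frobenius B p).codRestrict (pPowerSubalgebra p A B)
      (fun b => Algebra.subset_adjoin ⟨b, rfl⟩))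
    ⟨fun b b' h => frobenius_inj B p (congrArg Subtype.val h), fun c => by
      obtain ⟨b, hb⟩ := exists_pow_eq_of_perfect p (A := A) (c : B) c.2
      exact ⟨b, Subtype.ext hb⟩⟩

lemma coe_frobEquiv [CharP A p] [PerfectRing A p] [CharP B p] [IsReduced B] (b : B) :
    ((frobEquiv p A B b : pPowerSubalgebra p A B) : B) = b ^ p := rfl

lemma frobEquiv_symm_pow [CharP A p] [PerfectRing A p] [CharP B p] [IsReduced B]
    (c : pPowerSubalgebra p A B) : ((frobEquiv p A B).symm c) ^ p = (c : B) := by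
  rw [← coe_frobEquiv p (A := A), RingEquiv.apply_symm_apply]

variable {p x}

/-- The core case: lifting along an ideal all of whose elements have vanishing `p`-th power. -/
theorem existsUnique_algHom_of_pow_eq_zero [CharP A p] [PerfectRing A p] [CharP B p] [IsReduced B]
    (hx : IsPBasis p A x) {E : Type u} [CommRing E] [Algebra A E] (R : Ideal E)
    (hR : ∀ r ∈ R, r ^ p = 0) (v : B →ₐ[A] E ⧸ R) (z : ι → E)
    (hz : ∀ i, Ideal.Quotient.mk R (z i) = v (x i)) :
    ∃! w : B →ₐ[A] E, (Ideal.Quotient.mkₐ A R).comp w = v ∧ ∀ i, w (x i) = z i := by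
  rcases subsingleton_or_nontrivial E with hE | hE
  · refine ⟨⟨⟨⟨⟨fun _ => 0, Subsingleton.elim _ _⟩, fun _ _ => Subsingleton.elim _ _⟩, rfl,
      fun _ _ => Subsingleton.elim _ _⟩, fun _ => Subsingleton.elim _ _⟩, ⟨?_, ?_⟩, ?_⟩
    · ext b; exact Subsingleton.elim _ _
    · intro i; exact Subsingleton.elim _ _
    · intro w' _; ext b; exact Subsingleton.elim _ _
  have : CharP E p := by
    rw [CharP.charP_iff_prime_eq_zero hp.out]
    have : (p : E) = algebraMap A E (p : A) := (map_natCast (algebraMap A E) p).symm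
    rw [this, CharP.cast_eq_zero, map_zero]
  let frobLift : E ⧸ R →+* E := Ideal.Quotient.lift R (frobenius E p) (fun r hr => hR r hr)
  have hfrobLift : ∀ e : E, frobLift (Ideal.Quotient.mk R e) = e ^ p := fun e => rfl
  have hmkfrob : ∀ q : E ⧸ R, Ideal.Quotient.mk R (frobLift q) = q ^ p := by
    intro q
    obtain ⟨e, rfl⟩ := Ideal.Quotient.mk_surjective q
    rw [hfrobLift, map_pow]
  let ψ₀ : B →+* E := frobLift.comp v.toRingHom
  have hψ₀ : ∀ b, ψ₀ b = frobLift (v b) := fun b => rfl
  let g : pPowerSubalgebra p A B →+* E := ψ₀.comp (frobEquiv p A B).symm.toRingHom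
  have hg : ∀ c, g c = ψ₀ ((frobEquiv p A B).symm c) := fun c => rfl
  have hgpow : ∀ (b : B) (c : pPowerSubalgebra p A B), (c : B) = b ^ p → g c = frobLift (v b) := by
    intro b c hc
    rw [hg, hψ₀]
    congr 2
    apply (frobEquiv p A B).injective
    rw [RingEquiv.apply_symm_apply]
    exact Subtype.ext (by rw [coe_frobEquiv, hc])
  have hz' : ∀ i, z i ^ p = g (xpow p A x i) := by
    intro i
    rw [hgpow (x i) (xpow p A x i) rfl, ← hz i, hfrobLift]
  obtain ⟨φ, ⟨hφ1, hφ2⟩, huniq⟩ := existsUnique_lift hx g z hz'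
  -- any ring hom lifting `v` agrees with `g` on `A[B^p]`
  have key : ∀ w' : B →+* E, (∀ b, Ideal.Quotient.mk R (w' b) = v b) →
      ∀ c : pPowerSubalgebra p A B, w' (c : B) = g c := by
    intro w' hw' c
    have hc := frobEquiv_symm_pow p c
    rw [hgpow _ c hc.symm, ← hc, map_pow, ← hw', hfrobLift]
  have hcomm : ∀ a : A, φ (algebraMap A B a) = algebraMap A E a := by
    intro a
    obtain ⟨a', ha'⟩ := surjective_frobenius A p a
    have hmem : algebraMap A B a ∈ pPowerSubalgebra p A B := Subalgebra.algebraMap_mem _ a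
    have h1 := hφ1 ⟨algebraMap A B a, hmem⟩
    change φ (algebraMap A B a) = _ at h1
    rw [h1, hgpow (algebraMap A B a') ⟨algebraMap A B a, hmem⟩
      (by change algebraMap A B a = _; rw [← map_pow, ← frobenius_def, ha'])]
    rw [AlgHom.commutes]
    change frobLift (Ideal.Quotient.mk R (algebraMap A E a')) = _
    rw [hfrobLift, ← map_pow, ← frobenius_def, ha']
  let w : B →ₐ[A] E := { φ with commutes' := hcomm }
  have hwφ : ∀ b, w b = φ b := fun b => rfl
  have hmk : ∀ b, Ideal.Quotient.mk R (φ b) = v b := by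
    have : (Ideal.Quotient.mk R).comp φ = v.toRingHom := by
      apply ringHom_ext hx
      · intro c
        have hc := frobEquiv_symm_pow p c
        change Ideal.Quotient.mk R (φ c) = v c
        rw [hφ1, hgpow _ c hc.symm, hmkfrob, ← map_pow, hc]
      · intro i
        change Ideal.Quotient.mk R (φ (x i)) = v (x i)
        rw [hφ2, hz]
    intro b
    exact RingHom.congr_fun this b
  refine ⟨w, ⟨?_, fun i => hφ2 i⟩, ?_⟩
  · ext b
    exact hmk b
  · intro w₂ ⟨hw₂1, hw₂2⟩
    have h1 : ∀ b, Ideal.Quotient.mk R (w₂ b) = v b := fun b => AlgHom.congr_fun hw₂1 b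
    have : w₂.toRingHom = φ := huniq _ ⟨key w₂.toRingHom h1, hw₂2⟩
    ext b
    exact RingHom.congr_fun this b

/-- General nilpotent ideals, by induction on the order of nilpotency. -/
theorem existsUnique_algHom_of_isNilpotent [CharP A p] [PerfectRing A p] [CharP B p] [IsReduced B]
    (hx : IsPBasis p A x) {E : Type u} [CommRing E] [algE : Algebra A E] (R : Ideal E)
    (hR : IsNilpotent R) (v : B →ₐ[A] E ⧸ R) (z : ι → E)
    (hz : ∀ i, Ideal.Quotient.mk R (z i) = v (x i)) :
    ∃! w : B →ₐ[A] E, (Ideal.Quotient.mkₐ A R).comp w = v ∧ ∀ i, w (x i) = z i := by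
  revert v z
  revert algE
  apply Ideal.IsNilpotent.induction_on (S := E) R hR
  · intro S _ I hI _ v z hz
    refine existsUnique_algHom_of_pow_eq_zero hx I (fun r hr => ?_) v z hz
    have h2 : r ^ 2 = 0 := by
      have := Ideal.pow_mem_pow hr 2
      rw [hI] at this
      exact this
    exact pow_eq_zero_of_le hp.out.two_le h2
  · intro S _ I J hIJ h₁ h₂ _ v z hz
    let e : ((S ⧸ I) ⧸ J.map (Ideal.Quotient.mk I)) ≃ₐ[A] S ⧸ J :=
      { (DoubleQuot.quotQuotEquivQuotSup I J).trans
          (Ideal.quotEquivOfEq (sup_eq_right.mpr hIJ)) with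
        commutes' := fun x => rfl }
    have he : ∀ s : S, e (Ideal.Quotient.mk _ (Ideal.Quotient.mk I s)) = Ideal.Quotient.mk J s :=
      fun s => rfl
    have he' : ∀ s : S, e.symm (Ideal.Quotient.mk J s) =
        Ideal.Quotient.mk _ (Ideal.Quotient.mk I s) := by
      intro s
      rw [← he s, AlgEquiv.symm_apply_apply]
    let v' : B →ₐ[A] (S ⧸ I) ⧸ J.map (Ideal.Quotient.mk I) := e.symm.toAlgHom.comp v
    have hv' : ∀ b, v' b = e.symm (v b) := fun b => rfl
    obtain ⟨w', ⟨hw'1, hw'2⟩, hu'⟩ := h₂ v' (fun i => Ideal.Quotient.mk I (z i)) (fun i => by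
      rw [hv', ← hz i, he'])
    obtain ⟨w, ⟨hw1, hw2⟩, hu⟩ := h₁ w' z (fun i => (hw'2 i).symm)
    refine ⟨w, ⟨?_, hw2⟩, ?_⟩
    · ext b
      have h1 : Ideal.Quotient.mk I (w b) = w' b := AlgHom.congr_fun hw1 b
      have h2 : Ideal.Quotient.mk _ (w' b) = v' b := AlgHom.congr_fun hw'1 b
      change Ideal.Quotient.mk J (w b) = v b
      rw [← he, h1, h2, hv', AlgEquiv.apply_symm_apply]
    · intro w₂ ⟨hw₂1, hw₂2⟩
      have h1 : ∀ b, Ideal.Quotient.mk J (w₂ b) = v b := fun b => AlgHom.congr_fun hw₂1 b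
      have h3 : (Ideal.Quotient.mkₐ A I).comp w₂ = w' := by
        apply hu'
        refine ⟨?_, fun i => ?_⟩
        · ext b
          change Ideal.Quotient.mk _ (Ideal.Quotient.mk I (w₂ b)) = v' b
          rw [hv', ← h1, he']
        · change Ideal.Quotient.mk I (w₂ (x i)) = _
          rw [hw₂2]
      exact hu w₂ ⟨h3, hw₂2⟩

end Perfect

end Groth.Agent.Helper9.PBasis
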