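import Mathlib
import Groth.Prelude.Def_EGA41

set_option autoImplicit false
set_option linter.unusedSectionVars false
set_option linter.style.haveILetI false

open TensorProduct KaehlerDifferential

namespace Groth.Agent.Helper9.Imperf

/-- Additive maps out of `C ⊗_B Ω_{B/A}` are determined by their values on `c ⊗ db`. -/
lemma addHom_ext_tmul_D' {A B C G : Type*} [CommRing A] [CommRing B] [CommRing C] [Algebra A B]
    [Algebra B C] [AddCommGroup G] (f f' : C ⊗[B] Ω[B⁄A] →+ G)
    (h : ∀ (c : C) (b : B), f (c ⊗ₜ[B] D A B b) = f' (c ⊗ₜ[B] D A B b)) : f = f' := by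
  ext z
  induction z using TensorProduct.induction_on with
  | zero => simp
  | add x y hx hy => rw [map_add, map_add, hx, hy]
  | tmul c ω =>
    have hω : ω ∈ Submodule.span B (Set.range (KaehlerDifferential.D A B)) := by
      rw [KaehlerDifferential.span_range_derivation A B]; trivial
    induction hω using Submodule.span_induction generalizing c with
    | mem x hx =>
      obtain ⟨b, rfl⟩ := hx
      exact h c b
    | zero => simp
    | add x y _ _ hx hy => rw [TensorProduct.tmul_add, map_add, map_add, hx, hy]
    | smul b x _ hx => rw [← TensorProduct.smul_tmul, hx]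

section Basic

variable {a b K L : Type*} [CommRing a] [CommRing b] [CommRing K] [CommRing L] [Algebra a b]
  [Algebra a K] [Algebra b K] [IsScalarTower a b K] [Algebra K L] [Algebra a L] [Algebra b L]
  [IsScalarTower a K L] [IsScalarTower b K L]

lemma phi_tmul_D (l : L) (x : K) :
    (KaehlerDifferential.map a b K K).baseChange L (l ⊗ₜ[K] D a K x) = l ⊗ₜ[K] D b K x := by
  rw [LinearMap.baseChange_tmul, KaehlerDifferential.map_D]
  rfl

lemma map_mapBaseChange [IsScalarTower a b L] (z : L ⊗[K] Ω[K⁄a]) :
    KaehlerDifferential.map a b L L (mapBaseChange a K L z) =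
      mapBaseChange b K L ((KaehlerDifferential.map a b K K).baseChange L z) := by
  have h : ((KaehlerDifferential.map a b L L).toAddMonoidHom.comp
      (mapBaseChange a K L).toAddMonoidHom) =
      ((mapBaseChange b K L).toAddMonoidHom.comp
        ((KaehlerDifferential.map a b K K).baseChange L).toAddMonoidHom) := by
    apply addHom_ext_tmul_D'
    intro l x
    change KaehlerDifferential.map a b L L (mapBaseChange a K L (l ⊗ₜ[K] D a K x)) =
      mapBaseChange b K L ((KaehlerDifferential.map a b K K).baseChange L (l ⊗ₜ[K] D a K x))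
    rw [phi_tmul_D, mapBaseChange_tmul, mapBaseChange_tmul, KaehlerDifferential.map_D,
      KaehlerDifferential.map_D, map_smul, KaehlerDifferential.map_D]
    rfl
  exact DFunLike.congr_fun h z

lemma phi_comp {c : Type*} [CommRing c] [Algebra a c] [Algebra b c] [Algebra c K]
    [IsScalarTower a c K] [IsScalarTower b c K] [Algebra c L] [IsScalarTower c K L]
    (z : L ⊗[K] Ω[K⁄a]) :
    (KaehlerDifferential.map b c K K).baseChange L
      ((KaehlerDifferential.map a b K K).baseChange L z) =
      (KaehlerDifferential.map a c K K).baseChange L z := by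
  have h : (((KaehlerDifferential.map b c K K).baseChange L).toAddMonoidHom.comp
      ((KaehlerDifferential.map a b K K).baseChange L).toAddMonoidHom) =
      ((KaehlerDifferential.map a c K K).baseChange L).toAddMonoidHom := by
    apply addHom_ext_tmul_D'
    intro l x
    change (KaehlerDifferential.map b c K K).baseChange L
      ((KaehlerDifferential.map a b K K).baseChange L (l ⊗ₜ[K] D a K x)) =
      (KaehlerDifferential.map a c K K).baseChange L (l ⊗ₜ[K] D a K x)
    rw [phi_tmul_D, phi_tmul_D, phi_tmul_D]
  exact DFunLike.congr_fun h z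

/-- The kernel of `Ω_{K/a} → Ω_{K/b}` is spanned by the `d x`, `x ∈ b`. -/
lemma mem_span_of_map_eq_zero (ω : Ω[K⁄a]) (h : KaehlerDifferential.map a b K K ω = 0) :
    ω ∈ Submodule.span K (Set.range fun x : b => D a K (algebraMap b K x)) := by
  obtain ⟨y, rfl⟩ := (KaehlerDifferential.exact_mapBaseChange_map a b K ω).1 h
  clear h
  set S := Submodule.span K (Set.range fun x : b => D a K (algebraMap b K x)) with hS
  have key : ∀ η : Ω[b⁄a], KaehlerDifferential.map a a b K η ∈ S := by
    intro η
    have hη : η ∈ Submodule.span b (Set.range (KaehlerDifferential.D a b)) := by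
      rw [KaehlerDifferential.span_range_derivation a b]; trivial
    induction hη using Submodule.span_induction with
    | mem x hx =>
      obtain ⟨x, rfl⟩ := hx
      rw [KaehlerDifferential.map_D]
      exact Submodule.subset_span ⟨x, rfl⟩
    | zero => rw [map_zero]; exact S.zero_mem
    | add x y _ _ hx hy => rw [map_add]; exact S.add_mem hx hy
    | smul r x _ hx =>
      rw [map_smul, ← algebraMap_smul K r]
      exact S.smul_mem _ hx
  induction y using TensorProduct.induction_on with
  | zero => rw [map_zero]; exact S.zero_mem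
  | add x y hx hy => rw [map_add]; exact S.add_mem hx hy
  | tmul c η =>
    rw [mapBaseChange_tmul]
    exact S.smul_mem _ (key η)

/-- The kernel of `L ⊗ Ω_{K/a} → L ⊗ Ω_{K/b}` is spanned by the `1 ⊗ d x`, `x ∈ b`. -/
lemma mem_span_of_phi_eq_zero (z : L ⊗[K] Ω[K⁄a])
    (h : (KaehlerDifferential.map a b K K).baseChange L z = 0) :
    z ∈ Submodule.span L
      (Set.range fun x : b => (1 : L) ⊗ₜ[K] D a K (algebraMap b K x)) := by
  have hex := lTensor_exact L (KaehlerDifferential.exact_mapBaseChange_map a b K)
    (KaehlerDifferential.map_surjective a b K)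
  obtain ⟨y, rfl⟩ := (hex z).1 h
  clear h hex
  set S := Submodule.span L
    (Set.range fun x : b => (1 : L) ⊗ₜ[K] D a K (algebraMap b K x)) with hS
  have key : ∀ (η : Ω[b⁄a]) (l : L), l ⊗ₜ[K] KaehlerDifferential.map a a b K η ∈ S := by
    intro η
    have hη : η ∈ Submodule.span b (Set.range (KaehlerDifferential.D a b)) := by
      rw [KaehlerDifferential.span_range_derivation a b]; trivial
    induction hη using Submodule.span_induction with
    | mem x hx =>
      obtain ⟨x, rfl⟩ := hx
      intro l
      rw [KaehlerDifferential.map_D]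
      have : l ⊗ₜ[K] D a K (algebraMap b K x) = l • ((1 : L) ⊗ₜ[K] D a K (algebraMap b K x)) := by
        rw [TensorProduct.smul_tmul', smul_eq_mul, mul_one]
      rw [this]
      exact S.smul_mem _ (Submodule.subset_span ⟨x, rfl⟩)
    | zero => intro l; rw [map_zero, TensorProduct.tmul_zero]; exact S.zero_mem
    | add x y _ _ hx hy =>
      intro l
      rw [map_add, TensorProduct.tmul_add]
      exact S.add_mem (hx l) (hy l)
    | smul r x _ hx =>
      intro l
      rw [map_smul, ← algebraMap_smul K r, ← TensorProduct.smul_tmul]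
      exact hx _
  induction y using TensorProduct.induction_on with
  | zero => rw [map_zero]; exact S.zero_mem
  | add x y hx hy => rw [map_add]; exact S.add_mem hx hy
  | tmul l t =>
    rw [LinearMap.lTensor_tmul]
    induction t using TensorProduct.induction_on with
    | zero => rw [map_zero, TensorProduct.tmul_zero]; exact S.zero_mem
    | add x y hx hy => rw [map_add, TensorProduct.tmul_add]; exact S.add_mem hx hy
    | tmul c η =>
      rw [mapBaseChange_tmul, ← TensorProduct.smul_tmul]
      exact key η _

end Basic

section Tower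

universe u u' u'' w

variable {k : Type u} {k' : Type u'} {k'' : Type u''} {K L : Type w}
    [Field k] [Field k'] [Field k''] [Field K] [Field L]
    [Algebra k k'] [Algebra k k''] [Algebra k' k''] [IsScalarTower k k' k'']
    [Algebra k K] [Algebra k' K] [Algebra k'' K] [IsScalarTower k k' K] [IsScalarTower k' k'' K]
    [IsScalarTower k k'' K] [Algebra K L] [Algebra k L] [Algebra k' L] [Algebra k'' L]
    [IsScalarTower k K L] [IsScalarTower k' K L] [IsScalarTower k'' K L]

theorem exists_lift (w : L ⊗[K] Ω[K⁄k']) (hw : w ∈ EGA41.imperfection k' K L)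
    (hw0 : (KaehlerDifferential.map k' k'' K K).baseChange L w = 0) :
    ∃ z : L ⊗[K] Ω[K⁄k], z ∈ EGA41.imperfection k K L ∧
      (KaehlerDifferential.map k k'' K K).baseChange L z = 0 ∧
        (KaehlerDifferential.map k k' K K).baseChange L z = w := by
  haveI : IsScalarTower k k' L := IsScalarTower.of_algebraMap_eq (fun x => by
    rw [IsScalarTower.algebraMap_apply k K L, IsScalarTower.algebraMap_apply k k' K,
      ← IsScalarTower.algebraMap_apply k' K L])
  -- step 1
  have h1 := mem_span_of_phi_eq_zero (a := k') (b := k'') w hw0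
  set S : Submodule L (L ⊗[K] Ω[K⁄k]) := Submodule.span L
    (Set.range fun x : k'' => (1 : L) ⊗ₜ[K] D k K (algebraMap k'' K x)) with hS
  have hS_map : S.map ((KaehlerDifferential.map k k' K K).baseChange L) = Submodule.span L
      (Set.range fun x : k'' => (1 : L) ⊗ₜ[K] D k' K (algebraMap k'' K x)) := by
    rw [hS, Submodule.map_span, ← Set.range_comp]
    congr 2
    ext x
    exact phi_tmul_D _ _
  obtain ⟨z₀, hz₀S, hz₀w⟩ : ∃ z₀ ∈ S, (KaehlerDifferential.map k k' K K).baseChange L z₀ = w := by
    rw [← hS_map] at h1
    exact h1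
  have hz₀'' : (KaehlerDifferential.map k k'' K K).baseChange L z₀ = 0 := by
    have hle : S ≤ LinearMap.ker ((KaehlerDifferential.map k k'' K K).baseChange L) := by
      rw [hS, Submodule.span_le]
      rintro _ ⟨x, rfl⟩
      rw [SetLike.mem_coe, LinearMap.mem_ker, phi_tmul_D, Derivation.map_algebraMap,
        TensorProduct.tmul_zero]
    exact hle hz₀S
  -- step 2
  have h2 : KaehlerDifferential.map k k' L L (mapBaseChange k K L z₀) = 0 := by
    rw [map_mapBaseChange, hz₀w]
    exact hw
  have h3 := mem_span_of_map_eq_zero (a := k) (b := k') (K := L) _ h2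
  set S' : Submodule L (L ⊗[K] Ω[K⁄k]) := Submodule.span L
    (Set.range fun x : k' => (1 : L) ⊗ₜ[K] D k K (algebraMap k' K x)) with hS'
  have hS'_map : S'.map (mapBaseChange k K L) = Submodule.span L
      (Set.range fun x : k' => D k L (algebraMap k' L x)) := by
    rw [hS', Submodule.map_span, ← Set.range_comp]
    congr 2
    ext x
    change mapBaseChange k K L ((1 : L) ⊗ₜ[K] D k K (algebraMap k' K x)) = _
    rw [mapBaseChange_tmul, one_smul, KaehlerDifferential.map_D,
      ← IsScalarTower.algebraMap_apply]
  obtain ⟨s, hsS', hs⟩ : ∃ s ∈ S', mapBaseChange k K L s = mapBaseChange k K L z₀ := by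
    rw [← hS'_map] at h3
    exact h3
  have hs' : (KaehlerDifferential.map k k' K K).baseChange L s = 0 := by
    have hle : S' ≤ LinearMap.ker ((KaehlerDifferential.map k k' K K).baseChange L) := by
      rw [hS', Submodule.span_le]
      rintro _ ⟨x, rfl⟩
      rw [SetLike.mem_coe, LinearMap.mem_ker, phi_tmul_D, Derivation.map_algebraMap,
        TensorProduct.tmul_zero]
    exact hle hsS'
  have hs'' : (KaehlerDifferential.map k k'' K K).baseChange L s = 0 := by
    have hle : S' ≤ LinearMap.ker ((KaehlerDifferential.map k k'' K K).baseChange L) := by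
      rw [hS', Submodule.span_le]
      rintro _ ⟨x, rfl⟩
      rw [SetLike.mem_coe, LinearMap.mem_ker, phi_tmul_D,
        IsScalarTower.algebraMap_apply k' k'' K, Derivation.map_algebraMap,
        TensorProduct.tmul_zero]
    exact hle hsS'
  refine ⟨z₀ - s, ?_, ?_, ?_⟩
  · change mapBaseChange k K L (z₀ - s) = 0
    rw [map_sub, hs, sub_self]
  · rw [map_sub, hz₀'', hs'', sub_zero]
  · rw [map_sub, hz₀w, hs', sub_zero]

theorem rank_eq :
    Module.rank L ↥(EGA41.imperfection k K L ⊓
          LinearMap.ker ((KaehlerDifferential.map k k'' K K).baseChange L)) =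
      Module.rank L ↥(EGA41.imperfection k' K L ⊓
            LinearMap.ker ((KaehlerDifferential.map k' k'' K K).baseChange L)) +
        Module.rank L ↥(EGA41.imperfection k K L ⊓
            LinearMap.ker ((KaehlerDifferential.map k k' K K).baseChange L)) := by
  haveI : IsScalarTower k k' L := IsScalarTower.of_algebraMap_eq (fun x => by
    rw [IsScalarTower.algebraMap_apply k K L, IsScalarTower.algebraMap_apply k k' K,
      ← IsScalarTower.algebraMap_apply k' K L])
  set V := EGA41.imperfection k K L ⊓
    LinearMap.ker ((KaehlerDifferential.map k k'' K K).baseChange L) with hV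
  set W := EGA41.imperfection k' K L ⊓
    LinearMap.ker ((KaehlerDifferential.map k' k'' K K).baseChange L) with hW
  set U := EGA41.imperfection k K L ⊓
    LinearMap.ker ((KaehlerDifferential.map k k' K K).baseChange L) with hU
  have hf : ∀ z ∈ V, (KaehlerDifferential.map k k' K K).baseChange L z ∈ W := by
    intro z hz
    refine ⟨?_, ?_⟩
    · change mapBaseChange k' K L ((KaehlerDifferential.map k k' K K).baseChange L z) = 0
      rw [← map_mapBaseChange]
      have : mapBaseChange k K L z = 0 := hz.1
      rw [this, map_zero]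
    · rw [SetLike.mem_coe, LinearMap.mem_ker, phi_comp]
      exact hz.2
  let g : V →ₗ[L] W := ((KaehlerDifferential.map k k' K K).baseChange L).restrict hf
  have hsurj : Function.Surjective g := by
    rintro ⟨w, hw⟩
    obtain ⟨z, hz1, hz2, hz3⟩ := exists_lift (k := k) w hw.1 hw.2
    exact ⟨⟨z, ⟨hz1, hz2⟩⟩, Subtype.ext hz3⟩
  have hUV : U ≤ V := by
    intro z hz
    refine ⟨hz.1, ?_⟩
    rw [SetLike.mem_coe, LinearMap.mem_ker, ← phi_comp (b := k'), hz.2, map_zero]
  have hker : LinearMap.ker g = Submodule.comap V.subtype U := by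
    ext v
    rw [LinearMap.mem_ker, Submodule.mem_comap, Submodule.subtype_apply]
    constructor
    · intro h
      exact ⟨v.2.1, congrArg Subtype.val h⟩
    · intro h
      exact Subtype.ext h.2
  have h1 := @LinearMap.rank_eq_of_surjective L V W _ _ _ _ _ _ g hsurj
  rw [hker, (Submodule.comapSubtypeEquivOfLe hUV).rank_eq] at h1
  exact h1

end Tower

end Groth.Agent.Helper9.Imperf
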