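import Mathlib
import Groth.Prelude.Def_EGA41
import Groth.Agent.Lib.Helper9.Imperf

set_option autoImplicit false
set_option linter.unusedSectionVars false
set_option linter.style.haveILetI false

open TensorProduct KaehlerDifferential

namespace Groth.Agent.Helper9.Imperf

section Theta

variable {a K L M : Type*} [CommRing a] [CommRing K] [CommRing L] [CommRing M]
  [Algebra a K] [Algebra a L] [Algebra K L] [IsScalarTower a K L]
  [Algebra K M] [Algebra L M] [IsScalarTower K L M]

variable (a K L M) in
/-- The canonical map `M ⊗_K Ω_{K/a} → M ⊗_L Ω_{L/a}`, defined through `cancelBaseChange`. -/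
noncomputable def theta : M ⊗[K] Ω[K⁄a] →ₗ[M] M ⊗[L] Ω[L⁄a] :=
  ((mapBaseChange a K L).baseChange M) ∘ₗ
    (TensorProduct.AlgebraTensorModule.cancelBaseChange K L M M Ω[K⁄a]).symm.toLinearMap

lemma theta_apply (z : M ⊗[K] Ω[K⁄a]) :
    theta a K L M z = (mapBaseChange a K L).baseChange M
      ((TensorProduct.AlgebraTensorModule.cancelBaseChange K L M M Ω[K⁄a]).symm z) := rfl

lemma theta_cancel (y : M ⊗[L] (L ⊗[K] Ω[K⁄a])) :
    theta a K L M (TensorProduct.AlgebraTensorModule.cancelBaseChange K L M M Ω[K⁄a] y) =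
      (mapBaseChange a K L).baseChange M y := by
  rw [theta_apply, LinearEquiv.symm_apply_apply]

lemma theta_tmul_D (m : M) (x : K) :
    theta a K L M (m ⊗ₜ[K] D a K x) = m ⊗ₜ[L] D a L (algebraMap K L x) := by
  rw [theta_apply, TensorProduct.AlgebraTensorModule.cancelBaseChange_symm_tmul,
    LinearMap.baseChange_tmul, mapBaseChange_tmul, one_smul, KaehlerDifferential.map_D]

lemma mapBaseChange_theta [Algebra a M] [IsScalarTower a K M] [IsScalarTower a L M]
    (z : M ⊗[K] Ω[K⁄a]) :
    mapBaseChange a L M (theta a K L M z) = mapBaseChange a K M z := by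
  have h : ((mapBaseChange a L M).toAddMonoidHom.comp (theta a K L M).toAddMonoidHom) =
      (mapBaseChange a K M).toAddMonoidHom := by
    apply addHom_ext_tmul_D'
    intro m x
    change mapBaseChange a L M (theta a K L M (m ⊗ₜ[K] D a K x)) =
      mapBaseChange a K M (m ⊗ₜ[K] D a K x)
    rw [theta_tmul_D, mapBaseChange_tmul, mapBaseChange_tmul, KaehlerDifferential.map_D,
      KaehlerDifferential.map_D, ← IsScalarTower.algebraMap_apply]
  exact DFunLike.congr_fun h z

end Theta

section Theta2

variable {a b K L M : Type*} [CommRing a] [CommRing b] [CommRing K] [CommRing L] [CommRing M]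
  [Algebra a b] [Algebra a K] [Algebra b K] [IsScalarTower a b K]
  [Algebra a L] [Algebra b L] [IsScalarTower a b L]
  [Algebra K L] [IsScalarTower a K L] [IsScalarTower b K L]
  [Algebra K M] [Algebra L M] [IsScalarTower K L M]

lemma phi_theta (z : M ⊗[K] Ω[K⁄a]) :
    (KaehlerDifferential.map a b L L).baseChange M (theta a K L M z) =
      theta b K L M ((KaehlerDifferential.map a b K K).baseChange M z) := by
  have h : (((KaehlerDifferential.map a b L L).baseChange M).toAddMonoidHom.comp
      (theta a K L M).toAddMonoidHom) =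
      ((theta b K L M).toAddMonoidHom.comp
        ((KaehlerDifferential.map a b K K).baseChange M).toAddMonoidHom) := by
    apply addHom_ext_tmul_D'
    intro m x
    change (KaehlerDifferential.map a b L L).baseChange M (theta a K L M (m ⊗ₜ[K] D a K x)) =
      theta b K L M ((KaehlerDifferential.map a b K K).baseChange M (m ⊗ₜ[K] D a K x))
    rw [theta_tmul_D, LinearMap.baseChange_tmul, LinearMap.baseChange_tmul,
      KaehlerDifferential.map_D, KaehlerDifferential.map_D]
    exact (theta_tmul_D m x).symm
  exact DFunLike.congr_fun h z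

/-- Compatibility of `cancelBaseChange` with the maps `Ω_{K/a} → Ω_{K/b}`. -/
lemma cancel_phi (y : M ⊗[L] (L ⊗[K] Ω[K⁄a])) :
    TensorProduct.AlgebraTensorModule.cancelBaseChange K L M M Ω[K⁄b]
      (((KaehlerDifferential.map a b K K).baseChange L).baseChange M y) =
    (KaehlerDifferential.map a b K K).baseChange M
      (TensorProduct.AlgebraTensorModule.cancelBaseChange K L M M Ω[K⁄a] y) := by
  induction y using TensorProduct.induction_on with
  | zero => simp
  | add x y hx hy => rw [map_add, map_add, map_add, map_add, hx, hy]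
  | tmul m t =>
    induction t using TensorProduct.induction_on with
    | zero => simp
    | add x y hx hy =>
      rw [TensorProduct.tmul_add, map_add, map_add, map_add, map_add, hx, hy]
    | tmul l ω =>
      rw [LinearMap.baseChange_tmul, LinearMap.baseChange_tmul,
        TensorProduct.AlgebraTensorModule.cancelBaseChange_tmul,
        TensorProduct.AlgebraTensorModule.cancelBaseChange_tmul, LinearMap.baseChange_tmul]

end Theta2

section Tower2

universe u u' w

variable {k₀ : Type u} {k : Type u'} {K L M : Type w}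
    [Field k₀] [Field k] [Field K] [Field L] [Field M] [Algebra k₀ k]
    [Algebra k₀ K] [Algebra k K] [IsScalarTower k₀ k K] [Algebra k₀ L] [Algebra k L]
    [IsScalarTower k₀ k L]
    [Algebra K L] [Algebra K M] [Algebra L M] [IsScalarTower K L M]
    [Algebra k₀ M] [Algebra k M] [IsScalarTower k₀ K L] [IsScalarTower k K L]
    [IsScalarTower k₀ K M] [IsScalarTower k K M] [IsScalarTower k₀ L M] [IsScalarTower k L M]

/-- The pair of maps whose kernel is `Δ(L/K, k/k₀)`. -/
noncomputable def pairMap : L ⊗[K] Ω[K⁄k₀] →ₗ[L] Ω[L⁄k₀] × (L ⊗[K] Ω[K⁄k]) :=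
  (mapBaseChange k₀ K L).prod ((KaehlerDifferential.map k₀ k K K).baseChange L)

lemma ker_pairMap : LinearMap.ker (pairMap (k₀ := k₀) (k := k) (K := K) (L := L)) =
    EGA41.imperfection k₀ K L ⊓
      LinearMap.ker ((KaehlerDifferential.map k₀ k K K).baseChange L) := by
  unfold pairMap
  rw [LinearMap.ker_prod]
  rfl

lemma pairMap_baseChange_eq_zero_iff (y : M ⊗[L] (L ⊗[K] Ω[K⁄k₀])) :
    (pairMap (k₀ := k₀) (k := k) (K := K) (L := L)).baseChange M y = 0 ↔
      (mapBaseChange k₀ K L).baseChange M y = 0 ∧
        ((KaehlerDifferential.map k₀ k K K).baseChange L).baseChange M y = 0 := by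
  have key : TensorProduct.prodRight L M M Ω[L⁄k₀] (L ⊗[K] Ω[K⁄k])
      ((pairMap (k₀ := k₀) (k := k) (K := K) (L := L)).baseChange M y) =
      ((mapBaseChange k₀ K L).baseChange M y,
        ((KaehlerDifferential.map k₀ k K K).baseChange L).baseChange M y) := by
    induction y using TensorProduct.induction_on with
    | zero => simp only [map_zero]; rfl
    | add x y hx hy => rw [map_add, map_add, map_add, map_add, hx, hy]; rfl
    | tmul m t => rfl
  constructor
  · intro h
    rw [h, map_zero] at key
    exact ⟨(congrArg Prod.fst key).symm, (congrArg Prod.snd key).symm⟩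
  · rintro ⟨h1, h2⟩
    rw [h1, h2] at key
    exact (TensorProduct.prodRight L M M Ω[L⁄k₀] (L ⊗[K] Ω[K⁄k])).injective
      (key.trans (map_zero _).symm)

theorem rank_tower :
    Module.rank M ↥(EGA41.imperfection k₀ K M ⊓
          LinearMap.ker ((KaehlerDifferential.map k₀ k K K).baseChange M)) =
      Module.rank M ↥(EGA41.imperfection k₀ L M ⊓
            LinearMap.ker ((KaehlerDifferential.map k₀ k L L).baseChange M)) +
        Module.rank L ↥(EGA41.imperfection k₀ K L ⊓
            LinearMap.ker ((KaehlerDifferential.map k₀ k K K).baseChange L)) := by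
  set V := EGA41.imperfection k₀ K M ⊓
    LinearMap.ker ((KaehlerDifferential.map k₀ k K K).baseChange M) with hV
  set W := EGA41.imperfection k₀ L M ⊓
    LinearMap.ker ((KaehlerDifferential.map k₀ k L L).baseChange M) with hW
  have hf : ∀ z ∈ V, theta k₀ K L M z ∈ W := by
    intro z hz
    refine ⟨?_, ?_⟩
    · change mapBaseChange k₀ L M (theta k₀ K L M z) = 0
      rw [mapBaseChange_theta]
      exact hz.1
    · rw [SetLike.mem_coe, LinearMap.mem_ker, phi_theta]
      have : (KaehlerDifferential.map k₀ k K K).baseChange M z = 0 := hz.2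
      rw [this, map_zero]
  let g : V →ₗ[M] W := (theta k₀ K L M).restrict hf
  -- surjectivity
  have hsurj : Function.Surjective g := by
    rintro ⟨w, hw⟩
    have h1 := mem_span_of_phi_eq_zero (a := k₀) (b := k) (K := L) (L := M) w hw.2
    set S : Submodule M (M ⊗[K] Ω[K⁄k₀]) := Submodule.span M
      (Set.range fun x : k => (1 : M) ⊗ₜ[K] D k₀ K (algebraMap k K x)) with hS
    have hS_map : S.map (theta k₀ K L M) = Submodule.span M
        (Set.range fun x : k => (1 : M) ⊗ₜ[L] D k₀ L (algebraMap k L x)) := by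
      rw [hS, Submodule.map_span, ← Set.range_comp]
      congr 2
      ext x
      change theta k₀ K L M ((1 : M) ⊗ₜ[K] D k₀ K (algebraMap k K x)) = _
      rw [theta_tmul_D, ← IsScalarTower.algebraMap_apply]
    obtain ⟨z₀, hz₀S, hz₀w⟩ : ∃ z₀ ∈ S, theta k₀ K L M z₀ = w := by
      rw [← hS_map] at h1
      exact h1
    have hz₀φ : (KaehlerDifferential.map k₀ k K K).baseChange M z₀ = 0 := by
      have hle : S ≤ LinearMap.ker ((KaehlerDifferential.map k₀ k K K).baseChange M) := by
        rw [hS, Submodule.span_le]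
        rintro _ ⟨x, rfl⟩
        rw [SetLike.mem_coe, LinearMap.mem_ker, phi_tmul_D, Derivation.map_algebraMap,
          TensorProduct.tmul_zero]
      exact hle hz₀S
    have hz₀Υ : z₀ ∈ EGA41.imperfection k₀ K M := by
      change mapBaseChange k₀ K M z₀ = 0
      rw [← mapBaseChange_theta (L := L), hz₀w]
      exact hw.1
    exact ⟨⟨z₀, ⟨hz₀Υ, hz₀φ⟩⟩, Subtype.ext hz₀w⟩
  -- the kernel
  set N' : Submodule M (M ⊗[K] Ω[K⁄k₀]) := LinearMap.ker (theta k₀ K L M) ⊓
    LinearMap.ker ((KaehlerDifferential.map k₀ k K K).baseChange M) with hN'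
  have hN'V : N' ≤ V := by
    intro z hz
    refine ⟨?_, hz.2⟩
    change mapBaseChange k₀ K M z = 0
    rw [← mapBaseChange_theta (L := L)]
    have : theta k₀ K L M z = 0 := hz.1
    rw [this, map_zero]
  have hker : LinearMap.ker g = Submodule.comap V.subtype N' := by
    ext v
    rw [LinearMap.mem_ker, Submodule.mem_comap, Submodule.subtype_apply]
    constructor
    · intro h
      exact ⟨congrArg Subtype.val h, v.2.2⟩
    · intro h
      exact Subtype.ext h.1
  -- transport to the base change of `pairMap`
  let c := TensorProduct.AlgebraTensorModule.cancelBaseChange K L M M Ω[K⁄k₀]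
  have hcomap : N'.comap (c : M ⊗[L] (L ⊗[K] Ω[K⁄k₀]) →ₗ[M] M ⊗[K] Ω[K⁄k₀]) =
      LinearMap.ker ((pairMap (k₀ := k₀) (k := k) (K := K) (L := L)).baseChange M) := by
    ext y
    rw [Submodule.mem_comap, LinearMap.mem_ker, pairMap_baseChange_eq_zero_iff]
    change (theta k₀ K L M (c y) = 0 ∧ (KaehlerDifferential.map k₀ k K K).baseChange M (c y) = 0) ↔ _
    rw [theta_cancel, ← cancel_phi]
    constructor
    · rintro ⟨h1, h2⟩
      refine ⟨h1, ?_⟩
      exact (TensorProduct.AlgebraTensorModule.cancelBaseChange K L M M Ω[K⁄k]).injective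
        (h2.trans (map_zero _).symm)
    · rintro ⟨h1, h2⟩
      exact ⟨h1, by rw [h2, map_zero]⟩
  have hrankN' : Module.rank M N' = Module.rank L ↥(EGA41.imperfection k₀ K L ⊓
      LinearMap.ker ((KaehlerDifferential.map k₀ k K K).baseChange L)) := by
    rw [← (LinearEquiv.ofSubmodule' c N').rank_eq, hcomap, ← ker_pairMap (k := k)]
    set pm := pairMap (k₀ := k₀) (k := k) (K := K) (L := L) with hpm
    have h2 : Module.rank M (M ⊗[L] ↥(LinearMap.ker pm)) =
        Module.rank M ↥(LinearMap.ker (pm.baseChange M)) :=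
      (LinearMap.tensorKerEquiv M M pm).rank_eq
    have h3 : Module.rank M (M ⊗[L] ↥(LinearMap.ker pm)) =
        Module.rank L ↥(LinearMap.ker pm) := by
      haveI : Module.Free L ↥(LinearMap.ker pm) := Module.Free.of_divisionRing L ↥(LinearMap.ker pm)
      rw [Module.rank_baseChange, Cardinal.lift_id]
    rw [← h2, h3]
  have h1 := @LinearMap.rank_eq_of_surjective M V W _ _ _ _ _ _ g hsurj
  rw [hker, (Submodule.comapSubtypeEquivOfLe hN'V).rank_eq, hrankN'] at h1
  exact h1

end Tower2

end Groth.Agent.Helper9.Imperf
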