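import Mathlib
import Groth.Agent.Lib.Helper9.Imperf2
import Groth.Agent.Lib.Helper14.GeomRedSmooth

/-!
# Injectivity of `L ⊗_k Ω_{k/k₀} → Ω_{L/k₀}` for separable (geometrically reduced) field extensions

The argument is a filtered colimit argument over the finitely generated subextensions, carried out
through an auxiliary "germs at infinity" module.
-/

set_option autoImplicit false
set_option linter.unusedSectionVars false
set_option linter.style.haveILetI false

open TensorProduct KaehlerDifferential

namespace Groth.Agent.Helper9.SepInj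

section FS

variable (R : Type*) {S T : Type*} [CommRing R] [CommRing S] [CommRing T] [Algebra R S]
  [Algebra R T] [Algebra S T] [IsScalarTower R S T]

lemma mapBaseChange_injective_of_formallySmooth [Algebra.FormallySmooth S T] :
    Function.Injective (mapBaseChange R S T) := by
  rw [← LinearMap.ker_eq_bot, (Algebra.H1Cotangent.exact_δ_mapBaseChange R S T).linearMap_ker_eq,
    LinearMap.range_eq_bot]
  ext x
  have : x = 0 := Subsingleton.elim _ _
  simp [this]

end FS

section Main

variable (k₀ k L : Type*) [CommRing k₀] [Field k] [Field L] [Algebra k₀ k] [Algebra k₀ L]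
  [Algebra k L] [IsScalarTower k₀ k L]

/-- Finitely generated subextensions. -/
abbrev Idx := {F : IntermediateField k L // F.FG}

/-- The product of all `L ⊗_F Ω_{F/k₀}`. -/
abbrev Big := (F : Idx k L) → L ⊗[F.1] Ω[F.1⁄k₀]

/-- Families which vanish for all sufficiently large `F`. -/
def evZero : Submodule L (Big k₀ k L) where
  carrier := {q | ∃ F₀ : Idx k L, ∀ F : Idx k L, F₀.1 ≤ F.1 → q F = 0}
  zero_mem' := ⟨⟨⊥, IntermediateField.fg_bot⟩, fun _ _ => rfl⟩
  add_mem' := by
    rintro a b ⟨F₁, h₁⟩ ⟨F₂, h₂⟩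
    refine ⟨⟨F₁.1 ⊔ F₂.1, IntermediateField.fg_sup F₁.2 F₂.2⟩, fun F hF => ?_⟩
    rw [Pi.add_apply, h₁ F (le_sup_left.trans hF), h₂ F (le_sup_right.trans hF), add_zero]
  smul_mem' := by
    rintro c a ⟨F₁, h₁⟩
    exact ⟨F₁, fun F hF => by rw [Pi.smul_apply, h₁ F hF, smul_zero]⟩

variable {k₀ k L}

open scoped Classical in
/-- The family `F ↦ 1 ⊗ d_F x` (zero where `x ∉ F`). -/
noncomputable def comp (x : L) : Big k₀ k L := fun F =>
  if h : x ∈ F.1 then (1 : L) ⊗ₜ[F.1] D k₀ F.1 ⟨x, h⟩ else 0

lemma comp_of_mem (x : L) (F : Idx k L) (h : x ∈ F.1) :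
    comp (k₀ := k₀) x F = (1 : L) ⊗ₜ[F.1] D k₀ F.1 ⟨x, h⟩ := dif_pos h

/-- The auxiliary module of germs. -/
abbrev Q (k₀ k L : Type*) [CommRing k₀] [Field k] [Field L] [Algebra k₀ k] [Algebra k₀ L]
    [Algebra k L] [IsScalarTower k₀ k L] := Big k₀ k L ⧸ evZero k₀ k L

lemma mk_eq_of_eventually {a b : Big k₀ k L} (F₀ : Idx k L)
    (h : ∀ F : Idx k L, F₀.1 ≤ F.1 → a F = b F) :
    (Submodule.Quotient.mk a : Q k₀ k L) = Submodule.Quotient.mk b := by
  rw [Submodule.Quotient.eq]
  exact ⟨F₀, fun F hF => by rw [Pi.sub_apply, h F hF, sub_self]⟩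

open scoped Classical in
/-- The finitely generated subextension generated by two elements. -/
noncomputable def pairIdx (x y : L) : Idx k L :=
  ⟨IntermediateField.adjoin k (({x, y} : Finset L) : Set L), IntermediateField.fg_adjoin_finset _⟩

lemma left_mem_pairIdx (x y : L) : x ∈ (pairIdx (k := k) x y).1 :=
  IntermediateField.subset_adjoin k _ (by simp)

lemma right_mem_pairIdx (x y : L) : y ∈ (pairIdx (k := k) x y).1 :=
  IntermediateField.subset_adjoin k _ (by simp)

lemma mk_comp_add (x y : L) :
    (Submodule.Quotient.mk (comp (k₀ := k₀) (k := k) (x + y)) : Q k₀ k L) =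
      Submodule.Quotient.mk (comp x) + Submodule.Quotient.mk (comp y) := by
  rw [← Submodule.Quotient.mk_add]
  refine mk_eq_of_eventually (pairIdx x y) fun F hF => ?_
  have hx : x ∈ F.1 := hF (left_mem_pairIdx x y)
  have hy : y ∈ F.1 := hF (right_mem_pairIdx x y)
  rw [Pi.add_apply, comp_of_mem x F hx, comp_of_mem y F hy, comp_of_mem (x + y) F (add_mem hx hy),
    ← TensorProduct.tmul_add, ← map_add]
  rfl

lemma mk_comp_mul (x y : L) :
    (Submodule.Quotient.mk (comp (k₀ := k₀) (k := k) (x * y)) : Q k₀ k L) =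
      x • Submodule.Quotient.mk (comp y) + y • Submodule.Quotient.mk (comp x) := by
  rw [← Submodule.Quotient.mk_smul, ← Submodule.Quotient.mk_smul, ← Submodule.Quotient.mk_add]
  refine mk_eq_of_eventually (pairIdx x y) fun F hF => ?_
  have hx : x ∈ F.1 := hF (left_mem_pairIdx x y)
  have hy : y ∈ F.1 := hF (right_mem_pairIdx x y)
  rw [Pi.add_apply, Pi.smul_apply, Pi.smul_apply, comp_of_mem x F hx, comp_of_mem y F hy,
    comp_of_mem (x * y) F (mul_mem hx hy)]
  have h1 : (⟨x * y, mul_mem hx hy⟩ : F.1) = ⟨x, hx⟩ * ⟨y, hy⟩ := rfl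
  rw [h1, Derivation.leibniz, TensorProduct.tmul_add, TensorProduct.tmul_smul,
    TensorProduct.tmul_smul]
  congr 1

lemma mk_comp_algebraMap (r : k₀) :
    (Submodule.Quotient.mk (comp (k₀ := k₀) (k := k) (algebraMap k₀ L r)) : Q k₀ k L) = 0 := by
  rw [← Submodule.Quotient.mk_zero]
  refine mk_eq_of_eventually ⟨⊥, IntermediateField.fg_bot⟩ fun F _ => ?_
  have hr : algebraMap k₀ L r ∈ F.1 := by
    rw [IsScalarTower.algebraMap_apply k₀ k L]
    exact F.1.algebraMap_mem _
  rw [comp_of_mem _ F hr]
  have h1 : (⟨algebraMap k₀ L r, hr⟩ : F.1) = algebraMap k₀ F.1 r := rfl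
  rw [h1, Derivation.map_algebraMap, TensorProduct.tmul_zero]
  rfl

variable (k₀ k L) in
/-- The derivation `L → Q`. -/
noncomputable def der : Derivation k₀ L (Q k₀ k L) :=
  Derivation.mk'
    { toFun := fun x => Submodule.Quotient.mk (comp x)
      map_add' := mk_comp_add
      map_smul' := fun r x => by
        rw [Algebra.smul_def, mk_comp_mul, mk_comp_algebraMap, smul_zero, add_zero,
          RingHom.id_apply, algebraMap_smul] }
    (fun x y => mk_comp_mul x y)

lemma der_apply (x : L) : der k₀ k L x = Submodule.Quotient.mk (comp x) := rfl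

variable (k₀ k L) in
/-- The family of canonical maps `L ⊗_k Ω_{k/k₀} → L ⊗_F Ω_{F/k₀}`. -/
noncomputable def jMap : L ⊗[k] Ω[k⁄k₀] →ₗ[L] Big k₀ k L :=
  LinearMap.pi fun F => Imperf.theta k₀ k F.1 L

lemma lift_mapBaseChange (w : L ⊗[k] Ω[k⁄k₀]) :
    (der k₀ k L).liftKaehlerDifferential (mapBaseChange k₀ k L w) =
      Submodule.Quotient.mk (jMap k₀ k L w) := by
  have h : (((der k₀ k L).liftKaehlerDifferential).toAddMonoidHom.comp
      (mapBaseChange k₀ k L).toAddMonoidHom) =
      ((evZero k₀ k L).mkQ.toAddMonoidHom.comp (jMap k₀ k L).toAddMonoidHom) := by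
    apply Imperf.addHom_ext_tmul_D'
    intro l a
    change (der k₀ k L).liftKaehlerDifferential (mapBaseChange k₀ k L (l ⊗ₜ[k] D k₀ k a)) =
      Submodule.Quotient.mk (jMap k₀ k L (l ⊗ₜ[k] D k₀ k a))
    rw [mapBaseChange_tmul, map_smul, KaehlerDifferential.map_D,
      Derivation.liftKaehlerDifferential_comp_D, der_apply, ← Submodule.Quotient.mk_smul]
    congr 1
    funext F
    rw [Pi.smul_apply, comp_of_mem _ F (F.1.algebraMap_mem a)]
    change _ = Imperf.theta k₀ k F.1 L (l ⊗ₜ[k] D k₀ k a)
    rw [Imperf.theta_tmul_D, TensorProduct.smul_tmul', smul_eq_mul, mul_one]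
    rfl
  exact DFunLike.congr_fun h w

lemma theta_injective (F : IntermediateField k L) [Algebra.FormallySmooth k F] :
    Function.Injective (Imperf.theta k₀ k F L) := by
  unfold Imperf.theta
  rw [LinearMap.coe_comp, LinearEquiv.coe_coe]
  exact (Module.Flat.lTensor_preserves_injective_linearMap (M := L) _
    (mapBaseChange_injective_of_formallySmooth k₀ (S := k) (T := F))).comp
      (LinearEquiv.injective _)

/-- If every finitely generated subextension of `L/k` is formally smooth over `k`, then
`L ⊗_k Ω_{k/k₀} → Ω_{L/k₀}` is injective. -/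
theorem mapBaseChange_injective_of_forall_fg
    (h : ∀ F : IntermediateField k L, F.FG → Algebra.FormallySmooth k F) :
    Function.Injective (mapBaseChange k₀ k L) := by
  rw [injective_iff_map_eq_zero]
  intro w hw
  have h1 : (Submodule.Quotient.mk (jMap k₀ k L w) : Q k₀ k L) = 0 := by
    rw [← lift_mapBaseChange, hw, map_zero]
  rw [Submodule.Quotient.mk_eq_zero] at h1
  obtain ⟨F₀, hF₀⟩ := h1
  have h2 : Imperf.theta k₀ k F₀.1 L w = 0 := hF₀ F₀ le_rfl
  haveI := h F₀.1 F₀.2
  exact theta_injective F₀.1 (h2.trans (map_zero _).symm)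

/-- For a geometrically reduced (= separable) field extension `L/k`, the canonical map
`L ⊗_k Ω_{k/k₀} → Ω_{L/k₀}` is injective. -/
theorem mapBaseChange_injective_of_isGeometricallyReduced [Algebra.IsGeometricallyReduced k L] :
    Function.Injective (mapBaseChange k₀ k L) := by
  apply mapBaseChange_injective_of_forall_fg
  intro F hF
  haveI : Algebra.EssFiniteType k F := IntermediateField.essFiniteType_iff.mpr hF
  haveI : Algebra.IsGeometricallyReduced k F :=
    Algebra.IsGeometricallyReduced.of_injective F.val Subtype.val_injective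
  exact Groth.Agent.Helper14.formallySmooth_of_isGeometricallyReduced_of_essFiniteType k F

/-- Over a perfect field `k`, the canonical map `L ⊗_k Ω_{k/k₀} → Ω_{L/k₀}` is injective. -/
theorem mapBaseChange_injective_of_perfectField [PerfectField k] :
    Function.Injective (mapBaseChange k₀ k L) := by
  apply mapBaseChange_injective_of_forall_fg
  intro F hF
  haveI : Algebra.EssFiniteType k F := IntermediateField.essFiniteType_iff.mpr hF
  infer_instance

end Main

end Groth.Agent.Helper9.SepInj
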