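import Mathlib
import Groth.Agent.Lib.Helper9.SepInj
import Groth.Agent.Lib.Helper9.PBasisField4
import Groth.Agent.Lib.Helper14.GeomRedTFAE
import Groth.Agent.Lib.Helper14.PerfectSmooth

/-!
# Formally smooth field extensions are separable (geometrically reduced)

EGA 0_IV 19.6.1 / 20.6.3 / 22.x: for a field extension `K/k`, formal smoothness, geometric
reducedness, and injectivity of `K ⊗_k Ω_{k/ℤ} → Ω_{K/ℤ}` are equivalent.
-/

set_option autoImplicit false
set_option linter.unusedSectionVars false
set_option linter.style.haveILetI false

universe u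

open TensorProduct KaehlerDifferential Polynomial

namespace Groth.Agent.Helper9.SepFS

section T1

variable (p : ℕ) [hp : Fact p.Prime] {k : Type u} [Field k] [CharP k p]

/-- `a ∉ k^p ⇒ d a ≠ 0` in `Ω[k/k^p]`. -/
lemma D_ne_zero_of_forall_pow_ne (a : k) (ha : ∀ e : k, e ^ p ≠ a) :
    KaehlerDifferential.D (frobenius k p).fieldRange k a ≠ 0 := by
  have hx : EGA41.IsPIndependent p (frobenius k p).fieldRange (fun _ : PUnit.{u+1} => a) := by
    rw [PBasis.isPIndependent_iff_notMem]
    intro i hmem
    have hle : IntermediateField.adjoin (frobenius k p).fieldRange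
        ((Set.range fun y : k => y ^ p) ∪ (fun _ : PUnit.{u+1} => a) '' {b | b ≠ i}) ≤ ⊥ := by
      rw [IntermediateField.adjoin_le_iff]
      rintro y (⟨z, rfl⟩ | ⟨j, hj, -⟩)
      · rw [SetLike.mem_coe, IntermediateField.mem_bot]
        exact ⟨⟨z ^ p, ⟨z, rfl⟩⟩, rfl⟩
      · exact absurd (Subsingleton.elim j i) hj
    have h2 := hle hmem
    rw [IntermediateField.mem_bot] at h2
    obtain ⟨⟨r, e, he⟩, hr⟩ := h2
    apply ha e
    rw [← hr]
    exact he
  exact (PBasis.linearIndependent_D_of_isPIndependent hx).ne_zero PUnit.unit

/-- If `K` is a nonzero formally smooth `k`-algebra, an element of `k` which is not a `p`-th power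
in `k` is not a `p`-th power in `K`. -/
theorem pow_ne_of_formallySmooth {K : Type u} [CommRing K] [Nontrivial K] [Algebra k K]
    [Algebra.FormallySmooth k K] (a : k) (ha : ∀ e : k, e ^ p ≠ a) (c : K) :
    c ^ p ≠ algebraMap k K a := by
  intro hc
  letI : Algebra (frobenius k p).fieldRange K :=
    Algebra.ofModule (fun r x y => smul_mul_assoc r x y) (fun r x y => mul_smul_comm r x y)
  haveI : CharP K p := charP_of_injective_algebraMap (algebraMap k K).injective p
  have hD := D_ne_zero_of_forall_pow_ne p a ha
  have hinj := SepInj.mapBaseChange_injective_of_formallySmooth (frobenius k p).fieldRange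
    (S := k) (T := K)
  have h1 : mapBaseChange (frobenius k p).fieldRange k K
      (1 ⊗ₜ D (frobenius k p).fieldRange k a) = 0 := by
    rw [mapBaseChange_tmul, one_smul, KaehlerDifferential.map_D, ← hc, Derivation.leibniz_pow,
      ← Nat.cast_smul_eq_nsmul K, CharP.cast_eq_zero, zero_smul]
  have h2 : (1 : K) ⊗ₜ[k] D (frobenius k p).fieldRange k a = 0 :=
    hinj (h1.trans (map_zero _).symm)
  have h3 := Module.FaithfullyFlat.tensorProduct_mk_injective (A := k) (B := K)
    (Ω[k⁄(frobenius k p).fieldRange])
  apply hD
  apply h3
  rw [map_zero]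
  exact h2

end T1

section T2

variable (p : ℕ) [hp : Fact p.Prime]

/-- `k(b) ⊗_k K` is a field when `b^p = a ∈ k` and `a` is not a `p`-th power in `K`. -/
theorem isField_tensor_adjoin_simple {k k' K : Type u} [Field k] [Field k'] [Field K]
    [Algebra k k'] [Algebra k K] (b : k') (a : k) (hb : b ^ p = algebraMap k k' a)
    (ha : ∀ c : K, c ^ p ≠ algebraMap k K a) :
    IsField ((IntermediateField.adjoin k {b} : IntermediateField k k') ⊗[k] K) := by
  have hbint : IsIntegral k b := by
    refine ⟨X ^ p - C a, monic_X_pow_sub_C a hp.out.ne_zero, ?_⟩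
    rw [eval₂_sub, eval₂_pow, eval₂_X, eval₂_C, hb, sub_self]
  let f : K[X] := X ^ p - C (algebraMap k K a)
  haveI : Fact (Irreducible f) := ⟨X_pow_sub_C_irreducible_of_prime hp.out ha⟩
  let β : IntermediateField.adjoin k {b} := IntermediateField.AdjoinSimple.gen k b
  have hβ : β ^ p = algebraMap k _ a := by
    apply Subtype.ext
    rw [SubmonoidClass.coe_pow]
    exact hb
  have hroot : f.eval₂ (Algebra.TensorProduct.includeRight (R := k)
      (A := (IntermediateField.adjoin k {b} : IntermediateField k k')) (B := K)).toRingHom
      (β ⊗ₜ[k] (1 : K)) = 0 := by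
    simp only [f, eval₂_sub, eval₂_pow, eval₂_X, eval₂_C]
    rw [Algebra.TensorProduct.tmul_pow, one_pow, hβ]
    change _ - (1 : IntermediateField.adjoin k {b}) ⊗ₜ[k] (algebraMap k K a) = 0
    rw [Algebra.algebraMap_eq_smul_one, Algebra.algebraMap_eq_smul_one, TensorProduct.smul_tmul,
      sub_self]
  let φ : AdjoinRoot f →+* (IntermediateField.adjoin k {b} : IntermediateField k k') ⊗[k] K :=
    AdjoinRoot.lift _ _ hroot
  have hφof : ∀ c : K, φ (AdjoinRoot.of f c) = 1 ⊗ₜ c := fun c => by
    simp only [φ, AdjoinRoot.lift_of]
    rfl
  have hφroot : φ (AdjoinRoot.root f) = β ⊗ₜ 1 := by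
    simp only [φ, AdjoinRoot.lift_root]
  have hnt : Nontrivial ((IntermediateField.adjoin k {b} : IntermediateField k k') ⊗[k] K) :=
    (Algebra.TensorProduct.includeRight_injective (R := k)
      (A := (IntermediateField.adjoin k {b} : IntermediateField k k')) (B := K)
      (algebraMap k _).injective).nontrivial
  have hinj : Function.Injective φ := φ.injective
  have h1 : ∀ c : K, (1 : IntermediateField.adjoin k {b}) ⊗ₜ[k] c ∈ φ.range :=
    fun c => ⟨_, hφof c⟩
  have h2 : ∀ x : IntermediateField.adjoin k {b}, x ⊗ₜ[k] (1 : K) ∈ φ.range := by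
    intro x
    have hx : x ∈ Algebra.adjoin k {β} := by
      have := (IntermediateField.adjoin.powerBasis hbint).adjoin_gen_eq_top
      rw [IntermediateField.adjoin.powerBasis_gen] at this
      rw [this]
      trivial
    induction hx using Algebra.adjoin_induction with
    | mem y hy =>
      rw [Set.mem_singleton_iff] at hy
      subst hy
      exact ⟨_, hφroot⟩
    | algebraMap r =>
      have : (algebraMap k (IntermediateField.adjoin k {b}) r) ⊗ₜ[k] (1 : K) =
          (1 : IntermediateField.adjoin k {b}) ⊗ₜ[k] (algebraMap k K r) := by
        rw [Algebra.algebraMap_eq_smul_one, Algebra.algebraMap_eq_smul_one,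
          TensorProduct.smul_tmul]
      rw [this]
      exact h1 _
    | add y z _ _ hy hz =>
      rw [TensorProduct.add_tmul]
      exact φ.range.add_mem hy hz
    | mul y z _ _ hy hz =>
      have : (y * z) ⊗ₜ[k] (1 : K) = (y ⊗ₜ[k] (1 : K)) * (z ⊗ₜ[k] (1 : K)) := by
        rw [Algebra.TensorProduct.tmul_mul_tmul, mul_one]
      rw [this]
      exact φ.range.mul_mem hy hz
  have hsurj : Function.Surjective φ := by
    intro z
    have : z ∈ φ.range := by
      induction z using TensorProduct.induction_on with
      | zero => exact φ.range.zero_mem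
      | tmul x c =>
        have : x ⊗ₜ[k] c = (x ⊗ₜ[k] (1 : K)) * ((1 : IntermediateField.adjoin k {b}) ⊗ₜ[k] c) := by
          rw [Algebra.TensorProduct.tmul_mul_tmul, mul_one, one_mul]
        rw [this]
        exact φ.range.mul_mem (h2 x) (h1 c)
      | add y z hy hz => exact φ.range.add_mem hy hz
    exact this
  exact (RingEquiv.ofBijective φ ⟨hinj, hsurj⟩).symm.toMulEquiv.isField (Field.toIsField _)

end T2

section T3

variable (p : ℕ) [hp : Fact p.Prime]

/-- Version of `isField_tensor_adjoin_simple` where `K` is a commutative ring which is a field. -/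
theorem isField_tensor_adjoin_simple' {k k' K : Type u} [Field k] [Field k'] [CommRing K]
    (hK : IsField K) [Algebra k k'] [Algebra k K] (b : k') (a : k)
    (hb : b ^ p = algebraMap k k' a) (ha : ∀ c : K, c ^ p ≠ algebraMap k K a) :
    IsField ((IntermediateField.adjoin k {b} : IntermediateField k k') ⊗[k] K) :=
  @isField_tensor_adjoin_simple p _ k k' K _ _ hK.toField _ ‹Algebra k K› b a hb ha

theorem isField_tensor_of_formallySmooth (n : ℕ) :
    ∀ (k k' K : Type u) [Field k] [Field k'] [CommRing K] [Algebra k k'] [Algebra k K] [CharP k p]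
      [Algebra.FormallySmooth k K] [IsPurelyInseparable k k'] [Module.Finite k k'],
      IsField K → Module.finrank k k' ≤ n → IsField (k' ⊗[k] K) := by
  induction n with
  | zero =>
    intro k k' K _ _ _ _ _ _ _ _ _ hK hn
    exact absurd (Module.finrank_pos (R := k) (M := k')) (by omega)
  | succ n ih =>
    intro k k' K _ _ _ _ _ _ _ _ _ hK hn
    by_cases hsurj : Function.Surjective (algebraMap k k')
    · let e : k ≃ₐ[k] k' :=
        AlgEquiv.ofBijective (Algebra.ofId k k') ⟨(algebraMap k k').injective, hsurj⟩
      let E : k' ⊗[k] K ≃ₐ[k] K :=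
        (Algebra.TensorProduct.congr e.symm AlgEquiv.refl).trans (Algebra.TensorProduct.lid k K)
      exact E.toMulEquiv.isField hK
    · rw [Function.Surjective] at hsurj
      push_neg at hsurj
      obtain ⟨x, hx⟩ := hsurj
      haveI : ExpChar k p := ExpChar.prime hp.out
      classical
      have hex : ∃ m, x ^ p ^ m ∈ (algebraMap k k').range := IsPurelyInseparable.pow_mem k p x
      have hm0 : Nat.find hex ≠ 0 := by
        intro h0
        have := Nat.find_spec hex
        rw [h0, pow_zero, pow_one] at this
        obtain ⟨a, ha⟩ := this
        exact hx a ha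
      obtain ⟨m₁, hm₁⟩ := Nat.exists_eq_succ_of_ne_zero hm0
      have hbnot : x ^ p ^ m₁ ∉ (algebraMap k k').range := Nat.find_min hex (by omega)
      have hbp : (x ^ p ^ m₁) ^ p ∈ (algebraMap k k').range := by
        have := Nat.find_spec hex
        rw [hm₁, pow_succ, pow_mul] at this
        exact this
      generalize x ^ p ^ m₁ = b at hbnot hbp
      obtain ⟨a, ha⟩ := hbp
      haveI : CharP k' p := charP_of_injective_algebraMap (algebraMap k k').injective p
      have hane : ∀ e : k, e ^ p ≠ a := by
        intro e he
        apply hbnot
        refine ⟨e, ?_⟩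
        apply frobenius_inj k' p
        rw [frobenius_def, frobenius_def, ← map_pow, he, ha]
      have hne : ∀ c : K, c ^ p ≠ algebraMap k K a := by
        haveI := hK.nontrivial
        exact pow_ne_of_formallySmooth p a hane
      have h1 : IsField ((IntermediateField.adjoin k {b} : IntermediateField k k') ⊗[k] K) :=
        isField_tensor_adjoin_simple' p hK b a ha.symm hne
      haveI : CharP (IntermediateField.adjoin k {b} : IntermediateField k k') p :=
        charP_of_injective_algebraMap
          (algebraMap k (IntermediateField.adjoin k {b} : IntermediateField k k')).injective p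
      haveI : IsPurelyInseparable (IntermediateField.adjoin k {b} : IntermediateField k k') k' :=
        IsPurelyInseparable.tower_top k _ k'
      have hrank : Module.finrank (IntermediateField.adjoin k {b} : IntermediateField k k') k'
          ≤ n := by
        have hmul := Module.finrank_mul_finrank k
          (IntermediateField.adjoin k {b} : IntermediateField k k') k'
        have hF1 : Module.finrank k (IntermediateField.adjoin k {b} : IntermediateField k k')
            ≠ 1 := by
          intro h
          rw [IntermediateField.finrank_eq_one_iff] at h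
          apply hbnot
          have hmem : b ∈ (IntermediateField.adjoin k {b} : IntermediateField k k') :=
            IntermediateField.mem_adjoin_simple_self k b
          rw [h, IntermediateField.mem_bot] at hmem
          exact hmem
        have hFpos : 0 < Module.finrank k
            (IntermediateField.adjoin k {b} : IntermediateField k k') := Module.finrank_pos
        have hF'pos : 0 < Module.finrank
            (IntermediateField.adjoin k {b} : IntermediateField k k') k' := Module.finrank_pos
        have h2 : 2 * Module.finrank (IntermediateField.adjoin k {b} : IntermediateField k k') k'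
            ≤ Module.finrank k (IntermediateField.adjoin k {b} : IntermediateField k k') *
              Module.finrank (IntermediateField.adjoin k {b} : IntermediateField k k') k' :=
          Nat.mul_le_mul_right _ (by omega)
        omega
      have h2 := ih (IntermediateField.adjoin k {b} : IntermediateField k k') k'
        ((IntermediateField.adjoin k {b} : IntermediateField k k') ⊗[k] K) h1 hrank
      exact (Algebra.TensorProduct.cancelBaseChange k
        (IntermediateField.adjoin k {b} : IntermediateField k k')
        (IntermediateField.adjoin k {b} : IntermediateField k k') k' K).symm.toMulEquiv.isField h2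

/-- EGA 0_IV 19.6.1, characteristic `p`: a formally smooth field extension is separable. -/
theorem isGeometricallyReduced_of_formallySmooth_of_charP {k K : Type u} [Field k] [Field K]
    [Algebra k K] [CharP k p] [Algebra.FormallySmooth k K] :
    Algebra.IsGeometricallyReduced k K := by
  apply Groth.Agent.Helper14.isGeometricallyReduced_of_forall_finite_purelyInseparable
  intro k' _ _ _ _
  have h := isField_tensor_of_formallySmooth p (Module.finrank k k') k k' K
    (Field.toIsField K) le_rfl
  haveI := h.isDomain
  infer_instance

end T3

section CharZero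

/-- In characteristic zero every field extension is geometrically reduced. -/
theorem isGeometricallyReduced_of_perfectField {k K : Type u} [Field k] [Field K] [Algebra k K]
    [PerfectField k] : Algebra.IsGeometricallyReduced k K := by
  rw [Algebra.isGeometricallyReduced_field_iff]
  exact Groth.Agent.Helper14.isReduced_tensor_of_perfectField

end CharZero

section T5

variable (p : ℕ) [hp : Fact p.Prime]

/-- `Ω[K/ℤ] → Ω[K/𝔽_p]` is injective. -/
lemma map_int_zmod_injective {K : Type u} [CommRing K] [Algebra (ZMod p) K] :
    Function.Injective (KaehlerDifferential.map ℤ (ZMod p) K K) := by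
  rw [injective_iff_map_eq_zero]
  intro ω hω
  have h := Imperf.mem_span_of_map_eq_zero (a := ℤ) (b := ZMod p) ω hω
  have hz : Submodule.span K (Set.range fun x : ZMod p => D ℤ K (algebraMap (ZMod p) K x)) ≤ ⊥ := by
    rw [Submodule.span_le]
    rintro _ ⟨x, rfl⟩
    obtain ⟨n, rfl⟩ := ZMod.intCast_surjective x
    show D ℤ K (algebraMap (ZMod p) K (n : ZMod p)) ∈ _
    rw [map_intCast, ← eq_intCast (algebraMap ℤ K) n, Derivation.map_algebraMap]
    exact Submodule.zero_mem _
  exact (Submodule.mem_bot K).mp (hz h)

theorem formallySmooth_of_injective_of_charP {k K : Type u} [Field k] [Field K] [Algebra k K]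
    [CharP k p] (h : Function.Injective (mapBaseChange ℤ k K)) : Algebra.FormallySmooth k K := by
  haveI : CharP K p := charP_of_injective_algebraMap (algebraMap k K).injective p
  letI := ZMod.algebra k p
  letI := ZMod.algebra K p
  haveI : IsScalarTower (ZMod p) k K := IsScalarTower.of_algebraMap_eq' (Subsingleton.elim _ _)
  haveI : Algebra.FormallySmooth (ZMod p) K :=
    Groth.Agent.Helper14.PerfectSmooth.formallySmooth_zmod p K
  have hs : Function.Surjective ((KaehlerDifferential.map ℤ (ZMod p) k k).baseChange K) := by
    rw [LinearMap.baseChange_eq_ltensor]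
    exact LinearMap.lTensor_surjective _ (KaehlerDifferential.map_surjective ℤ (ZMod p) k)
  have h' : Function.Injective (mapBaseChange (ZMod p) k K) := by
    rw [injective_iff_map_eq_zero]
    intro w hw
    obtain ⟨w', rfl⟩ := hs w
    have h3 := Imperf.map_mapBaseChange (a := ℤ) (b := ZMod p) (K := k) (L := K) w'
    rw [hw] at h3
    have h4 : mapBaseChange ℤ k K w' = 0 := map_int_zmod_injective p (h3.trans (map_zero _).symm)
    rw [h (h4.trans (map_zero _).symm), map_zero]
  have hδinj : Function.Injective (Algebra.H1Cotangent.δ (ZMod p) k K) := by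
    rw [injective_iff_map_eq_zero]
    intro x hx
    obtain ⟨y, rfl⟩ := (Algebra.H1Cotangent.exact_map_δ (ZMod p) k K x).1 hx
    rw [Subsingleton.elim y 0, map_zero]
  have hδ0 : ∀ x, Algebra.H1Cotangent.δ (ZMod p) k K x = 0 := fun x =>
    h' (by
      rw [map_zero]
      exact (Algebra.H1Cotangent.exact_δ_mapBaseChange (ZMod p) k K _).2 ⟨x, rfl⟩)
  have hsub : Subsingleton (Algebra.H1Cotangent k K) :=
    ⟨fun x y => hδinj (by rw [hδ0, hδ0])⟩
  exact ⟨inferInstance, hsub⟩

end T5

section Main

variable {k K : Type u} [Field k] [Field K] [Algebra k K]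

/-- `Υ_{K/k/ℤ} = 0` implies `K/k` formally smooth. -/
theorem formallySmooth_of_injective (h : Function.Injective (mapBaseChange ℤ k K)) :
    Algebra.FormallySmooth k K := by
  obtain ⟨p, hp⟩ := CharP.exists k
  rcases CharP.char_is_prime_or_zero k p with hpp | rfl
  · haveI := Fact.mk hpp
    exact formallySmooth_of_injective_of_charP p h
  · haveI := CharP.charP_to_charZero k
    exact Groth.Agent.Helper14.PerfectSmooth.formallySmooth_of_charZero k K

/-- EGA 0_IV 19.6.1: a formally smooth field extension is separable. -/
theorem isGeometricallyReduced_of_formallySmooth [Algebra.FormallySmooth k K] :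
    Algebra.IsGeometricallyReduced k K := by
  obtain ⟨p, hp⟩ := CharP.exists k
  rcases CharP.char_is_prime_or_zero k p with hpp | rfl
  · haveI := Fact.mk hpp
    exact isGeometricallyReduced_of_formallySmooth_of_charP p
  · haveI := CharP.charP_to_charZero k
    exact isGeometricallyReduced_of_perfectField

theorem isGeometricallyReduced_of_injective (h : Function.Injective (mapBaseChange ℤ k K)) :
    Algebra.IsGeometricallyReduced k K := by
  haveI := formallySmooth_of_injective h
  exact isGeometricallyReduced_of_formallySmooth

theorem isGeometricallyReduced_iff_injective :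
    Algebra.IsGeometricallyReduced k K ↔ Function.Injective (mapBaseChange ℤ k K) :=
  ⟨fun _ => SepInj.mapBaseChange_injective_of_isGeometricallyReduced (k₀ := ℤ) (k := k) (L := K),
    isGeometricallyReduced_of_injective⟩

theorem formallySmooth_iff_isGeometricallyReduced :
    Algebra.FormallySmooth k K ↔ Algebra.IsGeometricallyReduced k K :=
  ⟨fun _ => isGeometricallyReduced_of_formallySmooth,
    fun _ => formallySmooth_of_injective
      (SepInj.mapBaseChange_injective_of_isGeometricallyReduced (k₀ := ℤ) (k := k) (L := K))⟩

end Main

end Groth.Agent.Helper9.SepFS
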