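import Mathlib
import Groth.Prelude.Def_EGA41

/-!
# Lifting continuous homomorphisms into complete rings (EGA 0_IV 19.3.10)
-/

set_option autoImplicit false
set_option linter.unusedSectionVars false
set_option linter.style.haveILetI false

universe u

namespace Groth.Agent.Helper9.AdicLift

section FP

variable {A B C : Type*} [CommRing A] [CommRing B] [CommRing C] [Algebra A B] [Algebra A C]

lemma quot_inf_ext (I₁ I₂ : Ideal C) (x y : C ⧸ (I₁ ⊓ I₂))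
    (h1 : Ideal.Quotient.factor (inf_le_left : I₁ ⊓ I₂ ≤ I₁) x = Ideal.Quotient.factor inf_le_left y)
    (h2 : Ideal.Quotient.factor (inf_le_right : I₁ ⊓ I₂ ≤ I₂) x = Ideal.Quotient.factor inf_le_right y) :
    x = y := by
  obtain ⟨x, rfl⟩ := Ideal.Quotient.mk_surjective x
  obtain ⟨y, rfl⟩ := Ideal.Quotient.mk_surjective y
  rw [Ideal.Quotient.factor_mk, Ideal.Quotient.factor_mk, Ideal.Quotient.eq] at h1 h2
  rw [Ideal.Quotient.eq]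
  exact ⟨h1, h2⟩

theorem exists_algHom_inf (I₁ I₂ : Ideal C) (f₁ : B →ₐ[A] C ⧸ I₁) (f₂ : B →ₐ[A] C ⧸ I₂)
    (h : ∀ b, ∃ z : C, Ideal.Quotient.mk I₁ z = f₁ b ∧ Ideal.Quotient.mk I₂ z = f₂ b) :
    ∃ w : B →ₐ[A] C ⧸ (I₁ ⊓ I₂),
      (∀ b, Ideal.Quotient.factor (inf_le_left : I₁ ⊓ I₂ ≤ I₁) (w b) = f₁ b) ∧
      (∀ b, Ideal.Quotient.factor (inf_le_right : I₁ ⊓ I₂ ≤ I₂) (w b) = f₂ b) := by
  choose z hz1 hz2 using h
  have key1 : ∀ b, Ideal.Quotient.factor (inf_le_left : I₁ ⊓ I₂ ≤ I₁) (Ideal.Quotient.mk _ (z b)) = f₁ b :=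
    fun b => by rw [Ideal.Quotient.factor_mk, hz1]
  have key2 : ∀ b, Ideal.Quotient.factor (inf_le_right : I₁ ⊓ I₂ ≤ I₂) (Ideal.Quotient.mk _ (z b)) = f₂ b :=
    fun b => by rw [Ideal.Quotient.factor_mk, hz2]
  have h_one : Ideal.Quotient.mk (I₁ ⊓ I₂) (z 1) = 1 :=
    quot_inf_ext _ _ _ _ (by rw [key1, map_one, map_one]) (by rw [key2, map_one, map_one])
  have h_mul : ∀ a b, Ideal.Quotient.mk (I₁ ⊓ I₂) (z (a * b)) =
      Ideal.Quotient.mk (I₁ ⊓ I₂) (z a) * Ideal.Quotient.mk (I₁ ⊓ I₂) (z b) := fun a b =>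
    quot_inf_ext _ _ _ _ (by rw [key1, map_mul, map_mul, key1, key1])
      (by rw [key2, map_mul, map_mul, key2, key2])
  have h_zero : Ideal.Quotient.mk (I₁ ⊓ I₂) (z 0) = 0 :=
    quot_inf_ext _ _ _ _ (by rw [key1, map_zero, map_zero]) (by rw [key2, map_zero, map_zero])
  have h_add : ∀ a b, Ideal.Quotient.mk (I₁ ⊓ I₂) (z (a + b)) =
      Ideal.Quotient.mk (I₁ ⊓ I₂) (z a) + Ideal.Quotient.mk (I₁ ⊓ I₂) (z b) := fun a b =>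
    quot_inf_ext _ _ _ _ (by rw [key1, map_add, map_add, key1, key1])
      (by rw [key2, map_add, map_add, key2, key2])
  have h_comm : ∀ r : A, Ideal.Quotient.mk (I₁ ⊓ I₂) (z (algebraMap A B r)) =
      algebraMap A (C ⧸ (I₁ ⊓ I₂)) r := fun r =>
    quot_inf_ext _ _ _ _
      (by
        rw [key1, AlgHom.commutes]
        exact ((Ideal.Quotient.factorₐ A (inf_le_left : I₁ ⊓ I₂ ≤ I₁)).commutes r).symm)
      (by
        rw [key2, AlgHom.commutes]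
        exact ((Ideal.Quotient.factorₐ A (inf_le_right : I₁ ⊓ I₂ ≤ I₂)).commutes r).symm)
  exact ⟨{ toFun := fun b => Ideal.Quotient.mk _ (z b)
           map_one' := h_one
           map_mul' := h_mul
           map_zero' := h_zero
           map_add' := h_add
           commutes' := h_comm }, key1, key2⟩

end FP

section Main

variable {A B C : Type u} [CommRing A] [CommRing B] [CommRing C] [Algebra A B] [Algebra A C]
  (𝔞 : Ideal A) (𝔟 : Ideal B) (𝔠 : Ideal C) (J : Ideal C)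

/-- `v : B → C/𝔠^n` lifts `u : B → C/J` modulo `J + 𝔠^n` and is continuous. -/
def Good (u : B →ₐ[A] C ⧸ J) (n : ℕ) (v : B →ₐ[A] C ⧸ 𝔠 ^ n) : Prop :=
  (∀ b, Ideal.Quotient.factor (le_sup_right : 𝔠 ^ n ≤ J ⊔ 𝔠 ^ n) (v b) =
      Ideal.Quotient.factor (le_sup_left : J ≤ J ⊔ 𝔠 ^ n) (u b)) ∧
    ∃ k : ℕ, ∀ x ∈ 𝔟 ^ k, v x = 0

lemma sup_pow_le {t : ℕ} (hJ : J ^ t ≤ 𝔠) : (J ⊔ 𝔠) ^ t ≤ 𝔠 := by
  have h1 : ((J ⊔ 𝔠) ^ t).map (Ideal.Quotient.mk 𝔠) = ⊥ := by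
    rw [Ideal.map_pow, Ideal.map_sup, Ideal.map_quotient_self, sup_bot_eq, ← Ideal.map_pow]
    exact Ideal.map_mk_eq_bot_of_le hJ
  rw [Ideal.map_eq_bot_iff_le_ker, Ideal.mk_ker] at h1
  exact h1

theorem step (hB : EGA41.IsFormallySmoothAdic A 𝔞 B 𝔟)
    (hAC : ∃ k : ℕ, (𝔞 ^ k).map (algebraMap A C) ≤ 𝔠) (hJ : ∃ t : ℕ, J ^ t ≤ 𝔠)
    (u : B →ₐ[A] C ⧸ J) (hu : ∃ k : ℕ, (𝔟 ^ k).map u.toRingHom ≤ 𝔠.map (Ideal.Quotient.mk J))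
    (n : ℕ) (v : B →ₐ[A] C ⧸ 𝔠 ^ n) (hv : Good 𝔟 𝔠 J u n v) :
    ∃ v' : B →ₐ[A] C ⧸ 𝔠 ^ (n + 1), Good 𝔟 𝔠 J u (n + 1) v' ∧
      ∀ b, Ideal.Quotient.factor (Ideal.pow_le_pow_right n.le_succ : 𝔠 ^ (n + 1) ≤ 𝔠 ^ n) (v' b) = v b := by
  obtain ⟨k₁, hk₁⟩ := hAC
  obtain ⟨t, ht⟩ := hJ
  obtain ⟨k₂, hk₂⟩ := hu
  obtain ⟨hv1, k₃, hk₃⟩ := hv
  -- the second map
  let f₂ : B →ₐ[A] C ⧸ (J ⊔ 𝔠 ^ (n + 1)) :=
    (Ideal.Quotient.factorₐ A (le_sup_left : J ≤ J ⊔ 𝔠 ^ (n + 1))).comp u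
  have hf₂ : ∀ b, f₂ b = Ideal.Quotient.factor (le_sup_left : J ≤ J ⊔ 𝔠 ^ (n + 1)) (u b) := fun _ => rfl
  -- common lifts
  have hcommon : ∀ b, ∃ z : C, Ideal.Quotient.mk (𝔠 ^ n) z = v b ∧
      Ideal.Quotient.mk (J ⊔ 𝔠 ^ (n + 1)) z = f₂ b := by
    intro b
    obtain ⟨x, hx⟩ := Ideal.Quotient.mk_surjective (v b)
    obtain ⟨y, hy⟩ := Ideal.Quotient.mk_surjective (u b)
    have h1 := hv1 b
    rw [← hx, ← hy, Ideal.Quotient.factor_mk, Ideal.Quotient.factor_mk, Ideal.Quotient.eq] at h1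
    obtain ⟨j, hj, c, hc, hjc⟩ := Submodule.mem_sup.mp h1
    refine ⟨x - c, ?_, ?_⟩
    · rw [← hx, Ideal.Quotient.eq]
      have : x - c - x = -c := by ring
      rw [this]
      exact neg_mem hc
    · rw [hf₂, ← hy, Ideal.Quotient.factor_mk, Ideal.Quotient.eq]
      have : x - c - y = j := by rw [← sub_eq_zero]; rw [← sub_eq_zero] at hjc; linear_combination -hjc
      rw [this]
      exact Ideal.mem_sup_left hj
  obtain ⟨w, hw1, hw2⟩ := exists_algHom_inf (𝔠 ^ n) (J ⊔ 𝔠 ^ (n + 1)) v f₂ hcommon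
  -- the test ring
  have hle : 𝔠 ^ (n + 1) ≤ 𝔠 ^ n ⊓ (J ⊔ 𝔠 ^ (n + 1)) :=
    le_inf (Ideal.pow_le_pow_right n.le_succ) le_sup_right
  have hKJ : 𝔠 ^ n ⊓ (J ⊔ 𝔠 ^ (n + 1)) ≤ J ⊔ 𝔠 :=
    inf_le_right.trans (sup_le_sup_left (Ideal.pow_le_self n.succ_ne_zero) J)
  have hKpow : (𝔠 ^ n ⊓ (J ⊔ 𝔠 ^ (n + 1))) ^ (t * (n + 1)) ≤ 𝔠 ^ (n + 1) := by
    rw [pow_mul]
    exact Ideal.pow_right_mono ((Ideal.pow_right_mono hKJ t).trans (sup_pow_le 𝔠 J ht)) (n + 1)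
  have hnil : IsNilpotent ((𝔠 ^ n ⊓ (J ⊔ 𝔠 ^ (n + 1))).map (Ideal.Quotient.mk (𝔠 ^ (n + 1)))) := by
    refine ⟨t * (n + 1), ?_⟩
    rw [← Ideal.map_pow, Ideal.zero_eq_bot]
    exact Ideal.map_mk_eq_bot_of_le hKpow
  have hdisc : ∃ k : ℕ, (𝔞 ^ k).map (algebraMap A (C ⧸ 𝔠 ^ (n + 1))) = ⊥ := by
    refine ⟨k₁ * (n + 1), ?_⟩
    have h1 : (𝔞 ^ (k₁ * (n + 1))).map (algebraMap A C) ≤ 𝔠 ^ (n + 1) := by
      rw [pow_mul, Ideal.map_pow]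
      exact Ideal.pow_right_mono hk₁ (n + 1)
    have h2 : algebraMap A (C ⧸ 𝔠 ^ (n + 1)) =
        (Ideal.Quotient.mk (𝔠 ^ (n + 1))).comp (algebraMap A C) := rfl
    rw [h2, ← Ideal.map_map]
    exact le_bot_iff.mp ((Ideal.map_mono h1).trans (Ideal.map_quotient_self _).le)
  let e : ((C ⧸ 𝔠 ^ (n + 1)) ⧸ (𝔠 ^ n ⊓ (J ⊔ 𝔠 ^ (n + 1))).map (Ideal.Quotient.mk (𝔠 ^ (n + 1))))
      ≃ₐ[A] C ⧸ (𝔠 ^ n ⊓ (J ⊔ 𝔠 ^ (n + 1))) :=
    { (DoubleQuot.quotQuotEquivQuotSup (𝔠 ^ (n + 1)) (𝔠 ^ n ⊓ (J ⊔ 𝔠 ^ (n + 1)))).trans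
        (Ideal.quotEquivOfEq (sup_eq_right.mpr hle)) with
      commutes' := fun x => rfl }
  have he : ∀ s : C, e (Ideal.Quotient.mk _ (Ideal.Quotient.mk _ s)) = Ideal.Quotient.mk _ s := fun s => rfl
  have he' : ∀ y : C ⧸ 𝔠 ^ (n + 1), e (Ideal.Quotient.mk _ y) = Ideal.Quotient.factor hle y := by
    intro y
    obtain ⟨s, rfl⟩ := Ideal.Quotient.mk_surjective y
    rw [he, Ideal.Quotient.factor_mk]
  let u' : B →ₐ[A] (C ⧸ 𝔠 ^ (n + 1)) ⧸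
      (𝔠 ^ n ⊓ (J ⊔ 𝔠 ^ (n + 1))).map (Ideal.Quotient.mk (𝔠 ^ (n + 1))) :=
    e.symm.toAlgHom.comp w
  have hu' : ∀ b, e (u' b) = w b := fun b => e.apply_symm_apply (w b)
  -- continuity of u'
  have hcont2 : ∀ x ∈ 𝔟 ^ (k₂ * (n + 1)), f₂ x = 0 := by
    intro x hx
    have h1 : u x ∈ (𝔠 ^ (n + 1)).map (Ideal.Quotient.mk J) := by
      have h2 : (𝔟 ^ (k₂ * (n + 1))).map u.toRingHom ≤ (𝔠 ^ (n + 1)).map (Ideal.Quotient.mk J) := by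
        have hr : (𝔠 ^ (n + 1)).map (Ideal.Quotient.mk J) =
            (𝔠.map (Ideal.Quotient.mk J)) ^ (n + 1) := Ideal.map_pow _ _ _
        rw [hr, pow_mul, Ideal.map_pow]
        exact Ideal.pow_right_mono hk₂ (n + 1)
      exact h2 (Ideal.mem_map_of_mem _ hx)
    have h3 : ((𝔠 ^ (n + 1)).map (Ideal.Quotient.mk J)).map
        (Ideal.Quotient.factor (le_sup_left : J ≤ J ⊔ 𝔠 ^ (n + 1))) = ⊥ := by
      rw [Ideal.map_map, Ideal.Quotient.factor_comp_mk]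
      exact Ideal.map_mk_eq_bot_of_le le_sup_right
    have h4 := Ideal.mem_map_of_mem (Ideal.Quotient.factor (le_sup_left : J ≤ J ⊔ 𝔠 ^ (n + 1))) h1
    rw [h3] at h4
    exact h4
  have hcont : ∃ k : ℕ, ∀ x ∈ 𝔟 ^ k, u' x = 0 := by
    refine ⟨max k₃ (k₂ * (n + 1)), fun x hx => ?_⟩
    apply e.injective
    rw [hu', map_zero]
    apply quot_inf_ext
    · rw [hw1, map_zero]
      exact hk₃ x (Ideal.pow_le_pow_right (le_max_left _ _) hx)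
    · rw [hw2, map_zero]
      exact hcont2 x (Ideal.pow_le_pow_right (le_max_right _ _) hx)
  obtain ⟨v', hv'⟩ := hB (C ⧸ 𝔠 ^ (n + 1)) _ hnil hdisc u' hcont
  have hv'b : ∀ b, Ideal.Quotient.factor hle (v' b) = w b := by
    intro b
    rw [← he', ← hu', ← hv']
    rfl
  have hfac1 : ∀ b, Ideal.Quotient.factor (Ideal.pow_le_pow_right n.le_succ : 𝔠 ^ (n + 1) ≤ 𝔠 ^ n) (v' b) =
      v b := by
    intro b
    rw [← hw1, ← hv'b, Ideal.Quotient.factor_comp_apply]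
  refine ⟨v', ⟨?_, ?_⟩, hfac1⟩
  · intro b
    have := hw2 b
    rw [← hv'b, Ideal.Quotient.factor_comp_apply, hf₂] at this
    exact this
  · -- continuity of v'
    obtain ⟨k, hk⟩ := hcont
    obtain ⟨m, hm⟩ := hnil
    refine ⟨k * m, fun x hx => ?_⟩
    have h1 : (𝔟 ^ k).map v'.toRingHom ≤
        (𝔠 ^ n ⊓ (J ⊔ 𝔠 ^ (n + 1))).map (Ideal.Quotient.mk (𝔠 ^ (n + 1))) := by
      rw [Ideal.map_le_iff_le_comap]
      intro y hy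
      rw [Ideal.mem_comap, ← Ideal.Quotient.eq_zero_iff_mem]
      have := hk y hy
      rw [← hv'] at this
      exact this
    have h2 : (𝔟 ^ (k * m)).map v'.toRingHom ≤ ⊥ := by
      rw [pow_mul, Ideal.map_pow, ← Ideal.zero_eq_bot, ← hm]
      exact Ideal.pow_right_mono h1 m
    exact (Ideal.mem_bot).mp (h2 (Ideal.mem_map_of_mem _ hx))

end Main

section Limit

variable {A B C : Type u} [CommRing A] [CommRing B] [CommRing C] [Algebra A B] [Algebra A C]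
  (𝔞 : Ideal A) (𝔟 : Ideal B) (𝔠 : Ideal C) (J : Ideal C)

lemma mem_map_of_factor_eq_zero (n : ℕ) (y : C ⧸ J)
    (hy : Ideal.Quotient.factor (le_sup_left : J ≤ J ⊔ 𝔠 ^ n) y = 0) :
    y ∈ (𝔠.map (Ideal.Quotient.mk J)) ^ n := by
  obtain ⟨s, rfl⟩ := Ideal.Quotient.mk_surjective y
  rw [Ideal.Quotient.factor_mk, Ideal.Quotient.eq_zero_iff_mem] at hy
  obtain ⟨j, hj, c, hc, rfl⟩ := Submodule.mem_sup.mp hy
  rw [map_add, Ideal.Quotient.eq_zero_iff_mem.mpr hj, zero_add, ← Ideal.map_pow]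
  exact Ideal.mem_map_of_mem _ hc

/-- EGA 0_IV 19.3.10. -/
theorem exists_lift (hB : EGA41.IsFormallySmoothAdic A 𝔞 B 𝔟) [IsAdicComplete 𝔠 C]
    (hAC : ∃ k : ℕ, (𝔞 ^ k).map (algebraMap A C) ≤ 𝔠) (hJ : ∃ t : ℕ, J ^ t ≤ 𝔠)
    [IsHausdorff (𝔠.map (Ideal.Quotient.mk J)) (C ⧸ J)]
    (u : B →ₐ[A] C ⧸ J) (hu : ∃ k : ℕ, (𝔟 ^ k).map u.toRingHom ≤ 𝔠.map (Ideal.Quotient.mk J)) :
    ∃ v : B →ₐ[A] C, (∃ k : ℕ, (𝔟 ^ k).map v.toRingHom ≤ 𝔠) ∧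
      (Ideal.Quotient.mkₐ A J).comp v = u := by
  haveI hsub : Subsingleton (C ⧸ 𝔠 ^ 0) := by
    rw [Ideal.Quotient.subsingleton_iff, pow_zero, Ideal.one_eq_top]
  haveI hsub' : Subsingleton (C ⧸ (J ⊔ 𝔠 ^ 0)) := by
    rw [Ideal.Quotient.subsingleton_iff, pow_zero, Ideal.one_eq_top, sup_top_eq]
  let v₀ : B →ₐ[A] C ⧸ 𝔠 ^ 0 :=
    { toFun := fun _ => 0
      map_one' := Subsingleton.elim _ _
      map_mul' := fun _ _ => Subsingleton.elim _ _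
      map_zero' := rfl
      map_add' := fun _ _ => Subsingleton.elim _ _
      commutes' := fun _ => Subsingleton.elim _ _ }
  have hv₀ : Good 𝔟 𝔠 J u 0 v₀ := ⟨fun b => Subsingleton.elim _ _, ⟨0, fun x _ => rfl⟩⟩
  let F : (n : ℕ) → {v : B →ₐ[A] C ⧸ 𝔠 ^ n // Good 𝔟 𝔠 J u n v} := fun n =>
    Nat.rec ⟨v₀, hv₀⟩ (fun n v =>
      ⟨Classical.choose (step 𝔞 𝔟 𝔠 J hB hAC hJ u hu n v.1 v.2),
        (Classical.choose_spec (step 𝔞 𝔟 𝔠 J hB hAC hJ u hu n v.1 v.2)).1⟩) n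
  have hF : ∀ n b, Ideal.Quotient.factor
      (Ideal.pow_le_pow_right n.le_succ : 𝔠 ^ (n + 1) ≤ 𝔠 ^ n) ((F (n + 1)).1 b) = (F n).1 b :=
    fun n b => (Classical.choose_spec (step 𝔞 𝔟 𝔠 J hB hAC hJ u hu n (F n).1 (F n).2)).2 b
  have hcompat : ∀ m n (hmn : m ≤ n) b, Ideal.Quotient.factor
      (Ideal.pow_le_pow_right hmn : 𝔠 ^ n ≤ 𝔠 ^ m) ((F n).1 b) = (F m).1 b := by
    intro m n hmn b
    induction n, hmn using Nat.le_induction with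
    | base =>
      obtain ⟨s, hs⟩ := Ideal.Quotient.mk_surjective ((F m).1 b)
      rw [← hs, Ideal.Quotient.factor_mk]
    | succ n hmn ih =>
      rw [← ih, ← hF n b, Ideal.Quotient.factor_comp_apply]
  let f : (n : ℕ) → B →ₐ[A] C ⧸ 𝔠 ^ n := fun n => (F n).1
  have hf : ∀ {m n : ℕ} (hle : m ≤ n),
      (Ideal.Quotient.factorₐ A (Ideal.pow_le_pow_right hle)).comp (f n) = f m :=
    fun hle => AlgHom.ext fun b => hcompat _ _ hle b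
  have hvn : ∀ n b, Ideal.Quotient.mk (𝔠 ^ n) (IsAdicComplete.liftAlgHom 𝔠 f hf b) = f n b :=
    fun n b => IsAdicComplete.mk_liftAlgHom 𝔠 f hf n b
  refine ⟨IsAdicComplete.liftAlgHom 𝔠 f hf, ?_, ?_⟩
  · obtain ⟨k, hk⟩ := (F 1).2.2
    refine ⟨k, ?_⟩
    rw [Ideal.map_le_iff_le_comap]
    intro x hx
    rw [Ideal.mem_comap]
    have h1 := hvn 1 x
    rw [show f 1 x = 0 from hk x hx, Ideal.Quotient.eq_zero_iff_mem, pow_one] at h1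
    exact h1
  · ext b
    change Ideal.Quotient.mk J (IsAdicComplete.liftAlgHom 𝔠 f hf b) = u b
    rw [← sub_eq_zero]
    have hH : IsHausdorff (𝔠.map (Ideal.Quotient.mk J)) (C ⧸ J) := inferInstance
    refine hH.haus' _ fun n => ?_
    rw [SModEq.zero, smul_eq_mul, Ideal.mul_top]
    apply mem_map_of_factor_eq_zero
    rw [map_sub, sub_eq_zero, Ideal.Quotient.factor_mk, ← (F n).2.1 b]
    change _ = Ideal.Quotient.factor _ (f n b)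
    rw [← hvn n b, Ideal.Quotient.factor_mk]

end Limit

end Groth.Agent.Helper9.AdicLift
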