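import Mathlib

/-!
# Additivity of the index of linear maps with finite-dimensional kernel and cokernel
-/

set_option autoImplicit false

universe u v

namespace Groth.Agent.Helper9.Fredholm

open Submodule LinearMap Module

variable {k : Type u} {A B C : Type v} [Field k] [AddCommGroup A] [Module k A]
  [AddCommGroup B] [Module k B] [AddCommGroup C] [Module k C]
  (f : A →ₗ[k] B) (g : B →ₗ[k] C)

/-- `ker g ⊓ range f`. -/
abbrev I : Submodule k B := ker g ⊓ range f

/-- The image of `ker g` in `coker f`. -/
abbrev J : Submodule k (B ⧸ range f) := (ker g).map (range f).mkQ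

/-- The image of `range g` in `coker (g ∘ f)`. -/
abbrev R : Submodule k (C ⧸ range (g ∘ₗ f)) := (range g).map (range (g ∘ₗ f)).mkQ

lemma rank_a : Module.rank k (ker (g ∘ₗ f)) = Module.rank k (I f g) + Module.rank k (ker f) := by
  let f' : ker (g ∘ₗ f) →ₗ[k] B := f ∘ₗ (ker (g ∘ₗ f)).subtype
  have hr : range f' = I f g := by
    rw [LinearMap.range_comp, Submodule.range_subtype, LinearMap.ker_comp,
      Submodule.map_comap_eq, inf_comm]
  have hle : ker f ≤ ker (g ∘ₗ f) := by
    intro x hx
    rw [LinearMap.mem_ker] at hx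
    rw [LinearMap.mem_ker, LinearMap.comp_apply, hx, map_zero]
  have hk : ker f' = comap (ker (g ∘ₗ f)).subtype (ker f) := LinearMap.ker_comp _ _
  have := LinearMap.rank_range_add_rank_ker f'
  rw [hr, hk, (Submodule.comapSubtypeEquivOfLe hle).rank_eq] at this
  exact this.symm

lemma rank_b : Module.rank k (ker g) = Module.rank k (J f g) + Module.rank k (I f g) := by
  let q : ker g →ₗ[k] B ⧸ range f := (range f).mkQ ∘ₗ (ker g).subtype
  have hr : range q = J f g := by
    rw [LinearMap.range_comp, Submodule.range_subtype]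
  have hk : ker q = comap (ker g).subtype (I f g) := by
    rw [LinearMap.ker_comp, Submodule.ker_mkQ]
    ext x
    simp only [Submodule.mem_comap, Submodule.subtype_apply, Submodule.mem_inf]
    exact ⟨fun h => ⟨x.2, h⟩, fun h => h.2⟩
  have := LinearMap.rank_range_add_rank_ker q
  rw [hr, hk, (Submodule.comapSubtypeEquivOfLe (inf_le_left : I f g ≤ ker g)).rank_eq] at this
  exact this.symm

lemma range_comp_le : range f ≤ comap g (range (g ∘ₗ f)) := by
  rintro _ ⟨a, rfl⟩
  exact ⟨a, rfl⟩

/-- The map `coker f → coker (g ∘ f)` induced by `g`. -/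
noncomputable abbrev gbar : (B ⧸ range f) →ₗ[k] (C ⧸ range (g ∘ₗ f)) :=
  (range f).mapQ (range (g ∘ₗ f)) g (range_comp_le f g)

lemma range_gbar : range (gbar f g) = R f g := by
  unfold gbar Submodule.mapQ
  rw [Submodule.range_liftQ]
  exact LinearMap.range_comp _ _

lemma ker_gbar : ker (gbar f g) = J f g := by
  unfold gbar Submodule.mapQ
  rw [Submodule.ker_liftQ]
  have h1 : ker ((range (g ∘ₗ f)).mkQ ∘ₗ g) = range f ⊔ ker g := by
    rw [LinearMap.ker_comp, Submodule.ker_mkQ, LinearMap.range_comp, Submodule.comap_map_eq]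
  rw [h1, Submodule.map_sup]
  have : Submodule.map (range f).mkQ (range f) = ⊥ := by
    rw [← le_bot_iff, Submodule.map_le_iff_le_comap, Submodule.comap_bot, Submodule.ker_mkQ]
  rw [this, bot_sup_eq]

lemma rank_c : Module.rank k (B ⧸ range f) = Module.rank k (R f g) + Module.rank k (J f g) := by
  have := LinearMap.rank_range_add_rank_ker (gbar f g)
  rw [range_gbar, ker_gbar] at this
  exact this.symm

lemma rank_d : Module.rank k (C ⧸ range (g ∘ₗ f)) =
    Module.rank k (C ⧸ range g) + Module.rank k (R f g) := by
  have hle : range (g ∘ₗ f) ≤ range g := LinearMap.range_comp_le_range f g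
  have h1 := Submodule.rank_quotient_add_rank (R f g)
  have e : ((C ⧸ range (g ∘ₗ f)) ⧸ R f g) ≃ₗ[k] C ⧸ range g :=
    Submodule.quotientQuotientEquivQuotient (range (g ∘ₗ f)) (range g) hle
  rw [e.rank_eq] at h1
  exact h1.symm

theorem finite_ker_comp [Module.Finite k (ker f)] [Module.Finite k (ker g)] :
    Module.Finite k (ker (g ∘ₗ f)) := by
  rw [← Module.rank_lt_aleph0_iff, rank_a]
  haveI : Module.Finite k (I f g) :=
    Module.Finite.of_injective (Submodule.inclusion (inf_le_left : I f g ≤ ker g))
      (Submodule.inclusion_injective _)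
  exact Cardinal.add_lt_aleph0 (Module.rank_lt_aleph0 k _) (Module.rank_lt_aleph0 k _)

theorem finite_coker_comp [Module.Finite k (B ⧸ range f)] [Module.Finite k (C ⧸ range g)] :
    Module.Finite k (C ⧸ range (g ∘ₗ f)) := by
  rw [← Module.rank_lt_aleph0_iff, rank_d]
  haveI : Module.Finite k (R f g) := by
    rw [← range_gbar]
    exact Module.Finite.range _
  exact Cardinal.add_lt_aleph0 (Module.rank_lt_aleph0 k _) (Module.rank_lt_aleph0 k _)

theorem index_comp [Module.Finite k (ker f)] [Module.Finite k (B ⧸ range f)]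
    [Module.Finite k (ker g)] [Module.Finite k (C ⧸ range g)] :
    (finrank k (C ⧸ range (g ∘ₗ f)) : ℤ) - finrank k (ker (g ∘ₗ f)) =
      ((finrank k (B ⧸ range f) : ℤ) - finrank k (ker f)) +
        ((finrank k (C ⧸ range g) : ℤ) - finrank k (ker g)) := by
  haveI := finite_ker_comp f g
  haveI := finite_coker_comp f g
  haveI : Module.Finite k (I f g) :=
    Module.Finite.of_injective (Submodule.inclusion (inf_le_left : I f g ≤ ker g))
      (Submodule.inclusion_injective _)
  haveI : Module.Finite k (R f g) := by
    rw [← range_gbar]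
    exact Module.Finite.range _
  haveI : Module.Finite k (J f g) := by
    rw [← ker_gbar]
    infer_instance
  have ha := rank_a f g
  have hb := rank_b f g
  have hc := rank_c f g
  have hd := rank_d f g
  rw [← Module.finrank_eq_rank, ← Module.finrank_eq_rank, ← Module.finrank_eq_rank] at ha hb hc hd
  have ha' : finrank k (ker (g ∘ₗ f)) = finrank k (I f g) + finrank k (ker f) := by
    exact_mod_cast ha
  have hb' : finrank k (ker g) = finrank k (J f g) + finrank k (I f g) := by exact_mod_cast hb
  have hc' : finrank k (B ⧸ range f) = finrank k (R f g) + finrank k (J f g) := by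
    exact_mod_cast hc
  have hd' : finrank k (C ⧸ range (g ∘ₗ f)) = finrank k (C ⧸ range g) + finrank k (R f g) := by
    exact_mod_cast hd
  omega

end Groth.Agent.Helper9.Fredholm
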