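import Mathlib
import Groth.Prelude.Def_EGA41
import Groth.Agent.Lib.Helper9.Imperf2
import Groth.Agent.Lib.Helper9.Fredholm

/-!
# Cartier's equality: the predicate and its transitivity in towers
-/

set_option autoImplicit false
set_option linter.unusedSectionVars false

universe u

open TensorProduct KaehlerDifferential

namespace Groth.Agent.Helper9.Cartier

open Groth.Agent.Helper9.Imperf

/-- Cartier's equality for `L / K` with differentials relative to the base ring `a`. -/
def P (a : Type) (K L : Type u) [CommRing a] [Field K] [Field L] [Algebra a K] [Algebra a L]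
    [Algebra K L] [IsScalarTower a K L] : Prop :=
  Module.Finite L (Ω[L⁄K]) ∧ Module.Finite L (EGA41.imperfection a K L) ∧
    Algebra.trdeg K L < Cardinal.aleph0 ∧
      (Module.finrank L (Ω[L⁄K]) : ℤ) - Module.finrank L (EGA41.imperfection a K L) =
        Cardinal.toNat (Algebra.trdeg K L)

section Coker

variable (a : Type) (K L : Type u) [CommRing a] [CommRing K] [CommRing L] [Algebra a K]
  [Algebra a L] [Algebra K L] [IsScalarTower a K L]

/-- The cokernel of `L ⊗_K Ω_{K/a} → Ω_{L/a}` is `Ω_{L/K}`. -/
noncomputable def cokerEquiv :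
    (Ω[L⁄a] ⧸ LinearMap.range (mapBaseChange a K L)) ≃ₗ[L] Ω[L⁄K] :=
  (Submodule.quotEquivOfEq _ _
    (KaehlerDifferential.exact_mapBaseChange_map a K L).linearMap_ker_eq.symm).trans
    ((KaehlerDifferential.map a K L L).quotKerEquivOfSurjective
      (KaehlerDifferential.map_surjective a K L))

end Coker

section Tower

variable {a : Type} {K L M : Type u} [CommRing a] [Field K] [Field L] [Field M]
  [Algebra a K] [Algebra a L] [Algebra a M] [Algebra K L] [Algebra L M] [Algebra K M]
  [IsScalarTower K L M] [IsScalarTower a K L] [IsScalarTower a L M] [IsScalarTower a K M]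

/-- The kernel of `theta` is the base change of the imperfection module. -/
noncomputable def kerThetaEquiv :
    LinearMap.ker (theta a K L M) ≃ₗ[M] M ⊗[L] (EGA41.imperfection a K L) := by
  have h : LinearMap.ker (theta a K L M) =
      (LinearMap.ker ((mapBaseChange a K L).baseChange M)).comap
        ((TensorProduct.AlgebraTensorModule.cancelBaseChange K L M M Ω[K⁄a]).symm :
          M ⊗[K] Ω[K⁄a] →ₗ[M] M ⊗[L] (L ⊗[K] Ω[K⁄a])) := by
    unfold theta
    rw [LinearMap.ker_comp]
  exact (LinearEquiv.ofEq _ _ h).trans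
    ((LinearEquiv.ofSubmodule'
      (TensorProduct.AlgebraTensorModule.cancelBaseChange K L M M Ω[K⁄a]).symm _).trans
      (LinearMap.tensorKerEquiv M M (mapBaseChange a K L)).symm)

lemma range_theta : LinearMap.range (theta a K L M) =
    LinearMap.range ((mapBaseChange a K L).baseChange M) := by
  unfold theta
  rw [LinearMap.range_comp, LinearEquiv.range, Submodule.map_top]

lemma ker_baseChange_map : LinearMap.ker ((KaehlerDifferential.map a K L L).baseChange M) =
    LinearMap.range ((mapBaseChange a K L).baseChange M) := by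
  have hex := lTensor_exact M (KaehlerDifferential.exact_mapBaseChange_map a K L)
    (KaehlerDifferential.map_surjective a K L)
  ext z
  rw [LinearMap.mem_ker, LinearMap.mem_range]
  exact hex z

lemma surj_baseChange_map :
    Function.Surjective ((KaehlerDifferential.map a K L L).baseChange M) := by
  have := LinearMap.lTensor_surjective M (KaehlerDifferential.map_surjective a K L)
  intro z
  obtain ⟨y, hy⟩ := this z
  exact ⟨y, hy⟩

/-- The cokernel of `theta` is the base change of `Ω_{L/K}`. -/
noncomputable def cokerThetaEquiv :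
    ((M ⊗[L] Ω[L⁄a]) ⧸ LinearMap.range (theta a K L M)) ≃ₗ[M] M ⊗[L] Ω[L⁄K] := by
  have h : LinearMap.range (theta a K L M) =
      LinearMap.ker ((KaehlerDifferential.map a K L L).baseChange M) :=
    range_theta.trans ker_baseChange_map.symm
  have e1 : ((M ⊗[L] Ω[L⁄a]) ⧸ LinearMap.range (theta a K L M)) ≃ₗ[M]
      ((M ⊗[L] Ω[L⁄a]) ⧸ LinearMap.ker ((KaehlerDifferential.map a K L L).baseChange M)) :=
    Submodule.quotEquivOfEq _ _ h
  have e2 : ((M ⊗[L] Ω[L⁄a]) ⧸ LinearMap.ker ((KaehlerDifferential.map a K L L).baseChange M))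
      ≃ₗ[M] M ⊗[L] Ω[L⁄K] :=
    LinearMap.quotKerEquivOfSurjective _ surj_baseChange_map
  exact e1.trans e2


lemma comp_theta : mapBaseChange a L M ∘ₗ theta a K L M = mapBaseChange a K M := by
  apply LinearMap.ext
  intro z
  rw [LinearMap.comp_apply]
  exact mapBaseChange_theta z

theorem P.trans (h1 : P a K L) (h2 : P a L M) : P a K M := by
  obtain ⟨h1Ω, h1Υ, h1t, h1e⟩ := h1
  obtain ⟨h2Ω, h2Υ, h2t, h2e⟩ := h2
  have hgf : mapBaseChange a L M ∘ₗ theta a K L M = mapBaseChange a K M := comp_theta
  haveI i1 : Module.Finite M (LinearMap.ker (theta a K L M)) :=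
    Module.Finite.equiv (kerThetaEquiv (a := a) (K := K) (L := L) (M := M)).symm
  haveI i2 : Module.Finite M ((M ⊗[L] Ω[L⁄a]) ⧸ LinearMap.range (theta a K L M)) :=
    Module.Finite.equiv (cokerThetaEquiv (a := a) (K := K) (L := L) (M := M)).symm
  haveI i3 : Module.Finite M (LinearMap.ker (mapBaseChange a L M)) := h2Υ
  haveI i4 : Module.Finite M (Ω[M⁄a] ⧸ LinearMap.range (mapBaseChange a L M)) :=
    Module.Finite.equiv (cokerEquiv a L M).symm
  have hfin1 := Fredholm.finite_ker_comp (theta a K L M) (mapBaseChange a L M)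
  have hfin2 := Fredholm.finite_coker_comp (theta a K L M) (mapBaseChange a L M)
  have hind := Fredholm.index_comp (theta a K L M) (mapBaseChange a L M)
  rw [hgf] at hfin1 hfin2 hind
  haveI : Module.Free L (EGA41.imperfection a K L) :=
    Module.Free.of_divisionRing L ↥(EGA41.imperfection a K L)
  have e1 : Module.finrank M (LinearMap.ker (theta a K L M)) = Module.finrank L (EGA41.imperfection a K L) := by
    rw [(kerThetaEquiv (a := a) (K := K) (L := L) (M := M)).finrank_eq, Module.finrank_baseChange]
  have e2 : Module.finrank M ((M ⊗[L] Ω[L⁄a]) ⧸ LinearMap.range (theta a K L M)) =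
      Module.finrank L (Ω[L⁄K]) := by
    rw [(cokerThetaEquiv (a := a) (K := K) (L := L) (M := M)).finrank_eq,
      Module.finrank_baseChange]
  have e3 : Module.finrank M (Ω[M⁄a] ⧸ LinearMap.range (mapBaseChange a L M)) = Module.finrank M (Ω[M⁄L]) :=
    (cokerEquiv a L M).finrank_eq
  have e4 : Module.finrank M (Ω[M⁄a] ⧸ LinearMap.range (mapBaseChange a K M)) =
      Module.finrank M (Ω[M⁄K]) := (cokerEquiv a K M).finrank_eq
  have e5 : Module.finrank M (LinearMap.ker (mapBaseChange a L M)) = Module.finrank M (EGA41.imperfection a L M) := rfl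
  have e6 : Module.finrank M (LinearMap.ker (mapBaseChange a K M)) =
      Module.finrank M (EGA41.imperfection a K M) := rfl
  have htr : Algebra.trdeg K L + Algebra.trdeg L M = Algebra.trdeg K M :=
    trdeg_add_eq K L
  refine ⟨Module.Finite.equiv (cokerEquiv a K M), hfin1, ?_, ?_⟩
  · rw [← htr]
    exact Cardinal.add_lt_aleph0 h1t h2t
  · rw [← htr, Cardinal.toNat_add h1t h2t, ← e4, ← e6, hind, e1, e2, e3, e5, Nat.cast_add,
      ← h1e, ← h2e]

end Tower

end Groth.Agent.Helper9.Cartier
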