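import Mathlib
import Groth.Prelude.Def_EGA41
import Groth.Agent.Lib.Helper9.Cartier1
import Groth.Agent.Lib.Helper9.SepInj

/-!
# Cartier's equality: formally smooth base cases
-/

set_option autoImplicit false
set_option linter.unusedSectionVars false

universe u

open TensorProduct KaehlerDifferential

namespace Groth.Agent.Helper9.Cartier

section Smooth

variable {a : Type} {K L : Type u} [CommRing a] [Field K] [Field L]
  [Algebra a K] [Algebra a L] [Algebra K L] [IsScalarTower a K L]

lemma imperfection_eq_bot_of_formallySmooth [Algebra.FormallySmooth K L] :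
    EGA41.imperfection a K L = ⊥ :=
  LinearMap.ker_eq_bot.mpr (SepInj.mapBaseChange_injective_of_formallySmooth a)

theorem P.of_formallySmooth [Algebra.FormallySmooth K L] [Module.Finite L (Ω[L⁄K])]
    (ht : Algebra.trdeg K L < Cardinal.aleph0)
    (h : Module.finrank L (Ω[L⁄K]) = Cardinal.toNat (Algebra.trdeg K L)) : P a K L := by
  have hbot : EGA41.imperfection a K L = ⊥ := imperfection_eq_bot_of_formallySmooth
  refine ⟨inferInstance, ?_, ht, ?_⟩
  · rw [hbot]
    infer_instance
  · rw [hbot, finrank_bot, h]
    simp

theorem P.of_isSeparable [Algebra.IsSeparable K L] : P a K L := by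
  haveI : Algebra.FormallyEtale K L := Algebra.FormallyEtale.of_isSeparable K L
  have h0 : Algebra.trdeg K L = 0 := trdeg_eq_zero
  refine P.of_formallySmooth ?_ ?_
  · rw [h0]
    exact Cardinal.aleph0_pos
  · rw [h0, Module.finrank_zero_of_subsingleton]
    simp

theorem P.of_surjective (h : Function.Surjective (algebraMap K L)) : P a K L := by
  haveI : Algebra.IsSeparable K L := by
    refine ⟨fun x => ?_⟩
    obtain ⟨y, rfl⟩ := h x
    exact isSeparable_algebraMap y
  exact P.of_isSeparable

end Smooth

end Groth.Agent.Helper9.Cartier
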