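import Mathlib
import Groth.Prelude.Def_EGA41
import Groth.Agent.Lib.Helper9.Cartier2

set_option autoImplicit false
set_option linter.unusedSectionVars false
set_option linter.style.haveILetI false

universe u

open TensorProduct KaehlerDifferential Polynomial IntermediateField

namespace Groth.Agent.Helper9.Cartier

section Transc

variable {a : Type} {K L : Type u} [CommRing a] [Field K] [Field L]
  [Algebra a K] [Algebra a L] [Algebra K L] [IsScalarTower a K L]

theorem P.of_transcendental (x : L) (hx : Transcendental K x) (htop : K⟮x⟯ = ⊤) : P a K L := by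
  letI : Algebra K[X] L := (Polynomial.aeval x).toRingHom.toAlgebra
  have hmap : ∀ q : K[X], algebraMap K[X] L q = Polynomial.aeval x q := fun _ => rfl
  haveI : IsScalarTower K K[X] L := IsScalarTower.of_algebraMap_eq (fun c => by
    rw [hmap, Polynomial.algebraMap_eq, Polynomial.aeval_C])
  have hinj : ∀ q : K[X], Polynomial.aeval x q = 0 → q = 0 := fun q hq =>
    by_contra fun hne => hx ⟨q, hne, hq⟩
  haveI : IsLocalization (nonZeroDivisors K[X]) L := by
    refine ⟨?_, ?_, ?_⟩
    · rintro ⟨y, hy⟩
      rw [hmap]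
      exact IsUnit.mk0 _ fun h => (nonZeroDivisors.ne_zero hy) (hinj y h)
    · intro z
      have hz : z ∈ K⟮x⟯ := htop ▸ IntermediateField.mem_top
      obtain ⟨r, s, rfl⟩ := (IntermediateField.mem_adjoin_simple_iff K z).mp hz
      by_cases hs : Polynomial.aeval x s = 0
      · refine ⟨(0, 1), ?_⟩
        rw [hs, div_zero, zero_mul, map_zero]
      · have hs0 : s ≠ 0 := fun h => hs (by rw [h, map_zero])
        refine ⟨(r, ⟨s, mem_nonZeroDivisors_of_ne_zero hs0⟩), ?_⟩
        change _ * algebraMap K[X] L s = algebraMap K[X] L r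
        rw [hmap, hmap, div_mul_cancel₀ _ hs]
    · intro p q hpq
      refine ⟨1, ?_⟩
      rw [hmap, hmap] at hpq
      have : p - q = 0 := hinj _ (by rw [map_sub, hpq, sub_self])
      rw [sub_eq_zero.mp this]
  haveI : Algebra.FormallyEtale K[X] L :=
    Algebra.FormallyEtale.of_isLocalization (nonZeroDivisors K[X])
  haveI : Algebra.FormallySmooth K L := Algebra.FormallySmooth.comp K K[X] L
  let e : Ω[L⁄K] ≃ₗ[L] L ⊗[K[X]] Ω[K[X]⁄K] :=
    (KaehlerDifferential.tensorKaehlerEquivOfFormallyEtale K K[X] L).symm
  haveI : Module.Free K[X] (Ω[K[X]⁄K]) :=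
    Module.Free.of_equiv (KaehlerDifferential.polynomialEquiv K).symm
  haveI : Module.Finite K[X] (Ω[K[X]⁄K]) :=
    Module.Finite.equiv (KaehlerDifferential.polynomialEquiv K).symm
  haveI : Module.Finite L (Ω[L⁄K]) := Module.Finite.equiv e.symm
  have hrank : Module.finrank L (Ω[L⁄K]) = 1 := by
    rw [e.finrank_eq, Module.finrank_baseChange,
      (KaehlerDifferential.polynomialEquiv K).finrank_eq, Module.finrank_self]
  haveI : FaithfulSMul K[X] L := (faithfulSMul_iff_algebraMap_injective K[X] L).mpr (by
    rw [injective_iff_map_eq_zero]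
    intro q hq
    exact hinj q hq)
  haveI : Algebra.IsAlgebraic K[X] L := IsLocalization.isAlgebraic L (nonZeroDivisors K[X])
  have htr : Algebra.trdeg K L = 1 := by
    rw [← trdeg_add_eq K K[X], Polynomial.trdeg_of_isDomain, trdeg_eq_zero, add_zero]
  refine P.of_formallySmooth ?_ ?_
  · rw [htr]
    exact Cardinal.one_lt_aleph0
  · rw [htr, hrank]
    simp

end Transc

end Groth.Agent.Helper9.Cartier
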