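import Mathlib
import Groth.Prelude.Def_EGA41
import Groth.Agent.Lib.Helper9.PBasisField4

/-!
# Decreasing filtered families of subfields in characteristic `p` (EGA 0_IV 21.8)
-/

set_option autoImplicit false
universe u

namespace Groth.Agent.Helper9.PFiltered

open EGA41 Polynomial Groth.Agent.Helper9.PBasis IntermediateField

variable {p : ℕ} [hp : Fact p.Prime] {k₀ K : Type u} [Field k₀] [Field K] [Algebra k₀ K] [CharP K p]

/-- elements of `E(y)` are polynomials of degree `< p` in `y` when `K^p ⊆ E`. -/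
theorem exists_repr_of_mem_sup (E : IntermediateField k₀ K) (hE : ∀ y : K, y ^ p ∈ E) (y z : K)
    (hz : z ∈ E ⊔ k₀⟮y⟯) : ∃ a : Fin p → K, (∀ j, a j ∈ E) ∧ z = ∑ j, a j * y ^ (j : ℕ) := by
  have h1 : E ⊔ k₀⟮y⟯ ≤ (IntermediateField.adjoin E {y}).restrictScalars k₀ := by
    refine sup_le ?_ ?_
    · intro e he
      exact (IntermediateField.adjoin E {y}).algebraMap_mem ⟨e, he⟩
    · rw [IntermediateField.adjoin_simple_le_iff]
      exact IntermediateField.mem_adjoin_simple_self E y
  have h2 : z ∈ IntermediateField.adjoin E {y} := h1 hz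
  have hint : IsIntegral E y := IsIntegral.of_pow hp.out.pos (by
    have : y ^ p = algebraMap E K ⟨y ^ p, hE y⟩ := rfl
    rw [this]; exact isIntegral_algebraMap)
  have h3 : z ∈ (IntermediateField.adjoin E {y}).toSubalgebra := h2
  rw [IntermediateField.adjoin_simple_toSubalgebra_of_isAlgebraic hint.isAlgebraic,
    Algebra.adjoin_singleton_eq_range_aeval] at h3
  obtain ⟨P, rfl⟩ := h3
  let c : E := ⟨y ^ p, hE y⟩
  have hq : (X ^ p - C c : E[X]).Monic := monic_X_pow_sub_C c hp.out.ne_zero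
  have hqy : aeval y (X ^ p - C c : E[X]) = 0 := by
    rw [map_sub, map_pow, aeval_X, aeval_C]
    exact sub_self _
  have hP : aeval y P = aeval y (P %ₘ (X ^ p - C c)) := by
    conv_lhs => rw [← Polynomial.modByMonic_add_div P (X ^ p - C c)]
    rw [map_add, map_mul, hqy, zero_mul, add_zero]
  have hdeg : (P %ₘ (X ^ p - C c)).natDegree < p := by
    have h1 : (X ^ p - C c : E[X]) ≠ 1 := by
      intro h
      have := congrArg natDegree h
      rw [natDegree_X_pow_sub_C, natDegree_one] at this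
      exact hp.out.ne_zero this
    have := Polynomial.natDegree_modByMonic_lt P hq h1
    rwa [natDegree_X_pow_sub_C] at this
  change aeval y P ∈ _ at hz
  refine ⟨fun j => (((P %ₘ (X ^ p - C c)).coeff j : E) : K), fun j => Subtype.prop _, ?_⟩
  change aeval y P = _
  rw [hP, Polynomial.aeval_eq_sum_range' hdeg, Finset.sum_range]
  refine Finset.sum_congr rfl fun j _ => ?_
  rw [Algebra.smul_def]
  rfl

theorem repr_unique (E : IntermediateField k₀ K) (hE : ∀ y : K, y ^ p ∈ E) {y : K} (hy : y ∉ E)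
    (a a' : Fin p → K) (ha : ∀ j, a j ∈ E) (ha' : ∀ j, a' j ∈ E)
    (h : ∑ j, a j * y ^ (j : ℕ) = ∑ j, a' j * y ^ (j : ℕ)) : a = a' := by
  have hli := linearIndependent_pow_of_notMem (p := p) E.toSubalgebra hE hy
  rw [Fintype.linearIndependent_iff] at hli
  have h0 := hli (fun j => ⟨a j - a' j, sub_mem (ha j) (ha' j)⟩) (by
    have : ∀ j : Fin p, ((⟨a j - a' j, sub_mem (ha j) (ha' j)⟩ : E.toSubalgebra) • y ^ (j : ℕ) : K) =
        a j * y ^ (j : ℕ) - a' j * y ^ (j : ℕ) := fun j => by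
      rw [Algebra.smul_def, ← sub_mul]; rfl
    simp only [this, Finset.sum_sub_distrib, h, sub_self])
  funext j
  exact sub_eq_zero.mp (congrArg Subtype.val (h0 j))

theorem mem_iInf_sup_simple {ι : Type*} [Preorder ι] [IsDirected ι (· ≤ ·)] [Nonempty ι]
    (E : ι → IntermediateField k₀ K) (hE : Antitone E) (hpow : ∀ i (y : K), y ^ p ∈ E i) (y z : K)
    (hz : ∀ i, z ∈ E i ⊔ k₀⟮y⟯) : z ∈ (⨅ i, E i) ⊔ k₀⟮y⟯ := by
  have hmem_iInf : ∀ w : K, (∀ i, w ∈ E i) → w ∈ ⨅ i, E i := by
    intro w hw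
    have : w ∈ ((⨅ i, E i : IntermediateField k₀ K) : Set K) := by
      rw [IntermediateField.coe_iInf]; exact Set.mem_iInter.mpr hw
    exact this
  by_cases h : ∀ i, y ∈ E i
  · have : ∀ i, z ∈ E i := fun i => by
      have hle : E i ⊔ k₀⟮y⟯ ≤ E i :=
        sup_le le_rfl (IntermediateField.adjoin_simple_le_iff.mpr (h i))
      exact hle (hz i)
    exact (le_sup_left : (⨅ i, E i) ≤ _) (hmem_iInf z this)
  · push_neg at h
    obtain ⟨i₀, hi₀⟩ := h
    obtain ⟨a, ha, hza⟩ := exists_repr_of_mem_sup (E i₀) (hpow i₀) y z (hz i₀)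
    have hmem : ∀ j i, a j ∈ E i := by
      intro j i
      obtain ⟨i', hi'1, hi'2⟩ := exists_ge_ge i i₀
      obtain ⟨a', ha', hza'⟩ := exists_repr_of_mem_sup (E i') (hpow i') y z (hz i')
      have : a = a' := repr_unique (E i₀) (hpow i₀) hi₀ a a' ha (fun j => hE hi'2 (ha' j))
        (hza.symm.trans hza')
      rw [this]
      exact hE hi'1 (ha' j)
    rw [hza]
    refine sum_mem fun j _ => mul_mem ?_ (pow_mem ?_ _)
    · exact (le_sup_left : (⨅ i, E i) ≤ _) (hmem_iInf _ (hmem j))
    · exact (le_sup_right : k₀⟮y⟯ ≤ _) (IntermediateField.mem_adjoin_simple_self k₀ y)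

theorem iInf_sup_adjoin {ι : Type*} [Preorder ι] [IsDirected ι (· ≤ ·)] [Nonempty ι]
    (E : ι → IntermediateField k₀ K) (hE : Antitone E) (hpow : ∀ i (y : K), y ^ p ∈ E i)
    (Y : Finset K) :
    (⨅ i, E i ⊔ IntermediateField.adjoin k₀ (Y : Set K)) =
      (⨅ i, E i) ⊔ IntermediateField.adjoin k₀ (Y : Set K) := by
  classical
  induction Y using Finset.induction_on with
  | empty => simp
  | insert y Y hy ih =>
    have hins : ∀ F : IntermediateField k₀ K,
        F ⊔ IntermediateField.adjoin k₀ ((insert y Y : Finset K) : Set K) =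
          (F ⊔ IntermediateField.adjoin k₀ (Y : Set K)) ⊔ k₀⟮y⟯ := by
      intro F
      rw [Finset.coe_insert, Set.insert_eq, Set.union_comm, IntermediateField.adjoin_union,
        sup_assoc]
    simp_rw [hins]
    apply le_antisymm
    · intro z hz
      have hz' : ∀ i, z ∈ (E i ⊔ IntermediateField.adjoin k₀ (Y : Set K)) ⊔ k₀⟮y⟯ :=
        fun i => (iInf_le (fun i => (E i ⊔ IntermediateField.adjoin k₀ (Y : Set K)) ⊔ k₀⟮y⟯) i) hz
      have := mem_iInf_sup_simple (fun i => E i ⊔ IntermediateField.adjoin k₀ (Y : Set K))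
        (fun i j hij => sup_le_sup_right (hE hij) _)
        (fun i w => (le_sup_left : E i ≤ _) (hpow i w)) y z hz'
      rwa [ih] at this
    · exact le_iInf fun i => sup_le_sup_right (sup_le_sup_right (iInf_le _ i) _) _

end Groth.Agent.Helper9.PFiltered
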