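import Mathlib
import Groth.Prelude.Def_EGA41
import Groth.Agent.Lib.Helper9.PFiltered

/-!
# Decreasing filtered families of subfields in characteristic `p` (EGA 0_IV 21.8), part 2
-/

set_option autoImplicit false
universe u

namespace Groth.Agent.Helper9.PFiltered

open EGA41 Polynomial Groth.Agent.Helper9.PBasis IntermediateField KaehlerDifferential

variable {p : ℕ} [hp : Fact p.Prime] {k₀ K : Type u} [Field k₀] [Field K] [Algebra k₀ K] [CharP K p]

/-- a finite `p`-independent family stays `p`-independent over some member of the family. -/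
theorem exists_isPIndependent {ι : Type*} [Preorder ι] [IsDirected ι (· ≤ ·)] [Nonempty ι]
    (k : ι → IntermediateField k₀ K) (hk : Antitone k)
    (H : (⨅ i, k i ⊔ IntermediateField.adjoin k₀ (Set.range fun y : K => y ^ p)) =
      IntermediateField.adjoin k₀ (Set.range fun y : K => y ^ p))
    {ι' : Type u} [Finite ι'] (x : ι' → K) (hx : IsPIndependent p k₀ x) :
    ∃ i, IsPIndependent p (k i) x := by
  classical
  have hE : Antitone (fun i => k i ⊔ IntermediateField.adjoin k₀ (Set.range fun y : K => y ^ p)) :=
    fun i j hij => sup_le_sup_right (hk hij) _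
  have hpow : ∀ i (y : K),
      y ^ p ∈ k i ⊔ IntermediateField.adjoin k₀ (Set.range fun y : K => y ^ p) :=
    fun i y => (le_sup_right : IntermediateField.adjoin k₀ (Set.range fun y : K => y ^ p) ≤ _)
      (IntermediateField.subset_adjoin _ _ ⟨y, rfl⟩)
  have h1 := (isPIndependent_iff_notMem (p := p) (k := k₀) x).mp hx
  have h2 : ∀ a : ι', ∃ i, x a ∉ (k i ⊔ IntermediateField.adjoin k₀
      (Set.range fun y : K => y ^ p)) ⊔ IntermediateField.adjoin k₀ (x '' {b | b ≠ a}) := by
    intro a
    by_contra hcon
    push Not at hcon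
    apply h1 a
    have hfin : (x '' {b | b ≠ a}).Finite := Set.toFinite _
    have h3 := iInf_sup_adjoin (p := p)
      (fun i => k i ⊔ IntermediateField.adjoin k₀ (Set.range fun y : K => y ^ p)) hE hpow
      hfin.toFinset
    rw [Set.Finite.coe_toFinset, H] at h3
    rw [IntermediateField.adjoin_union, ← h3]
    have : x a ∈ ((⨅ i, (k i ⊔ IntermediateField.adjoin k₀ (Set.range fun y : K => y ^ p)) ⊔
        IntermediateField.adjoin k₀ (x '' {b | b ≠ a}) : IntermediateField k₀ K) : Set K) := by
      rw [IntermediateField.coe_iInf]; exact Set.mem_iInter.mpr hcon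
    exact this
  choose f hf using h2
  obtain ⟨i, hi⟩ := Finite.exists_le f
  refine ⟨i, ?_⟩
  rw [isPIndependent_iff_notMem]
  intro a hmem
  apply hf a
  have h3 : x a ∈ (IntermediateField.adjoin (k i)
      ((Set.range fun y : K => y ^ p) ∪ x '' {b | b ≠ a})).restrictScalars k₀ := hmem
  rw [IntermediateField.restrictScalars_adjoin_eq_sup, IntermediateField.adjoin_union,
    ← sup_assoc] at h3
  exact (sup_le_sup_right (sup_le_sup_right (hk (hi a)) _) _) h3

/-- `d z = 0` in `Ω_{K/k}` for `z ∈ k(K^p)`. -/
theorem D_eq_zero_of_mem_sup (k : IntermediateField k₀ K) {z : K}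
    (hz : z ∈ k ⊔ IntermediateField.adjoin k₀ (Set.range fun y : K => y ^ p)) :
    D k K z = 0 := by
  have h1 : z ∈ (IntermediateField.adjoin k (Set.range fun y : K => y ^ p)).restrictScalars k₀ := by
    rw [IntermediateField.restrictScalars_adjoin_eq_sup]; exact hz
  have h2 : z ∈ IntermediateField.adjoin k ((Set.range fun y : K => y ^ p) ∪ (∅ : Set K)) := by
    rw [Set.union_empty]; exact h1
  rw [mem_intermediateField_adjoin_iff, Algebra.adjoin_empty] at h2
  obtain ⟨c, rfl⟩ := h2
  exact der_coe_eq_zero (p := p) (D k K) c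

/-- `d z = 0` in `Ω_{K/k₀}` only for `z ∈ k₀(K^p)`. -/
theorem mem_of_D_eq_zero {z : K} (hz : D k₀ K z = 0) :
    z ∈ IntermediateField.adjoin k₀ (Set.range fun y : K => y ^ p) := by
  by_contra hcon
  have hind : IsPIndependent p k₀ (fun _ : PUnit.{u + 1} => z) := by
    rw [isPIndependent_iff_notMem]
    intro a hmem
    apply hcon
    have hempty : (fun _ : PUnit.{u + 1} => z) '' {b | b ≠ a} = ∅ := by
      rw [Set.image_eq_empty]
      ext b
      simp [Subsingleton.elim b a]
    rwa [hempty, Set.union_empty] at hmem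
  have := (linearIndependent_D_of_isPIndependent hind).ne_zero PUnit.unit
  exact this hz

theorem iInf_eq_iff_forall {ι : Type*} [Preorder ι] [IsDirected ι (· ≤ ·)] [Nonempty ι]
    (k : ι → IntermediateField k₀ K) (hk : Antitone k) :
    (⨅ i, k i ⊔ IntermediateField.adjoin k₀ (Set.range fun y : K => y ^ p)) =
        IntermediateField.adjoin k₀ (Set.range fun y : K => y ^ p) ↔
      ∀ ω : Ω[K⁄k₀], (∀ i, KaehlerDifferential.map k₀ (k i) K K ω = 0) → ω = 0 := by
  classical
  constructor
  · intro H ω hω
    obtain ⟨T, hT⟩ := exists_pBasis p k₀ K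
    have hLI : LinearIndependent K (fun t : T => D k₀ K (t : K)) :=
      ((pBasis_criteria (p := p) (k := k₀) (Subtype.val : T → K)).1).mp hT.1
    have hsp : Submodule.span K (Set.range fun t : T => D k₀ K (t : K)) = ⊤ :=
      ((pBasis_criteria (p := p) (k := k₀) (Subtype.val : T → K)).2.1).mp hT.2
    let b : Module.Basis T K Ω[K⁄k₀] := Module.Basis.mk hLI (by rw [hsp])
    have hb : ∀ t, b t = D k₀ K (t : K) := fun t => by
      simp only [b, Module.Basis.mk_apply]
    let F : Finset T := (b.repr ω).support
    have hF : IsPIndependent p k₀ (fun t : F => ((t : T) : K)) :=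
      isPIndependent_comp hT.1 (Subtype.val : F → T) Subtype.val_injective
    obtain ⟨i, hi⟩ := exists_isPIndependent k hk H (fun t : F => ((t : T) : K)) hF
    have hLI' := linearIndependent_D_of_isPIndependent hi
    have hω' : ω = ∑ t ∈ F, b.repr ω t • b t := by
      conv_lhs => rw [← b.linearCombination_repr ω, Finsupp.linearCombination_apply]
      rfl
    have h0 := hω i
    rw [hω', map_sum] at h0
    simp only [map_smul, hb, KaehlerDifferential.map_D] at h0
    rw [← Finset.sum_attach] at h0
    have hzero := (linearIndependent_iff'.mp hLI') Finset.univ (fun t : F => b.repr ω (t : T))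
      (by rw [← h0]; rfl)
    have hrepr : b.repr ω = 0 := by
      ext t
      by_cases ht : t ∈ F
      · exact hzero ⟨t, ht⟩ (Finset.mem_univ _)
      · exact Finsupp.notMem_support_iff.mp ht
    exact b.repr.map_eq_zero_iff.mp hrepr
  · intro H
    apply le_antisymm
    · intro z hz
      apply mem_of_D_eq_zero (p := p)
      apply H
      intro i
      rw [KaehlerDifferential.map_D]
      apply D_eq_zero_of_mem_sup (p := p)
      exact (iInf_le (fun i => k i ⊔ IntermediateField.adjoin k₀
        (Set.range fun y : K => y ^ p)) i) hz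
    · exact le_iInf fun i => le_sup_right

end Groth.Agent.Helper9.PFiltered
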