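import Mathlib
import Groth.Prelude.Def_EGA41
import Groth.Agent.Lib.Helper9.PBasisField4

/-!
# Admissible subfields: the basis of `L ⊗ Ω_{K/k₀}` attached to a `p`-basis, support of the
imperfection module, and injectivity criterion.
-/

set_option autoImplicit false
universe u

namespace Groth.Agent.Helper9.AdmCofinite

open EGA41 TensorProduct KaehlerDifferential Groth.Agent.Helper9.PBasis

variable {p : ℕ} [hp : Fact p.Prime] {k₀ K : Type u} [Field k₀] [Field K] [Algebra k₀ K] [CharP K p]

/-- the basis `d t`, `t ∈ T`, of `Ω_{K/k₀}` attached to a `p`-basis `T`. -/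
noncomputable def kBasis {T : Set K} (hT : IsPBasis p k₀ (Subtype.val : T → K)) :
    Module.Basis T K Ω[K⁄k₀] :=
  Module.Basis.mk (((pBasis_criteria (p := p) (k := k₀) (Subtype.val : T → K)).1).mp hT.1)
    (by rw [((pBasis_criteria (p := p) (k := k₀) (Subtype.val : T → K)).2.1).mp hT.2])

theorem kBasis_apply {T : Set K} (hT : IsPBasis p k₀ (Subtype.val : T → K)) (t : T) :
    kBasis hT t = D k₀ K (t : K) := by
  simp only [kBasis, Module.Basis.mk_apply]

/-- the basis `1 ⊗ d t`, `t ∈ T`, of `L ⊗ Ω_{K/k₀}` attached to a `p`-basis `T`. -/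
noncomputable def lBasis {T : Set K} (hT : IsPBasis p k₀ (Subtype.val : T → K))
    (L : Type u) [Field L] [Algebra K L] : Module.Basis T L (L ⊗[K] Ω[K⁄k₀]) :=
  (kBasis hT).baseChange L

theorem lBasis_apply {T : Set K} (hT : IsPBasis p k₀ (Subtype.val : T → K))
    (L : Type u) [Field L] [Algebra K L] (t : T) :
    lBasis hT L t = (1 : L) ⊗ₜ[K] D k₀ K (t : K) := by
  simp only [lBasis, Module.Basis.baseChange_apply, kBasis_apply]

/-- a finitely generated submodule of `L ⊗ Ω_{K/k₀}` is supported on finitely many basis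
elements. -/
theorem exists_finset_support {T : Set K} (hT : IsPBasis p k₀ (Subtype.val : T → K))
    (L : Type u) [Field L] [Algebra K L] (N : Submodule L (L ⊗[K] Ω[K⁄k₀])) [Module.Finite L N] :
    ∃ F : Finset T, ∀ ω ∈ N, ∀ t, t ∉ F → (lBasis hT L).repr ω t = 0 := by
  classical
  obtain ⟨S, hS⟩ : (⊤ : Submodule L N).FG := Module.Finite.fg_top
  refine ⟨S.biUnion (fun ω => ((lBasis hT L).repr (ω : L ⊗[K] Ω[K⁄k₀])).support), ?_⟩
  intro ω hω t ht
  let φ : N →ₗ[L] L := ((lBasis hT L).coord t) ∘ₗ N.subtype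
  have hφ : φ = 0 := by
    apply LinearMap.ext_on hS
    intro s hs
    change (lBasis hT L).repr (s : L ⊗[K] Ω[K⁄k₀]) t = 0
    by_contra hne
    exact ht (Finset.mem_biUnion.mpr ⟨s, hs, Finsupp.mem_support_iff.mpr hne⟩)
  exact LinearMap.congr_fun hφ ⟨ω, hω⟩

/-- if the `x_t`, `t ∈ F`, stay `p`-independent over `k'`, then `L ⊗ Ω_{K/k₀} → L ⊗ Ω_{K/k'}` is
injective on elements supported in `F`. -/
theorem eq_zero_of_support {T : Set K} (hT : IsPBasis p k₀ (Subtype.val : T → K))
    (L : Type u) [Field L] [Algebra K L] (k' : IntermediateField k₀ K) (F : Finset T)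
    (hF : IsPIndependent p k' (fun t : F => ((t : T) : K)))
    (ω : L ⊗[K] Ω[K⁄k₀]) (hout : ∀ t, t ∉ F → (lBasis hT L).repr ω t = 0)
    (h0 : ((KaehlerDifferential.map k₀ k' K K).restrictScalars K).baseChange L ω = 0) : ω = 0 := by
  classical
  have hω' : ω = ∑ t ∈ F, (lBasis hT L).repr ω t • lBasis hT L t := by
    conv_lhs => rw [← (lBasis hT L).linearCombination_repr ω, Finsupp.linearCombination_apply]
    refine Finset.sum_subset ?_ ?_
    · intro t ht
      by_contra htF
      exact (Finsupp.mem_support_iff.mp ht) (hout t htF)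
    · intro t _ ht
      change (lBasis hT L).repr ω t • lBasis hT L t = 0
      rw [Finsupp.notMem_support_iff.mp ht, zero_smul]
  have hLI' : LinearIndependent L (fun t : F => (1 : L) ⊗ₜ[K] D k' K ((t : T) : K)) :=
    Module.Flat.linearIndependent_one_tmul (linearIndependent_D_of_isPIndependent hF)
  have hΦ : ∀ t : T, ((KaehlerDifferential.map k₀ k' K K).restrictScalars K).baseChange L
      (lBasis hT L t) = (1 : L) ⊗ₜ[K] D k' K (t : K) := by
    intro t
    rw [lBasis_apply, LinearMap.baseChange_tmul]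
    congr 1
    exact KaehlerDifferential.map_D k₀ k' K K (t : K)
  rw [hω', map_sum] at h0
  simp only [map_smul, hΦ] at h0
  rw [← Finset.sum_attach] at h0
  have hzero := (linearIndependent_iff'.mp hLI') Finset.univ
    (fun t : F => (lBasis hT L).repr ω (t : T)) (by rw [← h0]; rfl)
  have hrepr : (lBasis hT L).repr ω = 0 := by
    ext t
    by_cases ht : t ∈ F
    · exact hzero ⟨t, ht⟩ (Finset.mem_univ _)
    · exact hout t ht
  exact (lBasis hT L).repr.map_eq_zero_iff.mp hrepr

end Groth.Agent.Helper9.AdmCofinite
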