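import Mathlib
import Groth.Prelude.Def_EGA41
import Groth.Agent.Lib.Helper9.AdmCofinite3

/-!
# The imperfection module of `K(z^{1/p})` over `K`
-/

set_option autoImplicit false
universe u

namespace Groth.Agent.Helper9.PRoot

open EGA41 TensorProduct KaehlerDifferential Groth.Agent.Helper9.PBasis
  Groth.Agent.Helper9.AdmCofinite

variable {p : ℕ} [hp : Fact p.Prime] {k₀ K : Type u} [Field k₀] [Field K] [Algebra k₀ K] [CharP K p]

theorem setIndep_singleton (z : K)
    (hz : z ∉ IntermediateField.adjoin k₀ (Set.range fun y : K => y ^ p)) :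
    SetIndep p k₀ ({z} : Set K) := by
  unfold SetIndep
  rw [isPIndependent_iff_notMem]
  rintro ⟨a, ha⟩ hmem
  apply hz
  have hempty : (Subtype.val : ({z} : Set K) → K) '' {b | b ≠ ⟨a, ha⟩} = ∅ := by
    rw [Set.image_eq_empty]
    ext b
    simp only [Set.mem_setOf_eq, Set.mem_empty_iff_false, iff_false, not_not]
    exact Subtype.ext (b.2.trans ha.symm)
  rw [hempty, Set.union_empty] at hmem
  have : a = z := ha
  subst this
  exact hmem

theorem imperfection_le_span (z : K)
    (hz : z ∉ IntermediateField.adjoin k₀ (Set.range fun y : K => y ^ p))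
    {L : Type u} [Field L] [Algebra K L] [Algebra k₀ L] [IsScalarTower k₀ K L] (r : L)
    (hr : r ^ p = algebraMap K L z) (htop : Algebra.adjoin K {r} = ⊤) :
    EGA41.imperfection k₀ K L ≤ Submodule.span L {(1 : L) ⊗ₜ[K] D k₀ K z} := by
  classical
  haveI : CharP L p := charP_of_injective_algebraMap (algebraMap K L).injective p
  obtain ⟨T, hzT, hT⟩ := exists_pBasis_of_setIndep (setIndep_singleton (p := p) z hz)
  have hzT' : z ∈ T := hzT rfl
  have hL : IsPIndependent p k₀
      (fun t : {t : T // (t : K) ≠ z} => algebraMap K L ((t : T) : K)) := by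
    rw [isPIndependent_iff_notMem]
    intro a hmem
    let G : IntermediateField k₀ L := (IntermediateField.adjoin k₀
      ((Set.range fun y : K => y ^ p) ∪ (Subtype.val '' {b : T | b ≠ (a : T)}))).map
        (IsScalarTower.toAlgHom k₀ K L)
    have hG : IntermediateField.adjoin k₀ ((Set.range fun y : L => y ^ p) ∪
        (fun t : {t : T // (t : K) ≠ z} => algebraMap K L ((t : T) : K)) '' {b | b ≠ a}) ≤ G := by
      rw [IntermediateField.adjoin_le_iff]
      rintro y (⟨l, rfl⟩ | ⟨t, ht, rfl⟩)
      · have hl : l ∈ Algebra.adjoin K {r} := htop ▸ Algebra.mem_top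
        change l ^ p ∈ G
        refine Algebra.adjoin_induction (p := fun l _ => l ^ p ∈ G) ?_ ?_ ?_ ?_ hl
        · rintro x rfl
          rw [hr]
          refine ⟨z, IntermediateField.subset_adjoin _ _ (Or.inr ⟨⟨z, hzT'⟩, ?_, rfl⟩), rfl⟩
          intro h
          exact a.2 (congrArg Subtype.val h).symm
        · intro c
          rw [← map_pow]
          exact ⟨c ^ p, IntermediateField.subset_adjoin _ _ (Or.inl ⟨c, rfl⟩), rfl⟩
        · intro x y _ _ hx hy
          rw [add_pow_char]
          exact add_mem hx hy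
        · intro x y _ _ hx hy
          rw [mul_pow]
          exact mul_mem hx hy
      · exact ⟨((t : T) : K), IntermediateField.subset_adjoin _ _
          (Or.inr ⟨(t : T), fun h => ht (Subtype.ext h), rfl⟩), rfl⟩
    obtain ⟨w, hw, hwa⟩ := hG hmem
    have hwa' : algebraMap K L w = algebraMap K L ((a : T) : K) := hwa
    have : w = ((a : T) : K) := (algebraMap K L).injective hwa'
    rw [this] at hw
    exact (isPIndependent_iff_notMem (p := p) (k := k₀) (Subtype.val : T → K)).mp hT.1 (a : T) hw
  have hLI := linearIndependent_D_of_isPIndependent hL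
  have hDz : D k₀ L (algebraMap K L z) = 0 := by
    rw [← hr, Derivation.leibniz_pow, ← Nat.cast_smul_eq_nsmul L, CharP.cast_eq_zero L p, zero_smul]
  intro ω hω
  have hω0 : mapBaseChange k₀ K L ω = 0 := hω
  have hexp : ω = ∑ t ∈ ((lBasis hT L).repr ω).support, (lBasis hT L).repr ω t • lBasis hT L t := by
    conv_lhs => rw [← (lBasis hT L).linearCombination_repr ω, Finsupp.linearCombination_apply]
    rfl
  have hΦ : ∀ t : T, mapBaseChange k₀ K L (lBasis hT L t) = D k₀ L (algebraMap K L (t : K)) := by
    intro t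
    rw [lBasis_apply, mapBaseChange_tmul, one_smul, KaehlerDifferential.map_D]
  have h1 : ∑ t ∈ ((lBasis hT L).repr ω).support,
      (lBasis hT L).repr ω t • D k₀ L (algebraMap K L (t : K)) = 0 := by
    rw [← hω0]
    conv_rhs => rw [hexp, map_sum]
    refine Finset.sum_congr rfl fun t _ => ?_
    rw [map_smul, hΦ]
  rw [← Finset.sum_filter_add_sum_filter_not _ (fun t : T => (t : K) ≠ z)] at h1
  have h2 : ∑ t ∈ Finset.filter (fun t : T => ¬ ((t : K) ≠ z)) ((lBasis hT L).repr ω).support,
      (lBasis hT L).repr ω t • D k₀ L (algebraMap K L (t : K)) = 0 := by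
    refine Finset.sum_eq_zero fun t ht => ?_
    have : (t : K) = z := not_not.mp (Finset.mem_filter.mp ht).2
    rw [this, hDz, smul_zero]
  rw [h2, add_zero, ← Finset.sum_subtype_eq_sum_filter] at h1
  have hzero := (linearIndependent_iff'.mp hLI) _
    (fun t : {t : T // (t : K) ≠ z} => (lBasis hT L).repr ω (t : T)) h1
  rw [hexp]
  refine Submodule.sum_mem _ fun t ht => ?_
  by_cases htz : (t : K) = z
  · rw [lBasis_apply, htz]
    exact Submodule.smul_mem _ _ (Submodule.subset_span rfl)
  · have : (lBasis hT L).repr ω t = 0 :=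
      hzero ⟨t, htz⟩ (Finset.mem_subtype.mpr ht)
    rw [this, zero_smul]
    exact Submodule.zero_mem _

end Groth.Agent.Helper9.PRoot
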