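import Mathlib
import Groth.Prelude.Def_EGA41
import Groth.Agent.Lib.Helper9.Cartier3
import Groth.Agent.Lib.Helper9.PRoot
import Groth.Agent.Lib.Helper9.PFiltered2

/-!
# Cartier's equality: change of base ring, prime field, `p`-th root extensions
-/

set_option autoImplicit false
set_option linter.unusedSectionVars false
set_option linter.style.haveILetI false

universe u

open TensorProduct KaehlerDifferential Polynomial IntermediateField

namespace Groth.Agent.Helper9.Cartier

section BaseChange

variable {a b : Type} {K L : Type u} [CommRing a] [CommRing b] [CommRing K] [CommRing L]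
  [Algebra a b] [Algebra a K] [Algebra b K] [IsScalarTower a b K] [Algebra K L] [Algebra a L]
  [Algebra b L] [IsScalarTower a K L] [IsScalarTower b K L] [IsScalarTower a b L]

end BaseChange

section BaseChange'

variable {a : Type*} {b : Type*} {K : Type*} [CommRing a] [CommRing b] [CommRing K]
  [Algebra a b] [Algebra a K] [Algebra b K] [IsScalarTower a b K]

lemma map_injective_of_D_eq_zero (h : ∀ c : b, D a K (algebraMap b K c) = 0) :
    Function.Injective (KaehlerDifferential.map a b K K) := by
  rw [injective_iff_map_eq_zero]
  intro ω hω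
  have hmem := Imperf.mem_span_of_map_eq_zero (a := a) (b := b) ω hω
  have hbot : Submodule.span K (Set.range fun x : b => D a K (algebraMap b K x)) = ⊥ := by
    rw [Submodule.span_eq_bot]
    rintro _ ⟨x, rfl⟩
    exact h x
  rw [hbot] at hmem
  exact (Submodule.mem_bot K).mp hmem

end BaseChange'

section ImperfEquiv

variable {a : Type*} {b : Type*} {K L : Type u} [CommRing a] [CommRing b] [CommRing K] [CommRing L]
  [Algebra a b] [Algebra a K] [Algebra b K] [IsScalarTower a b K] [Algebra K L] [Algebra a L]
  [Algebra b L] [IsScalarTower a K L] [IsScalarTower b K L] [IsScalarTower a b L]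

/-- If `Ω_{K/a} → Ω_{K/b}` and `Ω_{L/a} → Ω_{L/b}` are injective, the imperfection modules over
`a` and `b` are isomorphic. -/
noncomputable def imperfEquiv (hK : Function.Injective (KaehlerDifferential.map a b K K))
    (hL : Function.Injective (KaehlerDifferential.map a b L L)) :
    EGA41.imperfection a K L ≃ₗ[L] EGA41.imperfection b K L := by
  let eK : Ω[K⁄a] ≃ₗ[K] Ω[K⁄b] := LinearEquiv.ofBijective (KaehlerDifferential.map a b K K)
    ⟨hK, KaehlerDifferential.map_surjective a b K⟩
  let φ : L ⊗[K] Ω[K⁄a] ≃ₗ[L] L ⊗[K] Ω[K⁄b] := eK.baseChange K L _ _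
  have hφ : ∀ z, φ z = (KaehlerDifferential.map a b K K).baseChange L z := fun z => rfl
  have h : EGA41.imperfection a K L =
      (EGA41.imperfection b K L).comap (φ : L ⊗[K] Ω[K⁄a] →ₗ[L] L ⊗[K] Ω[K⁄b]) := by
    ext z
    rw [Submodule.mem_comap]
    change mapBaseChange a K L z = 0 ↔ mapBaseChange b K L (φ z) = 0
    rw [hφ, ← Imperf.map_mapBaseChange, map_eq_zero_iff _ hL]
  exact (LinearEquiv.ofEq _ _ h).trans (LinearEquiv.ofSubmodule' φ _)

end ImperfEquiv

section Prime

variable (a : Type*) (K : Type*) [CommRing a] [Field K] [Algebra a K]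

/-- The subfield of constants of the universal derivation. -/
def constSubfield : Subfield K where
  carrier := {x | D a K x = 0}
  mul_mem' := fun {x y} hx hy => by
    change D a K (x * y) = 0
    rw [Derivation.leibniz, show D a K x = 0 from hx, show D a K y = 0 from hy, smul_zero,
      smul_zero, add_zero]
  one_mem' := (D a K).map_one_eq_zero
  add_mem' := fun {x y} hx hy => by
    change D a K (x + y) = 0
    rw [map_add, show D a K x = 0 from hx, show D a K y = 0 from hy, add_zero]
  zero_mem' := map_zero _
  neg_mem' := fun {x} hx => by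
    change D a K (-x) = 0
    rw [map_neg, show D a K x = 0 from hx, neg_zero]
  inv_mem' := fun x hx => by
    change D a K x⁻¹ = 0
    rw [Derivation.leibniz_inv, show D a K x = 0 from hx, smul_zero]

lemma D_eq_zero_of_mem_bot {x : K} (hx : x ∈ (⊥ : Subfield K)) : D a K x = 0 :=
  (bot_le : ⊥ ≤ constSubfield a K) hx

end Prime

end Groth.Agent.Helper9.Cartier
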