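import Mathlib
import Groth.Prelude.Def_EGA41
import Groth.Agent.Lib.Helper9.Cartier4

set_option autoImplicit false
set_option linter.unusedSectionVars false
set_option linter.style.haveILetI false

universe u

open TensorProduct KaehlerDifferential Polynomial IntermediateField

namespace Groth.Agent.Helper9.Cartier

open Groth.Agent.Helper9.PBasis Groth.Agent.Helper9.PFiltered Groth.Agent.Helper9.PRoot

section PRoot

variable {p : ℕ} [hp : Fact p.Prime] {K L : Type u} [Field K] [Field L] [Algebra K L] [CharP K p]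

/-- all `p`-th powers of `L = K[r]`, `r^p ∈ K`, lie in `K`. -/
lemma pow_mem_range (z : K) (r : L) (hr : r ^ p = algebraMap K L z)
    (htop : Algebra.adjoin K {r} = ⊤) (l : L) : l ^ p ∈ (algebraMap K L).range := by
  haveI : CharP L p := charP_of_injective_algebraMap (algebraMap K L).injective p
  have hl : l ∈ Algebra.adjoin K {r} := htop ▸ Algebra.mem_top
  refine Algebra.adjoin_induction (p := fun l _ => l ^ p ∈ (algebraMap K L).range) ?_ ?_ ?_ ?_ hl
  · rintro x rfl
    exact ⟨z, hr.symm⟩
  · intro c
    exact ⟨c ^ p, map_pow _ _ _⟩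
  · intro x y _ _ hx hy
    rw [add_pow_char]
    exact add_mem hx hy
  · intro x y _ _ hx hy
    rw [mul_pow]
    exact mul_mem hx hy

lemma span_D_eq_top (r : L) (htop : Algebra.adjoin K {r} = ⊤) :
    Submodule.span L {D K L r} = ⊤ := by
  rw [eq_top_iff, ← KaehlerDifferential.span_range_derivation K L, Submodule.span_le]
  rintro _ ⟨l, rfl⟩
  have hl : l ∈ Algebra.adjoin K {r} := htop ▸ Algebra.mem_top
  refine Algebra.adjoin_induction
    (p := fun l _ => D K L l ∈ Submodule.span L {D K L r}) ?_ ?_ ?_ ?_ hl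
  · rintro x rfl
    exact Submodule.subset_span rfl
  · intro c
    rw [Derivation.map_algebraMap]
    exact Submodule.zero_mem _
  · intro x y _ _ hx hy
    rw [map_add]
    exact Submodule.add_mem _ hx hy
  · intro x y _ _ hx hy
    rw [Derivation.leibniz]
    exact Submodule.add_mem _ (Submodule.smul_mem _ _ hy) (Submodule.smul_mem _ _ hx)

theorem P.of_pRoot (z : K) (r : L) (hr : r ^ p = algebraMap K L z)
    (htop : Algebra.adjoin K {r} = ⊤) : P ℤ K L := by
  haveI : CharP L p := charP_of_injective_algebraMap (algebraMap K L).injective p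
  by_cases hmem : r ∈ (algebraMap K L).range
  · refine P.of_surjective fun l => ?_
    have hl : l ∈ Algebra.adjoin K {r} := htop ▸ Algebra.mem_top
    have hle : Algebra.adjoin K {r} ≤ ⊥ := by
      rw [Algebra.adjoin_le_iff]
      rintro x rfl
      exact Algebra.mem_bot.mpr hmem
    exact Algebra.mem_bot.mp (hle hl)
  -- algebraicity
  have hint : ∀ l : L, IsIntegral K l := by
    intro l
    have hl : l ∈ Algebra.adjoin K {r} := htop ▸ Algebra.mem_top
    have hle : Algebra.adjoin K {r} ≤ integralClosure K L := by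
      rw [Algebra.adjoin_le_iff]
      rintro x rfl
      refine ⟨X ^ p - C z, monic_X_pow_sub_C z hp.out.ne_zero, ?_⟩
      rw [eval₂_sub, eval₂_X_pow, eval₂_C, hr, sub_self]
    exact hle hl
  haveI : Algebra.IsIntegral K L := ⟨hint⟩
  have htr : Algebra.trdeg K L = 0 := trdeg_eq_zero
  -- `z` is not a `p`-th power
  have hz : ∀ w : K, w ^ p ≠ z := by
    intro w hw
    apply hmem
    refine ⟨w, ?_⟩
    apply frobenius_inj L p
    rw [frobenius_def, frobenius_def, ← map_pow, hw, hr]
  -- rank of `Ω_{L/K}`
  have hDr : D K L r ≠ 0 := by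
    intro h0
    have h1 := mem_of_D_eq_zero (p := p) h0
    have hle : IntermediateField.adjoin K (Set.range fun y : L => y ^ p) ≤ ⊥ := by
      rw [IntermediateField.adjoin_le_iff]
      rintro _ ⟨l, rfl⟩
      obtain ⟨c, hc⟩ := pow_mem_range z r hr htop l
      exact IntermediateField.mem_bot.mpr ⟨c, hc⟩
    obtain ⟨c, hc⟩ := IntermediateField.mem_bot.mp (hle h1)
    exact hmem ⟨c, hc⟩
  have hΩ : Module.finrank L (Ω[L⁄K]) = 1 := by
    have := finrank_span_singleton (K := L) hDr
    rw [span_D_eq_top r htop] at this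
    rw [← this, finrank_top]
  haveI : Module.Finite L (Ω[L⁄K]) := Module.finite_of_finrank_pos (by rw [hΩ]; exact one_pos)
  -- the prime field
  let k₀ : Type u := ↥(⊥ : Subfield K)
  have hz' : z ∉ IntermediateField.adjoin k₀ (Set.range fun y : K => y ^ p) := by
    intro hzmem
    let F : IntermediateField k₀ K := Subfield.toIntermediateField (frobenius K p).fieldRange
      (fun c => (bot_le : (⊥ : Subfield K) ≤ (frobenius K p).fieldRange) c.2)
    have hle : IntermediateField.adjoin k₀ (Set.range fun y : K => y ^ p) ≤ F := by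
      rw [IntermediateField.adjoin_le_iff]
      rintro _ ⟨y, rfl⟩
      exact ⟨y, rfl⟩
    obtain ⟨w, hw⟩ := hle hzmem
    exact hz w hw
  have hle := imperfection_le_span (p := p) (k₀ := k₀) z hz' r hr htop
  have hmemΥ : (1 : L) ⊗ₜ[K] D k₀ K z ∈ EGA41.imperfection k₀ K L := by
    change mapBaseChange k₀ K L _ = 0
    rw [mapBaseChange_tmul, one_smul, KaehlerDifferential.map_D, ← hr, Derivation.leibniz_pow,
      ← Nat.cast_smul_eq_nsmul L, CharP.cast_eq_zero L p, zero_smul]
  have hne : (1 : L) ⊗ₜ[K] D k₀ K z ≠ 0 := by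
    intro h0
    have h2 : D k₀ K z = 0 := by
      apply Module.Flat.tensorProduct_mk_injective K Ω[K⁄k₀] L
      rw [map_zero]
      exact h0
    exact hz' (mem_of_D_eq_zero (p := p) h2)
  have hΥeq : EGA41.imperfection k₀ K L = Submodule.span L {(1 : L) ⊗ₜ[K] D k₀ K z} :=
    le_antisymm hle ((Submodule.span_singleton_le_iff_mem _ _).mpr hmemΥ)
  have hΥ₀ : Module.finrank L (EGA41.imperfection k₀ K L) = 1 := by
    rw [hΥeq]
    exact finrank_span_singleton hne
  -- transfer to `ℤ`
  have hK : Function.Injective (KaehlerDifferential.map ℤ k₀ K K) :=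
    map_injective_of_D_eq_zero fun c => D_eq_zero_of_mem_bot ℤ K c.2
  have hL : Function.Injective (KaehlerDifferential.map ℤ k₀ L L) :=
    map_injective_of_D_eq_zero fun c => by
      have : c.1 ∈ (constSubfield ℤ L).comap (algebraMap K L) :=
        (bot_le : (⊥ : Subfield K) ≤ (constSubfield ℤ L).comap (algebraMap K L)) c.2
      exact this
  have e := imperfEquiv (a := ℤ) (b := k₀) (K := K) (L := L) hK hL
  have hΥ : Module.finrank L (EGA41.imperfection ℤ K L) = 1 := by
    rw [e.finrank_eq, hΥ₀]
  haveI : Module.Free L (EGA41.imperfection ℤ K L) :=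
    Module.Free.of_divisionRing L ↥(EGA41.imperfection ℤ K L)
  haveI : Module.Finite L (EGA41.imperfection ℤ K L) :=
    Module.finite_of_finrank_pos (by rw [hΥ]; exact one_pos)
  refine ⟨inferInstance, inferInstance, ?_, ?_⟩
  · rw [htr]
    exact Cardinal.aleph0_pos
  · rw [htr, hΩ, hΥ]
    simp

end PRoot

end Groth.Agent.Helper9.Cartier
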