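import Mathlib
import Groth.Prelude.Def_EGA41
import Groth.Agent.Lib.Helper9.Cartier5

set_option autoImplicit false
set_option linter.unusedSectionVars false
set_option linter.style.haveILetI false

universe u

open TensorProduct KaehlerDifferential Polynomial IntermediateField

namespace Groth.Agent.Helper9.Cartier

section Gen

variable {K L : Type u} [Field K] [Field L] [Algebra K L]

lemma adjoin_gen_eq_top (x : L) : K⟮AdjoinSimple.gen K x⟯ = ⊤ := by
  rw [eq_top_iff]
  intro y _
  obtain ⟨r, s, h⟩ := (IntermediateField.mem_adjoin_simple_iff K y.1).mp y.2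
  refine (IntermediateField.mem_adjoin_simple_iff K y).mpr ⟨r, s, Subtype.ext ?_⟩
  rw [h]
  simp

lemma isSeparable_of_top (x : L) (hx : IsSeparable K x) (htop : K⟮x⟯ = ⊤) :
    Algebra.IsSeparable K L := by
  have hle : K⟮x⟯ ≤ separableClosure K L := by
    rw [IntermediateField.adjoin_simple_le_iff]
    exact hx
  refine ⟨fun y => ?_⟩
  have : y ∈ separableClosure K L := hle (htop ▸ IntermediateField.mem_top)
  exact this

end Gen

section Alg

variable {p : ℕ} [hp : Fact p.Prime]

theorem P.of_pow_isSeparable (n : ℕ) : ∀ (K L : Type u) [Field K] [Field L] [Algebra K L]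
    [CharP K p] (x : L), K⟮x⟯ = ⊤ → IsSeparable K (x ^ p ^ n) → P ℤ K L := by
  induction n with
  | zero =>
    intro K L _ _ _ _ x htop hx
    rw [pow_zero, pow_one] at hx
    haveI := isSeparable_of_top x hx htop
    exact P.of_isSeparable
  | succ n ih =>
    intro K L _ _ _ _ x htop hx
    let F : IntermediateField K L := K⟮x ^ p⟯
    haveI : CharP F p := charP_of_injective_algebraMap (algebraMap K F).injective p
    -- `K ⊆ F`
    have h1 : P ℤ K F := by
      refine ih K F (AdjoinSimple.gen K (x ^ p)) (adjoin_gen_eq_top _) ?_
      have : ((AdjoinSimple.gen K (x ^ p) ^ p ^ n : F) : L) = x ^ p ^ (n + 1) := by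
        rw [pow_succ', pow_mul]
        rfl
      unfold IsSeparable
      rw [IntermediateField.minpoly_eq, this]
      exact hx
    -- `F ⊆ L`
    have hxint : IsIntegral F x := by
      refine ⟨X ^ p - C (AdjoinSimple.gen K (x ^ p)), monic_X_pow_sub_C _ hp.out.ne_zero, ?_⟩
      rw [eval₂_sub, eval₂_X_pow, eval₂_C]
      exact sub_self _
    have htopF : F⟮x⟯ = ⊤ := by
      rw [← IntermediateField.restrictScalars_eq_top_iff (K := K), eq_top_iff, ← htop,
        IntermediateField.adjoin_simple_le_iff]
      exact IntermediateField.mem_adjoin_simple_self F x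
    have hadj : Algebra.adjoin F {x} = ⊤ := by
      rw [← IntermediateField.adjoin_simple_toSubalgebra_of_isAlgebraic hxint.isAlgebraic, htopF]
      rfl
    have h2 : P ℤ F L := P.of_pRoot (p := p) (AdjoinSimple.gen K (x ^ p)) x rfl hadj
    exact P.trans h1 h2

end Alg

section Simple

variable {K L : Type u} [Field K] [Field L] [Algebra K L]

theorem P.of_simple (x : L) (htop : K⟮x⟯ = ⊤) : P ℤ K L := by
  by_cases hx : Transcendental K x
  · exact P.of_transcendental x hx htop
  have halg : IsAlgebraic K x := by
    by_contra h
    exact hx h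
  have hint : IsIntegral K x := halg.isIntegral
  obtain ⟨p, hchar⟩ := CharP.exists K
  rcases CharP.char_is_prime_or_zero K p with hp | hp0
  · haveI : Fact p.Prime := ⟨hp⟩
    obtain ⟨n, g, hg, hexp⟩ := Polynomial.exists_separable_of_irreducible p
      (minpoly.irreducible hint) hp.ne_zero
    refine P.of_pow_isSeparable (p := p) n K L x htop ?_
    have hroot : Polynomial.aeval (x ^ p ^ n) g = 0 := by
      rw [← Polynomial.expand_aeval, hexp, minpoly.aeval]
    exact hg.of_dvd (minpoly.dvd K _ hroot)
  · subst hp0
    haveI : CharZero K := CharP.charP_to_charZero K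
    have hsep : IsSeparable K x := (minpoly.irreducible hint).separable
    haveI := isSeparable_of_top x hsep htop
    exact P.of_isSeparable

end Simple

section FG

theorem P.of_adjoin_finset (L : Type u) [Field L] (s : Finset L) :
    ∀ (K : Type u) [Field K] [Algebra K L], IntermediateField.adjoin K (s : Set L) = ⊤ →
      P ℤ K L := by
  classical
  induction s using Finset.induction_on with
  | empty =>
    intro K _ _ htop
    refine P.of_surjective fun l => ?_
    rw [Finset.coe_empty, IntermediateField.adjoin_empty] at htop
    have : l ∈ (⊥ : IntermediateField K L) := htop ▸ IntermediateField.mem_top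
    exact IntermediateField.mem_bot.mp this
  | insert x s' hx ih =>
    intro K _ _ htop
    let F : IntermediateField K L := K⟮x⟯
    have h1 : P ℤ K F := P.of_simple (AdjoinSimple.gen K x) (adjoin_gen_eq_top x)
    have htopF : IntermediateField.adjoin F (s' : Set L) = ⊤ := by
      rw [← IntermediateField.restrictScalars_eq_top_iff (K := K),
        IntermediateField.adjoin_adjoin_left, ← htop, Finset.coe_insert, Set.singleton_union]
    have h2 : P ℤ F L := ih F htopF
    exact P.trans h1 h2

theorem P.of_essFiniteType (K L : Type u) [Field K] [Field L] [Algebra K L]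
    [Algebra.EssFiniteType K L] : P ℤ K L := by
  obtain ⟨s, hs⟩ := IntermediateField.fg_top K L
  exact P.of_adjoin_finset L s K hs

end FG

end Groth.Agent.Helper9.Cartier
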