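import Mathlib

/-!
# Finiteness of adic completions

If `B` is `I`-adically complete and `x₁, …, xₙ` generate `M` modulo `I M`, then their images generate
the `I`-adic completion of `M` (EGA 0_I 7.2.9 / 0_IV 20.7.15).
-/

set_option autoImplicit false
set_option linter.unusedSectionVars false

namespace Groth.Agent.Helper9.AdicFin

open Submodule

variable {B : Type*} [CommRing B] (I : Ideal B) {M : Type*} [AddCommGroup M] [Module B M]

/-- successive approximation step -/
lemma exists_approx {n : ℕ} (x : Fin n → M)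
    (hx : Submodule.span B (Set.range x) ⊔ I • (⊤ : Submodule B M) = ⊤) (k : ℕ) (m : M)
    (hm : m ∈ I ^ k • (⊤ : Submodule B M)) :
    ∃ c : Fin n → B, (∀ i, c i ∈ I ^ k) ∧
      m - ∑ i, c i • x i ∈ I ^ (k + 1) • (⊤ : Submodule B M) := by
  refine Submodule.smul_induction_on hm ?_ ?_
  · intro r hr m' _
    have hm' : m' ∈ Submodule.span B (Set.range x) ⊔ I • (⊤ : Submodule B M) := by
      rw [hx]; trivial
    obtain ⟨s, hs, z, hz, rfl⟩ := Submodule.mem_sup.mp hm'
    obtain ⟨a, rfl⟩ := (Submodule.mem_span_range_iff_exists_fun B).mp hs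
    refine ⟨fun i => r * a i, fun i => Ideal.mul_mem_right _ _ hr, ?_⟩
    have : r • (∑ i, a i • x i + z) - ∑ i, (r * a i) • x i = r • z := by
      rw [smul_add, Finset.smul_sum]
      simp only [mul_smul]
      abel
    rw [this, pow_succ, Submodule.mul_smul]
    exact Submodule.smul_mem_smul hr hz
  · intro m₁ m₂ h₁ h₂
    obtain ⟨c₁, hc₁, h₁⟩ := h₁
    obtain ⟨c₂, hc₂, h₂⟩ := h₂
    refine ⟨c₁ + c₂, fun i => Ideal.add_mem _ (hc₁ i) (hc₂ i), ?_⟩
    have : m₁ + m₂ - ∑ i, (c₁ + c₂) i • x i =
        (m₁ - ∑ i, c₁ i • x i) + (m₂ - ∑ i, c₂ i • x i) := by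
      simp only [Pi.add_apply, add_smul, Finset.sum_add_distrib]
      abel
    rw [this]
    exact Submodule.add_mem _ h₁ h₂

/-- A sequence with `f (k+1) - f k ∈ I^k` converges in an `I`-adically complete ring. -/
lemma exists_limit [IsPrecomplete I B] (f : ℕ → B) (hf : ∀ k, f (k + 1) - f k ∈ I ^ k) :
    ∃ L : B, ∀ k, L - f k ∈ I ^ k := by
  have hcauchy : ∀ {m n}, m ≤ n → f m ≡ f n [SMOD (I ^ m • ⊤ : Submodule B B)] := by
    intro m n hmn
    induction n, hmn using Nat.le_induction with
    | base => exact SModEq.refl _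
    | succ n hmn ih =>
      refine ih.trans ?_
      rw [SModEq.sub_mem, smul_eq_mul, Ideal.mul_top]
      have h1 : f n - f (n + 1) = -(f (n + 1) - f n) := by ring
      rw [h1]
      exact neg_mem (Ideal.pow_le_pow_right hmn (hf n))
  obtain ⟨L, hL⟩ := IsPrecomplete.prec ‹_› hcauchy
  refine ⟨L, fun k => ?_⟩
  have := (hL k).symm
  rwa [SModEq.sub_mem, smul_eq_mul, Ideal.mul_top] at this

/-- If `x` generates `M` modulo `I M` and `B` is `I`-adically (pre)complete, then the images of the
`x i` generate the completion of `M`. -/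
theorem span_of_eq_top [IsPrecomplete I B] {n : ℕ} (x : Fin n → M)
    (hx : Submodule.span B (Set.range x) ⊔ I • (⊤ : Submodule B M) = ⊤) :
    Submodule.span B (Set.range fun i => AdicCompletion.of I M (x i)) = ⊤ := by
  rw [eq_top_iff]
  rintro y -
  -- the property of the approximating coefficients
  let P : ℕ → (Fin n → B) → Prop := fun k c =>
    y.val k = Submodule.Quotient.mk (∑ i, c i • x i)
  have h0 : P 0 0 := by
    change y.val 0 = Submodule.Quotient.mk _
    have : Subsingleton (M ⧸ (I ^ 0 • ⊤ : Submodule B M)) := by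
      rw [Submodule.Quotient.subsingleton_iff, pow_zero, Ideal.one_eq_top, Submodule.top_smul]
    exact Subsingleton.elim _ _
  have step : ∀ k (c : Fin n → B), P k c →
      ∃ c' : Fin n → B, P (k + 1) c' ∧ ∀ i, c' i - c i ∈ I ^ k := by
    intro k c hc
    obtain ⟨m, hm⟩ := Submodule.Quotient.mk_surjective _ (y.val (k + 1))
    have hmem : m - ∑ i, c i • x i ∈ I ^ k • (⊤ : Submodule B M) := by
      rw [← Submodule.Quotient.mk_eq_zero, Submodule.Quotient.mk_sub, ← hc,
        ← y.property (Nat.le_succ k), ← hm]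
      exact sub_self _
    obtain ⟨d, hd, hd'⟩ := exists_approx I x hx k _ hmem
    refine ⟨c + d, ?_, fun i => by simpa using hd i⟩
    change y.val (k + 1) = Submodule.Quotient.mk _
    rw [← hm, eq_comm, ← sub_eq_zero, ← Submodule.Quotient.mk_sub, Submodule.Quotient.mk_eq_zero]
    have : ∑ i, (c + d) i • x i - m = -(m - ∑ i, c i • x i - ∑ i, d i • x i) := by
      simp only [Pi.add_apply, add_smul, Finset.sum_add_distrib]
      abel
    rw [this]
    exact Submodule.neg_mem _ hd'
  let F : (k : ℕ) → {c : Fin n → B // P k c} := fun k =>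
    Nat.rec ⟨0, h0⟩ (fun k c => ⟨Classical.choose (step k c.1 c.2),
      (Classical.choose_spec (step k c.1 c.2)).1⟩) k
  have hF : ∀ k i, (F (k + 1)).1 i - (F k).1 i ∈ I ^ k := fun k i =>
    (Classical.choose_spec (step k (F k).1 (F k).2)).2 i
  have hlim : ∀ i, ∃ L : B, ∀ k, L - (F k).1 i ∈ I ^ k := fun i =>
    exists_limit I (fun k => (F k).1 i) (fun k => hF k i)
  choose b hb using hlim
  have hy : y = ∑ i, b i • AdicCompletion.of I M (x i) := by
    apply AdicCompletion.ext
    intro k
    rw [AdicCompletion.val_sum_apply]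
    simp only [AdicCompletion.val_smul_apply, AdicCompletion.of_apply, Submodule.mkQ_apply]
    rw [(F k).2]
    have hq : ∀ z : M, (Submodule.Quotient.mk z : M ⧸ (I ^ k • ⊤ : Submodule B M)) =
        Submodule.mkQ _ z := fun _ => rfl
    simp only [hq, ← map_smul, ← map_sum]
    rw [eq_comm, ← sub_eq_zero, ← map_sub, Submodule.mkQ_apply,
      Submodule.Quotient.mk_eq_zero, ← Finset.sum_sub_distrib]
    refine Submodule.sum_mem _ fun i _ => ?_
    rw [← sub_smul]
    exact Submodule.smul_mem_smul (hb i k) Submodule.mem_top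
  rw [hy]
  exact Submodule.sum_mem _ fun i _ =>
    Submodule.smul_mem _ _ (Submodule.subset_span ⟨i, rfl⟩)

/-- If `M / I M` is a finite module and `B` is `I`-adically complete then the `I`-adic completion of
`M` is a finite `B`-module. -/
theorem finite_adicCompletion [IsPrecomplete I B]
    [Module.Finite B (M ⧸ (I • ⊤ : Submodule B M))] : Module.Finite B (AdicCompletion I M) := by
  obtain ⟨n, s, hs⟩ := Module.Finite.exists_fin (R := B) (M := M ⧸ (I • ⊤ : Submodule B M))
  choose x hx using fun i => Submodule.Quotient.mk_surjective _ (s i)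
  have hspan : Submodule.span B (Set.range x) ⊔ I • (⊤ : Submodule B M) = ⊤ := by
    rw [eq_top_iff]
    rintro m -
    have hm : (Submodule.Quotient.mk m : M ⧸ (I • ⊤ : Submodule B M)) ∈
        Submodule.span B (Set.range s) := by rw [hs]; trivial
    obtain ⟨a, ha⟩ := (Submodule.mem_span_range_iff_exists_fun B).mp hm
    have h2 : m - ∑ i, a i • x i ∈ (I • ⊤ : Submodule B M) := by
      have hq : ∀ z : M, (Submodule.Quotient.mk z : M ⧸ (I • ⊤ : Submodule B M)) =
          Submodule.mkQ _ z := fun _ => rfl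
      rw [← Submodule.Quotient.mk_eq_zero, Submodule.Quotient.mk_sub, ← ha, hq (∑ i, a i • x i),
        map_sum]
      simp only [map_smul, Submodule.mkQ_apply, hx]
      exact sub_self _
    have h3 : m = ∑ i, a i • x i + (m - ∑ i, a i • x i) := by abel
    rw [h3]
    exact Submodule.add_mem_sup (Submodule.sum_mem _ fun i _ =>
      Submodule.smul_mem _ _ (Submodule.subset_span ⟨i, rfl⟩)) h2
  classical
  exact ⟨⟨Finset.univ.image fun i => AdicCompletion.of I M (x i), by
    rw [Finset.coe_image, Finset.coe_univ, Set.image_univ]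
    exact span_of_eq_top I x hspan⟩⟩

end Groth.Agent.Helper9.AdicFin
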