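import Mathlib
import Groth.Agent.Lib.Helper9.AdicFin
import Groth.Agent.Lib.Helper14.PowerSeriesAdic
import Groth.Agent.Lib.Helper18.Schl.PSComplete

/-!
# Completed differentials of a power series ring over a field (EGA 0_IV 21.9.x)

`Ω̂_{k[[T_1..T_r]]/k}` is free with basis `dT_i`.
-/

set_option autoImplicit false
set_option linter.unusedSectionVars false

open MvPowerSeries IsLocalRing KaehlerDifferential

namespace Groth.Agent.Helper9.PSOmega

universe u

variable (k : Type u) [Field k] (r : ℕ)

instance isAdicComplete :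
    IsAdicComplete (maximalIdeal (MvPowerSeries (Fin r) k)) (MvPowerSeries (Fin r) k) := by
  haveI : IsAdicComplete (maximalIdeal k) k := by
    rw [IsLocalRing.maximalIdeal_eq_bot]; infer_instance
  exact Groth.Agent.Helper18.ps_isAdicComplete

lemma span_D_X_sup :
    Submodule.span (MvPowerSeries (Fin r) k)
      (Set.range fun i : Fin r => D k (MvPowerSeries (Fin r) k) (X i)) ⊔
      (maximalIdeal (MvPowerSeries (Fin r) k)) •
        (⊤ : Submodule (MvPowerSeries (Fin r) k) (Ω[MvPowerSeries (Fin r) k⁄k])) = ⊤ := by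
  rw [eq_top_iff, ← KaehlerDifferential.span_range_derivation k (MvPowerSeries (Fin r) k),
    Submodule.span_le]
  rintro _ ⟨f, rfl⟩
  have h1 : f - C (constantCoeff f) ∈
      Ideal.span (Set.range (X : Fin r → MvPowerSeries (Fin r) k)) := by
    rw [← Groth.Agent.Helper14.PowerSeriesAdic.ker_constantCoeff_eq (σ := Fin r) (A := k),
      RingHom.mem_ker, map_sub,
      constantCoeff_C, sub_self]
  obtain ⟨g, hg⟩ := (Ideal.mem_span_range_iff_exists_fun).mp h1
  have h2 : D k (MvPowerSeries (Fin r) k) f =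
      ∑ i, (g i • D k (MvPowerSeries (Fin r) k) (X i) +
        (X i : MvPowerSeries (Fin r) k) • D k (MvPowerSeries (Fin r) k) (g i)) := by
    have hf : f = C (constantCoeff f) + ∑ i, g i * X i := by rw [hg]; ring
    conv_lhs => rw [hf]
    rw [map_add, map_sum]
    have hC : D k (MvPowerSeries (Fin r) k) (C (constantCoeff f)) = 0 := by
      rw [c_eq_algebraMap]
      exact Derivation.map_algebraMap _ _
    rw [hC, zero_add]
    refine Finset.sum_congr rfl fun i _ => ?_
    rw [Derivation.leibniz]
  rw [h2]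
  refine Submodule.sum_mem _ fun i _ => Submodule.add_mem _ ?_ ?_
  · exact Submodule.mem_sup_left (Submodule.smul_mem _ _ (Submodule.subset_span ⟨i, rfl⟩))
  · exact Submodule.mem_sup_right (Submodule.smul_mem_smul
      (Groth.Agent.Helper18.ps_X_mem_maximalIdeal i) (Submodule.subset_span ⟨g i, rfl⟩))

/-- the images of `dT_i` in the completed module of differentials -/
noncomputable def e (i : Fin r) :
    AdicCompletion (maximalIdeal (MvPowerSeries (Fin r) k)) (Ω[MvPowerSeries (Fin r) k⁄k]) :=
  AdicCompletion.of _ _ (D k (MvPowerSeries (Fin r) k) (X i))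

lemma span_e : Submodule.span (MvPowerSeries (Fin r) k) (Set.range (e k r)) = ⊤ :=
  Groth.Agent.Helper9.AdicFin.span_of_eq_top _ _ (span_D_X_sup k r)

lemma map_mem_pow {I : Ideal (MvPowerSeries (Fin r) k)}
    (φ : (Ω[MvPowerSeries (Fin r) k⁄k]) →ₗ[MvPowerSeries (Fin r) k] MvPowerSeries (Fin r) k)
    (n : ℕ) (ω : Ω[MvPowerSeries (Fin r) k⁄k])
    (hω : ω ∈ I ^ n • (⊤ : Submodule (MvPowerSeries (Fin r) k) (Ω[MvPowerSeries (Fin r) k⁄k]))) :
    φ ω ∈ I ^ n := by
  refine Submodule.smul_induction_on hω ?_ ?_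
  · intro a ha m _
    rw [map_smul, smul_eq_mul]
    exact Ideal.mul_mem_right _ _ ha
  · intro x y hx hy
    rw [map_add]
    exact Ideal.add_mem _ hx hy

lemma linearIndependent_e : LinearIndependent (MvPowerSeries (Fin r) k) (e k r) := by
  classical
  rw [Fintype.linearIndependent_iff]
  intro c hc i
  set ω : Ω[MvPowerSeries (Fin r) k⁄k] := ∑ j, c j • D k (MvPowerSeries (Fin r) k) (X j) with hω
  have h1 : AdicCompletion.of (maximalIdeal (MvPowerSeries (Fin r) k)) _ ω = 0 := by
    rw [hω, map_sum, ← hc]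
    refine Finset.sum_congr rfl fun j _ => ?_
    rw [map_smul]
    rfl
  have h2 : ∀ n, ω ∈ (maximalIdeal (MvPowerSeries (Fin r) k)) ^ n •
      (⊤ : Submodule (MvPowerSeries (Fin r) k) (Ω[MvPowerSeries (Fin r) k⁄k])) := by
    intro n
    have := congrArg (fun y => y.val n) h1
    simp only [AdicCompletion.of_apply, AdicCompletion.val_zero_apply] at this
    rwa [Submodule.mkQ_apply, Submodule.Quotient.mk_eq_zero] at this
  let φ : (Ω[MvPowerSeries (Fin r) k⁄k]) →ₗ[MvPowerSeries (Fin r) k] MvPowerSeries (Fin r) k :=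
    (pderiv k i).liftKaehlerDifferential
  have h3 : φ ω = c i := by
    rw [hω, map_sum]
    rw [Finset.sum_eq_single i]
    · rw [map_smul, Derivation.liftKaehlerDifferential_comp_D, pderiv_X_self, smul_eq_mul, mul_one]
    · intro j _ hj
      rw [map_smul, Derivation.liftKaehlerDifferential_comp_D, pderiv_X_of_ne hj, smul_zero]
    · intro h; exact absurd (Finset.mem_univ i) h
  have h4 : ∀ n, c i ∈ (maximalIdeal (MvPowerSeries (Fin r) k)) ^ n := fun n => by
    rw [← h3]; exact map_mem_pow k r φ n ω (h2 n)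
  have hH : IsHausdorff (maximalIdeal (MvPowerSeries (Fin r) k)) (MvPowerSeries (Fin r) k) :=
    inferInstance
  refine hH.haus' (c i) fun n => ?_
  rw [SModEq.zero, smul_eq_mul, Ideal.mul_top]
  exact h4 n

/-- The basis `dT_i` of the completed module of differentials. -/
noncomputable def basis : Module.Basis (Fin r) (MvPowerSeries (Fin r) k)
    (AdicCompletion (maximalIdeal (MvPowerSeries (Fin r) k)) (Ω[MvPowerSeries (Fin r) k⁄k])) :=
  Module.Basis.mk (linearIndependent_e k r) (span_e k r).ge

theorem main :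
    Module.Finite (MvPowerSeries (Fin r) k)
      (AdicCompletion (maximalIdeal (MvPowerSeries (Fin r) k)) (Ω[MvPowerSeries (Fin r) k⁄k])) ∧
    Module.Free (MvPowerSeries (Fin r) k)
      (AdicCompletion (maximalIdeal (MvPowerSeries (Fin r) k)) (Ω[MvPowerSeries (Fin r) k⁄k])) ∧
    Module.finrank (MvPowerSeries (Fin r) k)
      (AdicCompletion (maximalIdeal (MvPowerSeries (Fin r) k))
        (Ω[MvPowerSeries (Fin r) k⁄k])) = r := by
  refine ⟨Module.Finite.of_basis (basis k r), Module.Free.of_basis (basis k r), ?_⟩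
  rw [Module.finrank_eq_card_basis (basis k r), Fintype.card_fin]

end Groth.Agent.Helper9.PSOmega
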