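import Mathlib
import Groth.Prelude.Def_EGA41
import Groth.Agent.Lib.Helper9.PBasis2

/-!
# Formal smoothness for adic topologies (EGA 0_IV 19.3–20.4): derivation lifting
-/

set_option autoImplicit false
set_option linter.unusedSectionVars false
universe u v

namespace Groth.Agent.Helper9.FSAdic

open EGA41 TrivSqZeroExt

attribute [local instance] Groth.Agent.Helper9.PBasis.oppModule

section

variable {A B : Type u} [CommRing A] [CommRing B] [Algebra A B]

/-- Lifting derivations along surjections of modules over a discrete quotient `B/𝔄`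
(EGA 0_IV 20.4.9). -/
theorem exists_der_lift (𝔞 : Ideal A) (𝔟 : Ideal B)
    (hAB : ∃ k : ℕ, (𝔞 ^ k).map (algebraMap A B) ≤ 𝔟) (h : IsFormallySmoothAdic A 𝔞 B 𝔟)
    (𝔄 : Ideal B) (h𝔄 : ∃ n : ℕ, 𝔟 ^ n ≤ 𝔄) {P Q : Type u} [AddCommGroup P] [AddCommGroup Q]
    [Module (B ⧸ 𝔄) P] [Module (B ⧸ 𝔄) Q] [Module B P] [Module B Q]
    [IsScalarTower B (B ⧸ 𝔄) P] [IsScalarTower B (B ⧸ 𝔄) Q]
    [Module A P] [Module A Q] [IsScalarTower A B P] [IsScalarTower A B Q]
    (f : P →ₗ[B ⧸ 𝔄] Q) (hf : Function.Surjective f) (D : Derivation A B Q) :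
    ∃ D' : Derivation A B P, ∀ b, f (D' b) = D b := by
  letI : IsCentralScalar (B ⧸ 𝔄) P := ⟨fun _ _ => rfl⟩
  letI : IsCentralScalar (B ⧸ 𝔄) Q := ⟨fun _ _ => rfl⟩
  obtain ⟨k₀, hk₀⟩ := hAB
  obtain ⟨n, hn⟩ := h𝔄
  -- the test rings
  letI algC : Algebra A (TrivSqZeroExt (B ⧸ 𝔄) P) :=
    ((TrivSqZeroExt.inlHom (B ⧸ 𝔄) P).comp (algebraMap A (B ⧸ 𝔄))).toAlgebra
  letI algC' : Algebra A (TrivSqZeroExt (B ⧸ 𝔄) Q) :=
    ((TrivSqZeroExt.inlHom (B ⧸ 𝔄) Q).comp (algebraMap A (B ⧸ 𝔄))).toAlgebra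
  have halgC : ∀ a : A, algebraMap A (TrivSqZeroExt (B ⧸ 𝔄) P) a =
      inl (algebraMap A (B ⧸ 𝔄) a) := fun a => rfl
  have halgC' : ∀ a : A, algebraMap A (TrivSqZeroExt (B ⧸ 𝔄) Q) a =
      inl (algebraMap A (B ⧸ 𝔄) a) := fun a => rfl
  let π : TrivSqZeroExt (B ⧸ 𝔄) P →ₐ[A] TrivSqZeroExt (B ⧸ 𝔄) Q :=
    { (TrivSqZeroExt.map f).toRingHom with
      commutes' := fun a => by
        change TrivSqZeroExt.map f (algebraMap A _ a) = _
        rw [halgC, halgC', TrivSqZeroExt.map_inl] }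
  have hπ_apply : ∀ c, π c = TrivSqZeroExt.map f c := fun c => rfl
  have hπ : Function.Surjective π := by
    intro c'
    obtain ⟨p, hp⟩ := hf c'.snd
    refine ⟨inl c'.fst + inr p, ?_⟩
    rw [hπ_apply, map_add, TrivSqZeroExt.map_inl, TrivSqZeroExt.map_inr, hp]
    ext <;> simp
  let J : Ideal (TrivSqZeroExt (B ⧸ 𝔄) P) := RingHom.ker π
  have hJ : ∀ c ∈ J, c.fst = 0 := by
    intro c hc
    have : π c = 0 := hc
    rw [hπ_apply] at this
    have := congrArg TrivSqZeroExt.fst this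
    simpa using this
  have hJnil : IsNilpotent J := by
    refine ⟨2, ?_⟩
    rw [Ideal.zero_eq_bot, eq_bot_iff, pow_two, Ideal.mul_le]
    intro c hc c' hc'
    rw [Ideal.mem_bot]
    ext
    · simp [hJ c hc]
    · simp [hJ c hc, hJ c' hc']
  -- the action of `B` on `Q` factors through `B ⧸ 𝔄`
  have hsmulQ : ∀ (b : B) (q : Q), b • q = (Ideal.Quotient.mk 𝔄 b) • q := by
    intro b q
    rw [← one_smul (B ⧸ 𝔄) q, ← smul_assoc, one_smul]
    congr 1
    rw [Algebra.smul_def, mul_one]; rfl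
  have hsmulP : ∀ (b : B) (q : P), b • q = (Ideal.Quotient.mk 𝔄 b) • q := by
    intro b q
    rw [← one_smul (B ⧸ 𝔄) q, ← smul_assoc, one_smul]
    congr 1
    rw [Algebra.smul_def, mul_one]; rfl
  -- the map `b ↦ (b̄, D b)`
  let u₀ : B →ₐ[A] TrivSqZeroExt (B ⧸ 𝔄) Q :=
    { toFun := fun b => inl (Ideal.Quotient.mk 𝔄 b) + inr (D b)
      map_one' := by simp
      map_mul' := fun b c => by
        ext
        · simp
        · simp [hsmulQ, add_comm]
      map_zero' := by simp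
      map_add' := fun b c => by
        ext
        · simp
        · simp
      commutes' := fun a => by
        rw [halgC']
        simp only [Derivation.map_algebraMap, inr_zero, add_zero]
        rfl }
  have hu₀ : ∀ b, u₀ b = inl (Ideal.Quotient.mk 𝔄 b) + inr (D b) := fun b => rfl
  let e := Ideal.quotientKerAlgEquivOfSurjective hπ
  let u : B →ₐ[A] TrivSqZeroExt (B ⧸ 𝔄) P ⧸ J := e.symm.toAlgHom.comp u₀
  have hu : ∀ b, e (u b) = u₀ b := fun b => e.apply_symm_apply _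
  -- continuity conditions
  have hcondA : ∃ k : ℕ, (𝔞 ^ k).map (algebraMap A (TrivSqZeroExt (B ⧸ 𝔄) P)) = ⊥ := by
    refine ⟨k₀ * n, ?_⟩
    rw [eq_bot_iff, Ideal.map_le_iff_le_comap]
    intro a ha
    rw [Ideal.mem_comap, Ideal.mem_bot, halgC]
    have h1 : algebraMap A B a ∈ 𝔄 := by
      apply hn
      rw [pow_mul] at ha
      have h2 : algebraMap A B a ∈ ((𝔞 ^ k₀) ^ n).map (algebraMap A B) := Ideal.mem_map_of_mem _ ha
      rw [Ideal.map_pow] at h2
      exact Ideal.pow_right_mono hk₀ n h2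
    have h3 : algebraMap A (B ⧸ 𝔄) a = 0 := by
      rw [IsScalarTower.algebraMap_apply A B (B ⧸ 𝔄)]
      exact Ideal.Quotient.eq_zero_iff_mem.mpr h1
    rw [h3, inl_zero]
  have hD𝔄 : ∀ x ∈ 𝔄 * 𝔄, D x = 0 := by
    intro x hx
    refine Submodule.mul_induction_on hx ?_ ?_
    · intro y hy z hz
      rw [Derivation.leibniz, hsmulQ, hsmulQ, Ideal.Quotient.eq_zero_iff_mem.mpr hy,
        Ideal.Quotient.eq_zero_iff_mem.mpr hz, zero_smul, zero_smul, add_zero]
    · intro y z hy hz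
      rw [map_add, hy, hz, add_zero]
  have hcondB : ∃ k : ℕ, ∀ x ∈ 𝔟 ^ k, u x = 0 := by
    refine ⟨n * 2, fun x hx => ?_⟩
    have hx2 : x ∈ 𝔄 * 𝔄 := by
      rw [pow_mul] at hx
      have := Ideal.pow_right_mono hn 2 hx
      rwa [pow_two] at this
    have hx1 : x ∈ 𝔄 := Ideal.mul_le_right hx2
    apply e.injective
    rw [hu, hu₀, map_zero, hD𝔄 x hx2, Ideal.Quotient.eq_zero_iff_mem.mpr hx1]
    simp
  obtain ⟨v, hv⟩ := h (TrivSqZeroExt (B ⧸ 𝔄) P) J hJnil hcondA u hcondB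
  have hπv : ∀ b, π (v b) = u₀ b := by
    intro b
    have h1 : Ideal.Quotient.mk J (v b) = u b := AlgHom.congr_fun hv b
    rw [← hu, ← h1]
    exact (Ideal.quotientKerAlgEquivOfSurjective_mk hπ (v b)).symm
  have hfst : ∀ b, (v b).fst = Ideal.Quotient.mk 𝔄 b := by
    intro b
    have := congrArg TrivSqZeroExt.fst (hπv b)
    rw [hπ_apply, TrivSqZeroExt.fst_map, hu₀] at this
    simpa using this
  have hsnd : ∀ b, f (v b).snd = D b := by
    intro b
    have := congrArg TrivSqZeroExt.snd (hπv b)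
    rw [hπ_apply, TrivSqZeroExt.snd_map, hu₀] at this
    simpa using this
  have hmul : ∀ b c, (v (b * c)).snd = b • (v c).snd + c • (v b).snd := by
    intro b c
    rw [map_mul, snd_mul, hfst, hfst, op_smul_eq_smul, hsmulP, hsmulP]
  have hvalg : ∀ a : A, (v (algebraMap A B a)).snd = 0 := by
    intro a
    rw [AlgHom.commutes, halgC, snd_inl]
  let D'lin : B →ₗ[A] P :=
    { toFun := fun b => (v b).snd
      map_add' := fun b c => by rw [map_add, snd_add]
      map_smul' := fun a b => by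
        rw [RingHom.id_apply, Algebra.smul_def, hmul, hvalg, smul_zero, add_zero, algebraMap_smul] }
  refine ⟨Derivation.mk' D'lin (fun b c => hmul b c), fun b => hsnd b⟩

end

end Groth.Agent.Helper9.FSAdic
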