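import Mathlib
import Groth.Prelude.Def_DerSch2
import Groth.Agent.Lib.Helper5.COHP5
import Groth.Agent.Lib.Helper5.LOC1
import Groth.Agent.Lib.Helper13.QCohStalk
import Groth.Agent.Lib.Helper28.PushClosedAdj

/-!
# Relative pseudo-coherence (chart form): basic consequences

* `isClosedImmersion_chartImm`: the chart morphism of an affine open is a closed immersion.
* pushforward along a closed immersion is exact and reflects zero objects.
* `exists_isLE_of_isPseudoCoherentRel`: relatively pseudo-coherent objects on quasi-compact schemes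
  are bounded above.
-/

set_option autoImplicit false

universe u

open CategoryTheory CategoryTheory.Limits AlgebraicGeometry Opposite TopologicalSpace

attribute [local instance] HasDerivedCategory.standard

namespace Groth.Agent.Helper9.RelPC

variable {X Y : Scheme.{u}}

/-- the chart morphism of an affine open along a surjective presentation is a closed immersion -/
theorem isClosedImmersion_chartImm {U : X.Opens} (hU : IsAffineOpen U) {R : Type u} [CommRing R]
    {n : ℕ} (φ : MvPolynomial (Fin n) R →+* Γ(X, U)) (hφ : Function.Surjective φ) :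
    IsClosedImmersion (DerSch.chartImm U φ) := by
  unfold DerSch.chartImm
  haveI : IsIso U.toSpecΓ := by
    rw [← hU.isoSpec_hom]
    infer_instance
  haveI : IsClosedImmersion (Spec.map (CommRingCat.ofHom φ)) :=
    IsClosedImmersion.spec_of_surjective _ hφ
  infer_instance

section Push

variable {Z P : Scheme.{u}} (i : Z ⟶ P) [IsClosedImmersion i]

theorem preservesFiniteLimits_push : PreservesFiniteLimits (Scheme.Modules.pushforward i) := by
  haveI := (Scheme.Modules.pullbackPushforwardAdjunction i).isRightAdjoint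
  infer_instance

theorem preservesFiniteColimits_push :
    PreservesFiniteColimits (Scheme.Modules.pushforward i) := by
  haveI := Groth.Agent.Helper28.PushClosedAdj.pushforward_isLeftAdjoint i
  infer_instance

/-- pushforward along a closed immersion reflects zero objects -/
theorem isZero_of_isZero_push (M : Z.Modules)
    (h : IsZero ((Scheme.Modules.pushforward i).obj M)) : IsZero M := by
  rw [Groth.Agent.Helper13.QCoh.isZero_iff_sections] at h ⊢
  intro W'
  obtain ⟨W, hW⟩ : ∃ W : P.Opens, i ⁻¹ᵁ W = W' := by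
    obtain ⟨W, hWo, hW⟩ := i.isClosedEmbedding.isInducing.isOpen_iff.mp W'.2
    exact ⟨⟨W, hWo⟩, Opens.ext hW⟩
  subst hW
  exact h W

/-- pushforward along a closed immersion commutes with homology -/
noncomputable def pushHomologyIso (K : CochainComplex Z.Modules ℤ) (k : ℤ) :
    ((DerSch.pushCx i).obj K).homology k ≅ (Scheme.Modules.pushforward i).obj (K.homology k) := by
  haveI := preservesFiniteLimits_push i
  haveI := preservesFiniteColimits_push i
  exact (K.sc k).mapHomologyIso (Scheme.Modules.pushforward i)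

end Push

/-- an object which is `n`-pseudo-coherent relative to `f` (chart form) on a quasi-compact scheme is
bounded above -/
theorem exists_isLE_of_isPseudoCoherentRel [CompactSpace X] (f : X ⟶ Y) (n : ℤ) (E : DCoh.D X)
    (hE : DerSch.IsPseudoCoherentRel f n E) : ∃ b : ℤ, E.IsLE b := by
  obtain ⟨-, 𝒱, h𝒱, H⟩ := hE
  obtain ⟨G, ⟨e⟩⟩ : ∃ G : CochainComplex X.Modules ℤ, Nonempty (DCoh.toD X G ≅ E) :=
    ⟨DerivedCategory.Q.objPreimage E, ⟨DerivedCategory.Q.objObjPreimageIso E⟩⟩
  have key : ∀ x : X, ∃ (U : X.Opens) (b : ℤ), x ∈ U ∧ ∀ k : ℤ, b < k →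
      IsZero ((Scheme.Modules.restrictFunctor U.ι).obj (G.homology k)) := by
    intro x
    have hx : f x ∈ (⊤ : Y.Opens) := trivial
    rw [← h𝒱] at hx
    obtain ⟨V, hx1⟩ := Opens.mem_iSup.mp hx
    obtain ⟨hV𝒱, hxV⟩ := Opens.mem_iSup.mp hx1
    obtain ⟨𝒰, h𝒰, HU⟩ := H V hV𝒱
    have hx' : x ∈ f ⁻¹ᵁ (V : Y.Opens) := hxV
    rw [← h𝒰] at hx'
    obtain ⟨U, hx2⟩ := Opens.mem_iSup.mp hx'
    obtain ⟨hU𝒰, hxU⟩ := Opens.mem_iSup.mp hx2
    have hUV : (U : X.Opens) ≤ f ⁻¹ᵁ (V : Y.Opens) := by
      rw [← h𝒰]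
      exact le_iSup₂ (f := fun (U : X.affineOpens) (_ : U ∈ 𝒰) => (U : X.Opens)) U hU𝒰
    obtain ⟨m, φ, hchart, hpc⟩ := HU U hU𝒰 hUV
    have hpc' := hpc G ⟨e⟩
    obtain ⟨b, hb⟩ := Groth.Agent.Helper5.COHP.exists_isLE_of_isPseudoCoherentD _ n hpc'
    refine ⟨U, b, hxU, fun k hk => ?_⟩
    haveI := isClosedImmersion_chartImm U.2 φ hchart.1
    have h1 : IsZero (((DerSch.pushCx (DerSch.chartImm (U : X.Opens) φ)).obj
        ((DCoh.restrictCx (U : X.Opens)).obj G)).homology k) := by
      have h0 := (DerivedCategory.isLE_iff _ b).mp hb k hk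
      exact IsZero.of_iso h0 ((DerivedCategory.homologyFunctorFactors _ k).app _).symm
    have h2 := IsZero.of_iso h1 (pushHomologyIso _ _ k).symm
    have h3 := isZero_of_isZero_push _ _ h2
    exact IsZero.of_iso h3
      (Groth.Agent.Helper5.LOC.restrictHomologyIso (U : X.Opens).ι G k).symm
  choose U b hxU hU using key
  obtain ⟨t, ht⟩ := CompactSpace.elim_nhds_subcover (fun x => ((U x : X.Opens) : Set X))
    (fun x => (U x).isOpen.mem_nhds (hxU x))
  obtain ⟨B, hB⟩ := Finset.exists_le (t.image b)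
  refine ⟨B, ?_⟩
  rw [DerivedCategory.isLE_iff]
  intro k hk
  refine IsZero.of_iso ?_ ((DerivedCategory.homologyFunctor _ k).mapIso e.symm ≪≫
    (DerivedCategory.homologyFunctorFactors _ k).app G)
  apply Groth.Agent.Helper5.LOC.isZero_of_local
  intro y
  have hy : y ∈ ⋃ x ∈ t, ((U x : X.Opens) : Set X) := by rw [ht]; trivial
  simp only [Set.mem_iUnion] at hy
  obtain ⟨x, hxt, hyx⟩ := hy
  refine ⟨U x, hyx, hU x k ?_⟩
  have h2 : b x ≤ B := hB _ (Finset.mem_image_of_mem _ hxt)
  omega

end Groth.Agent.Helper9.RelPC
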