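import Mathlib
import Groth.Prelude.Def_DerSch2
import Groth.Agent.S6518
import Groth.Agent.Lib.Helper9.RelPC1
import Groth.Agent.Lib.Helper5.LRes2
import Groth.Agent.Lib.Helper5.LTen9
import Groth.Agent.Lib.Helper5.PCT5
import Groth.Agent.Lib.Helper13.FinPresAffine
import Groth.Agent.Lib.Helper13.QCohPush
import Groth.Agent.Lib.Helper13.QCohAss

/-!
# `(-1)`-pseudo-coherent morphisms are the morphisms locally of finite presentation (helper9)

* `pushQIso`: `Q (i_* F)` only depends on `Q F` for a closed immersion `i`;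
* `pushUnit i = i_* O_Z`, `toSec`, `smul_toSec`, `isFP_pushUnit_iff`: over an affine target with `O_W(W) → O_Z(Z)`
  surjective, `i_* O_Z` is finitely presented iff the kernel of `O_W(W) → O_Z(Z)` is finitely generated;
* `chartUnitIso`: the chart image of the unit complex is `i_* O_U` in degree `0`;
* `main6225`.
-/

set_option autoImplicit false
universe u
open CategoryTheory CategoryTheory.Limits AlgebraicGeometry Opposite TopologicalSpace

attribute [local instance] HasDerivedCategory.standard

namespace Groth.Agent.Helper9.RelPC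

section PushQ

variable {Z P : Scheme.{u}} (i : Z ⟶ P) [IsClosedImmersion i]

/-- `Q (i_* F)` only depends on `Q F` -/
noncomputable def pushQIso {F F' : CochainComplex Z.Modules ℤ}
    (e : DerivedCategory.Q.obj F ≅ DerivedCategory.Q.obj F') :
    DerivedCategory.Q.obj ((DerSch.pushCx i).obj F) ≅
      DerivedCategory.Q.obj ((DerSch.pushCx i).obj F') :=
  haveI := preservesFiniteLimits_push i
  haveI := preservesFiniteColimits_push i
  ((Scheme.Modules.pushforward i).mapDerivedCategoryFactors.app F).symm ≪≫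
    (Scheme.Modules.pushforward i).mapDerivedCategory.mapIso e ≪≫
    (Scheme.Modules.pushforward i).mapDerivedCategoryFactors.app F'

end PushQ

section PushUnit

variable {Z W : Scheme.{u}} (i : Z ⟶ W)

/-- `i_* O_Z` -/
noncomputable abbrev pushUnit : W.Modules :=
  (Scheme.Modules.pushforward i).obj (SheafOfModules.unit Z.ringCatSheaf)

/-- a function on `i⁻¹ V` as a section of `i_* O_Z` over `V` -/
noncomputable def toSec (V : W.Opens) (s : Γ(Z, i ⁻¹ᵁ V)) : Γ(pushUnit i, V) := s

lemma smul_toSec (V : W.Opens) (r : Γ(W, V)) (s : Γ(Z, i ⁻¹ᵁ V)) :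
    r • toSec i V s = toSec i V (i.app V r * s) := rfl

lemma toSec_surjective (V : W.Opens) : Function.Surjective (toSec i V) := fun s => ⟨s, rfl⟩

lemma toSec_eq_zero_iff (V : W.Opens) (s : Γ(Z, i ⁻¹ᵁ V)) : toSec i V s = 0 ↔ s = 0 := Iff.rfl

/-- `r ↦ r • 1` -/
noncomputable def ell (V : W.Opens) : Γ(W, V) →ₗ[Γ(W, V)] Γ(pushUnit i, V) :=
  LinearMap.toSpanSingleton Γ(W, V) Γ(pushUnit i, V) (toSec i V 1)

lemma ell_apply (V : W.Opens) (r : Γ(W, V)) : ell i V r = toSec i V (i.app V r) := by
  show r • toSec i V 1 = _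
  rw [smul_toSec, mul_one]

lemma ell_surjective (V : W.Opens) (h : Function.Surjective (i.app V)) :
    Function.Surjective (ell i V) := by
  intro s
  obtain ⟨s', rfl⟩ := toSec_surjective i V s
  obtain ⟨r, rfl⟩ := h s'
  exact ⟨r, ell_apply i V r⟩

lemma ker_ell (V : W.Opens) : LinearMap.ker (ell i V) = RingHom.ker (i.app V).hom := by
  ext r
  rw [LinearMap.mem_ker, RingHom.mem_ker, ell_apply, toSec_eq_zero_iff]

theorem finitePresentation_sections_iff (V : W.Opens) (h : Function.Surjective (i.app V)) :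
    Module.FinitePresentation Γ(W, V) Γ(pushUnit i, V) ↔ (RingHom.ker (i.app V).hom).FG := by
  rw [← ker_ell]
  exact (Module.FinitePresentation.fg_ker_iff (ell i V) (ell_surjective i V h)).symm

theorem isFP_pushUnit_iff [IsAffine W] [IsAffineHom i] (h : Function.Surjective i.appTop) :
    CohB1.IsFP (pushUnit i) ↔ (RingHom.ker i.appTop.hom).FG := by
  haveI : (SheafOfModules.unit Z.ringCatSheaf).IsQuasicoherent :=
    Groth.Agent.Helper13.QCoh.isQuasicoherent_unit Z
  haveI : (pushUnit i).IsQuasicoherent :=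
    Groth.Agent.Helper13.QCohPush.isQuasicoherent_pushforward i _
  refine Iff.trans ?_ (finitePresentation_sections_iff i ⊤ h)
  constructor
  · intro hfp
    haveI := hfp
    exact Groth.Agent.Helper13.LocFree.finitePresentation_sections_of_isFinitePresentation
      (pushUnit i) (isAffineOpen_top W)
  · intro hsec
    exact Groth.Agent.Helper13.LocFree.isFinitePresentation_of_finitePresentation_sections
      (pushUnit i) (fun x => ⟨⊤, isAffineOpen_top W, trivial, hsec⟩)

end PushUnit

section RingLemmas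

lemma ker_fg_of_finitePresentation {A B : Type u} [CommRing A] [CommRing B] (ψ : A →+* B)
    (hψ : Function.Surjective ψ) (h : ψ.FinitePresentation) : (RingHom.ker ψ).FG := by
  algebraize [ψ]
  haveI : Algebra.FinitePresentation A B := h
  exact Algebra.FinitePresentation.ker_fG_of_surjective (Algebra.ofId A B) hψ

lemma fp_C {R : Type u} [CommRing R] (n : ℕ) :
    (MvPolynomial.C : R →+* MvPolynomial (Fin n) R).FinitePresentation := by
  rw [← MvPolynomial.algebraMap_eq]
  exact RingHom.finitePresentation_algebraMap.2 inferInstance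

end RingLemmas

section Chart

variable {X Y : Scheme.{u}}

lemma chartImm_appTop (U : X.Opens) {R : Type u} [CommRing R] {n : ℕ}
    (φ : MvPolynomial (Fin n) R →+* Γ(X, U)) :
    (DerSch.chartImm U φ).appTop =
      (Scheme.ΓSpecIso (CommRingCat.of (MvPolynomial (Fin n) R))).hom ≫
        CommRingCat.ofHom φ ≫ U.topIso.inv := by
  unfold DerSch.chartImm
  rw [Scheme.Hom.comp_appTop, Scheme.Opens.toSpecΓ_appTop, ← Category.assoc,
    Scheme.ΓSpecIso_naturality, Category.assoc]

lemma chartImm_appTop_surjective (U : X.Opens) {R : Type u} [CommRing R] {n : ℕ}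
    (φ : MvPolynomial (Fin n) R →+* Γ(X, U)) (hφ : Function.Surjective φ) :
    Function.Surjective (DerSch.chartImm U φ).appTop := by
  rw [chartImm_appTop]
  have h1 : Function.Bijective (Scheme.ΓSpecIso (CommRingCat.of (MvPolynomial (Fin n) R))).hom :=
    ConcreteCategory.bijective_of_isIso _
  have h2 : Function.Bijective U.topIso.inv := ConcreteCategory.bijective_of_isIso _
  intro s
  obtain ⟨a, rfl⟩ := h2.2 s
  obtain ⟨b, rfl⟩ := hφ a
  obtain ⟨c, rfl⟩ := h1.2 b
  exact ⟨c, rfl⟩

lemma fp_chart_iff (U : X.Opens) {R : Type u} [CommRing R] {n : ℕ}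
    (φ : MvPolynomial (Fin n) R →+* Γ(X, U)) :
    (DerSch.chartImm U φ).appTop.hom.FinitePresentation ↔ φ.FinitePresentation := by
  rw [chartImm_appTop]
  have hP := RingHom.finitePresentation_respectsIso
  have h1 := hP.cancel_left_isIso
    (Scheme.ΓSpecIso (CommRingCat.of (MvPolynomial (Fin n) R))).hom
    (CommRingCat.ofHom φ ≫ U.topIso.inv)
  have h2 := hP.cancel_right_isIso (CommRingCat.ofHom φ) U.topIso.inv
  exact h1.trans h2

/-- the chart image of the unit complex is `i_* O_U` placed in degree `0` -/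
noncomputable def chartUnitIso (U : X.Opens) {R : Type u} [CommRing R] {n : ℕ}
    (φ : MvPolynomial (Fin n) R →+* Γ(X, U)) :
    DCoh.toD (Spec (CommRingCat.of (MvPolynomial (Fin n) R)))
        ((DerSch.pushCx (DerSch.chartImm U φ)).obj ((DCoh.restrictCx U).obj (DerSch.unitCx X))) ≅
      DCoh.inD (Spec (CommRingCat.of (MvPolynomial (Fin n) R))) (pushUnit (DerSch.chartImm U φ)) :=
  DerivedCategory.Q.mapIso
      ((DerSch.pushCx (DerSch.chartImm U φ)).mapIso
          ((HomologicalComplex.singleMapHomologicalComplex (Scheme.Modules.restrictFunctor U.ι)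
            (ComplexShape.up ℤ) 0).app (Coh.structureModule X)) ≪≫
        (HomologicalComplex.singleMapHomologicalComplex
          (Scheme.Modules.pushforward (DerSch.chartImm U φ)) (ComplexShape.up ℤ) 0).app _ ≪≫
        (HomologicalComplex.single _ (ComplexShape.up ℤ) 0).mapIso
          ((Scheme.Modules.pushforward (DerSch.chartImm U φ)).mapIso
            (Scheme.Modules.restrictUnitIso U.ι))) ≪≫
    (Groth.Agent.Helper5.LDer.inDIso (pushUnit (DerSch.chartImm U φ))).symm

theorem chartPC_unit_iff {U : X.Opens} (hU : IsAffineOpen U) {V : Y.Opens} {n : ℕ}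
    (φ : MvPolynomial (Fin n) Γ(Y, V) →+* Γ(X, U)) (hφ : Function.Surjective φ) :
    DerSch.ChartPC (-1) (DCoh.toD X (DerSch.unitCx X)) U V φ ↔ φ.FinitePresentation := by
  haveI := isClosedImmersion_chartImm hU φ hφ
  have hsurj := chartImm_appTop_surjective U φ hφ
  have key : DCoh.IsPseudoCoherentD (-1)
      (DCoh.inD _ (pushUnit (DerSch.chartImm U φ))) ↔ φ.FinitePresentation := by
    rw [(Groth.Agent.S6518.result (pushUnit (DerSch.chartImm U φ))).2,
      isFP_pushUnit_iff _ hsurj, ← fp_chart_iff]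
    exact ⟨fun h => RingHom.FinitePresentation.of_surjective _ hsurj h,
      fun h => ker_fg_of_finitePresentation _ hsurj h⟩
  rw [← key]
  constructor
  · intro hpc
    exact Groth.Agent.Helper5.PCT.isPseudoCoherentD_of_iso (chartUnitIso U φ)
      (hpc (DerSch.unitCx X) ⟨Iso.refl _⟩)
  · intro h G ⟨e⟩
    exact Groth.Agent.Helper5.PCT.isPseudoCoherentD_of_iso
      (pushQIso (DerSch.chartImm U φ) (Groth.Agent.Helper5.LDer.restrictQIso U.ι e) ≪≫
        chartUnitIso U φ).symm h

theorem main6225 (f : X ⟶ Y) [LocallyOfFiniteType f] :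
    DerSch.IsNPseudoCoherent f (-1) ↔ LocallyOfFinitePresentation f := by
  constructor
  · rintro ⟨-, 𝒱, h𝒱, H⟩
    rw [HasRingHomProperty.iff_exists_appLE (P := @LocallyOfFinitePresentation)
      (RingHom.finitePresentation_stableUnderComposition.stableUnderCompositionWithLocalizationAway
        RingHom.finitePresentation_holdsForLocalizationAway).left]
    intro x
    have hx : f x ∈ (⨆ V ∈ 𝒱, (V : Y.Opens)) := by rw [h𝒱]; trivial
    simp only [Opens.mem_iSup] at hx
    obtain ⟨V, hV, hxV⟩ := hx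
    obtain ⟨𝒰, h𝒰, HU⟩ := H V hV
    have hx' : x ∈ (⨆ U ∈ 𝒰, (U : X.Opens)) := by rw [h𝒰]; exact hxV
    simp only [Opens.mem_iSup] at hx'
    obtain ⟨U, hU, hxU⟩ := hx'
    have hUV : (U : X.Opens) ≤ f ⁻¹ᵁ (V : Y.Opens) := by
      rw [← h𝒰]
      exact le_iSup₂ (f := fun (U : X.affineOpens) (_ : U ∈ 𝒰) => (U : X.Opens)) U hU
    obtain ⟨n, φ, hchart, hpc⟩ := HU U hU hUV
    refine ⟨V, U, hxU, hUV, ?_⟩
    rw [← hchart.2]
    exact ((chartPC_unit_iff U.2 φ hchart.1).1 hpc).comp (fp_C n)
  · intro hf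
    refine ⟨inferInstance, Set.univ, ?_, fun V _ =>
      ⟨{U | (U : X.Opens) ≤ f ⁻¹ᵁ (V : Y.Opens)}, ?_, fun U _ h => ?_⟩⟩
    · rw [eq_top_iff]
      intro y _
      obtain ⟨_, ⟨W, hW, rfl⟩, hyW, -⟩ := Y.isBasis_affineOpens.exists_subset_of_mem_open
        (Set.mem_univ y) isOpen_univ
      exact Opens.mem_iSup.2 ⟨⟨W, hW⟩, Opens.mem_iSup.2 ⟨trivial, hyW⟩⟩
    · apply le_antisymm
      · exact iSup₂_le (fun U hU => hU)
      · intro x hx
        obtain ⟨_, ⟨W, hW, rfl⟩, hxW, hWV⟩ := X.isBasis_affineOpens.exists_subset_of_mem_open hx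
          (f ⁻¹ᵁ (V : Y.Opens)).isOpen
        exact Opens.mem_iSup.2 ⟨⟨W, hW⟩, Opens.mem_iSup.2 ⟨fun z hz => hWV hz, hxW⟩⟩
    · have hfp : (f.appLE V U h).hom.FinitePresentation :=
        HasRingHomProperty.appLE (P := @LocallyOfFinitePresentation) f hf V U h
      letI := (f.appLE V U h).hom.toAlgebra
      haveI : Algebra.FinitePresentation Γ(Y, (V : Y.Opens)) Γ(X, (U : X.Opens)) := hfp
      obtain ⟨n, g, hg, hker⟩ := Algebra.FinitePresentation.out
        (R := Γ(Y, (V : Y.Opens))) (A := Γ(X, (U : X.Opens)))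
      refine ⟨n, g.toRingHom, ⟨hg, ?_⟩, ?_⟩
      · ext r
        have := g.commutes r
        rw [MvPolynomial.algebraMap_eq] at this
        exact this
      · exact (chartPC_unit_iff U.2 g.toRingHom hg).2
          (RingHom.FinitePresentation.of_surjective _ hg hker)

end Chart

end Groth.Agent.Helper9.RelPC
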