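import Mathlib
import Groth.Prelude.Def_DerSch2
import Groth.Agent.Lib.Helper9.RelPC1
import Groth.Agent.Lib.Helper13.QCohPush
import Groth.Agent.Lib.Helper13.ExtQCoh
import Groth.Agent.S7240

/-!
# Relative pseudo-coherence (chart form): quasi-coherence of the cohomology sheaves

* `isQuasicoherent_of_isQuasicoherent_push`: a module on a closed subscheme whose pushforward is
  quasi-coherent is quasi-coherent.
* `isQCoh_HD_of_isPseudoCoherentRel`: the cohomology sheaves `H^i`, `i > m`, of an object which is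
  `m`-pseudo-coherent relative to a morphism are quasi-coherent.
-/

set_option autoImplicit false

universe u

open CategoryTheory CategoryTheory.Limits AlgebraicGeometry Opposite TopologicalSpace

attribute [local instance] HasDerivedCategory.standard

namespace Groth.Agent.Helper9.RelPC

variable {X Y : Scheme.{u}}

/-- quasi-coherence is invariant under isomorphisms (explicit form) -/
theorem qi {M N : X.Modules} (e : M ≅ N) (hM : M.IsQuasicoherent) : N.IsQuasicoherent :=
  (SheafOfModules.isQuasicoherent X.ringCatSheaf).prop_of_iso e hM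

/-- a module on a closed subscheme whose pushforward is quasi-coherent is quasi-coherent -/
theorem isQuasicoherent_of_isQuasicoherent_push {Z P : Scheme.{u}} (i : Z ⟶ P)
    [IsClosedImmersion i] (M : Z.Modules)
    (h : ((Scheme.Modules.pushforward i).obj M).IsQuasicoherent) : M.IsQuasicoherent := by
  haveI := h
  refine Groth.Agent.Helper6.QcohLocal.isQuasicoherent_of_affineOpens M
    (fun V : P.affineOpens => i ⁻¹ᵁ V.1) (fun V => V.2.preimage i) (fun z => ?_) ?_ ?_
  · obtain ⟨_, ⟨V, hV, rfl⟩, hzV, -⟩ := P.isBasis_affineOpens.exists_subset_of_mem_open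
      (Set.mem_univ (i z)) isOpen_univ
    exact ⟨⟨V, hV⟩, hzV⟩
  · rintro V r W U' rfl hW hWr s
    obtain ⟨a, rfl⟩ := i.app_surjective V.1 V.2 r
    have hW' : W = i ⁻¹ᵁ (P.basicOpen a) := by rw [hWr, Scheme.preimage_basicOpen]
    subst hW'
    obtain ⟨n, t, ht⟩ := Groth.Agent.Helper13.QCohPush.exists_pow_smul_eq_res'
      ((Scheme.Modules.pushforward i).obj M) V.2 a (P.basicOpen a) rfl (P.basicOpen_le a) s
    refine ⟨n, t, ?_⟩
    have h2 : i.app (P.basicOpen a) (P.presheaf.map (homOfLE (P.basicOpen_le a)).op a) =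
        Z.presheaf.map (homOfLE hW).op (i.app V.1 a) := by
      have := i.naturality (homOfLE (P.basicOpen_le a)).op
      exact congrArg (fun φ => φ.hom a) this
    have key : (Z.presheaf.map (homOfLE hW).op (i.app V.1 a)) ^ n •
        (id s : Γ(M, i ⁻¹ᵁ (P.basicOpen a))) =
        M.presheaf.map (homOfLE hW).op (id t : Γ(M, i ⁻¹ᵁ V.1)) := by
      rw [← h2, ← map_pow]
      exact ht.symm
    exact key
  · rintro V r W U' rfl hW hWr t ht
    obtain ⟨a, rfl⟩ := i.app_surjective V.1 V.2 r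
    have hW' : W = i ⁻¹ᵁ (P.basicOpen a) := by rw [hWr, Scheme.preimage_basicOpen]
    subst hW'
    obtain ⟨n, hn⟩ := Groth.Agent.Helper13.QCohPush.exists_pow_smul_eq_zero'
      ((Scheme.Modules.pushforward i).obj M) V.2 a (P.basicOpen a) rfl (P.basicOpen_le a) t ht
    refine ⟨n, ?_⟩
    have h1 : Z.presheaf.map (homOfLE (le_refl (i ⁻¹ᵁ V.1))).op (i.app V.1 a) = i.app V.1 a :=
      Groth.Agent.Helper13.QCoh.res_id_apply' _ _
    have key : (Z.presheaf.map (homOfLE (le_refl (i ⁻¹ᵁ V.1))).op (i.app V.1 a)) ^ n •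
        (id t : Γ(M, i ⁻¹ᵁ V.1)) = 0 := by
      rw [h1, ← map_pow]
      exact hn
    exact key

/-- the cohomology sheaves `H^i`, `i > m`, of an object which is `m`-pseudo-coherent relative to a
morphism (chart form) are quasi-coherent -/
theorem isQCoh_HD_of_isPseudoCoherentRel (f : X ⟶ Y) (m : ℤ) (E : DCoh.D X)
    (hE : DerSch.IsPseudoCoherentRel f m E) (i : ℤ) (hi : m < i) :
    Coh.IsQCoh (DCoh.HD E i) := by
  obtain ⟨-, 𝒱, h𝒱, H⟩ := hE
  obtain ⟨G, ⟨e⟩⟩ : ∃ G : CochainComplex X.Modules ℤ, Nonempty (DCoh.toD X G ≅ E) :=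
    ⟨DerivedCategory.Q.objPreimage E, ⟨DerivedCategory.Q.objObjPreimageIso E⟩⟩
  have eH : G.homology i ≅ DCoh.HD E i :=
    ((DerivedCategory.homologyFunctorFactors _ i).app G).symm ≪≫
      (DerivedCategory.homologyFunctor _ i).mapIso e
  refine qi eH ?_
  apply Groth.Agent.Helper13.Ext.isQuasicoherent_of_forall_exists_restrict
  intro x
  have hx : f x ∈ (⊤ : Y.Opens) := trivial
  rw [← h𝒱] at hx
  obtain ⟨V, hx1⟩ := Opens.mem_iSup.mp hx
  obtain ⟨hV𝒱, hxV⟩ := Opens.mem_iSup.mp hx1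
  obtain ⟨𝒰, h𝒰, HU⟩ := H V hV𝒱
  have hx' : x ∈ f ⁻¹ᵁ (V : Y.Opens) := hxV
  rw [← h𝒰] at hx'
  obtain ⟨U, hx2⟩ := Opens.mem_iSup.mp hx'
  obtain ⟨hU𝒰, hxU⟩ := Opens.mem_iSup.mp hx2
  have hUV : (U : X.Opens) ≤ f ⁻¹ᵁ (V : Y.Opens) := by
    rw [← h𝒰]
    exact le_iSup₂ (f := fun (U : X.affineOpens) (_ : U ∈ 𝒰) => (U : X.Opens)) U hU𝒰
  obtain ⟨n, φ, hchart, hpc⟩ := HU U hU𝒰 hUV
  have hpc' := hpc G ⟨e⟩
  refine ⟨U, hxU, ?_⟩
  haveI := isClosedImmersion_chartImm U.2 φ hchart.1
  have h1 : Coh.IsQCoh (DCoh.HD (DCoh.toD _ ((DerSch.pushCx (DerSch.chartImm (U : X.Opens) φ)).obj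
      ((DCoh.restrictCx (U : X.Opens)).obj G))) i) :=
    (Groth.Agent.S7240.result m _ hpc').1 i hi
  have h2 : (((DerSch.pushCx (DerSch.chartImm (U : X.Opens) φ)).obj
      ((DCoh.restrictCx (U : X.Opens)).obj G)).homology i).IsQuasicoherent :=
    qi ((DerivedCategory.homologyFunctorFactors _ i).app _) h1
  have h3 := qi (pushHomologyIso (DerSch.chartImm (U : X.Opens) φ) _ i) h2
  have h4 := isQuasicoherent_of_isQuasicoherent_push _ _ h3
  exact qi (Groth.Agent.Helper5.LOC.restrictHomologyIso (U : X.Opens).ι G i) h4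

/-- the cohomology sheaves of an object which is pseudo-coherent relative to a morphism (chart form)
are quasi-coherent -/
theorem isQCohD_of_isPseudoCoherentRelAll (f : X ⟶ Y) (E : DCoh.D X)
    (hE : DerSch.IsPseudoCoherentRelAll f E) : DCoh.IsQCohD E := fun i =>
  isQCoh_HD_of_isPseudoCoherentRel f (i - 1) E (hE (i - 1)) i (by omega)

end Groth.Agent.Helper9.RelPC
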