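import Mathlib
import Groth.Prelude.Def_CAlg
import Groth.Agent.Lib.Helper9.Depth4

set_option autoImplicit false
set_option linter.style.haveILetI false
set_option linter.unusedSectionVars false

universe u

namespace Groth.Agent.Helper9.Depth

open RingTheory.Sequence IsLocalRing
open scoped Pointwise

lemma isArtinian_of_isTorsionBySet_maximalIdeal {A : Type*} [CommRing A] [IsLocalRing A]
    {N : Type*} [AddCommGroup N] [Module A N] [Module.Finite A N]
    (h : Module.IsTorsionBySet A N (maximalIdeal A : Set A)) : IsArtinian A N := by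
  letI := Ideal.Quotient.field (maximalIdeal A)
  let _ := h.module
  haveI : IsSemisimpleModule A N :=
    (h.semilinearMap.isSemisimpleModule_iff_of_bijective Function.bijective_id).2 inferInstance
  have tfae := IsSemisimpleModule.finite_tfae (R := A) (M := N)
  have h02 : Module.Finite A N ↔ IsArtinian A N := tfae.out 0 2
  exact h02.1 inferInstance

section Tower

variable {A B : Type u} [CommRing A] [CommRing B] [IsLocalRing A] [IsLocalRing B]
  [IsNoetherianRing A] [IsNoetherianRing B] [Algebra A B] [IsLocalHom (algebraMap A B)]

lemma map_mem_maximalIdeal {a : A} (ha : a ∈ maximalIdeal A) :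
    algebraMap A B a ∈ maximalIdeal B := by
  rw [mem_maximalIdeal, mem_nonunits_iff] at ha ⊢
  exact fun hu => ha (IsLocalHom.map_nonunit a hu)

theorem depth_eq_zero_of_tower (M : Type u) [AddCommGroup M] [Module B M] [Module A M]
    [IsScalarTower A B M] [Module.Finite A M] [Nontrivial M] (h : LocCoh.depth A M = 0) :
    LocCoh.depth B M = 0 := by
  haveI : Module.Finite B M := Module.Finite.of_restrictScalars_finite A B M
  rw [depth_eq_zero_iff_mem_associatedPrimes] at h
  obtain ⟨_, y, hy⟩ := isAssociatedPrime_iff.mp (AssociatedPrimes.mem_iff.mp h)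
  have hy0 : y ≠ 0 := by
    intro hy0
    apply (maximalIdeal.isMaximal A).ne_top
    rw [Ideal.eq_top_iff_one, hy, Submodule.mem_colon_singleton]
    simp [hy0]
  rw [depth_eq_zero_iff_forall_not_regular]
  intro b hb hreg
  let N : Submodule B M :=
    { carrier := {z | ∀ a ∈ maximalIdeal A, a • z = 0}
      add_mem' := fun {z w} hz hw a ha => by rw [smul_add, hz a ha, hw a ha, add_zero]
      zero_mem' := fun a _ => smul_zero a
      smul_mem' := fun c z hz a ha => by rw [smul_comm, hz a ha, smul_zero] }
  have hyN : y ∈ N := fun a ha => by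
    rw [hy, Submodule.mem_colon_singleton] at ha
    simpa using ha
  let N' : Submodule A M := N.restrictScalars A
  haveI : IsNoetherian A M := isNoetherian_of_isNoetherianRing_of_finite A M
  haveI : Module.Finite A N' := Module.Finite.of_injective N'.subtype N'.injective_subtype
  have htors : Module.IsTorsionBySet A N' (maximalIdeal A : Set A) :=
    fun z a => Subtype.ext (z.2 a.1 a.2)
  haveI := isArtinian_of_isTorsionBySet_maximalIdeal htors
  let f : N' →ₗ[A] N' :=
    { toFun := fun z => ⟨b • z.1, N.smul_mem b z.2⟩
      map_add' := fun z w => Subtype.ext (smul_add b z.1 w.1)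
      map_smul' := fun a z => Subtype.ext (smul_comm b a z.1) }
  have hf : Function.Injective f := fun z w hzw => Subtype.ext (hreg (congrArg Subtype.val hzw))
  have hs := IsArtinian.surjective_of_injective_endomorphism f hf
  have hle : N ≤ maximalIdeal B • N := by
    intro z hz
    obtain ⟨w, hw⟩ := hs ⟨z, hz⟩
    have hzw : z = b • w.1 := (congrArg Subtype.val hw).symm
    rw [hzw]
    exact Submodule.smul_mem_smul hb w.2
  haveI : IsNoetherian B M := isNoetherian_of_isNoetherianRing_of_finite B M
  have hfg : N.FG := IsNoetherian.noetherian N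
  have hbot := Submodule.eq_bot_of_le_smul_of_le_jacobson_bot (maximalIdeal B) N hfg hle
    (IsLocalRing.maximalIdeal_le_jacobson _)
  rw [hbot] at hyN
  exact hy0 (by simpa using hyN)

theorem depth_tower_le (n : ℕ) :
    ∀ (M : Type u) [AddCommGroup M] [Module B M] [Module A M] [IsScalarTower A B M]
      [Module.Finite A M] [Nontrivial M], LocCoh.depth A M = n → LocCoh.depth B M ≤ n := by
  induction n with
  | zero =>
    intro M _ _ _ _ _ _ h
    exact le_of_eq (depth_eq_zero_of_tower M h)
  | succ k ih =>
    intro M _ _ _ _ _ _ hd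
    haveI : Module.Finite B M := Module.Finite.of_restrictScalars_finite A B M
    obtain ⟨rs, hlen, hreg, hmem⟩ := exists_of_le_depth (A := A) (M := M) 1 (by
      rw [hd]; exact_mod_cast Nat.succ_le_succ (Nat.zero_le k))
    obtain ⟨x, rfl⟩ := List.length_eq_one_iff.mp hlen
    have hxreg : IsSMulRegular M x := (isWeaklyRegular_singleton_iff M x).mp hreg
    have hxm : x ∈ maximalIdeal A := hmem x (by simp)
    have hb : algebraMap A B x ∈ maximalIdeal B := map_mem_maximalIdeal hxm
    have hbreg : IsSMulRegular M (algebraMap A B x) := by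
      intro z w hzw
      apply hxreg
      simpa [algebraMap_smul] using hzw
    haveI : Nontrivial (QuotSMulTop x M) := nontrivial_quotSMulTop_of_mem_maximalIdeal M hxm
    haveI : Nontrivial (QuotSMulTop (algebraMap A B x) M) :=
      nontrivial_quotSMulTop_of_mem_maximalIdeal M hb
    have heq : ((algebraMap A B x) • (⊤ : Submodule B M)).restrictScalars A =
        x • (⊤ : Submodule A M) := by
      ext z
      simp [Submodule.mem_smul_pointwise_iff_exists]
    let e : QuotSMulTop (algebraMap A B x) M ≃ₗ[A] QuotSMulTop x M :=
      (Submodule.Quotient.restrictScalarsEquiv A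
        ((algebraMap A B x) • (⊤ : Submodule B M))).symm.trans (Submodule.quotEquivOfEq _ _ heq)
    haveI : Module.Finite A (QuotSMulTop (algebraMap A B x) M) := Module.Finite.equiv e.symm
    have hdq := depth_quotSMulTop_succ hxm hxreg
    have hdqB := depth_quotSMulTop_succ hb hbreg
    have hdA : LocCoh.depth A (QuotSMulTop (algebraMap A B x) M) = k := by
      rw [depth_congr e]
      obtain ⟨d, hd'⟩ := exists_depth_eq_nat (A := A) (M := QuotSMulTop x M)
      rw [hd, hd'] at hdq
      have : d + 1 = k + 1 := by exact_mod_cast hdq
      rw [hd']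
      have : d = k := by omega
      rw [this]
    have hle := ih (QuotSMulTop (algebraMap A B x) M) hdA
    rw [← hdqB]
    calc LocCoh.depth B (QuotSMulTop (algebraMap A B x) M) + 1 ≤ (k : ℕ∞) + 1 :=
          add_le_add hle le_rfl
      _ = ((k + 1 : ℕ) : ℕ∞) := by push_cast; rfl

theorem depth_tower_eq (M : Type u) [AddCommGroup M] [Module B M] [Module A M]
    [IsScalarTower A B M] [Module.Finite A M] : LocCoh.depth A M = LocCoh.depth B M := by
  rcases subsingleton_or_nontrivial M with hM | hM
  · rw [depth_eq_top_of_subsingleton, depth_eq_top_of_subsingleton]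
  · haveI : Module.Finite B M := Module.Finite.of_restrictScalars_finite A B M
    obtain ⟨n, hn⟩ := exists_depth_eq_nat (A := A) (M := M)
    apply le_antisymm
    · obtain ⟨rs, hlen, hreg, hmem⟩ := exists_of_le_depth (A := A) (M := M) n (le_of_eq hn.symm)
      rw [hn, ← hlen]
      have h1 := le_depth_of_exists (A := B) (M := M) (rs.map (algebraMap A B))
        ((isWeaklyRegular_map_algebraMap_iff B M rs).2 hreg) (by
          intro r hr
          obtain ⟨a, ha, rfl⟩ := List.mem_map.1 hr
          exact map_mem_maximalIdeal (hmem a ha))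
      simpa using h1
    · rw [hn]; exact depth_tower_le n M hn

end Tower

end Groth.Agent.Helper9.Depth
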