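import Mathlib

set_option autoImplicit false
set_option linter.style.haveILetI false

universe u

namespace Groth.Agent.Helper9.InjDim

open CategoryTheory Abelian

variable (A : Type u) [CommRing A]

theorem injective_of_ext_one (M : ModuleCat.{u} A)
    (h : ∀ I : Ideal A, Subsingleton (Ext (ModuleCat.of A (A ⧸ I)) M 1)) : Injective M := by
  have hb : Module.Baer A M := by
    intro I g
    let f : A →ₗ[A] A ⧸ I := Submodule.mkQ I
    have hf : Function.Surjective f := Submodule.mkQ_surjective I
    have hS := LinearMap.shortExact_shortComplexKer hf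
    have hker : LinearMap.ker f = I := Submodule.ker_mkQ I
    let e : LinearMap.ker f ≃ₗ[A] I := LinearEquiv.ofEq _ _ hker
    let g' : LinearMap.ker f →ₗ[A] M := g ∘ₗ e.toLinearMap
    let x : Ext f.shortComplexKer.X₁ M 0 := Ext.mk₀ (ModuleCat.ofHom g')
    haveI := h I
    have hx : hS.extClass.comp x (add_zero 1) = 0 := Subsingleton.elim _ _
    obtain ⟨y, hy⟩ := Ext.contravariant_sequence_exact₁ hS M x (add_zero 1) hx
    obtain ⟨y', rfl⟩ := (Ext.mk₀_bijective _ _).2 y
    rw [Ext.mk₀_comp_mk₀] at hy
    have hy' := (Ext.mk₀_bijective _ _).1 hy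
    refine ⟨y'.hom, fun a ha => ?_⟩
    have h1 := congrArg (fun φ => φ.hom (⟨a, by rw [hker]; exact ha⟩ : LinearMap.ker f)) hy'
    exact h1
  have hinj : Module.Injective A M := Module.Baer.iff_injective.1 hb
  exact (Module.injective_iff_injective_object A M).1 hinj

theorem hasInjectiveDimensionLT_of_ext_cyclic (n : ℕ) :
    ∀ (M : ModuleCat.{u} A),
      (∀ I : Ideal A, Subsingleton (Ext (ModuleCat.of A (A ⧸ I)) M (n + 1))) →
      HasInjectiveDimensionLT M (n + 1) := by
  induction n with
  | zero =>
    intro M h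
    haveI := injective_of_ext_one A M h
    infer_instance
  | succ n ih =>
    intro M h
    obtain ⟨p⟩ := EnoughInjectives.presentation M
    haveI := p.injective
    haveI := p.mono
    let S : ShortComplex (ModuleCat.{u} A) :=
      ShortComplex.mk p.f (Limits.cokernel.π p.f) (Limits.cokernel.condition p.f)
    have hS : S.ShortExact := { exact := ShortComplex.exact_cokernel p.f }
    have hinj : Injective S.X₂ := p.injective
    refine (hS.hasInjectiveDimensionLT_X₃_iff n hinj).1 ?_
    apply ih
    intro I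
    constructor
    intro x₃ x₃'
    have hz : ∀ z : Ext (ModuleCat.of A (A ⧸ I)) S.X₃ (n + 1), z = 0 := by
      intro z
      haveI := h I
      have hz1 : z.comp hS.extClass (rfl : n + 1 + 1 = n + 1 + 1) = 0 := Subsingleton.elim _ _
      obtain ⟨x₂, rfl⟩ := Ext.covariant_sequence_exact₃ _ hS z rfl hz1
      rw [Ext.eq_zero_of_injective x₂, Ext.zero_comp]
    rw [hz x₃, hz x₃']

theorem hasInjectiveDimensionLT_iff_ext_cyclic (M : ModuleCat.{u} A) (n : ℕ) :
    HasInjectiveDimensionLT M (n + 1) ↔
      ∀ I : Ideal A, Subsingleton (Ext (ModuleCat.of A (A ⧸ I)) M (n + 1)) := by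
  constructor
  · intro h I
    exact HasInjectiveDimensionLT.subsingleton M (n + 1) (n + 1) le_rfl _
  · exact hasInjectiveDimensionLT_of_ext_cyclic A n M

theorem hasProjectiveDimensionLT_of_forall_cyclic (n : ℕ)
    (h : ∀ I : Ideal A, HasProjectiveDimensionLT (ModuleCat.of A (A ⧸ I)) (n + 1))
    (M : ModuleCat.{u} A) : HasProjectiveDimensionLT M (n + 1) := by
  have hid : ∀ N : ModuleCat.{u} A, HasInjectiveDimensionLT N (n + 1) := by
    intro N
    apply hasInjectiveDimensionLT_of_ext_cyclic A n N
    intro I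
    haveI := h I
    exact HasProjectiveDimensionLT.subsingleton (ModuleCat.of A (A ⧸ I)) (n + 1) (n + 1) le_rfl N
  rw [hasProjectiveDimensionLT_iff]
  intro i hi Y e
  haveI := hid Y
  exact e.eq_zero_of_hasInjectiveDimensionLT (n + 1) hi

end Groth.Agent.Helper9.InjDim
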