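import Mathlib
import Groth.Agent.Lib.Helper9.SuppD

/-!
# Complexes supported on a closed subset contained in an open (helper9)

* `isZero_restrict_extZero`: `(j_! M)|_W = 0` when `M` vanishes on `U ∩ W`;
* `HDMapIso`: cohomology sheaves commute with exact functors;
* `nonempty_restrictD_extZeroD_iso`: `(j_! F)|_U ≅ F`;
* `nonempty_iso_Rpush_restrictD`: `E ≅ Rj_*(E|_U)` when `E` vanishes on `V` and `U ∪ V = X`;
* `isZero_restrictD_extZeroD`: `(j_! F)|_W = 0` for `W` disjoint from a set containing the supports.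
-/

set_option autoImplicit false
universe u
open CategoryTheory CategoryTheory.Limits TopologicalSpace AlgebraicGeometry Opposite

attribute [local instance] HasDerivedCategory.standard

namespace Groth.Agent.Helper9.SuppD

open Groth.Agent.Helper29.OpenMVC Groth.Agent.Helper29.OpenRes Groth.Agent.Helper11.KI

variable {X : Scheme.{u}}

theorem isZero_restrict_of_stalks' {U : Scheme.{u}} (j : U ⟶ X) [IsOpenImmersion j] (M : X.Modules)
    (h : ∀ y : U, Subsingleton (M.presheaf.stalk (j.base y))) :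
    IsZero ((Scheme.Modules.restrictFunctor j).obj M) := by
  apply isZero_of_subsingleton_sections
  intro V
  refine subsingleton_sections_of_stalks M (j ''ᵁ V) ?_
  rintro x ⟨y, -, rfl⟩
  exact h y

/-- `(j_! M)|_W = 0` when `M` restricts to zero on `U ∩ W` -/
theorem isZero_restrict_extZero (U W : X.Opens) (M : (U : Scheme.{u}).Modules)
    (h : IsZero ((Scheme.Modules.restrictFunctor (W.ι ∣_ U)).obj M)) :
    IsZero ((Scheme.Modules.restrictFunctor W.ι).obj ((CxOX.extZero U.ι).obj M)) := by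
  have key : ∀ (f g : (Scheme.Modules.restrictFunctor W.ι).obj ((CxOX.extZero U.ι).obj M) ⟶
      (Scheme.Modules.restrictFunctor W.ι).obj ((CxOX.extZero U.ι).obj M)), f = g := by
    intro f g
    apply ((Scheme.Modules.restrictAdjunction W.ι).homEquiv ((CxOX.extZero U.ι).obj M) _).injective
    apply ((CxOX.extZeroAdj U.ι).homEquiv M _).injective
    rw [← cancel_mono ((γ W.ι U).hom.app _)]
    apply ((Scheme.Modules.restrictAdjunction (W.ι ∣_ U)).homEquiv M _).symm.injective
    exact h.eq_of_src _ _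
  rw [IsZero.iff_id_eq_zero]
  exact key _ _

/-- cohomology sheaves commute with exact functors -/
noncomputable def HDMapIso {A B : Scheme.{u}} (G : A.Modules ⥤ B.Modules) [G.Additive]
    [PreservesFiniteLimits G] [PreservesFiniteColimits G] (E : DCoh.D A) (i : ℤ) :
    DCoh.HD (G.mapDerivedCategory.obj E) i ≅ G.obj (DCoh.HD E i) := by
  let Z₀ := DerivedCategory.Q.objPreimage E
  let e0 : DerivedCategory.Q.obj Z₀ ≅ E := DerivedCategory.Q.objObjPreimageIso E
  let K := (G.mapHomologicalComplex (ComplexShape.up ℤ)).obj Z₀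
  let e1 : G.mapDerivedCategory.obj E ≅ DerivedCategory.Q.obj K :=
    G.mapDerivedCategory.mapIso e0.symm ≪≫ G.mapDerivedCategoryFactors.app Z₀
  let e2 : Z₀.homology i ≅ DCoh.HD E i :=
    ((DerivedCategory.homologyFunctorFactors A.Modules i).app Z₀).symm ≪≫
      (DerivedCategory.homologyFunctor A.Modules i).mapIso e0
  let e3 : K.homology i ≅ G.obj (Z₀.homology i) := (Z₀.sc i).mapHomologyIso G
  exact (DerivedCategory.homologyFunctor _ i).mapIso e1 ≪≫
    (DerivedCategory.homologyFunctorFactors _ i).app K ≪≫ e3 ≪≫ G.mapIso e2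

instance isIso_extZeroAdj_unit (U : X.Opens) : IsIso (CxOX.extZeroAdj U.ι).unit := by
  let t : Adjunction.Triple (CxOX.extZero U.ι) (Scheme.Modules.restrictFunctor U.ι)
      (Scheme.Modules.pushforward U.ι) := ⟨CxOX.extZeroAdj U.ι, Scheme.Modules.restrictAdjunction U.ι⟩
  exact t.isIso_unit_iff_isIso_counit.2 inferInstance

/-- `(j_! F)|_U ≅ F` -/
theorem nonempty_restrictD_extZeroD_iso (U : X.Opens) [PreservesFiniteLimits (CxOX.extZero U.ι)]
    (F : DCoh.D (U : Scheme.{u})) :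
    Nonempty ((DCoh.restrictD U.ι).obj ((CxOX.extZeroD U.ι).obj F) ≅ F) := by
  let K := DerivedCategory.Q.objPreimage F
  let e0 : DerivedCategory.Q.obj K ≅ F := DerivedCategory.Q.objObjPreimageIso F
  let e1 : (CxOX.extZeroD U.ι).obj F ≅ DerivedCategory.Q.obj
      (((CxOX.extZero U.ι).mapHomologicalComplex (ComplexShape.up ℤ)).obj K) :=
    (CxOX.extZeroD U.ι).mapIso e0.symm ≪≫ (CxOX.extZero U.ι).mapDerivedCategoryFactors.app K
  let c : K ≅ ((Scheme.Modules.restrictFunctor U.ι).mapHomologicalComplex (ComplexShape.up ℤ)).obj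
      (((CxOX.extZero U.ι).mapHomologicalComplex (ComplexShape.up ℤ)).obj K) :=
    ((Functor.mapHomologicalComplexIdIso _ (ComplexShape.up ℤ)).app K).symm ≪≫
      (NatIso.mapHomologicalComplex (asIso (CxOX.extZeroAdj U.ι).unit) (ComplexShape.up ℤ)).app K
  exact ⟨(DCoh.restrictD U.ι).mapIso e1 ≪≫
    (Scheme.Modules.restrictFunctor U.ι).mapDerivedCategoryFactors.app _ ≪≫
    (DerivedCategory.Q.mapIso c).symm ≪≫ e0⟩

/-- `E ≅ Rj_*(E|_U)` when `E` vanishes on an open `V` with `U ∪ V = X` -/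
theorem nonempty_iso_Rpush_restrictD (U V : X.Opens) (hUV : U ⊔ V = ⊤) [DCoh.HasRpush U.ι]
    (E : DCoh.D X) (hV : IsZero ((DCoh.restrictD V.ι).obj E))
    (hW : IsZero ((DCoh.restrictD (U ⊓ V).ι).obj E)) :
    Nonempty (E ≅ (DCoh.Rpush U.ι).obj ((DCoh.restrictD U.ι).obj E)) := by
  haveI : DCoh.HasRpush V.ι := Groth.Agent.Helper11.KI.hasRightDerivedFunctor (DCoh.pushKh V.ι)
  haveI : DCoh.HasRpush (U ⊓ V).ι :=
    Groth.Agent.Helper11.KI.hasRightDerivedFunctor (DCoh.pushKh (U ⊓ V).ι)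
  obtain ⟨a, b, c, hT⟩ := main6510 U V hUV E
  have hB := isZero_Rpush_obj V.ι _ hV
  have hC := isZero_Rpush_obj (U ⊓ V).ι _ hW
  haveI : IsIso a := (Pretriangulated.Triangle.isZero₃_iff_isIso₁ _ hT).1 hC
  exact ⟨asIso a ≪≫ (isoBiprodZero hB).symm⟩

/-- `(j_! F)|_W = 0` when `W` is disjoint from a set containing the supports of `F` -/
theorem isZero_restrictD_extZeroD (U : X.Opens) [PreservesFiniteLimits (CxOX.extZero U.ι)]
    (T : Set X) (F : DCoh.D (U : Scheme.{u}))
    (hF : ∀ i : ℤ, (fun x : (U : Scheme.{u}) => U.ι.base x) '' CohB1.support (DCoh.HD F i) ⊆ T)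
    (W : X.Opens) (hW : ∀ x ∈ W, x ∉ T) :
    IsZero ((DCoh.restrictD W.ι).obj ((CxOX.extZeroD U.ι).obj F)) := by
  apply isZero_of_homology
  intro n
  refine IsZero.of_iso ?_ (HDRestrictIso _ W n ≪≫
    (Scheme.Modules.restrictFunctor W.ι).mapIso (HDMapIso (CxOX.extZero U.ι) F n))
  apply isZero_restrict_extZero
  apply isZero_restrict_of_stalks'
  intro y
  by_contra hns
  have h1 : U.ι.base ((W.ι ∣_ U).base y) ∈ T := hF n ⟨_, hns, rfl⟩
  have h2 : U.ι.base ((W.ι ∣_ U).base y) = W.ι.base ((W.ι ⁻¹ᵁ U).ι.base y) := by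
    have := congrArg (fun h : ((W.ι ⁻¹ᵁ U : (W : Scheme.{u}).Opens) : Scheme.{u}) ⟶ X => h.base y)
      (morphismRestrict_ι W.ι U)
    simpa only [Scheme.Hom.comp_apply] using this
  rw [h2] at h1
  exact hW _ ((W.ι ⁻¹ᵁ U).ι.base y).2 h1

end Groth.Agent.Helper9.SuppD
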