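import Mathlib
import Groth.Agent.Lib.Helper13.Qcqs
import Groth.Agent.Lib.Helper13.SerreFT2
import Groth.Agent.Lib.Helper13.FinTypeExt
import Groth.Agent.Lib.Helper13.KerSec
import Groth.Agent.Lib.Helper13.VanishIdeal
import Groth.Agent.Lib.Helper13.VanishIdealFT
import Groth.Agent.Lib.Helper13.QCohKer
import Groth.Agent.Lib.Helper13.QCohAss
import Groth.Agent.Lib.Helper18.QCohBiprod

/-!
# The relative Serre criterion (EGA II 5.2.2, (b) ⇒ (a))

A separated quasi-compact morphism `f : X ⟶ Y` such that `f_*` preserves epimorphisms of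
quasi-coherent modules is affine.
-/

set_option autoImplicit false
set_option backward.isDefEq.respectTransparency false
universe u
open CategoryTheory CategoryTheory.Limits AlgebraicGeometry Opposite TopologicalSpace

namespace Groth.Agent.Helper9.RelSerre

open Groth.Agent.Helper13.Qcqs Groth.Agent.Helper13.SerreFT Groth.Agent.Helper13.FinType
open Groth.Agent.Helper13.KerSec Groth.Agent.Helper13.VanishIdeal

variable {X Y : Scheme.{u}}

theorem map_map' (M : X.Modules) {A B C : X.Opens} (i : op A ⟶ op B) (j : op B ⟶ op C)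
    (k : op A ⟶ op C) (x : Γ(M, A)) :
    M.presheaf.map j (M.presheaf.map i x) = M.presheaf.map k x := by
  rw [← ConcreteCategory.comp_apply, ← Functor.map_comp, Subsingleton.elim (i ≫ j) k]

/-- the ideal of functions `r` on `V` such that `f^♯ r • t` lifts along `π` over `f⁻¹ V`. -/
def liftIdeal (f : X ⟶ Y) {A C : X.Modules} (π : A ⟶ C) (V : Y.Opens) (t : Γ(C, f ⁻¹ᵁ V)) :
    Ideal Γ(Y, V) where
  carrier := {r | ∃ a : Γ(A, f ⁻¹ᵁ V), π.app (f ⁻¹ᵁ V) a = (f.app V r) • t}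
  add_mem' := by
    rintro r s ⟨a, ha⟩ ⟨b, hb⟩
    refine ⟨a + b, ?_⟩
    rw [map_add, ha, hb, map_add, add_smul]
  zero_mem' := ⟨0, by rw [map_zero, map_zero, zero_smul]⟩
  smul_mem' := by
    rintro c r ⟨a, ha⟩
    refine ⟨(f.app V c) • a, ?_⟩
    rw [Scheme.Modules.Hom.app_smul, ha, smul_eq_mul, map_mul, mul_smul]

lemma mem_liftIdeal (f : X ⟶ Y) {A C : X.Modules} (π : A ⟶ C) (V : Y.Opens)
    (t : Γ(C, f ⁻¹ᵁ V)) (r : Γ(Y, V)) :
    r ∈ liftIdeal f π V t ↔ ∃ a : Γ(A, f ⁻¹ᵁ V), π.app (f ⁻¹ᵁ V) a = (f.app V r) • t :=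
  Iff.rfl

/-- **L1**: if `f_* π` is an epimorphism (of sheaves on `Y`) between direct images of
quasi-coherent modules under a qcqs morphism, then `π` is surjective on sections over the preimage
of any affine open. -/
theorem app_surjective_of_epi_push (f : X ⟶ Y) [QuasiCompact f] [QuasiSeparated f]
    {A C : X.Modules} [A.IsQuasicoherent] [C.IsQuasicoherent] (π : A ⟶ C)
    (hπ : Epi ((Scheme.Modules.pushforward f).map π)) (V : Y.Opens) (hV : IsAffineOpen V) :
    Function.Surjective (π.app (f ⁻¹ᵁ V)) := by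
  intro t
  have hUc : IsCompact ((f ⁻¹ᵁ V : X.Opens) : Set X) := f.isCompact_preimage hV.isCompact
  have hUqs : IsQuasiSeparated ((f ⁻¹ᵁ V : X.Opens) : Set X) :=
    f.isQuasiSeparated_preimage hV.isQuasiSeparated
  have hcov : V ≤ ⨆ r : ((liftIdeal f π V t : Ideal Γ(Y, V)) : Set Γ(Y, V)), Y.basicOpen r.1 := by
    intro y hy
    obtain ⟨W, hWV, hyW, b, hb⟩ := exists_local_lift ((Scheme.Modules.pushforward f).map π)
      (U := V) (show Γ((Scheme.Modules.pushforward f).obj C, V) from t) y hy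
    obtain ⟨r₀, hr₀W, hyr₀⟩ := hV.exists_basicOpen_le (V := W) ⟨y, hyW⟩ hy
    obtain ⟨g₀, hg₀⟩ : ∃ g : Γ(X, f ⁻¹ᵁ V), g = f.app V r₀ := ⟨_, rfl⟩
    obtain ⟨D, hDdef⟩ : ∃ D : X.Opens, D = X.basicOpen g₀ := ⟨_, rfl⟩
    have hD : f ⁻¹ᵁ Y.basicOpen r₀ = D := by
      rw [hDdef, hg₀]; exact Scheme.preimage_basicOpen f r₀
    have hDU : D ≤ f ⁻¹ᵁ V := by
      rw [hDdef]; exact X.basicOpen_le g₀
    have hDW : D ≤ f ⁻¹ᵁ W := by
      rw [← hD]
      intro z hz
      exact hr₀W hz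
    have hb2 : π.app (f ⁻¹ᵁ W) b
        = C.presheaf.map ((Opens.map f.base).map (homOfLE hWV)).op t := hb
    have hb' : π.app D (res A hDW b) = res C hDU t := by
      have h1 : π.app D (res A hDW b) = res C hDW (π.app (f ⁻¹ᵁ W) b) := app_res π hDW b
      rw [h1, hb2]
      simp only [res_def]
      exact map_map' C _ _ _ t
    obtain ⟨n, a, ha⟩ := exists_pow_smul_eq_res_of_qcqs A hUc hUqs g₀ D hDdef hDU (res A hDW b)
    have hz : res C hDU (π.app (f ⁻¹ᵁ V) a - g₀ ^ n • t) = 0 := by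
      rw [map_sub, ← app_res, ha, Scheme.Modules.Hom.app_smul, hb', res_pow_smul, sub_self]
    obtain ⟨m, hm⟩ := exists_pow_smul_eq_zero_of_isCompact C hUc g₀ D hDdef hDU _ hz
    have hm' : g₀ ^ m • π.app (f ⁻¹ᵁ V) a = g₀ ^ (m + n) • t := by
      rw [smul_sub, sub_eq_zero] at hm
      rw [hm, ← mul_smul, ← pow_add]
    have hmem : r₀ ^ (m + n + 1) ∈ liftIdeal f π V t := by
      refine (mem_liftIdeal f π V t _).2 ⟨g₀ ^ (m + 1) • a, ?_⟩
      have e1 : π.app (f ⁻¹ᵁ V) (g₀ ^ (m + 1) • a) = g₀ ^ (m + n + 1) • t := by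
        rw [Scheme.Modules.Hom.app_smul, pow_succ' g₀ m, mul_smul, hm', ← mul_smul, ← pow_succ']
      have e2 : f.app V (r₀ ^ (m + n + 1)) = g₀ ^ (m + n + 1) := by rw [map_pow, hg₀]
      rw [e2]
      exact e1
    have hy' : y ∈ Y.basicOpen (r₀ ^ (m + n + 1)) := by
      rw [Y.basicOpen_pow r₀ (Nat.succ_pos _)]
      exact hyr₀
    exact Opens.mem_iSup.2 ⟨⟨r₀ ^ (m + n + 1), hmem⟩, hy'⟩
  have htop : liftIdeal f π V t = ⊤ := by
    have := (hV.self_le_iSup_basicOpen_iff).1 hcov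
    rwa [Ideal.span_eq] at this
  have h1 : (1 : Γ(Y, V)) ∈ liftIdeal f π V t := by
    rw [htop]; exact Submodule.mem_top
  obtain ⟨a, ha⟩ := (mem_liftIdeal f π V t 1).1 h1
  rw [map_one, one_smul] at ha
  exact ⟨a, ha⟩

/-- sections of the structure module as functions. -/
def toFn (U : X.Opens) (x : Γ(Coh.structureModule X, U)) : Γ(X, U) := x

/-- functions as sections of the structure module. -/
def ofFn (U : X.Opens) (x : Γ(X, U)) : Γ(Coh.structureModule X, U) := x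

lemma toFn_ofFn (U : X.Opens) (x : Γ(X, U)) : toFn U (ofFn U x) = x := rfl

lemma toFn_add (U : X.Opens) (x y : Γ(Coh.structureModule X, U)) :
    toFn U (x + y) = toFn U x + toFn U y := rfl

/-- the ideal generated by the functions with affine basic open. -/
def affIdeal (U : X.Opens) : Ideal Γ(X, U) :=
  Ideal.span {a | IsAffineOpen (X.basicOpen a)}

/-- `α` is surjective on small opens around every point of `W`. -/
def LocSurj {A : X.Modules} (α : A ⟶ Coh.structureModule X) (W : X.Opens) : Prop :=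
  ∀ x ∈ W, ∃ N : X.Opens, x ∈ N ∧ ∀ M : X.Opens, M ≤ N → Function.Surjective (α.app M)

/-- there is a quasi-coherent module mapping to the structure module, locally surjectively over
`W`, all of whose sections over `U` land in `affIdeal U`. -/
def Good (U W : X.Opens) : Prop :=
  ∃ (A : X.Modules) (_ : A.IsQuasicoherent) (α : A ⟶ Coh.structureModule X),
    LocSurj α W ∧ ∀ a : Γ(A, U), toFn U (α.app U a) ∈ affIdeal U

theorem good_of_range {Zs : Scheme.{u}} (i : Zs ⟶ X) [QuasiCompact i] [QuasiSeparated i]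
    (U W : X.Opens) (hW : IsAffineOpen W) (hWU : W ≤ U) (hi : Set.range i = (W : Set X)ᶜ) :
    Good U W := by
  refine ⟨idealMod i, isQuasicoherent_idealMod i, idealι i, ?_, ?_⟩
  · intro x hx
    refine ⟨W, hx, fun M hM c => ?_⟩
    have hbot : i ⁻¹ᵁ M ≤ ⊥ := by
      intro z hz
      have h1 : i z ∈ (W : Set X) := hM hz
      have h2 : i z ∈ Set.range i := ⟨z, rfl⟩
      rw [hi] at h2
      exact (h2 h1).elim
    haveI := subsingleton_of_le_bot (Coh.structureModule Zs) hbot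
    have hc : (sharp i).app M c = 0 :=
      Subsingleton.elim (α := Γ(Coh.structureModule Zs, i ⁻¹ᵁ M)) _ _
    exact exists_kernel_section (sharp i) M c hc
  · intro a
    have hle : X.basicOpen (toFn U ((idealι i).app U a)) ≤ W := by
      intro z hz
      have := basicOpen_idealι_disjoint i U a z hz
      rw [hi] at this
      exact not_not.1 this
    have h1 : X.basicOpen (X.presheaf.map (homOfLE hWU).op (toFn U ((idealι i).app U a)))
        = X.basicOpen (toFn U ((idealι i).app U a)) := by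
      rw [Scheme.basicOpen_res]
      exact inf_eq_right.2 hle
    have h2 : IsAffineOpen (X.basicOpen (toFn U ((idealι i).app U a))) := by
      rw [← h1]
      exact hW.basicOpen _
    exact Ideal.subset_span (s := {a : Γ(X, U) | IsAffineOpen (X.basicOpen a)}) h2

theorem good_affine (U W : X.Opens) (hW : IsAffineOpen W) (hWU : W ≤ U) : Good U W := by
  refine good_of_range (Scheme.IdealSheafData.vanishingIdeal
    (⟨(W : Set X)ᶜ, W.isOpen.isClosed_compl⟩ : Closeds X)).subschemeι U W hW hWU ?_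
  rw [Scheme.IdealSheafData.range_subschemeι, Scheme.IdealSheafData.coe_support_vanishingIdeal]
  rfl

theorem good_sup (U W W' : X.Opens) (h : Good U W) (h' : Good U W') : Good U (W ⊔ W') := by
  obtain ⟨A, hA, α, h1, h2⟩ := h
  obtain ⟨A', hA', α', h1', h2'⟩ := h'
  haveI := hA
  haveI := hA'
  refine ⟨A ⊞ A', Groth.Agent.Helper18.QCohBiprod.isQuasicoherent_biprod A A',
    biprod.desc α α', ?_, ?_⟩
  · intro x hx
    rcases Opens.mem_sup.1 hx with hx | hx
    · obtain ⟨N, hxN, hN⟩ := h1 x hx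
      refine ⟨N, hxN, fun M hM c => ?_⟩
      obtain ⟨s, hs⟩ := hN M hM c
      refine ⟨(biprod.inl : A ⟶ A ⊞ A').app M s, ?_⟩
      have e : (biprod.desc α α').app M ((biprod.inl : A ⟶ A ⊞ A').app M s) = α.app M s :=
        congrArg (fun ψ : A ⟶ Coh.structureModule X => ψ.app M s) (biprod.inl_desc α α')
      exact e.trans hs
    · obtain ⟨N, hxN, hN⟩ := h1' x hx
      refine ⟨N, hxN, fun M hM c => ?_⟩
      obtain ⟨s, hs⟩ := hN M hM c
      refine ⟨(biprod.inr : A' ⟶ A ⊞ A').app M s, ?_⟩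
      have e : (biprod.desc α α').app M ((biprod.inr : A' ⟶ A ⊞ A').app M s) = α'.app M s :=
        congrArg (fun ψ : A' ⟶ Coh.structureModule X => ψ.app M s) (biprod.inr_desc α α')
      exact e.trans hs
  · intro s
    have e : (biprod.desc α α').app U s
        = α.app U ((biprod.fst : A ⊞ A' ⟶ A).app U s)
          + α'.app U ((biprod.snd : A ⊞ A' ⟶ A').app U s) :=
      congrArg (fun ψ : A ⊞ A' ⟶ Coh.structureModule X => ψ.app U s) (biprod.desc_eq : biprod.desc α α' = _)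
    rw [e, toFn_add]
    exact Ideal.add_mem _ (h2 _) (h2' _)

/-- **L2**: under the exactness hypothesis, a locally surjective map from a quasi-coherent module
to the structure module hits `1` over the preimage of an affine open. -/
theorem exists_section_eq_one (f : X ⟶ Y) [QuasiCompact f] [QuasiSeparated f]
    (h : ∀ (F F'' : X.Modules) (p : F ⟶ F''), Coh.IsQCoh F → Coh.IsQCoh F'' → Epi p →
      Epi ((Coh.push f).map p))
    (V : Y.Opens) (hV : IsAffineOpen V) {A : X.Modules} [hA : A.IsQuasicoherent]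
    (α : A ⟶ Coh.structureModule X) (hα : LocSurj α (f ⁻¹ᵁ V)) :
    ∃ a : Γ(A, f ⁻¹ᵁ V), toFn (f ⁻¹ᵁ V) (α.app (f ⁻¹ᵁ V) a) = 1 := by
  haveI hO : (Coh.structureModule X).IsQuasicoherent :=
    Groth.Agent.Helper13.QCoh.isQuasicoherent_unit X
  haveI hQ : (cokernel α).IsQuasicoherent :=
    Groth.Agent.Helper13.QCohLocal.isQuasicoherent_cokernel α
  haveI hK : (kernel (cokernel.π α)).IsQuasicoherent :=
    Groth.Agent.Helper13.QCohLocal.isQuasicoherent_kernel (cokernel.π α)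
  have hπ : Epi (kernel.lift (cokernel.π α) α (cokernel.condition α)) :=
    inferInstanceAs (Epi (Abelian.factorThruImage α))
  have hsurj := app_surjective_of_epi_push f
    (kernel.lift (cokernel.π α) α (cokernel.condition α))
    (h _ _ _ hA hK hπ) V hV
  have hq : ofFn (f ⁻¹ᵁ V) 1 ∈ (kerSub (cokernel.π α)).obj (op (f ⁻¹ᵁ V)) := by
    refine isLocalSub_kerSub (cokernel.π α) (f ⁻¹ᵁ V) (ofFn (f ⁻¹ᵁ V) 1) (fun y hy => ?_)
    obtain ⟨N, hyN, hN⟩ := hα y hy
    refine ⟨N ⊓ f ⁻¹ᵁ V, inf_le_right, Opens.mem_inf.2 ⟨hyN, hy⟩, ?_⟩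
    obtain ⟨s, hs⟩ := hN (N ⊓ f ⁻¹ᵁ V) inf_le_left
      ((Coh.structureModule X).presheaf.map (homOfLE (inf_le_right : N ⊓ f ⁻¹ᵁ V ≤ f ⁻¹ᵁ V)).op
        (ofFn (f ⁻¹ᵁ V) 1))
    have e1 : (cokernel.π α).app (N ⊓ f ⁻¹ᵁ V) (α.app (N ⊓ f ⁻¹ᵁ V) s) = 0 :=
      congrArg (fun ψ : A ⟶ cokernel α => ψ.app (N ⊓ f ⁻¹ᵁ V) s) (cokernel.condition α)
    change (cokernel.π α).app (N ⊓ f ⁻¹ᵁ V) _ = 0
    rw [← hs]
    exact e1
  have hq' : (cokernel.π α).app (f ⁻¹ᵁ V) (ofFn (f ⁻¹ᵁ V) 1) = 0 := hq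
  obtain ⟨k, hk⟩ := exists_kernel_section (cokernel.π α) (f ⁻¹ᵁ V) (ofFn (f ⁻¹ᵁ V) 1) hq'
  obtain ⟨a, ha⟩ := hsurj k
  refine ⟨a, ?_⟩
  have e2 : (kernel.ι (cokernel.π α)).app (f ⁻¹ᵁ V)
      ((kernel.lift (cokernel.π α) α (cokernel.condition α)).app (f ⁻¹ᵁ V) a)
      = α.app (f ⁻¹ᵁ V) a :=
    congrArg (fun ψ : A ⟶ Coh.structureModule X => ψ.app (f ⁻¹ᵁ V) a)
      (kernel.lift_ι (cokernel.π α) α (cokernel.condition α))
  rw [← e2, ha, hk]
  rfl

/-- **EGA II 5.2.2 (b) ⇒ (a)**: a separated quasi-compact morphism whose direct image preserves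
epimorphisms of quasi-coherent modules is affine. -/
theorem isAffineHom_of_push_epi (f : X ⟶ Y) [IsSeparated f] [QuasiCompact f]
    (h : ∀ (F F'' : X.Modules) (p : F ⟶ F''), Coh.IsQCoh F → Coh.IsQCoh F'' → Epi p →
      Epi ((Coh.push f).map p)) : IsAffineHom f := by
  refine ⟨fun V hV => ?_⟩
  have hUc : IsCompact ((f ⁻¹ᵁ V : X.Opens) : Set X) := f.isCompact_preimage hV.isCompact
  have key : ∀ W : X.Opens, IsCompact (W : Set X) → W ≤ f ⁻¹ᵁ V → Good (f ⁻¹ᵁ V) W := by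
    intro W hW
    refine compact_open_induction_on (P := fun W => W ≤ f ⁻¹ᵁ V → Good (f ⁻¹ᵁ V) W) W hW ?_ ?_
    · intro _
      exact good_affine _ ⊥ (isAffineOpen_bot X) bot_le
    · intro S _ W' ih hle
      exact good_sup _ S W'.1 (ih (le_sup_left.trans hle))
        (good_affine _ W'.1 W'.2 (le_sup_right.trans hle))
  obtain ⟨A, hA, α, h1, h2⟩ := key (f ⁻¹ᵁ V) hUc le_rfl
  haveI := hA
  obtain ⟨a, ha⟩ := exists_section_eq_one f h V hV α h1
  have h3 : (1 : Γ(X, f ⁻¹ᵁ V)) ∈ affIdeal (f ⁻¹ᵁ V) := ha ▸ h2 a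
  have h4 : Ideal.span {a : Γ(X, f ⁻¹ᵁ V) | IsAffineOpen (X.basicOpen a)} = ⊤ :=
    (Ideal.eq_top_iff_one _).2 h3
  exact isAffineOpen_of_isAffineOpen_basicOpen (f ⁻¹ᵁ V) _ h4 (fun a ha => ha)

end Groth.Agent.Helper9.RelSerre
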