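import Mathlib
import Groth.Agent.Lib.Helper9.RelSerre
import Groth.Agent.Lib.Helper13.PushExact
import Groth.Agent.Lib.Helper13.ToAbExact

/-!
# The relative Serre criterion, cohomological form (EGA II 5.2.2, (c') ⇒ (a))

A separated quasi-compact morphism `f : X ⟶ Y` such that `R¹f_* J = 0` for every quasi-coherent
ideal `J` of `O_X` is affine.
-/

set_option autoImplicit false
set_option backward.isDefEq.respectTransparency false
universe u
open CategoryTheory CategoryTheory.Limits AlgebraicGeometry Opposite TopologicalSpace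

namespace Groth.Agent.Helper9.RelSerre

open Groth.Agent.Helper13.Qcqs Groth.Agent.Helper13.SerreFT Groth.Agent.Helper13.FinType
open Groth.Agent.Helper13.KerSec Groth.Agent.Helper13.VanishIdeal

variable {X Y : Scheme.{u}}

/-- the direct image preserves the epimorphism of a short exact sequence of modules whose kernel
has vanishing `R¹f_*` (on underlying abelian sheaves). -/
theorem epi_push_of_R1 (f : X ⟶ Y) (S : ShortComplex X.Modules) (hS : S.ShortExact)
    (h0 : IsZero ((Coh.RpushAb f 1).obj (Coh.toAb S.X₁))) :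
    Epi ((Scheme.Modules.pushforward f).map S.g) := by
  have hS' := Groth.Agent.Helper13.ToAbExact.toAb_shortExact S hS
  have h1 : Epi ((CohTop.push f.base).map
      ((S.map (Groth.Agent.Helper13.ToAbExact.toAbF X)).g)) :=
    Groth.Agent.Helper13.PushExact.epi_push_of_R1 f.base _ hS' h0
  have h2 : Epi ((SheafOfModules.toSheaf Y.ringCatSheaf).map
      ((Scheme.Modules.pushforward f).map S.g)) := h1
  exact (SheafOfModules.toSheaf Y.ringCatSheaf).epi_of_epi_map h2

/-- ideal version of `Good`: a quasi-coherent ideal, locally the unit ideal over `W`, all of whose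
sections over `U` lie in `affIdeal U`. -/
def GoodI (U W : X.Opens) : Prop :=
  ∃ (J : X.Modules) (_ : J.IsQuasicoherent) (ι : J ⟶ Coh.structureModule X) (_ : Mono ι),
    LocSurj ι W ∧ ∀ a : Γ(J, U), toFn U (ι.app U a) ∈ affIdeal U

theorem goodI_of_range {Zs : Scheme.{u}} (i : Zs ⟶ X) [QuasiCompact i] [QuasiSeparated i]
    (U W : X.Opens) (hW : IsAffineOpen W) (hWU : W ≤ U) (hi : Set.range i = (W : Set X)ᶜ) :
    GoodI U W := by
  refine ⟨idealMod i, isQuasicoherent_idealMod i, idealι i, inferInstance, ?_, ?_⟩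
  · intro x hx
    refine ⟨W, hx, fun M hM c => ?_⟩
    have hbot : i ⁻¹ᵁ M ≤ ⊥ := by
      intro z hz
      have h1 : i z ∈ (W : Set X) := hM hz
      have h2 : i z ∈ Set.range i := ⟨z, rfl⟩
      rw [hi] at h2
      exact (h2 h1).elim
    haveI := subsingleton_of_le_bot (Coh.structureModule Zs) hbot
    have hc : (sharp i).app M c = 0 :=
      Subsingleton.elim (α := Γ(Coh.structureModule Zs, i ⁻¹ᵁ M)) _ _
    exact exists_kernel_section (sharp i) M c hc
  · intro a
    have hle : X.basicOpen (toFn U ((idealι i).app U a)) ≤ W := by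
      intro z hz
      have := basicOpen_idealι_disjoint i U a z hz
      rw [hi] at this
      exact not_not.1 this
    have h1 : X.basicOpen (X.presheaf.map (homOfLE hWU).op (toFn U ((idealι i).app U a)))
        = X.basicOpen (toFn U ((idealι i).app U a)) := by
      rw [Scheme.basicOpen_res]
      exact inf_eq_right.2 hle
    have h2 : IsAffineOpen (X.basicOpen (toFn U ((idealι i).app U a))) := by
      rw [← h1]
      exact hW.basicOpen _
    exact Ideal.subset_span (s := {a : Γ(X, U) | IsAffineOpen (X.basicOpen a)}) h2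

theorem goodI_affine (U W : X.Opens) (hW : IsAffineOpen W) (hWU : W ≤ U) : GoodI U W := by
  refine goodI_of_range (Scheme.IdealSheafData.vanishingIdeal
    (⟨(W : Set X)ᶜ, W.isOpen.isClosed_compl⟩ : Closeds X)).subschemeι U W hW hWU ?_
  rw [Scheme.IdealSheafData.range_subschemeι, Scheme.IdealSheafData.coe_support_vanishingIdeal]
  rfl

/-- the kernel of the sum map `J ⊞ J' ⟶ O` of two ideals is (isomorphic to) an ideal. -/
theorem mono_kernel_fst {C : Type*} [Category C] [Abelian C] {J J' O K : C}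
    (ι : J ⟶ O) (ι' : J' ⟶ O) [Mono ι] [Mono ι'] (α : J ⊞ J' ⟶ O) (hα : α = biprod.desc ι ι')
    (κ : K ⟶ J ⊞ J') [Mono κ]
    (hκ : κ ≫ α = 0) : Mono (κ ≫ biprod.fst ≫ ι) := by
  subst hα
  refine Preadditive.mono_of_cancel_zero _ (fun {P} g hg => ?_)
  have e1 : (g ≫ κ) ≫ biprod.fst = 0 := by
    have : ((g ≫ κ) ≫ biprod.fst) ≫ ι = 0 := by
      simpa only [Category.assoc] using hg
    exact zero_of_comp_mono ι this
  have e0 : (g ≫ κ) ≫ biprod.desc ι ι' = 0 := by
    rw [Category.assoc, hκ, comp_zero]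
  have e2 : (g ≫ κ) ≫ biprod.snd = 0 := by
    have : ((g ≫ κ) ≫ biprod.snd) ≫ ι' = 0 := by
      have h3 : (g ≫ κ) ≫ biprod.desc ι ι'
          = ((g ≫ κ) ≫ biprod.fst) ≫ ι + ((g ≫ κ) ≫ biprod.snd) ≫ ι' := by
        rw [biprod.desc_eq, Preadditive.comp_add]
        simp only [Category.assoc]
      rw [e0, e1, zero_comp, zero_add] at h3
      exact h3.symm
    exact zero_of_comp_mono ι' this
  have e3 : g ≫ κ = 0 := by
    apply biprod.hom_ext
    · rw [e1, zero_comp]
    · rw [e2, zero_comp]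
  exact zero_of_comp_mono κ e3

theorem goodI_sup (f : X ⟶ Y) [QuasiCompact f] [QuasiSeparated f]
    (h : ∀ (J : X.Modules) (i : J ⟶ Coh.structureModule X), Mono i → Coh.IsQCoh J →
      Limits.IsZero ((Coh.RpushAb f 1).obj (Coh.toAb J)))
    (V : Y.Opens) (hV : IsAffineOpen V) (W W' : X.Opens)
    (hW : GoodI (f ⁻¹ᵁ V) W) (hW' : GoodI (f ⁻¹ᵁ V) W') : GoodI (f ⁻¹ᵁ V) (W ⊔ W') := by
  obtain ⟨J, hJ, ι, hι, h1, h2⟩ := hW
  obtain ⟨J', hJ', ι', hι', h1', h2'⟩ := hW'
  haveI := hJ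
  haveI := hJ'
  haveI := hι
  haveI := hι'
  haveI hO : (Coh.structureModule X).IsQuasicoherent :=
    Groth.Agent.Helper13.QCoh.isQuasicoherent_unit X
  haveI hB : (J ⊞ J').IsQuasicoherent :=
    Groth.Agent.Helper18.QCohBiprod.isQuasicoherent_biprod J J'
  obtain ⟨α, hα⟩ : ∃ α : J ⊞ J' ⟶ Coh.structureModule X, α = biprod.desc ι ι' := ⟨_, rfl⟩
  haveI hQ : (cokernel α).IsQuasicoherent :=
    Groth.Agent.Helper13.QCohLocal.isQuasicoherent_cokernel α
  haveI hI : (kernel (cokernel.π α)).IsQuasicoherent :=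
    Groth.Agent.Helper13.QCohLocal.isQuasicoherent_kernel (cokernel.π α)
  obtain ⟨π, hπdef⟩ : ∃ π : J ⊞ J' ⟶ kernel (cokernel.π α),
      π = kernel.lift (cokernel.π α) α (cokernel.condition α) := ⟨_, rfl⟩
  have hπι : π ≫ kernel.ι (cokernel.π α) = α := by
    rw [hπdef]; exact kernel.lift_ι _ _ _
  haveI hπepi : Epi π := by
    rw [hπdef]; exact inferInstanceAs (Epi (Abelian.factorThruImage α))
  haveI hKπ : (kernel π).IsQuasicoherent :=
    Groth.Agent.Helper13.QCohLocal.isQuasicoherent_kernel π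
  have hκ : kernel.ι π ≫ α = 0 := by
    have e : kernel.ι π ≫ α = kernel.ι π ≫ (π ≫ kernel.ι (cokernel.π α)) :=
      congrArg (fun t => kernel.ι π ≫ t) hπι.symm
    rw [e, kernel.condition_assoc, zero_comp]
  have hm : Mono (kernel.ι π ≫ biprod.fst ≫ ι) := mono_kernel_fst ι ι' α hα (kernel.ι π) hκ
  have hzero := h (kernel π) (kernel.ι π ≫ biprod.fst ≫ ι) hm hKπ
  have hS : (ShortComplex.mk (kernel.ι π) π (kernel.condition π)).ShortExact :=
    { exact := ShortComplex.exact_of_f_is_kernel _ (kernelIsKernel π)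
      mono_f := inferInstanceAs (Mono (kernel.ι π))
      epi_g := hπepi }
  have hepi : Epi ((Scheme.Modules.pushforward f).map π) := epi_push_of_R1 f _ hS hzero
  have hsurj := app_surjective_of_epi_push f π hepi V hV
  refine ⟨kernel (cokernel.π α), hI, kernel.ι (cokernel.π α), inferInstance, ?_, ?_⟩
  · intro x hx
    rcases Opens.mem_sup.1 hx with hx | hx
    · obtain ⟨N, hxN, hN⟩ := h1 x hx
      refine ⟨N, hxN, fun M hM c => ?_⟩
      obtain ⟨s, hs⟩ := hN M hM c
      refine ⟨π.app M ((biprod.inl : J ⟶ J ⊞ J').app M s), ?_⟩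
      have e : (biprod.inl ≫ π ≫ kernel.ι (cokernel.π α) : J ⟶ Coh.structureModule X) = ι := by
        rw [hπι, hα, biprod.inl_desc]
      have e' : (kernel.ι (cokernel.π α)).app M (π.app M ((biprod.inl : J ⟶ J ⊞ J').app M s))
          = ι.app M s :=
        congrArg (fun ψ : J ⟶ Coh.structureModule X => ψ.app M s) e
      exact e'.trans hs
    · obtain ⟨N, hxN, hN⟩ := h1' x hx
      refine ⟨N, hxN, fun M hM c => ?_⟩
      obtain ⟨s, hs⟩ := hN M hM c
      refine ⟨π.app M ((biprod.inr : J' ⟶ J ⊞ J').app M s), ?_⟩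
      have e : (biprod.inr ≫ π ≫ kernel.ι (cokernel.π α) : J' ⟶ Coh.structureModule X) = ι' := by
        rw [hπι, hα, biprod.inr_desc]
      have e' : (kernel.ι (cokernel.π α)).app M (π.app M ((biprod.inr : J' ⟶ J ⊞ J').app M s))
          = ι'.app M s :=
        congrArg (fun ψ : J' ⟶ Coh.structureModule X => ψ.app M s) e
      exact e'.trans hs
  · intro a
    obtain ⟨s, hs⟩ := hsurj a
    have e : π ≫ kernel.ι (cokernel.π α) = biprod.fst ≫ ι + biprod.snd ≫ ι' := by
      rw [hπι, hα, biprod.desc_eq]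
    have e' : (kernel.ι (cokernel.π α)).app (f ⁻¹ᵁ V) (π.app (f ⁻¹ᵁ V) s)
        = ι.app (f ⁻¹ᵁ V) ((biprod.fst : J ⊞ J' ⟶ J).app (f ⁻¹ᵁ V) s)
          + ι'.app (f ⁻¹ᵁ V) ((biprod.snd : J ⊞ J' ⟶ J').app (f ⁻¹ᵁ V) s) :=
      congrArg (fun ψ : J ⊞ J' ⟶ Coh.structureModule X => ψ.app (f ⁻¹ᵁ V) s) e
    rw [← hs, e', toFn_add]
    exact Ideal.add_mem _ (h2 _) (h2' _)

/-- a quasi-coherent ideal which is locally the unit ideal over `U` contains `1` over `U`. -/
theorem exists_section_eq_one_of_mono {J : X.Modules} (ι : J ⟶ Coh.structureModule X) [Mono ι]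
    (U : X.Opens) (hι : LocSurj ι U) : ∃ a : Γ(J, U), toFn U (ι.app U a) = 1 := by
  have hq : ofFn U 1 ∈ (kerSub (cokernel.π ι)).obj (op U) := by
    refine isLocalSub_kerSub (cokernel.π ι) U (ofFn U 1) (fun y hy => ?_)
    obtain ⟨N, hyN, hN⟩ := hι y hy
    refine ⟨N ⊓ U, inf_le_right, Opens.mem_inf.2 ⟨hyN, hy⟩, ?_⟩
    obtain ⟨s, hs⟩ := hN (N ⊓ U) inf_le_left
      ((Coh.structureModule X).presheaf.map (homOfLE (inf_le_right : N ⊓ U ≤ U)).op (ofFn U 1))
    have e1 : (cokernel.π ι).app (N ⊓ U) (ι.app (N ⊓ U) s) = 0 :=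
      congrArg (fun ψ : J ⟶ cokernel ι => ψ.app (N ⊓ U) s) (cokernel.condition ι)
    change (cokernel.π ι).app (N ⊓ U) _ = 0
    rw [← hs]
    exact e1
  have hq' : (cokernel.π ι).app U (ofFn U 1) = 0 := hq
  obtain ⟨k, hk⟩ := exists_kernel_section (cokernel.π ι) U (ofFn U 1) hq'
  obtain ⟨π, hπdef⟩ : ∃ π : J ⟶ kernel (cokernel.π ι),
      π = kernel.lift (cokernel.π ι) ι (cokernel.condition ι) := ⟨_, rfl⟩
  have hπι : π ≫ kernel.ι (cokernel.π ι) = ι := by
    rw [hπdef]; exact kernel.lift_ι _ _ _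
  haveI hπepi : Epi π := by
    rw [hπdef]; exact inferInstanceAs (Epi (Abelian.factorThruImage ι))
  haveI hπmono : Mono π := mono_of_mono_fac hπι
  haveI : IsIso π := isIso_of_mono_of_epi π
  refine ⟨(inv π).app U k, ?_⟩
  have e1 : π.app U ((inv π).app U k) = k :=
    congrArg (fun ψ : kernel (cokernel.π ι) ⟶ kernel (cokernel.π ι) => ψ.app U k)
      (IsIso.inv_hom_id π)
  have e2 : (kernel.ι (cokernel.π ι)).app U (π.app U ((inv π).app U k))
      = ι.app U ((inv π).app U k) :=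
    congrArg (fun ψ : J ⟶ Coh.structureModule X => ψ.app U ((inv π).app U k)) hπι
  rw [← e2, e1, hk]
  rfl

/-- **EGA II 5.2.2 (c') ⇒ (a)**: a separated quasi-compact morphism with `R¹f_* J = 0` for every
quasi-coherent ideal `J` is affine. -/
theorem isAffineHom_of_R1 (f : X ⟶ Y) [IsSeparated f] [QuasiCompact f]
    (h : ∀ (J : X.Modules) (i : J ⟶ Coh.structureModule X), Mono i → Coh.IsQCoh J →
      Limits.IsZero ((Coh.RpushAb f 1).obj (Coh.toAb J))) : IsAffineHom f := by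
  refine ⟨fun V hV => ?_⟩
  have hUc : IsCompact ((f ⁻¹ᵁ V : X.Opens) : Set X) := f.isCompact_preimage hV.isCompact
  have key : ∀ W : X.Opens, IsCompact (W : Set X) → W ≤ f ⁻¹ᵁ V → GoodI (f ⁻¹ᵁ V) W := by
    intro W hW
    refine compact_open_induction_on (P := fun W => W ≤ f ⁻¹ᵁ V → GoodI (f ⁻¹ᵁ V) W) W hW ?_ ?_
    · intro _
      exact goodI_affine _ ⊥ (isAffineOpen_bot X) bot_le
    · intro S _ W' ih hle
      exact goodI_sup f h V hV S W'.1 (ih (le_sup_left.trans hle))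
        (goodI_affine _ W'.1 W'.2 (le_sup_right.trans hle))
  obtain ⟨J, hJ, ι, hι, h1, h2⟩ := key (f ⁻¹ᵁ V) hUc le_rfl
  haveI := hι
  obtain ⟨a, ha⟩ := exists_section_eq_one_of_mono ι (f ⁻¹ᵁ V) h1
  have h3 : (1 : Γ(X, f ⁻¹ᵁ V)) ∈ affIdeal (f ⁻¹ᵁ V) := ha ▸ h2 a
  have h4 : Ideal.span {a : Γ(X, f ⁻¹ᵁ V) | IsAffineOpen (X.basicOpen a)} = ⊤ :=
    (Ideal.eq_top_iff_one _).2 h3
  exact isAffineOpen_of_isAffineOpen_basicOpen (f ⁻¹ᵁ V) _ h4 (fun a ha => ha)

end Groth.Agent.Helper9.RelSerre
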