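import Mathlib

/-!
# Injective objects in the category of `ℕ`-indexed cochain complexes
-/

set_option autoImplicit false
universe v u
open CategoryTheory CategoryTheory.Limits

namespace Groth.Agent.Helper9.InjCx

variable {C : Type u} [Category.{v} C] [Abelian C] (Q : CochainComplex C ℕ)

/-- The short complex `Z^i → Q^i → Z^{i+1}`. -/
noncomputable def zsc (i : ℕ) : ShortComplex C :=
  ShortComplex.mk (Q.iCycles i) (Q.toCycles i (i + 1)) (by
    rw [← cancel_mono (Q.iCycles (i + 1)), Category.assoc, Q.toCycles_i, Q.iCycles_d, zero_comp])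

theorem zsc_exact (i : ℕ) : (zsc Q i).Exact := by
  rw [ShortComplex.exact_iff_exact_up_to_refinements]
  intro A x hx
  obtain ⟨x', rfl⟩ : ∃ x' : A ⟶ Q.X i, x' = x := ⟨x, rfl⟩
  have hx' : x' ≫ Q.d i (i + 1) = 0 := by
    have : x' ≫ Q.toCycles i (i + 1) = 0 := hx
    rw [← Q.toCycles_i i (i + 1), reassoc_of% this, zero_comp]
  refine ⟨A, 𝟙 A, inferInstance, Q.liftCycles x' (i + 1) (by simp) hx', ?_⟩
  show 𝟙 A ≫ x' = Q.liftCycles x' (i + 1) (by simp) hx' ≫ Q.iCycles i
  rw [Q.liftCycles_i, Category.id_comp]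

theorem epi_toCycles (i : ℕ) (h : IsZero (Q.homology (i + 1))) : Epi (Q.toCycles i (i + 1)) := by
  rw [← HomologicalComplex.exactAt_iff_isZero_homology,
    HomologicalComplex.exactAt_iff' _ i (i + 1) (i + 1 + 1) (by simp) (by simp),
    ShortComplex.exact_iff_exact_up_to_refinements] at h
  rw [epi_iff_surjective_up_to_refinements]
  intro A x
  obtain ⟨A', π, hπ, y, hy⟩ := h (x ≫ Q.iCycles (i + 1)) (by
    show (x ≫ Q.iCycles (i + 1)) ≫ Q.d (i + 1) (i + 1 + 1) = 0
    rw [Category.assoc, Q.iCycles_d, comp_zero])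
  refine ⟨A', π, hπ, y, ?_⟩
  rw [← cancel_mono (Q.iCycles (i + 1)), Category.assoc, Category.assoc, Q.toCycles_i]
  exact hy

variable (hac : ∀ i : ℕ, IsZero (Q.homology (i + 1))) (hsplit : ∀ i : ℕ, IsSplitMono (Q.iCycles i))

/-- The splittings. -/
noncomputable def spl (i : ℕ) : (zsc Q i).Splitting :=
  ShortComplex.Splitting.ofExactOfRetraction (zsc Q i) (zsc_exact Q i)
    (hsplit i).exists_splitMono.some.retraction
    (hsplit i).exists_splitMono.some.id (epi_toCycles Q i (hac i))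

include hac hsplit in
theorem injective_of_split (hinj : ∀ i : ℕ, Injective (Q.X i)) : Injective Q := by
  constructor
  intro X Y g j hj
  -- notation
  let ι : ∀ i, Q.cycles i ⟶ Q.X i := fun i => Q.iCycles i
  let t : ∀ i, Q.X i ⟶ Q.cycles (i + 1) := fun i => Q.toCycles i (i + 1)
  let r : ∀ i, Q.X i ⟶ Q.cycles i := fun i => (spl Q hac hsplit i).r
  let s : ∀ i, Q.cycles (i + 1) ⟶ Q.X i := fun i => (spl Q hac hsplit i).s
  have hιr : ∀ i, ι i ≫ r i = 𝟙 _ := fun i => (spl Q hac hsplit i).f_r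
  have hst : ∀ i, s i ≫ t i = 𝟙 _ := fun i => (spl Q hac hsplit i).s_g
  have hid : ∀ i, r i ≫ ι i + t i ≫ s i = 𝟙 _ := fun i => (spl Q hac hsplit i).id
  have hιt : ∀ i, ι i ≫ t i = 0 := fun i => (zsc Q i).zero
  have htι : ∀ i, t i ≫ ι (i + 1) = Q.d i (i + 1) := fun i => Q.toCycles_i i (i + 1)
  -- extensions
  have hext : ∀ i, ∃ w : Y.X i ⟶ Q.cycles i, j.f i ≫ w = g.f i ≫ r i := by
    intro i
    haveI := hinj i
    refine ⟨Injective.factorThru (g.f i ≫ r i ≫ ι i) (j.f i) ≫ r i, ?_⟩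
    rw [← Category.assoc, Injective.comp_factorThru, Category.assoc, Category.assoc, hιr,
      Category.comp_id]
  choose w hw using hext
  have key : ∀ i, X.d i (i + 1) ≫ g.f (i + 1) ≫ r (i + 1) = g.f i ≫ t i := by
    intro i
    rw [← cancel_mono (ι (i + 1)), Category.assoc, Category.assoc, Category.assoc, htι,
      ← g.comm_assoc i (i + 1), ← htι i]
    simp only [Category.assoc]
    rw [reassoc_of% (hιr (i + 1))]
  refine ⟨{ f := fun i => w i ≫ ι i + Y.d i (i + 1) ≫ w (i + 1) ≫ s i, comm' := ?_ }, ?_⟩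
  · intro a b hab
    obtain rfl : a + 1 = b := hab
    rw [Preadditive.add_comp, Preadditive.comp_add, ← htι a]
    simp only [Category.assoc, reassoc_of% (hιt a), zero_comp, comp_zero, zero_add,
      reassoc_of% (hst a), HomologicalComplex.d_comp_d_assoc, add_zero]
  · refine HomologicalComplex.hom_ext _ _ (fun i => ?_)
    show j.f i ≫ (w i ≫ ι i + Y.d i (i + 1) ≫ w (i + 1) ≫ s i) = g.f i
    rw [Preadditive.comp_add, reassoc_of% (hw i), j.comm_assoc i (i + 1),
      reassoc_of% (hw (i + 1)), reassoc_of% (key i), ← Preadditive.comp_add, hid,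
      Category.comp_id]

end Groth.Agent.Helper9.InjCx
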