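import Mathlib
import Groth.Prelude.Def_PCoh

/-!
# Pseudo-coherence (punctual case): basic lemmas

`IsNQI n u` : `u` is an `n`-quasi-isomorphism; characterisation through the mapping cone.
-/

set_option autoImplicit false
universe w v u
open CategoryTheory CategoryTheory.Limits

namespace Groth.Agent.Helper9.PCohLib

variable {C : Type u} [Category.{v} C] [Abelian C]

/-- `u` is an `n`-quasi-isomorphism. -/
def IsNQI (n : ℤ) {E F : CochainComplex C ℤ} (u : E ⟶ F) : Prop :=
  (∀ i : ℤ, n < i → IsIso (HomologicalComplex.homologyMap u i)) ∧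
    Epi (HomologicalComplex.homologyMap u n)

section

open DerivedCategory

theorem isZero_homology_mappingCone_iff {K L : CochainComplex C ℤ} (φ : K ⟶ L) (i : ℤ) :
    IsZero ((CochainComplex.mappingCone φ).homology i) ↔
      Epi (HomologicalComplex.homologyMap φ i) ∧ Mono (HomologicalComplex.homologyMap φ (i + 1)) := by
  letI : HasDerivedCategory.{max u v} C := HasDerivedCategory.standard C
  set T := (DerivedCategory.Q (C := C)).mapTriangle.obj (CochainComplex.mappingCone.triangle φ) with hTdef
  have hT : T ∈ distTriang (DerivedCategory C) := DerivedCategory.mappingCone_triangle_distinguished φ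
  have e0 : IsZero ((CochainComplex.mappingCone φ).homology i) ↔
      IsZero ((homologyFunctor C i).obj T.obj₃) :=
    (Iso.isZero_iff ((homologyFunctorFactors C i).app (CochainComplex.mappingCone φ))).symm
  have e1 : ∀ j : ℤ, Epi (HomologicalComplex.homologyMap φ j) ↔ Epi ((homologyFunctor C j).map T.mor₁) := by
    intro j
    exact ((MorphismProperty.epimorphisms C).arrow_mk_iso_iff
      (Arrow.isoMk ((homologyFunctorFactors C j).app K) ((homologyFunctorFactors C j).app L)
        ((homologyFunctorFactors C j).hom.naturality φ).symm)).symm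
  have e2 : ∀ j : ℤ, Mono (HomologicalComplex.homologyMap φ j) ↔ Mono ((homologyFunctor C j).map T.mor₁) := by
    intro j
    exact ((MorphismProperty.monomorphisms C).arrow_mk_iso_iff
      (Arrow.isoMk ((homologyFunctorFactors C j).app K) ((homologyFunctorFactors C j).app L)
        ((homologyFunctorFactors C j).hom.naturality φ).symm)).symm
  rw [e0, e1, e2]
  constructor
  · intro hz
    refine ⟨?_, ?_⟩
    · rw [HomologySequence.epi_homologyMap_mor₁_iff T hT i]
      exact hz.eq_of_tgt _ _
    · rw [HomologySequence.mono_homologyMap_mor₁_iff T hT i (i + 1) rfl]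
      exact hz.eq_of_src _ _
  · rintro ⟨h1, h2⟩
    rw [HomologySequence.epi_homologyMap_mor₁_iff T hT i] at h1
    rw [HomologySequence.mono_homologyMap_mor₁_iff T hT i (i + 1) rfl] at h2
    exact (HomologySequence.exact₃ T hT i (i + 1) rfl).isZero_X₂ h1 h2

end

theorem isNQI_iff_mappingCone {E F : CochainComplex C ℤ} (u : E ⟶ F) (n : ℤ) :
    IsNQI n u ↔ ∀ i : ℤ, n ≤ i → IsZero ((CochainComplex.mappingCone u).homology i) := by
  constructor
  · rintro ⟨h1, h2⟩ i hi
    rw [isZero_homology_mappingCone_iff]
    refine ⟨?_, ?_⟩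
    · rcases hi.lt_or_eq with h | h
      · have := h1 i h; infer_instance
      · subst h; exact h2
    · have := h1 (i + 1) (by omega); infer_instance
  · intro h
    refine ⟨fun i hi => ?_, ?_⟩
    · have h1 := (isZero_homology_mappingCone_iff u i).1 (h i hi.le)
      have h2 := (isZero_homology_mappingCone_iff u (i - 1)).1 (h (i - 1) (by omega))
      rw [show i - 1 + 1 = i by ring] at h2
      have := h1.1; have := h2.2
      exact isIso_of_mono_of_epi _
    · exact ((isZero_homology_mappingCone_iff u n).1 (h n le_rfl)).1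

theorem IsNQI.comp_quasiIso {E F G : CochainComplex C ℤ} {n : ℤ} {w : E ⟶ F} (hw : IsNQI n w)
    (u : F ⟶ G) [QuasiIso u] : IsNQI n (w ≫ u) := by
  refine ⟨fun i hi => ?_, ?_⟩
  · rw [HomologicalComplex.homologyMap_comp]
    have := hw.1 i hi
    infer_instance
  · rw [HomologicalComplex.homologyMap_comp]
    have := hw.2
    infer_instance

theorem isNQI_of_quasiIso {E F : CochainComplex C ℤ} (n : ℤ) (u : E ⟶ F) [QuasiIso u] : IsNQI n u :=
  ⟨fun _ _ => inferInstance, inferInstance⟩

theorem quasiIso_of_forall_isNQI {E F : CochainComplex C ℤ} (u : E ⟶ F) (h : ∀ n : ℤ, IsNQI n u) :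
    QuasiIso u := by
  rw [quasiIso_iff]
  intro i
  rw [quasiIsoAt_iff_isIso_homologyMap]
  exact (h (i - 1)).1 i (by omega)

end Groth.Agent.Helper9.PCohLib
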