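import Mathlib
import Groth.Prelude.Def_PCoh
import Groth.Agent.Lib.Helper9.PCoh1

/-!
# Pseudo-coherence (punctual case): finite type lemmas, and S5602
-/

set_option autoImplicit false
universe w v u
open CategoryTheory CategoryTheory.Limits

namespace Groth.Agent.Helper9.PCohLib

variable {C : Type u} [Category.{v} C] [Abelian C] (P : ObjectProperty C)

theorem isOfFiniteType_of_epi {X Y : C} (f : X ⟶ Y) [Epi f] (hX : PCoh.IsOfFiniteType P X) :
    PCoh.IsOfFiniteType P Y := by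
  obtain ⟨E, π, hE, hπ⟩ := hX
  exact ⟨E, π ≫ f, hE, epi_comp _ _⟩

theorem isOfFiniteType_of_iso {X Y : C} (e : X ≅ Y) (hX : PCoh.IsOfFiniteType P X) :
    PCoh.IsOfFiniteType P Y :=
  isOfFiniteType_of_epi P e.hom hX

theorem isOfFiniteType_of_mem {X : C} (hX : P X) : PCoh.IsOfFiniteType P X :=
  ⟨X, 𝟙 X, hX, inferInstance⟩

/-- The augmented complex `Z^n(E) → E^n → E^{n+1} → ⋯`, indexed by `ℕ`. -/
noncomputable def augX (E : CochainComplex C ℤ) (n : ℤ) : ℕ → C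
  | 0 => E.cycles (n + ((0 : ℕ) : ℤ))
  | (i + 1) => E.X (n + (i : ℤ))

noncomputable def augD (E : CochainComplex C ℤ) (n : ℤ) : ∀ k : ℕ, augX E n k ⟶ augX E n (k + 1)
  | 0 => E.iCycles (n + ((0 : ℕ) : ℤ))
  | (i + 1) => E.d (n + (i : ℤ)) (n + ((i + 1 : ℕ) : ℤ))

theorem augD_sq (E : CochainComplex C ℤ) (n : ℤ) : ∀ k : ℕ, augD E n k ≫ augD E n (k + 1) = 0
  | 0 => E.iCycles_d _ _
  | (i + 1) => E.d_comp_d _ _ _

noncomputable def aug (E : CochainComplex C ℤ) (n : ℤ) : CochainComplex C ℕ :=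
  CochainComplex.of (augX E n) (augD E n) (augD_sq E n)

theorem aug_d (E : CochainComplex C ℤ) (n : ℤ) (k : ℕ) : (aug E n).d k (k + 1) = augD E n k :=
  CochainComplex.of_d _ _ k

theorem aug_exactAt (E : CochainComplex C ℤ) (n : ℤ)
    (hac : ∀ i : ℤ, n < i → IsZero (E.homology i)) : ∀ k : ℕ, (aug E n).ExactAt k
  | 0 => by
    rw [HomologicalComplex.exactAt_iff' (aug E n) 0 0 1 (by simp) (by simp)]
    apply (ShortComplex.exact_iff_mono _ ?_).2
    · change Mono ((aug E n).d 0 (0 + 1))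
      rw [aug_d]
      change Mono (E.iCycles _)
      infer_instance
    · exact (aug E n).shape 0 0 (by simp)
  | 1 => by
    rw [HomologicalComplex.exactAt_iff_exact_up_to_refinements (aug E n) 0 1 2 (by simp) (by simp)]
    intro A x₂ hx₂
    have h1 : (aug E n).d 1 2 = E.d (n + ((0 : ℕ) : ℤ)) (n + ((0 + 1 : ℕ) : ℤ)) := aug_d E n 1
    have h0 : (aug E n).d 0 1 = E.iCycles (n + ((0 : ℕ) : ℤ)) := aug_d E n 0
    rw [h1] at hx₂
    refine ⟨A, 𝟙 A, inferInstance, E.liftCycles x₂ _ (by simp) hx₂, ?_⟩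
    rw [h0]
    exact (Category.id_comp _).trans (E.liftCycles_i _ _ _ _).symm
  | (k + 2) => by
    rw [HomologicalComplex.exactAt_iff_exact_up_to_refinements (aug E n) (k + 1) (k + 2) (k + 3)
      (by simp) (by simp)]
    intro A x₂ hx₂
    have h2 : (aug E n).d (k + 2) (k + 3) = E.d (n + ((k + 1 : ℕ) : ℤ)) (n + ((k + 1 + 1 : ℕ) : ℤ)) :=
      aug_d E n (k + 2)
    have h1 : (aug E n).d (k + 1) (k + 2) = E.d (n + ((k : ℕ) : ℤ)) (n + ((k + 1 : ℕ) : ℤ)) :=
      aug_d E n (k + 1)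
    rw [h2] at hx₂
    have hex : E.ExactAt (n + ((k + 1 : ℕ) : ℤ)) := by
      rw [HomologicalComplex.exactAt_iff_isZero_homology]
      exact hac _ (by push_cast; omega)
    rw [HomologicalComplex.exactAt_iff_exact_up_to_refinements E (n + ((k : ℕ) : ℤ))
      (n + ((k + 1 : ℕ) : ℤ)) (n + ((k + 1 + 1 : ℕ) : ℤ)) (by simp; omega) (by simp; omega)] at hex
    obtain ⟨A', π, hπ, x₁, hx₁⟩ := hex x₂ hx₂
    exact ⟨A', π, hπ, x₁, by rw [h1]; exact hx₁⟩

/-- S5602: if `E` is strictly `n`-pseudo-coherent and acyclic in degrees `> n`, then `H^n(E)` is of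
finite type. -/
theorem finiteType_homology_of_strictPC [P.IsClosedUnderIsomorphisms]
    (hqs : PCoh.IsQuasiStableUnderKernels P)
    (n : ℤ) (E : CochainComplex C ℤ) (hE : PCoh.IsStrictPC P n E)
    (hac : ∀ i : ℤ, n < i → IsZero (E.homology i)) :
    PCoh.IsOfFiniteType P (E.homology n) := by
  obtain ⟨⟨b, hb⟩, hP⟩ := hE
  have h0 : PCoh.IsOfFiniteType P ((aug E n).X 0) := by
    apply hqs (aug E n) (aug_exactAt E n hac)
    · refine ⟨(b - n).toNat + 1, fun i hi => ?_⟩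
      obtain ⟨j, rfl⟩ : ∃ j, i = j + 1 := ⟨i - 1, by omega⟩
      exact hb _ (by omega)
    · intro i hi
      obtain ⟨j, rfl⟩ : ∃ j, i = j + 1 := ⟨i - 1, by omega⟩
      exact hP _ (by omega)
  have h1 : PCoh.IsOfFiniteType P (E.homology (n + ((0 : ℕ) : ℤ))) :=
    isOfFiniteType_of_epi P (E.homologyπ _) h0
  simpa using h1

end Groth.Agent.Helper9.PCohLib
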