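import Mathlib
import Groth.Prelude.Def_PCoh
import Groth.Agent.Lib.Helper9.PCoh1

/-!
# Pseudo-coherence (punctual case): factorisation of an `n`-quasi-isomorphism (S5600)
-/

set_option autoImplicit false
universe w v u
open CategoryTheory CategoryTheory.Limits

namespace Groth.Agent.Helper9.PCohLib

variable {C : Type u} [Category.{v} C] [Abelian C]

open CochainComplex in
/-- Every morphism of cochain complexes factors as a (degreewise split) monomorphism followed by a
quasi-isomorphism. -/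
theorem exists_mono_quasiIso_fac {E F : CochainComplex C ℤ} (u : E ⟶ F) :
    ∃ (C' : CochainComplex C ℤ) (i : E ⟶ C') (p : C' ⟶ F), Mono i ∧ QuasiIso p ∧ i ≫ p = u ∧
      ∀ j : ℤ, ∃ r : C'.X j ⟶ E.X j, i.f j ≫ r = 𝟙 _ := by
  let i : E ⟶ mappingCone (𝟙 E) ⊞ F := biprod.lift (mappingCone.inr (𝟙 E)) u
  have hi : ∀ j : ℤ, (i.f j) ≫ (biprod.fst : mappingCone (𝟙 E) ⊞ F ⟶ _).f j ≫
      (mappingCone.snd (𝟙 E)).v j j (add_zero j) = 𝟙 _ := by
    intro j
    rw [← Category.assoc, ← HomologicalComplex.comp_f]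
    simp [i]
  have hmono : ∀ j : ℤ, Mono (i.f j) := fun j => mono_of_mono_fac (hi j)
  let e : HomotopyEquiv (mappingCone (𝟙 E) ⊞ F) F :=
    { hom := biprod.snd
      inv := biprod.inr
      homotopyHomInvId := by
        let h₀ : Homotopy (𝟙 (mappingCone (𝟙 E))) 0 := mappingCone.homotopyToZeroOfId E
        let h₁ := (h₀.compRight (biprod.inl : _ ⟶ mappingCone (𝟙 E) ⊞ F)).compLeft
          (biprod.fst : mappingCone (𝟙 E) ⊞ F ⟶ _)
        let h₂ := Homotopy.add h₁ (Homotopy.refl (biprod.snd ≫ biprod.inr))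
        exact (Homotopy.ofEq (by simp)).trans (h₂.symm.trans (Homotopy.ofEq (by simp)))
      homotopyInvHomId := Homotopy.ofEq (by simp) }
  refine ⟨_, i, biprod.snd, HomologicalComplex.mono_of_mono_f i hmono, e.quasiIso_hom, by simp [i],
    fun j => ⟨_, hi j⟩⟩

/-- In a short exact sequence of complexes with acyclic third term, the first map is a
quasi-isomorphism. -/
theorem quasiIso_f_of_acyclic_X₃ {S : ShortComplex (CochainComplex C ℤ)} (hS : S.ShortExact)
    (h : S.X₃.Acyclic) : QuasiIso S.f := by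
  rw [quasiIso_iff]
  intro i
  rw [quasiIsoAt_iff_isIso_homologyMap]
  have hz : ∀ j, IsZero (S.X₃.homology j) := fun j => (h j).isZero_homology
  have h1 : Mono (HomologicalComplex.homologyMap S.f i) :=
    (hS.homology_exact₁ (i - 1) i (by simp)).mono_g ((hz _).eq_of_src _ _)
  have h2 : Epi (HomologicalComplex.homologyMap S.f i) :=
    (hS.homology_exact₂ i).epi_f ((hz _).eq_of_tgt _ _)
  exact isIso_of_mono_of_epi _

theorem IsNQI.of_comp_quasiIso {E F G : CochainComplex C ℤ} {n : ℤ} (w : E ⟶ F)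
    (p : F ⟶ G) [QuasiIso p] (h : IsNQI n (w ≫ p)) : IsNQI n w := by
  have key : ∀ j, HomologicalComplex.homologyMap w j =
      HomologicalComplex.homologyMap (w ≫ p) j ≫ inv (HomologicalComplex.homologyMap p j) := by
    intro j
    rw [HomologicalComplex.homologyMap_comp, Category.assoc, IsIso.hom_inv_id, Category.comp_id]
  refine ⟨fun j hj => ?_, ?_⟩
  · rw [key]
    have := h.1 j hj
    infer_instance
  · rw [key]
    have := h.2
    infer_instance

/-- Quotient by the canonical truncation. -/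
theorem exists_acyclic_quotient (M : CochainComplex C ℤ) (m : ℤ) [M.IsLE m] :
    ∃ (N : CochainComplex C ℤ) (q : M ⟶ N), Epi q ∧ N.Acyclic ∧ ∀ j : ℤ, m < j → Mono (q.f j) := by
  have hS₃ : (M.shortComplexTruncLE m).ShortExact := M.shortComplexTruncLE_shortExact m
  have hN : (M.shortComplexTruncLE m).X₃.Acyclic := hS₃.acyclic_X₃ (by
    change QuasiIso (M.ιTruncLE m)
    infer_instance)
  refine ⟨_, (M.shortComplexTruncLE m).g, hS₃.epi_g, hN, fun j hj => ?_⟩
  have hS₃j := hS₃.map_of_exact (HomologicalComplex.eval C (ComplexShape.up ℤ) j)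
  refine hS₃j.exact.mono_g ?_
  apply IsZero.eq_of_src
  change IsZero ((M.truncLE m).X j)
  exact CochainComplex.isZero_of_isStrictlyLE _ m j hj

/-- S5600. -/
theorem exists_factorisation_of_isNQI {E F : CochainComplex C ℤ} (n : ℤ) (u : E ⟶ F)
    (hu : IsNQI n u) :
    ∃ (E' : CochainComplex C ℤ) (v : E ⟶ E') (u' : E' ⟶ F), v ≫ u' = u ∧ QuasiIso u' ∧
      (∀ i : ℤ, Mono (v.f i)) ∧ (∀ i : ℤ, n ≤ i → IsIso (v.f i)) := by
  obtain ⟨C', i, p, hi, hp, hip, -⟩ := exists_mono_quasiIso_fac u
  have hi' : IsNQI n i := IsNQI.of_comp_quasiIso i p (by rw [hip]; exact hu)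
  -- the cokernel of `i`
  let S₁ : ShortComplex (CochainComplex C ℤ) := ShortComplex.mk i (cokernel.π i) (cokernel.condition i)
  have hS₁ : S₁.ShortExact :=
    { exact := ShortComplex.exact_cokernel i
      mono_f := hi
      epi_g := inferInstanceAs (Epi (cokernel.π i)) }
  have hM : ∀ j : ℤ, n ≤ j → (cokernel i).ExactAt j := by
    intro j hj
    refine hS₁.exactAt_X₃ j ?_ ?_
    · rcases hj.lt_or_eq with h | h
      · have := hi'.1 j h
        change Epi (HomologicalComplex.homologyMap i j)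
        infer_instance
      · subst h; exact hi'.2
    · intro k hk
      have hk' : j + 1 = k := hk
      have := hi'.1 k (by omega)
      change Mono (HomologicalComplex.homologyMap i k)
      infer_instance
  have hLE : (cokernel i).IsLE (n - 1) := by
    rw [CochainComplex.isLE_iff]
    intro j hj
    exact hM j (by omega)
  obtain ⟨N, q, hq, hN, hqmono⟩ := exists_acyclic_quotient (cokernel i) (n - 1)
  -- the kernel of `C' ⟶ N`
  let ρ : C' ⟶ N := cokernel.π i ≫ q
  have hρ : Epi ρ := epi_comp (cokernel.π i) q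
  let S₂ : ShortComplex (CochainComplex C ℤ) := ShortComplex.mk (kernel.ι ρ) ρ (kernel.condition ρ)
  have hS₂ : S₂.ShortExact :=
    { exact := ShortComplex.exact_kernel ρ
      mono_f := inferInstanceAs (Mono (kernel.ι ρ))
      epi_g := hρ }
  have hk : QuasiIso (kernel.ι ρ) := quasiIso_f_of_acyclic_X₃ hS₂ hN
  let v : E ⟶ kernel ρ := kernel.lift ρ i (by
    change i ≫ cokernel.π i ≫ q = 0
    rw [← Category.assoc, cokernel.condition, zero_comp])
  have hv : v ≫ kernel.ι ρ = i := kernel.lift_ι _ _ _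
  have hvmono : ∀ j, Mono (v.f j) := by
    intro j
    have : v.f j ≫ (kernel.ι ρ).f j = i.f j := by rw [← HomologicalComplex.comp_f, hv]
    exact mono_of_mono_fac this
  refine ⟨kernel ρ, v, kernel.ι ρ ≫ p, by rw [← Category.assoc, hv, hip], inferInstance, hvmono, ?_⟩
  intro j hj
  -- degreewise exactness
  have hS₁j := hS₁.map_of_exact (HomologicalComplex.eval C (ComplexShape.up ℤ) j)
  have hqm : Mono (q.f j) := hqmono j (by omega)
  have h0 : (kernel.ι ρ).f j ≫ ((cokernel.π i).f j ≫ q.f j) = 0 := by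
    change (kernel.ι ρ ≫ ρ).f j = 0
    rw [kernel.condition]
    rfl
  have hkπ : (kernel.ι ρ).f j ≫ (cokernel.π i).f j = 0 :=
    (cancel_mono (q.f j)).1 (by rw [zero_comp, Category.assoc]; exact h0)
  let r : (kernel ρ).X j ⟶ E.X j := hS₁j.fIsKernel.lift (KernelFork.ofι ((kernel.ι ρ).f j) hkπ)
  have hr : r ≫ i.f j = (kernel.ι ρ).f j := hS₁j.fIsKernel.fac _ WalkingParallelPair.zero
  have hvk : v.f j ≫ (kernel.ι ρ).f j = i.f j := by rw [← HomologicalComplex.comp_f, hv]
  have : Mono (i.f j) := inferInstance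
  have : Mono ((kernel.ι ρ).f j) := inferInstance
  refine ⟨r, ?_, ?_⟩
  · rw [← cancel_mono (i.f j), Category.assoc, hr, hvk, Category.id_comp]
  · rw [← cancel_mono ((kernel.ι ρ).f j), Category.assoc, hvk, hr, Category.id_comp]

end Groth.Agent.Helper9.PCohLib
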