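import Mathlib
import Groth.Prelude.Def_PCoh
import Groth.Agent.Lib.Helper9.PCoh1
import Groth.Agent.Lib.Helper9.PCoh2
import Groth.Agent.Lib.Helper9.PCoh3

/-!
# Pseudo-coherence (punctual case): the inductive step (S5628)
-/

set_option autoImplicit false
universe w v u
open CategoryTheory CategoryTheory.Limits

namespace Groth.Agent.Helper9.PCohLib

variable {C : Type u} [Category.{v} C] [Abelian C]

open CochainComplex in
theorem quasiIso_mappingCone_map {K₁ L₁ K₂ L₂ : CochainComplex C ℤ} (φ₁ : K₁ ⟶ L₁) (φ₂ : K₂ ⟶ L₂)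
    (a : K₁ ⟶ K₂) (b : L₁ ⟶ L₂) (comm : φ₁ ≫ b = a ≫ φ₂) [QuasiIso a] [QuasiIso b] :
    QuasiIso (mappingCone.map φ₁ φ₂ a b comm) := by
  letI : HasDerivedCategory.{max u v} C := HasDerivedCategory.standard C
  let ψ := (DerivedCategory.Q (C := C)).mapTriangle.map (mappingCone.triangleMap φ₁ φ₂ a b comm)
  have h : IsIso ψ.hom₃ := Pretriangulated.isIso₃_of_isIso₁₂ ψ
    (DerivedCategory.mappingCone_triangle_distinguished φ₁)
    (DerivedCategory.mappingCone_triangle_distinguished φ₂)
    (by change IsIso (DerivedCategory.Q.map a); infer_instance)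
    (by change IsIso (DerivedCategory.Q.map b); infer_instance)
  exact (DerivedCategory.isIso_Q_map_iff_quasiIso C _).1 h

/-- The short exact sequence attached to a monomorphism of complexes. -/
theorem shortExact_cokernel {E C' : CochainComplex C ℤ} (i : E ⟶ C') [Mono i] :
    (ShortComplex.mk i (cokernel.π i) (cokernel.condition i)).ShortExact :=
  { exact := ShortComplex.exact_cokernel i
    mono_f := inferInstanceAs (Mono i)
    epi_g := inferInstanceAs (Epi (cokernel.π i)) }

open CochainComplex in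
theorem homology_cokernel_iso {E C' F : CochainComplex C ℤ} (i : E ⟶ C') (p : C' ⟶ F) [Mono i]
    [QuasiIso p] (j : ℤ) :
    Nonempty ((cokernel i).homology j ≅ (mappingCone (i ≫ p)).homology j) := by
  have hS₁ := shortExact_cokernel i
  have h1 : QuasiIso (mappingCone.descShortComplex
      (ShortComplex.mk i (cokernel.π i) (cokernel.condition i))) :=
    mappingCone.quasiIso_descShortComplex hS₁
  have h2 : QuasiIso (mappingCone.map i (i ≫ p) (𝟙 E) p (by simp)) :=
    quasiIso_mappingCone_map _ _ _ _ _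
  exact ⟨(asIso (HomologicalComplex.homologyMap (mappingCone.descShortComplex
      (ShortComplex.mk i (cokernel.π i) (cokernel.condition i))) j)).symm ≪≫
    asIso (HomologicalComplex.homologyMap (mappingCone.map i (i ≫ p) (𝟙 E) p (by simp)) j)⟩

theorem exactAt_cokernel_of_isNQI {E C' : CochainComplex C ℤ} (i : E ⟶ C') [Mono i] (n : ℤ)
    (hi' : IsNQI n i) (j : ℤ) (hj : n ≤ j) : (cokernel i).ExactAt j := by
  refine (shortExact_cokernel i).exactAt_X₃ j ?_ ?_
  · rcases hj.lt_or_eq with h | h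
    · have := hi'.1 j h
      change Epi (HomologicalComplex.homologyMap i j)
      infer_instance
    · subst h; exact hi'.2
  · intro k hk
    have hk' : j + 1 = k := hk
    have := hi'.1 k (by omega)
    change Mono (HomologicalComplex.homologyMap i k)
    infer_instance

section Four

open HomologicalComplex HomologySequence ComposableArrows

variable {S₁ S₂ : ShortComplex (CochainComplex C ℤ)} (φ : S₁ ⟶ S₂)
  (hS₁ : S₁.ShortExact) (hS₂ : S₂.ShortExact)

include hS₁ hS₂ in
theorem epi_homologyMap_τ₂ (i j : ℤ) (hij : i + 1 = j)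
    (h₁ : Epi (homologyMap φ.τ₁ i)) (h₃ : Epi (homologyMap φ.τ₃ i))
    (h₁' : Mono (homologyMap φ.τ₁ j)) : Epi (homologyMap φ.τ₂ i) :=
  Abelian.epi_of_epi_of_epi_of_mono'' (k := 0) (n := 5) (by omega)
    (composableArrows₅_exact hS₁ i j hij) (composableArrows₅_exact hS₂ i j hij)
    (mapComposableArrows₅ φ hS₁ hS₂ i j hij) 0 1 2 3 rfl rfl rfl rfl h₁ h₃ h₁'

include hS₁ hS₂ in
theorem mono_homologyMap_τ₂ (i j : ℤ) (hij : i + 1 = j)
    (h₃ : Epi (homologyMap φ.τ₃ i)) (h₁ : Mono (homologyMap φ.τ₁ j))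
    (h₃' : Mono (homologyMap φ.τ₃ j)) : Mono (homologyMap φ.τ₂ j) :=
  Abelian.mono_of_epi_of_mono_of_mono'' (k := 2) (n := 5) (by omega)
    (composableArrows₅_exact hS₁ i j hij) (composableArrows₅_exact hS₂ i j hij)
    (mapComposableArrows₅ φ hS₁ hS₂ i j hij) 2 3 4 5 rfl rfl rfl rfl h₃ h₁ h₃'

end Four

end Groth.Agent.Helper9.PCohLib
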