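import Mathlib

/-!
# A hand-made mapping cocone

Given complexes `D`, `R` and a degree `1` family `π n : D.X n ⟶ R.X (n+1)` anticommuting with the
differentials, `N D R π anti` is the complex with terms `D.X n ⊞ R.X n` and differential
`(x, y) ↦ (dx, π x + dy)`.
-/

set_option autoImplicit false
universe v u
open CategoryTheory CategoryTheory.Limits

namespace Groth.Agent.Helper9.Cocone

variable {A : Type u} [Category.{v} A] [Abelian A]

section Construction

variable (D R : CochainComplex A ℤ) (π : ∀ n : ℤ, D.X n ⟶ R.X (n + 1))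
  (anti : ∀ n : ℤ, D.d n (n + 1) ≫ π (n + 1) + π n ≫ R.d (n + 1) (n + 1 + 1) = 0)

/-- The differential `(x, y) ↦ (dx, π x + dy)`. -/
noncomputable def dN (n : ℤ) : (D.X n ⊞ R.X n) ⟶ (D.X (n + 1) ⊞ R.X (n + 1)) :=
  biprod.desc (biprod.lift (D.d n (n + 1)) (π n)) (biprod.lift 0 (R.d n (n + 1)))

include anti in
theorem dN_comp (n : ℤ) : dN D R π n ≫ dN D R π (n + 1) = 0 := by
  unfold dN
  apply biprod.hom_ext' <;> apply biprod.hom_ext
  · simp
  · simp [anti]
  · simp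
  · simp

/-- The hand-made cocone. -/
noncomputable def N : CochainComplex A ℤ :=
  CochainComplex.of (fun n => D.X n ⊞ R.X n) (dN D R π) (dN_comp D R π anti)

noncomputable def Nfst (n : ℤ) : (N D R π anti).X n ⟶ D.X n := biprod.fst
noncomputable def Nsnd (n : ℤ) : (N D R π anti).X n ⟶ R.X n := biprod.snd
noncomputable def Ninl (n : ℤ) : D.X n ⟶ (N D R π anti).X n := biprod.inl
noncomputable def Ninr (n : ℤ) : R.X n ⟶ (N D R π anti).X n := biprod.inr
noncomputable def Nlift {Z : A} (n : ℤ) (a : Z ⟶ D.X n) (b : Z ⟶ R.X n) :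
    Z ⟶ (N D R π anti).X n := biprod.lift a b

/-- The terms of `N`. -/
noncomputable def NXIso (n : ℤ) : (N D R π anti).X n ≅ D.X n ⊞ R.X n := Iso.refl _

variable {D R π anti}

@[reassoc (attr := simp)]
theorem Nlift_fst {Z : A} (n : ℤ) (a : Z ⟶ D.X n) (b : Z ⟶ R.X n) :
    Nlift D R π anti n a b ≫ Nfst D R π anti n = a := biprod.lift_fst a b

@[reassoc (attr := simp)]
theorem Nlift_snd {Z : A} (n : ℤ) (a : Z ⟶ D.X n) (b : Z ⟶ R.X n) :
    Nlift D R π anti n a b ≫ Nsnd D R π anti n = b := biprod.lift_snd a b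

@[reassoc (attr := simp)]
theorem Ninl_fst (n : ℤ) : Ninl D R π anti n ≫ Nfst D R π anti n = 𝟙 _ :=
  biprod.inl_fst

@[reassoc (attr := simp)]
theorem Ninl_snd (n : ℤ) : Ninl D R π anti n ≫ Nsnd D R π anti n = 0 :=
  biprod.inl_snd

theorem N_hom_ext {Z : A} (n : ℤ) {f g : Z ⟶ (N D R π anti).X n}
    (h₁ : f ≫ Nfst D R π anti n = g ≫ Nfst D R π anti n)
    (h₂ : f ≫ Nsnd D R π anti n = g ≫ Nsnd D R π anti n) : f = g :=
  biprod.hom_ext _ _ h₁ h₂

theorem N_d (n : ℤ) : (N D R π anti).d n (n + 1) = dN D R π n := by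
  unfold N
  exact CochainComplex.of_d (fun n => D.X n ⊞ R.X n) (dN D R π) n

@[reassoc]
theorem N_d_fst (n : ℤ) :
    (N D R π anti).d n (n + 1) ≫ Nfst D R π anti (n + 1) = Nfst D R π anti n ≫ D.d n (n + 1) := by
  rw [N_d]
  show dN D R π n ≫ (biprod.fst : D.X (n + 1) ⊞ R.X (n + 1) ⟶ D.X (n + 1)) =
    (biprod.fst : D.X n ⊞ R.X n ⟶ D.X n) ≫ D.d n (n + 1)
  unfold dN
  apply biprod.hom_ext' <;> simp

@[reassoc]
theorem N_d_snd (n : ℤ) :
    (N D R π anti).d n (n + 1) ≫ Nsnd D R π anti (n + 1) =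
      Nfst D R π anti n ≫ π n + Nsnd D R π anti n ≫ R.d n (n + 1) := by
  rw [N_d]
  show dN D R π n ≫ (biprod.snd : D.X (n + 1) ⊞ R.X (n + 1) ⟶ R.X (n + 1)) =
    (biprod.fst : D.X n ⊞ R.X n ⟶ D.X n) ≫ π n +
      (biprod.snd : D.X n ⊞ R.X n ⟶ R.X n) ≫ R.d n (n + 1)
  unfold dN
  apply biprod.hom_ext' <;> simp

instance mono_Ninl (n : ℤ) : Mono (Ninl D R π anti n) := mono_of_mono_fac (Ninl_fst n)

end Construction

end Groth.Agent.Helper9.Cocone
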