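import Mathlib
import Groth.Agent.Lib.Helper9.Cocone1

/-!
# The canonical map into the hand-made cocone is a quasi-isomorphism
-/

set_option autoImplicit false
universe v u
open CategoryTheory CategoryTheory.Limits

namespace Groth.Agent.Helper9.Cocone

variable {A : Type u} [Category.{v} A] [Abelian A]

variable {M D R' R : CochainComplex A ℤ} (i : M ⟶ D)
  (π₀ : ∀ n : ℤ, D.X n ⟶ R'.X (n + 1))
  (anti₀ : ∀ n : ℤ, D.d n (n + 1) ≫ π₀ (n + 1) + π₀ n ≫ R'.d (n + 1) (n + 1 + 1) = 0)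
  (w : ∀ n : ℤ, i.f n ≫ π₀ n = 0)
  (g : R' ⟶ R)

include anti₀ in
theorem anti_comp (n : ℤ) :
    D.d n (n + 1) ≫ (π₀ (n + 1) ≫ g.f (n + 1 + 1)) +
      (π₀ n ≫ g.f (n + 1)) ≫ R.d (n + 1) (n + 1 + 1) = 0 := by
  rw [Category.assoc, g.comm (n + 1) (n + 1 + 1), ← Category.assoc, ← Category.assoc (π₀ n),
    ← Preadditive.add_comp, anti₀, zero_comp]

/-- The cocone of `D ⟶ R` (through `R'`). -/
noncomputable abbrev NN : CochainComplex A ℤ :=
  N D R (fun n => π₀ n ≫ g.f (n + 1)) (anti_comp π₀ anti₀ g)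

/-- The canonical map `m ↦ (i m, 0)`. -/
noncomputable def jj : M ⟶ NN π₀ anti₀ g where
  f n := Nlift D R _ (anti_comp π₀ anti₀ g) n (i.f n) 0
  comm' a b hab := by
    obtain rfl : a + 1 = b := hab
    apply N_hom_ext
    · rw [Category.assoc, N_d_fst, Nlift_fst_assoc, Category.assoc, Nlift_fst, i.comm]
    · rw [Category.assoc, N_d_snd, Category.assoc, Nlift_snd, comp_zero, Preadditive.comp_add,
        Nlift_fst_assoc, Nlift_snd_assoc, zero_comp, add_zero, reassoc_of% (w a), zero_comp]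

@[reassoc (attr := simp)]
theorem jj_f_fst (n : ℤ) :
    (jj i π₀ anti₀ w g).f n ≫ Nfst D R _ (anti_comp π₀ anti₀ g) n = i.f n := Nlift_fst _ _ _

@[reassoc (attr := simp)]
theorem jj_f_snd (n : ℤ) :
    (jj i π₀ anti₀ w g).f n ≫ Nsnd D R _ (anti_comp π₀ anti₀ g) n = 0 := Nlift_snd _ _ _

theorem jj_f_eq (n : ℤ) :
    (jj i π₀ anti₀ w g).f n = i.f n ≫ Ninl D R _ (anti_comp π₀ anti₀ g) n := by
  apply N_hom_ext
  · rw [jj_f_fst, Category.assoc, Ninl_fst, Category.comp_id]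
  · rw [jj_f_snd, Category.assoc, Ninl_snd, comp_zero]

end Groth.Agent.Helper9.Cocone
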