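import Mathlib
import Groth.Agent.Lib.Helper9.Cocone2

/-!
# The canonical map into the hand-made cocone is a quasi-isomorphism (proof)
-/

set_option autoImplicit false
universe v u
open CategoryTheory CategoryTheory.Limits HomologicalComplex

namespace Groth.Agent.Helper9.Cocone

variable {A : Type u} [Category.{v} A] [Abelian A]

variable {M D R' R : CochainComplex A ℤ} (i : M ⟶ D)
  (π₀ : ∀ n : ℤ, D.X n ⟶ R'.X (n + 1))
  (anti₀ : ∀ n : ℤ, D.d n (n + 1) ≫ π₀ (n + 1) + π₀ n ≫ R'.d (n + 1) (n + 1 + 1) = 0)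
  (w : ∀ n : ℤ, i.f n ≫ π₀ n = 0)
  (g : R' ⟶ R)
  (hi : ∀ n : ℤ, Mono (i.f n))
  (ex : ∀ n : ℤ, (ShortComplex.mk (i.f n) (π₀ n) (w n)).Exact)
  (hepi : ∀ n : ℤ, Epi (π₀ n))
  (hg : QuasiIso g)

include hi ex hepi hg in
theorem mono_homologyMap_jj (n : ℤ) :
    Mono (homologyMap (jj i π₀ anti₀ w g) (n + 1 + 1)) := by
  rw [mono_homologyMap_iff_up_to_refinements _ (n + 1) (n + 1 + 1) (n + 1 + 1 + 1)
    (by simp) (by simp)]
  intro Z m hm y₁ h
  obtain ⟨x, hx⟩ : ∃ x : Z ⟶ D.X (n + 1), x = y₁ ≫ Nfst D R (fun n => π₀ n ≫ g.f (n + 1)) (anti_comp π₀ anti₀ g) (n + 1) :=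
    ⟨_, rfl⟩
  obtain ⟨y, hy⟩ : ∃ y : Z ⟶ R.X (n + 1), y = y₁ ≫ Nsnd D R (fun n => π₀ n ≫ g.f (n + 1)) (anti_comp π₀ anti₀ g) (n + 1) :=
    ⟨_, rfl⟩
  have H1 : m ≫ i.f (n + 1 + 1) = x ≫ D.d (n + 1) (n + 1 + 1) := by
    have := congrArg (fun t => t ≫ Nfst D R (fun n => π₀ n ≫ g.f (n + 1)) (anti_comp π₀ anti₀ g) (n + 1 + 1)) h
    simp only [Category.assoc, jj_f_fst, N_d_fst] at this
    rw [this, hx, Category.assoc]
  have H2 : x ≫ π₀ (n + 1) ≫ g.f (n + 1 + 1) + y ≫ R.d (n + 1) (n + 1 + 1) = 0 := by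
    have := congrArg (fun t => t ≫ Nsnd D R (fun n => π₀ n ≫ g.f (n + 1)) (anti_comp π₀ anti₀ g) (n + 1 + 1)) h
    simp only [Category.assoc, jj_f_snd, comp_zero, N_d_snd, Preadditive.comp_add] at this
    rw [hx, hy, Category.assoc, Category.assoc]
    exact this.symm
  have hc : (x ≫ π₀ (n + 1)) ≫ R'.d (n + 1 + 1) (n + 1 + 1 + 1) = 0 := by
    rw [Category.assoc, eq_neg_of_add_eq_zero_right (anti₀ (n + 1)), Preadditive.comp_neg,
      ← Category.assoc, ← H1, Category.assoc, w, comp_zero, neg_zero]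
  have hmono : Mono (homologyMap g (n + 1 + 1)) := inferInstance
  rw [mono_homologyMap_iff_up_to_refinements g (n + 1) (n + 1 + 1) (n + 1 + 1 + 1)
    (by simp) (by simp)] at hmono
  obtain ⟨Z₁, π₁, hπ₁, r', hr'⟩ := hmono (x ≫ π₀ (n + 1)) hc (-y) (by
    rw [Category.assoc, Preadditive.neg_comp]
    exact eq_neg_of_add_eq_zero_left H2)
  haveI := hepi n
  obtain ⟨Z₂, π₂, hπ₂, x', hx'⟩ := surjective_up_to_refinements_of_epi (π₀ n) r'
  have hxt : (π₂ ≫ π₁ ≫ x + x' ≫ D.d n (n + 1)) ≫ π₀ (n + 1) = 0 := by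
    rw [Preadditive.add_comp, Category.assoc, Category.assoc, hr', ← Category.assoc π₂, hx',
      Category.assoc, Category.assoc, eq_neg_of_add_eq_zero_left (anti₀ n), Preadditive.comp_neg,
      add_neg_cancel]
  obtain ⟨Z₃, π₃, hπ₃, m', hm'⟩ := (ex (n + 1)).exact_up_to_refinements _ hxt
  dsimp at m' hm'
  refine ⟨Z₃, π₃ ≫ π₂ ≫ π₁, inferInstance, m', ?_⟩
  haveI := hi (n + 1 + 1)
  rw [← cancel_mono (i.f (n + 1 + 1))]
  simp only [Category.assoc]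
  rw [H1, ← i.comm (n + 1) (n + 1 + 1), ← reassoc_of% hm']
  simp only [Preadditive.add_comp, Preadditive.comp_add, Category.assoc, d_comp_d, comp_zero,
    add_zero]

include hi ex hepi hg in
theorem epi_homologyMap_jj (n : ℤ) :
    Epi (homologyMap (jj i π₀ anti₀ w g) (n + 1)) := by
  rw [epi_homologyMap_iff_up_to_refinements _ n (n + 1) (n + 1 + 1) (by simp) (by simp)]
  intro Z y₂ hy₂
  obtain ⟨x, hx⟩ : ∃ x : Z ⟶ D.X (n + 1), x = y₂ ≫ Nfst D R (fun n => π₀ n ≫ g.f (n + 1)) (anti_comp π₀ anti₀ g) (n + 1) :=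
    ⟨_, rfl⟩
  obtain ⟨y, hy⟩ : ∃ y : Z ⟶ R.X (n + 1), y = y₂ ≫ Nsnd D R (fun n => π₀ n ≫ g.f (n + 1)) (anti_comp π₀ anti₀ g) (n + 1) :=
    ⟨_, rfl⟩
  have C1 : x ≫ D.d (n + 1) (n + 1 + 1) = 0 := by
    have := congrArg (fun t => t ≫ Nfst D R (fun n => π₀ n ≫ g.f (n + 1)) (anti_comp π₀ anti₀ g) (n + 1 + 1)) hy₂
    simp only [Category.assoc, N_d_fst, zero_comp] at this
    rw [hx, Category.assoc]
    exact this
  have C2 : x ≫ π₀ (n + 1) ≫ g.f (n + 1 + 1) + y ≫ R.d (n + 1) (n + 1 + 1) = 0 := by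
    have := congrArg (fun t => t ≫ Nsnd D R (fun n => π₀ n ≫ g.f (n + 1)) (anti_comp π₀ anti₀ g) (n + 1 + 1)) hy₂
    simp only [Category.assoc, N_d_snd, zero_comp, Preadditive.comp_add] at this
    rw [hx, hy, Category.assoc, Category.assoc]
    exact this
  have hc : (x ≫ π₀ (n + 1)) ≫ R'.d (n + 1 + 1) (n + 1 + 1 + 1) = 0 := by
    rw [Category.assoc, eq_neg_of_add_eq_zero_right (anti₀ (n + 1)), Preadditive.comp_neg,
      reassoc_of% C1, zero_comp, neg_zero]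
  have hmono : Mono (homologyMap g (n + 1 + 1)) := inferInstance
  rw [mono_homologyMap_iff_up_to_refinements g (n + 1) (n + 1 + 1) (n + 1 + 1 + 1)
    (by simp) (by simp)] at hmono
  obtain ⟨Z₁, π₁, hπ₁, r', hr'⟩ := hmono (x ≫ π₀ (n + 1)) hc (-y) (by
    rw [Category.assoc, Preadditive.neg_comp]
    exact eq_neg_of_add_eq_zero_left C2)
  -- the cycle `e`
  have he : (r' ≫ g.f (n + 1) + π₁ ≫ y) ≫ R.d (n + 1) (n + 1 + 1) = 0 := by
    rw [Preadditive.add_comp, Category.assoc, g.comm, ← reassoc_of% hr', Category.assoc,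
      ← Preadditive.comp_add, C2, comp_zero]
  have hepi' : Epi (homologyMap g (n + 1)) := inferInstance
  rw [epi_homologyMap_iff_up_to_refinements g n (n + 1) (n + 1 + 1) (by simp) (by simp)] at hepi'
  obtain ⟨Z₂, π₂, hπ₂, z', hz', y'', hy''⟩ := hepi' _ he
  -- `r'' = π₂ ≫ r' - z'`
  haveI := hepi n
  obtain ⟨Z₃, π₃, hπ₃, x', hx'⟩ := surjective_up_to_refinements_of_epi (π₀ n) (π₂ ≫ r' - z')
  have hxt : (π₃ ≫ π₂ ≫ π₁ ≫ x + x' ≫ D.d n (n + 1)) ≫ π₀ (n + 1) = 0 := by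
    have e1 : x' ≫ D.d n (n + 1) ≫ π₀ (n + 1) = -(π₃ ≫ π₂ ≫ π₁ ≫ x ≫ π₀ (n + 1)) := by
      rw [eq_neg_of_add_eq_zero_left (anti₀ n), Preadditive.comp_neg, ← reassoc_of% hx',
        Preadditive.sub_comp, Category.assoc, hz', sub_zero, hr']
    rw [Preadditive.add_comp, Category.assoc, Category.assoc, Category.assoc, Category.assoc, e1,
      add_neg_cancel]
  obtain ⟨Z₄, π₄, hπ₄, m, hm⟩ := (ex (n + 1)).exact_up_to_refinements _ hxt
  dsimp at m hm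
  have hmcyc : m ≫ M.d (n + 1) (n + 1 + 1) = 0 := by
    haveI := hi (n + 1 + 1)
    rw [← cancel_mono (i.f (n + 1 + 1)), Category.assoc, ← i.comm, ← reassoc_of% hm, zero_comp]
    simp only [Preadditive.add_comp, Preadditive.comp_add, Category.assoc, d_comp_d, comp_zero,
      add_zero, C1]
  refine ⟨Z₄, π₄ ≫ π₃ ≫ π₂ ≫ π₁, inferInstance, m, hmcyc,
    Nlift D R (fun n => π₀ n ≫ g.f (n + 1)) (anti_comp π₀ anti₀ g) n (-(π₄ ≫ x')) (π₄ ≫ π₃ ≫ y''), ?_⟩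
  apply N_hom_ext
  · simp only [Category.assoc, Preadditive.add_comp, jj_f_fst, N_d_fst, Nlift_fst_assoc, ← hx]
    rw [← hm]
    simp only [Preadditive.comp_add, Preadditive.neg_comp, Category.assoc]
    abel
  · simp only [Category.assoc, Preadditive.add_comp, jj_f_snd, comp_zero, zero_add, N_d_snd,
      Preadditive.comp_add, Nlift_fst_assoc, Nlift_snd_assoc, ← hy]
    -- goal: π₄ ≫ π₃ ≫ π₂ ≫ π₁ ≫ y = -(π₄ ≫ x') ≫ π₀ n ≫ g.f (n+1) + (π₄ ≫ π₃ ≫ y'') ≫ R.d n (n+1)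
    have e2 : π₃ ≫ y'' ≫ R.d n (n + 1) =
        π₃ ≫ π₂ ≫ r' ≫ g.f (n + 1) + π₃ ≫ π₂ ≫ π₁ ≫ y - π₃ ≫ z' ≫ g.f (n + 1) := by
      have e2' : y'' ≫ R.d n (n + 1) =
          π₂ ≫ (r' ≫ g.f (n + 1) + π₁ ≫ y) - z' ≫ g.f (n + 1) := by
        rw [hy'']; abel
      rw [e2']
      simp only [Preadditive.comp_add, Preadditive.comp_sub, Category.assoc]
    simp only [Preadditive.neg_comp, Category.assoc]
    rw [e2, ← reassoc_of% hx']
    simp only [Preadditive.comp_add, Preadditive.comp_sub, Preadditive.sub_comp, Category.assoc]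
    abel

include hi ex hepi hg in
/-- The canonical map into the cocone is a quasi-isomorphism. -/
theorem quasiIso_jj : QuasiIso (jj i π₀ anti₀ w g) := by
  rw [quasiIso_iff]
  intro k
  rw [quasiIsoAt_iff_isIso_homologyMap]
  have h1 : Mono (homologyMap (jj i π₀ anti₀ w g) k) := by
    obtain ⟨n, rfl⟩ : ∃ n, k = n + 1 + 1 := ⟨k - 2, by ring⟩
    exact mono_homologyMap_jj i π₀ anti₀ w g hi ex hepi hg n
  have h2 : Epi (homologyMap (jj i π₀ anti₀ w g) k) := by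
    obtain ⟨n, rfl⟩ : ∃ n, k = n + 1 := ⟨k - 1, by ring⟩
    exact epi_homologyMap_jj i π₀ anti₀ w g hi ex hepi hg n
  exact isIso_of_mono_of_epi _

end Groth.Agent.Helper9.Cocone
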