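import Mathlib
import Groth.Agent.Lib.Helper9.Cocone3

/-!
# The cocone attached to a termwise short exact sequence followed by a quasi-isomorphism
-/

set_option autoImplicit false
universe v u
open CategoryTheory CategoryTheory.Limits HomologicalComplex

namespace Groth.Agent.Helper9.Cocone

variable {A : Type u} [Category.{v} A] [Abelian A]

/-- `K[-1]`. -/
noncomputable abbrev sh (K : CochainComplex A ℤ) : CochainComplex A ℤ :=
  (shiftFunctor (CochainComplex A ℤ) (-1 : ℤ)).obj K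

/-- The identification `K.X n ≅ K[-1].X (n+1)`. -/
noncomputable def shIso (K : CochainComplex A ℤ) (n : ℤ) : K.X n ≅ (sh K).X (n + 1) :=
  K.XIsoOfEq (by omega : n = n + 1 + (-1))

theorem shIso_d (K : CochainComplex A ℤ) (n : ℤ) :
    (shIso K n).hom ≫ (sh K).d (n + 1) (n + 1 + 1) = -(K.d n (n + 1) ≫ (shIso K (n + 1)).hom) := by
  show (K.XIsoOfEq (by omega : n = n + 1 + (-1))).hom ≫
      ((-1 : ℤ).negOnePow • K.d (n + 1 + (-1)) (n + 1 + 1 + (-1))) =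
    -(K.d n (n + 1) ≫ (K.XIsoOfEq (by omega : n + 1 = n + 1 + 1 + (-1))).hom)
  simp [XIsoOfEq_hom_comp_d, d_comp_XIsoOfEq_hom]

variable {M D Q' Q : CochainComplex A ℤ} (i : M ⟶ D) (p₀ : D ⟶ Q') (g₀ : Q' ⟶ Q)

/-- The degree one map `D.X n ⟶ Q'[-1].X (n+1)`. -/
noncomputable def pi0 (n : ℤ) : D.X n ⟶ (sh Q').X (n + 1) :=
  p₀.f n ≫ (shIso Q' n).hom

theorem pi0_anti (n : ℤ) :
    D.d n (n + 1) ≫ pi0 p₀ (n + 1) + pi0 p₀ n ≫ (sh Q').d (n + 1) (n + 1 + 1) = 0 := by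
  unfold pi0
  rw [Category.assoc, shIso_d, Preadditive.comp_neg, ← p₀.comm_assoc, add_neg_cancel]

theorem pi0_w (hip : i ≫ p₀ = 0) (n : ℤ) : i.f n ≫ pi0 p₀ n = 0 := by
  unfold pi0
  rw [← Category.assoc, ← HomologicalComplex.comp_f, hip, HomologicalComplex.zero_f, zero_comp]

theorem pi0_exact (hip : i ≫ p₀ = 0)
    (hex : ∀ n : ℤ, (ShortComplex.mk (i.f n) (p₀.f n)
      (by rw [← HomologicalComplex.comp_f, hip, HomologicalComplex.zero_f])).Exact) (n : ℤ) :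
    (ShortComplex.mk (i.f n) (pi0 p₀ n) (pi0_w i p₀ hip n)).Exact := by
  refine ShortComplex.exact_of_iso ?_ (hex n)
  exact ShortComplex.isoMk (Iso.refl _) (Iso.refl _) (shIso Q' n)
    (by simp) (by simp [pi0])

theorem pi0_epi (hp : ∀ n : ℤ, Epi (p₀.f n)) (n : ℤ) : Epi (pi0 p₀ n) := by
  haveI := hp n
  unfold pi0
  infer_instance

/-- The cocone complex. -/
noncomputable def cocone : CochainComplex A ℤ :=
  NN (R := sh Q) (pi0 p₀) (pi0_anti p₀) ((shiftFunctor (CochainComplex A ℤ) (-1 : ℤ)).map g₀)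

/-- The canonical map into the cocone. -/
noncomputable def coconeι (hip : i ≫ p₀ = 0) : M ⟶ cocone p₀ g₀ :=
  jj i (pi0 p₀) (pi0_anti p₀) (pi0_w i p₀ hip) ((shiftFunctor (CochainComplex A ℤ) (-1 : ℤ)).map g₀)

/-- The terms of the cocone. -/
noncomputable def coconeXIso (n : ℤ) : (cocone p₀ g₀).X n ≅ D.X n ⊞ Q.X (n + (-1)) :=
  Iso.refl _

/-- The inclusion of `D.X n`. -/
noncomputable def coconeInl (n : ℤ) : D.X n ⟶ (cocone p₀ g₀).X n :=
  Ninl D (sh Q) _ (anti_comp (pi0 p₀) (pi0_anti p₀)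
    ((shiftFunctor (CochainComplex A ℤ) (-1 : ℤ)).map g₀)) n

instance (n : ℤ) : Mono (coconeInl p₀ g₀ n) := by
  unfold coconeInl
  exact mono_of_mono_fac (Ninl_fst _)

theorem coconeι_f (hip : i ≫ p₀ = 0) (n : ℤ) :
    (coconeι i p₀ g₀ hip).f n = i.f n ≫ coconeInl p₀ g₀ n :=
  jj_f_eq _ _ _ _ _ n

theorem quasiIso_coconeι (hip : i ≫ p₀ = 0) (hi : ∀ n : ℤ, Mono (i.f n))
    (hex : ∀ n : ℤ, (ShortComplex.mk (i.f n) (p₀.f n)
      (by rw [← HomologicalComplex.comp_f, hip, HomologicalComplex.zero_f])).Exact)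
    (hp : ∀ n : ℤ, Epi (p₀.f n)) [QuasiIso g₀] : QuasiIso (coconeι i p₀ g₀ hip) :=
  quasiIso_jj i (pi0 p₀) (pi0_anti p₀) (pi0_w i p₀ hip) _ hi (pi0_exact i p₀ hip hex)
    (pi0_epi p₀ hp) inferInstance

end Groth.Agent.Helper9.Cocone
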