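import Mathlib

/-!
# The contractible complex `J n ⊞ J (n+1)` and the embedding of a complex into it
-/

set_option autoImplicit false
universe v u
open CategoryTheory CategoryTheory.Limits

namespace Groth.Agent.Helper9.DiskSum

variable {C : Type u} [Category.{v} C] [Abelian C]

section Aux

variable {X A B D : C}

theorem exact_aux (f : X ⊞ A ⟶ A ⊞ B) (g : A ⊞ B ⟶ B ⊞ D)
    (hf : f = biprod.snd ≫ biprod.inl) (hg : g = biprod.snd ≫ biprod.inl) (w : f ≫ g = 0) :
    (ShortComplex.mk f g w).Exact := by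
  subst hf hg
  rw [ShortComplex.exact_iff_exact_up_to_refinements]
  intro Z x hx
  dsimp at x hx
  have hx' : x ≫ (biprod.snd : A ⊞ B ⟶ B) = 0 := by
    rw [← cancel_mono (biprod.inl : B ⟶ B ⊞ D), Category.assoc, hx, zero_comp]
  refine ⟨Z, 𝟙 Z, inferInstance,
    x ≫ (biprod.fst : A ⊞ B ⟶ A) ≫ (biprod.inr : A ⟶ X ⊞ A), ?_⟩
  dsimp
  rw [Category.id_comp]
  apply biprod.hom_ext
  · simp
  · simp [hx']

theorem splitMono_aux {Z : C} (ι : Z ⟶ A ⊞ B) (hm : Mono ι) (d : A ⊞ B ⟶ B ⊞ D)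
    (hd : d = biprod.snd ≫ biprod.inl) (hι : ι ≫ d = 0)
    (lift : ∀ k : A ⊞ B ⟶ A ⊞ B, k ≫ d = 0 → ∃ r : A ⊞ B ⟶ Z, r ≫ ι = k) : IsSplitMono ι := by
  subst hd
  have h1 : ι ≫ (biprod.snd : A ⊞ B ⟶ B) = 0 := by
    rw [← cancel_mono (biprod.inl : B ⟶ B ⊞ D), Category.assoc, hι, zero_comp]
  obtain ⟨r, hr⟩ := lift (biprod.fst ≫ biprod.inl) (by simp)
  refine ⟨⟨r, ?_⟩⟩
  rw [← cancel_mono ι, Category.assoc, hr, Category.id_comp]
  apply biprod.hom_ext
  · simp
  · simp [h1]

end Aux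

variable {α : Type*} [AddRightCancelSemigroup α] [One α] [DecidableEq α]

/-- The differential `(a, b) ↦ (b, 0)`. -/
noncomputable def dd (J : α → C) (n : α) : (J n ⊞ J (n + 1)) ⟶ (J (n + 1) ⊞ J (n + 1 + 1)) :=
  biprod.snd ≫ biprod.inl

/-- The complex with terms `J n ⊞ J (n+1)` and differential `(a, b) ↦ (b, 0)`. -/
noncomputable def disk (J : α → C) : CochainComplex C α :=
  CochainComplex.of (fun n => J n ⊞ J (n + 1)) (dd J) (fun n => by simp [dd])

theorem disk_X (J : α → C) (n : α) : (disk J).X n = (J n ⊞ J (n + 1)) := rfl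

theorem disk_d (J : α → C) (n : α) : (disk J).d n (n + 1) = dd J n := by
  unfold disk
  exact CochainComplex.of_d (fun n => J n ⊞ J (n + 1)) (dd J) n

/-- The components of the map `x ↦ (i x, i (d x))`. -/
noncomputable def toDiskF (X : CochainComplex C α) (J : α → C) (i : ∀ n, X.X n ⟶ J n) (n : α) :
    X.X n ⟶ J n ⊞ J (n + 1) :=
  biprod.lift (i n) (X.d n (n + 1) ≫ i (n + 1))

theorem toDiskF_comm (X : CochainComplex C α) (J : α → C) (i : ∀ n, X.X n ⟶ J n) (n : α) :
    toDiskF X J i n ≫ dd J n = X.d n (n + 1) ≫ toDiskF X J i (n + 1) := by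
  unfold toDiskF dd
  apply biprod.hom_ext <;> simp

/-- The map `x ↦ (i x, i (d x))`. -/
noncomputable def toDisk (X : CochainComplex C α) (J : α → C) (i : ∀ n, X.X n ⟶ J n) :
    X ⟶ disk J where
  f n := toDiskF X J i n
  comm' a b hab := by
    obtain rfl : a + 1 = b := hab
    rw [disk_d]
    exact toDiskF_comm X J i a

theorem toDisk_f (X : CochainComplex C α) (J : α → C) (i : ∀ n, X.X n ⟶ J n) (n : α) :
    (toDisk X J i).f n = toDiskF X J i n := rfl

theorem toDiskF_fst (X : CochainComplex C α) (J : α → C) (i : ∀ n, X.X n ⟶ J n) (n : α) :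
    toDiskF X J i n ≫ biprod.fst = i n := by
  simp [toDiskF]

theorem mono_toDisk_f (X : CochainComplex C α) (J : α → C) (i : ∀ n, X.X n ⟶ J n)
    [∀ n, Mono (i n)] (n : α) : Mono ((toDisk X J i).f n) := by
  rw [toDisk_f]
  exact mono_of_mono_fac (toDiskF_fst X J i n)

/-- Exactness of the disk complex at `n + 1`. -/
theorem disk_exact (J : α → C) (n : α) :
    ((disk J).sc' n (n + 1) (n + 1 + 1)).Exact :=
  exact_aux (X := J n) (A := J (n + 1)) (B := J (n + 1 + 1)) (D := J (n + 1 + 1 + 1))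
    ((disk J).d n (n + 1)) ((disk J).d (n + 1) (n + 1 + 1))
    ((disk_d J n).trans rfl) ((disk_d J (n + 1)).trans rfl) _


theorem isSplitMono_iCycles (J : ℕ → C) (i : ℕ) : IsSplitMono ((disk J).iCycles i) :=
  splitMono_aux (A := J i) (B := J (i + 1)) (D := J (i + 1 + 1)) (Z := (disk J).cycles i)
    ((disk J).iCycles i) (inferInstanceAs (Mono ((disk J).iCycles i)))
    ((disk J).d i (i + 1)) (disk_d J i)
    ((disk J).iCycles_d i (i + 1))
    (fun k hk => ⟨(disk J).liftCycles k (i + 1) (by simp) hk,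
      (disk J).liftCycles_i k (i + 1) (by simp) hk⟩)

theorem isZero_homology_succ (J : ℕ → C) (i : ℕ) : IsZero ((disk J).homology (i + 1)) := by
  rw [← HomologicalComplex.exactAt_iff_isZero_homology,
    HomologicalComplex.exactAt_iff' _ i (i + 1) (i + 1 + 1) (by simp) (by simp)]
  exact disk_exact J i

theorem injective_X (J : ℕ → C) [∀ n, Injective (J n)] (i : ℕ) : Injective ((disk J).X i) :=
  inferInstanceAs (Injective (J i ⊞ J (i + 1)))

theorem mono_toDisk (X : CochainComplex C ℕ) (J : ℕ → C) (i : ∀ n, X.X n ⟶ J n)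
    [∀ n, Mono (i n)] : Mono (toDisk X J i) :=
  HomologicalComplex.mono_of_mono_f _ (fun n => mono_toDisk_f X J i n)

end Groth.Agent.Helper9.DiskSum
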