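import Mathlib
import Groth.Agent.Lib.Helper9.Cocone4
import Groth.Agent.Lib.Helper9.DiskSum

/-!
# Resolutions of unbounded complexes by objects of a class of finite coresolution dimension
(Hartshorne, Residues and Duality, I.4.6 (2))
-/

set_option autoImplicit false
universe v u
open CategoryTheory CategoryTheory.Limits HomologicalComplex
open scoped ZeroObject

namespace Groth.Agent.Helper9.PDim

variable {A : Type u} [Category.{v} A] [Abelian A] (P : ObjectProperty A)
  (h1 : ∀ X : A, ∃ (Y : A) (i : X ⟶ Y), P Y ∧ Mono i)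
  (h2 : ∀ S : ShortComplex A, S.ShortExact → P S.X₁ → (P S.X₂ ↔ P S.X₃))

include h1 h2 in
theorem P_of_isZero (Z : A) (hZ : IsZero Z) : P Z := by
  obtain ⟨Y, _, hY, _⟩ := h1 Z
  have hS : (ShortComplex.mk (𝟙 Y) (0 : Y ⟶ Z) (by simp)).ShortExact :=
    { exact := (ShortComplex.exact_iff_epi _ rfl).2 (by dsimp; infer_instance)
      mono_f := by dsimp; infer_instance
      epi_g := ⟨fun g h _ => hZ.eq_of_src _ _⟩ }
  exact (h2 _ hS hY).1 hY

include h1 h2 in
theorem P_of_iso {Y Y' : A} (e : Y ≅ Y') (hY : P Y) : P Y' := by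
  have hS : (ShortComplex.mk (0 : (0 : A) ⟶ Y) e.hom (by simp)).ShortExact :=
    { exact := (ShortComplex.exact_iff_mono _ rfl).2 (by dsimp; infer_instance)
      mono_f := ⟨fun g h _ => (isZero_zero A).eq_of_tgt _ _⟩
      epi_g := by dsimp; infer_instance }
  exact (h2 _ hS (P_of_isZero P h1 h2 _ (isZero_zero A))).1 hY

include h2 in
theorem P_biprod {Y Y' : A} (hY : P Y) (hY' : P Y') : P (Y ⊞ Y') :=
  (h2 _ (ShortComplex.Splitting.ofHasBinaryBiproduct Y Y').shortExact hY).2 hY'

include h1 h2 in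
/-- Every complex embeds termwise into a complex with terms in `P`. -/
theorem exists_embedding (X : CochainComplex A ℤ) :
    ∃ (D : CochainComplex A ℤ) (i : X ⟶ D), (∀ n, Mono (i.f n)) ∧ ∀ n, P (D.X n) := by
  choose J ι hJ hι using fun n : ℤ => h1 (X.X n)
  refine ⟨DiskSum.disk J, DiskSum.toDisk X J ι, fun n => DiskSum.mono_toDisk_f X J ι n, fun n => ?_⟩
  show P (J n ⊞ J (n + 1))
  exact P_biprod P h2 (hJ n) (hJ (n + 1))

end Groth.Agent.Helper9.PDim
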