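import Mathlib
import Groth.Agent.Lib.Helper9.PDim1
import Groth.Agent.Lib.Helper9.PCoh4

/-!
# Resolutions of unbounded complexes: the tower
-/

set_option autoImplicit false
universe v u
open CategoryTheory CategoryTheory.Limits HomologicalComplex
open scoped ZeroObject

namespace Groth.Agent.Helper9.PDim

variable {A : Type u} [Category.{v} A] [Abelian A] (P : ObjectProperty A)
  (h1 : ∀ X : A, ∃ (Y : A) (i : X ⟶ Y), P Y ∧ Mono i)
  (h2 : ∀ S : ShortComplex A, S.ShortExact → P S.X₁ → (P S.X₂ ↔ P S.X₃))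

/-- Embedding data. -/
structure Emb (Y : CochainComplex A ℤ) where
  D : CochainComplex A ℤ
  ι : Y ⟶ D
  mono : ∀ m, Mono (ι.f m)

/-- The embedding into a `P`-complex. -/
noncomputable def embP (Y : CochainComplex A ℤ) : Emb Y where
  D := (exists_embedding P h1 h2 Y).choose
  ι := (exists_embedding P h1 h2 Y).choose_spec.choose
  mono := (exists_embedding P h1 h2 Y).choose_spec.choose_spec.1

theorem embP_P (Y : CochainComplex A ℤ) (m : ℤ) : P ((embP P h1 h2 Y).D.X m) :=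
  (exists_embedding P h1 h2 Y).choose_spec.choose_spec.2 m

/-- The trivial embedding. -/
def embId (Y : CochainComplex A ℤ) : Emb Y where
  D := Y
  ι := 𝟙 Y
  mono := fun _ => inferInstance

/-- The embedding used at step `k`. -/
noncomputable def emb (n k : ℕ) (Y : CochainComplex A ℤ) : Emb Y :=
  if k < n then embP P h1 h2 Y else embId Y

/-- The tower of cokernels. -/
noncomputable def Xs (n : ℕ) (X : CochainComplex A ℤ) : ℕ → CochainComplex A ℤ
  | 0 => X
  | k + 1 => cokernel (emb P h1 h2 n k (Xs n X k)).ι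

variable (n : ℕ) (X : CochainComplex A ℤ)

noncomputable def Is (k : ℕ) : CochainComplex A ℤ := (emb P h1 h2 n k (Xs P h1 h2 n X k)).D

noncomputable def ιs (k : ℕ) : Xs P h1 h2 n X k ⟶ Is P h1 h2 n X k :=
  (emb P h1 h2 n k (Xs P h1 h2 n X k)).ι

noncomputable def qs (k : ℕ) : Is P h1 h2 n X k ⟶ Xs P h1 h2 n X (k + 1) :=
  cokernel.π (ιs P h1 h2 n X k)

theorem ιs_qs (k : ℕ) : ιs P h1 h2 n X k ≫ qs P h1 h2 n X k = 0 :=
  cokernel.condition _

instance mono_ιs_f (k : ℕ) (m : ℤ) : Mono ((ιs P h1 h2 n X k).f m) :=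
  (emb P h1 h2 n k (Xs P h1 h2 n X k)).mono m

instance mono_ιs (k : ℕ) : Mono (ιs P h1 h2 n X k) :=
  HomologicalComplex.mono_of_mono_f _ (fun m => mono_ιs_f P h1 h2 n X k m)

theorem shortExact_f (k : ℕ) (m : ℤ) :
    (ShortComplex.mk ((ιs P h1 h2 n X k).f m) ((qs P h1 h2 n X k).f m)
      (by rw [← HomologicalComplex.comp_f, ιs_qs, HomologicalComplex.zero_f])).ShortExact :=
  (Groth.Agent.Helper9.PCohLib.shortExact_cokernel (ιs P h1 h2 n X k)).map_of_exact
    (HomologicalComplex.eval A (ComplexShape.up ℤ) m)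

instance epi_qs_f (k : ℕ) (m : ℤ) : Epi ((qs P h1 h2 n X k).f m) :=
  (shortExact_f P h1 h2 n X k m).epi_g

theorem P_Is (k : ℕ) (hk : k < n) (m : ℤ) : P ((Is P h1 h2 n X k).X m) := by
  unfold Is emb
  rw [if_pos hk]
  exact embP_P P h1 h2 _ m

omit P h1 h2 in
theorem isIso_of_eq_embId {Y : CochainComplex A ℤ} (e : Emb Y) (h : e = embId Y) : IsIso e.ι := by
  subst h
  exact inferInstanceAs (IsIso (𝟙 Y))

theorem isIso_ιs (k : ℕ) (hk : ¬ k < n) : IsIso (ιs P h1 h2 n X k) :=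
  isIso_of_eq_embId (emb P h1 h2 n k (Xs P h1 h2 n X k)) (if_neg hk)

theorem isZero_Xs (k : ℕ) (hk : ¬ k < n) (m : ℤ) : IsZero ((Xs P h1 h2 n X (k + 1)).X m) := by
  haveI := isIso_ιs P h1 h2 n X k hk
  have h : IsZero (cokernel (ιs P h1 h2 n X k)) := isZero_cokernel_of_epi _
  exact (HomologicalComplex.eval A (ComplexShape.up ℤ) m).map_isZero h

end Groth.Agent.Helper9.PDim
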