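import Mathlib
import Groth.Agent.Lib.Helper9.PDim2

/-!
# Resolutions of unbounded complexes: conclusion
-/

set_option autoImplicit false
universe v u
open CategoryTheory CategoryTheory.Limits HomologicalComplex
open scoped ZeroObject

namespace Groth.Agent.Helper9.PDim

variable {A : Type u} [Category.{v} A] [Abelian A]

theorem exact_splice {I₀ Y₁ I₁ Y₂ I₂ : A} (q₀ : I₀ ⟶ Y₁) (ι₁ : Y₁ ⟶ I₁) (q₁ : I₁ ⟶ Y₂)
    (ι₂ : Y₂ ⟶ I₂) [Epi q₀] [Mono ι₂] (w : ι₁ ≫ q₁ = 0) (h : (ShortComplex.mk ι₁ q₁ w).Exact)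
    (f : I₀ ⟶ I₁) (g : I₁ ⟶ I₂) (hf : f = q₀ ≫ ι₁) (hg : g = q₁ ≫ ι₂) (w' : f ≫ g = 0) :
    (ShortComplex.mk f g w').Exact := by
  subst hf hg
  rw [ShortComplex.exact_iff_exact_up_to_refinements]
  intro Z x hx
  dsimp at x hx
  have hx' : x ≫ q₁ = 0 := by rw [← cancel_mono ι₂, Category.assoc, hx, zero_comp]
  obtain ⟨Z₁, π₁, hπ₁, y, hy⟩ := h.exact_up_to_refinements x hx'
  dsimp at y hy
  obtain ⟨Z₂, π₂, hπ₂, z, hz⟩ := surjective_up_to_refinements_of_epi q₀ y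
  refine ⟨Z₂, π₂ ≫ π₁, inferInstance, z, ?_⟩
  dsimp
  rw [Category.assoc, hy, ← Category.assoc, hz, Category.assoc]

variable (P : ObjectProperty A)
  (h1 : ∀ X : A, ∃ (Y : A) (i : X ⟶ Y), P Y ∧ Mono i)
  (h2 : ∀ S : ShortComplex A, S.ShortExact → P S.X₁ → (P S.X₂ ↔ P S.X₃))
  (n : ℕ) (X : CochainComplex A ℤ)

/-- The differential of the row complex. -/
noncomputable def rowd (m : ℤ) (k : ℕ) :
    (Is P h1 h2 n X k).X m ⟶ (Is P h1 h2 n X (k + 1)).X m :=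
  (qs P h1 h2 n X k).f m ≫ (ιs P h1 h2 n X (k + 1)).f m

theorem rowd_comp (m : ℤ) (k : ℕ) : rowd P h1 h2 n X m k ≫ rowd P h1 h2 n X m (k + 1) = 0 := by
  unfold rowd
  rw [Category.assoc, ← Category.assoc ((ιs P h1 h2 n X (k + 1)).f m), ← HomologicalComplex.comp_f,
    ιs_qs, HomologicalComplex.zero_f, zero_comp, comp_zero]

/-- The row complex `I⁰ᵐ → I¹ᵐ → ⋯`. -/
noncomputable def row (m : ℤ) : CochainComplex A ℕ :=
  CochainComplex.of (fun k => (Is P h1 h2 n X k).X m) (rowd P h1 h2 n X m) (rowd_comp P h1 h2 n X m)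

theorem row_d (m : ℤ) (k : ℕ) : (row P h1 h2 n X m).d k (k + 1) = rowd P h1 h2 n X m k := by
  unfold row
  exact CochainComplex.of_d (fun k => (Is P h1 h2 n X k).X m) (rowd P h1 h2 n X m) k

theorem row_exact (m : ℤ) (k : ℕ) : ((row P h1 h2 n X m).sc' k (k + 1) (k + 1 + 1)).Exact :=
  exact_splice ((qs P h1 h2 n X k).f m) ((ιs P h1 h2 n X (k + 1)).f m)
    ((qs P h1 h2 n X (k + 1)).f m) ((ιs P h1 h2 n X (k + 1 + 1)).f m) _
    (shortExact_f P h1 h2 n X (k + 1) m).exact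
    ((row P h1 h2 n X m).d k (k + 1)) ((row P h1 h2 n X m).d (k + 1) (k + 1 + 1))
    (row_d P h1 h2 n X m k) (row_d P h1 h2 n X m (k + 1)) _

variable (hn : 1 ≤ n)
  (h3 : ∀ K : CochainComplex A ℕ, (∀ i : ℕ, 1 ≤ i → i ≤ n → K.ExactAt i) →
    (∀ i : ℕ, n < i → IsZero (K.X i)) →
    Epi (K.d (n - 1) n) → (∀ i : ℕ, i < n → P (K.X i)) → P (K.X n))

include hn h3 in
theorem P_Xs_n (m : ℤ) : P ((Xs P h1 h2 n X n).X m) := by
  obtain ⟨n', rfl⟩ : ∃ n', n = n' + 1 := ⟨n - 1, by omega⟩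
  haveI := isIso_ιs P h1 h2 (n' + 1) X (n' + 1) (by omega)
  have key : P ((row P h1 h2 (n' + 1) X m).X (n' + 1)) := by
    apply h3 (row P h1 h2 (n' + 1) X m)
    · intro i hi1 hin
      obtain ⟨i', rfl⟩ : ∃ i', i = i' + 1 := ⟨i - 1, by omega⟩
      rw [exactAt_iff' _ i' (i' + 1) (i' + 1 + 1) (by simp) (by simp)]
      exact row_exact P h1 h2 (n' + 1) X m i'
    · intro i hi
      obtain ⟨i', rfl⟩ : ∃ i', i = i' + 1 := ⟨i - 1, by omega⟩
      haveI := isIso_ιs P h1 h2 (n' + 1) X (i' + 1) (by omega)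
      have hz := isZero_Xs P h1 h2 (n' + 1) X i' (by omega) m
      exact hz.of_iso (asIso ((ιs P h1 h2 (n' + 1) X (i' + 1)).f m)).symm
    · show Epi ((row P h1 h2 (n' + 1) X m).d n' (n' + 1))
      rw [row_d]
      unfold rowd
      have hi : IsIso ((ιs P h1 h2 (n' + 1) X (n' + 1)).f m) :=
        inferInstanceAs (IsIso ((HomologicalComplex.eval A (ComplexShape.up ℤ) m).map
          (ιs P h1 h2 (n' + 1) X (n' + 1))))
      have hq : Epi ((qs P h1 h2 (n' + 1) X n').f m) := epi_qs_f P h1 h2 (n' + 1) X n' m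
      exact epi_comp' hq (@IsIso.epi_of_iso _ _ _ _ _ hi)
    · intro i hi
      exact P_Is P h1 h2 (n' + 1) X i hi m
  exact P_of_iso P h1 h2 (asIso ((ιs P h1 h2 (n' + 1) X (n' + 1)).f m)).symm key

include hn h3 in
theorem exists_res_aux (j : ℕ) : ∀ (k : ℕ), k + j = n →
    ∃ (C : CochainComplex A ℤ) (f : Xs P h1 h2 n X k ⟶ C), QuasiIso f ∧ ∀ m, P (C.X m) := by
  induction j with
  | zero =>
    intro k h
    obtain rfl : k = n := by omega
    exact ⟨Xs P h1 h2 k X k, 𝟙 _, inferInstance, fun m => P_Xs_n P h1 h2 k X hn h3 m⟩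
  | succ j ih =>
    intro k h
    obtain ⟨C', g₀, hg₀, hC'⟩ := ih (k + 1) (by omega)
    haveI := hg₀
    refine ⟨Cocone.cocone (qs P h1 h2 n X k) g₀,
      Cocone.coconeι (ιs P h1 h2 n X k) (qs P h1 h2 n X k) g₀ (ιs_qs P h1 h2 n X k), ?_, ?_⟩
    · exact Cocone.quasiIso_coconeι _ _ _ _ (fun m => inferInstance)
        (fun m => (shortExact_f P h1 h2 n X k m).exact) (fun m => inferInstance)
    · intro m
      exact P_of_iso P h1 h2 (Cocone.coconeXIso (qs P h1 h2 n X k) g₀ m).symm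
        (P_biprod P h2 (P_Is P h1 h2 n X k (by omega) m) (hC' _))

include h1 h2 hn h3 in
/-- Hartshorne RD I.4.6 (2). -/
theorem exists_resolution :
    ∃ (I : CochainComplex A ℤ) (f : X ⟶ I), QuasiIso f ∧ ∀ k : ℤ, P (I.X k) :=
  exists_res_aux P h1 h2 n X hn h3 n 0 (by omega)

end Groth.Agent.Helper9.PDim
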