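import Mathlib
import Groth.Agent.Lib.Helper24.Horseshoe3
import Groth.Agent.Lib.Helper9.PDim3

/-!
# Leray's acyclicity lemma
-/

set_option autoImplicit false
universe w w' v u v' u'
open CategoryTheory CategoryTheory.Limits HomologicalComplex

namespace Groth.Agent.Helper9.Leray

variable {C : Type u} [Category.{v} C] [Abelian C] [EnoughInjectives C]
  {D : Type u'} [Category.{v'} D] [Abelian D] (F : C ⥤ D) [F.Additive]

/-- `F`-acyclic objects. -/
def Acyc (X : C) : Prop := ∀ i : ℕ, 0 < i → IsZero ((F.rightDerived i).obj X)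

lemma acyc_of_isZero {X : C} (h : IsZero X) : Acyc F X := fun i _ =>
  (F.rightDerived i).map_isZero h

lemma acyc_of_injective (X : C) [Injective X] : Acyc F X := by
  intro i hi
  obtain ⟨j, rfl⟩ : ∃ j, i = j + 1 := ⟨i - 1, by omega⟩
  exact F.isZero_rightDerived_obj_injective_succ j X

lemma acyc_X₃ (S : ShortComplex C) (hS : S.ShortExact) (h₁ : Acyc F S.X₁) (h₂ : Acyc F S.X₂) :
    Acyc F S.X₃ := by
  intro i hi
  exact ((Groth.Agent.Helper24.Horseshoe.derivedLES F).exact₃ S hS i (i + 1) rfl).isZero_X₂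
    ((h₂ i hi).eq_of_src _ _) ((h₁ (i + 1) (by omega)).eq_of_tgt _ _)

section LeftExact

variable [PreservesFiniteLimits F]

lemma epi_map_g (S : ShortComplex C) (hS : S.ShortExact) (h₁ : Acyc F S.X₁) :
    Epi (F.map S.g) := by
  have h := (Groth.Agent.Helper24.Horseshoe.derivedLES F).exact₃ S hS 0 1 rfl
  have h0 : Epi ((F.rightDerived 0).map S.g) := h.epi_f ((h₁ 1 (by omega)).eq_of_tgt _ _)
  have e : F.map S.g = (F.rightDerivedZeroIsoSelf.app S.X₂).inv ≫ (F.rightDerived 0).map S.g ≫
      (F.rightDerivedZeroIsoSelf.app S.X₃).hom := by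
    simp
  rw [e]
  exact epi_comp' inferInstance (epi_comp' h0 inferInstance)

lemma shortExact_map (S : ShortComplex C) (hS : S.ShortExact) (h₁ : Acyc F S.X₁) :
    (S.map F).ShortExact := by
  haveI := hS.mono_f
  have hm : Mono (S.map F).f := inferInstanceAs (Mono (F.map S.f))
  have he : Epi (S.map F).g := epi_map_g F S hS h₁
  exact ShortComplex.ShortExact.mk'
    (hS.exact.map_of_mono_of_preservesKernel F hS.mono_f inferInstance) hm he

end LeftExact

section Cycles

variable (K : CochainComplex C ℤ)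

/-- The short complex `Z^m → K^m → Z^{m+1}`. -/
noncomputable def zsc (m : ℤ) : ShortComplex C :=
  ShortComplex.mk (K.iCycles m) (K.toCycles m (m + 1)) (by
    rw [← cancel_mono (K.iCycles (m + 1)), Category.assoc, K.toCycles_i, K.iCycles_d, zero_comp])

omit [EnoughInjectives C] in
theorem zsc_exact (m : ℤ) : (zsc K m).Exact := by
  rw [ShortComplex.exact_iff_exact_up_to_refinements]
  intro A x hx
  obtain ⟨x', rfl⟩ : ∃ x' : A ⟶ K.X m, x' = x := ⟨x, rfl⟩
  have hx' : x' ≫ K.d m (m + 1) = 0 := by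
    have : x' ≫ K.toCycles m (m + 1) = 0 := hx
    rw [← K.toCycles_i m (m + 1), reassoc_of% this, zero_comp]
  refine ⟨A, 𝟙 A, inferInstance, K.liftCycles x' (m + 1) (by simp) hx', ?_⟩
  show 𝟙 A ≫ x' = K.liftCycles x' (m + 1) (by simp) hx' ≫ K.iCycles m
  rw [K.liftCycles_i, Category.id_comp]

omit [EnoughInjectives C] in
theorem epi_toCycles (m : ℤ) (h : K.ExactAt (m + 1)) : Epi (K.toCycles m (m + 1)) := by
  rw [HomologicalComplex.exactAt_iff' _ m (m + 1) (m + 1 + 1) (by simp) (by simp),
    ShortComplex.exact_iff_exact_up_to_refinements] at h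
  rw [epi_iff_surjective_up_to_refinements]
  intro A x
  obtain ⟨A', π, hπ, y, hy⟩ := h (x ≫ K.iCycles (m + 1)) (by
    show (x ≫ K.iCycles (m + 1)) ≫ K.d (m + 1) (m + 1 + 1) = 0
    rw [Category.assoc, K.iCycles_d, comp_zero])
  refine ⟨A', π, hπ, y, ?_⟩
  rw [← cancel_mono (K.iCycles (m + 1)), Category.assoc, Category.assoc, K.toCycles_i]
  exact hy

omit [EnoughInjectives C] in
theorem zsc_shortExact (hK : K.Acyclic) (m : ℤ) : (zsc K m).ShortExact :=
  have hm : Mono (zsc K m).f := inferInstanceAs (Mono (K.iCycles m))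
  have he : Epi (zsc K m).g := epi_toCycles K m (hK (m + 1))
  ShortComplex.ShortExact.mk' (zsc_exact K m) hm he

theorem acyc_cycles (n : ℤ) [K.IsStrictlyGE n] (hK : K.Acyclic) (hA : ∀ m, Acyc F (K.X m))
    (m : ℤ) : Acyc F (K.cycles m) := by
  have step : ∀ m, Acyc F (K.cycles m) → Acyc F (K.cycles (m + 1)) := fun m h =>
    acyc_X₃ F (zsc K m) (zsc_shortExact K hK m) h (hA m)
  by_cases hm : m < n
  · exact acyc_of_isZero F (IsZero.of_mono (K.iCycles m) (K.isZero_of_isStrictlyGE n m hm))
  · have key : ∀ m, n - 1 ≤ m → Acyc F (K.cycles m) := fun m hm =>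
      Int.le_induction (motive := fun m _ => Acyc F (K.cycles m))
        (acyc_of_isZero F (IsZero.of_mono (K.iCycles (n - 1))
          (K.isZero_of_isStrictlyGE n (n - 1) (by omega)))) (fun k _ ih => step k ih) m hm
    exact key m (by omega)

variable [PreservesFiniteLimits F]

theorem acyclic_map (n : ℤ) [K.IsStrictlyGE n] (hK : K.Acyclic) (hA : ∀ m, Acyc F (K.X m)) :
    ((F.mapHomologicalComplex (ComplexShape.up ℤ)).obj K).Acyclic := by
  intro j
  obtain ⟨m, rfl⟩ : ∃ m, j = m + 1 := ⟨j - 1, by omega⟩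
  rw [HomologicalComplex.exactAt_iff' _ m (m + 1) (m + 1 + 1) (by simp) (by simp)]
  have h1 := shortExact_map F (zsc K m) (zsc_shortExact K hK m) (acyc_cycles F K n hK hA m)
  have h2 := shortExact_map F (zsc K (m + 1)) (zsc_shortExact K hK (m + 1))
    (acyc_cycles F K n hK hA (m + 1))
  have h3 := shortExact_map F (zsc K (m + 1 + 1)) (zsc_shortExact K hK (m + 1 + 1))
    (acyc_cycles F K n hK hA (m + 1 + 1))
  haveI : Epi (F.map (K.toCycles m (m + 1))) := h1.epi_g
  haveI : Mono (F.map (K.iCycles (m + 1 + 1))) := h3.mono_f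
  exact Groth.Agent.Helper9.PDim.exact_splice (F.map (K.toCycles m (m + 1)))
    (F.map (K.iCycles (m + 1)))
    (F.map (K.toCycles (m + 1) (m + 1 + 1))) (F.map (K.iCycles (m + 1 + 1))) _ h2.exact
    _ _ (by rw [Functor.mapHomologicalComplex_obj_d, ← F.map_comp, K.toCycles_i])
    (by rw [Functor.mapHomologicalComplex_obj_d, ← F.map_comp, K.toCycles_i]) _

end Cycles

omit [EnoughInjectives C] in
theorem quasiIso_of_acyclic_X₃ {S : ShortComplex (CochainComplex D ℤ)} (hS : S.ShortExact)
    (h : S.X₃.Acyclic) : QuasiIso S.f := by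
  rw [quasiIso_iff]
  intro i
  rw [quasiIsoAt_iff_isIso_homologyMap]
  have hz : ∀ j, IsZero (S.X₃.homology j) := fun j =>
    (HomologicalComplex.exactAt_iff_isZero_homology _ _).1 (h j)
  have hm : Mono (homologyMap S.f i) :=
    (hS.homology_exact₁ (i - 1) i (by simp)).mono_g ((hz (i - 1)).eq_of_src _ _)
  have he : Epi (homologyMap S.f i) := (hS.homology_exact₂ i).epi_f ((hz i).eq_of_tgt _ _)
  exact isIso_of_mono_of_epi _

variable [PreservesFiniteLimits F]

theorem quasiIso_map_of_mono {K L : CochainComplex C ℤ} (i : K ⟶ L) [Mono i] [QuasiIso i]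
    (n : ℤ) [L.IsStrictlyGE n]
    (hK : ∀ m, Acyc F (K.X m)) (hL : ∀ m, Acyc F (L.X m)) :
    QuasiIso ((F.mapHomologicalComplex (ComplexShape.up ℤ)).map i) := by
  let S : ShortComplex (CochainComplex C ℤ) :=
    ShortComplex.mk i (cokernel.π i) (cokernel.condition i)
  have hS : S.ShortExact := Groth.Agent.Helper9.PCohLib.shortExact_cokernel i
  have hSm : ∀ m, (S.map (HomologicalComplex.eval C (ComplexShape.up ℤ) m)).ShortExact := fun m =>
    hS.map_of_exact (HomologicalComplex.eval C (ComplexShape.up ℤ) m)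
  have hQA : ∀ m, Acyc F ((cokernel i).X m) := fun m =>
    acyc_X₃ F _ (hSm m) (hK m) (hL m)
  have hQac : (cokernel i).Acyclic := hS.acyclic_X₃ (inferInstanceAs (QuasiIso i))
  haveI : (cokernel i).IsStrictlyGE n := by
    rw [CochainComplex.isStrictlyGE_iff]
    intro m hm
    haveI : Epi ((cokernel.π i).f m) := (hSm m).epi_g
    exact IsZero.of_epi ((cokernel.π i).f m) (L.isZero_of_isStrictlyGE n m hm)
  have hFQ := acyclic_map F (cokernel i) n hQac hQA
  let S' := S.map (F.mapHomologicalComplex (ComplexShape.up ℤ))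
  have hS' : S'.ShortExact :=
    HomologicalComplex.shortExact_of_degreewise_shortExact S' (fun m =>
      shortExact_map F _ (hSm m) (hK m))
  exact quasiIso_of_acyclic_X₃ hS' hFQ

theorem isIso_unit [HasDerivedCategory.{w} C] [HasDerivedCategory.{w'} D]
    (K : CochainComplex.Plus C)
    (hK : ∀ (m : ℤ) (i : ℕ), 0 < i → IsZero ((F.rightDerived i).obj (K.obj.X m))) :
    IsIso (F.rightDerivedFunctorPlusUnit.app ((HomotopyCategory.Plus.quotient C).obj K)) := by
  obtain ⟨n, hn⟩ := K.property
  haveI : K.obj.IsStrictlyGE n := hn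
  obtain ⟨L, i, hi, hi', hL, hL'⟩ :=
    CochainComplex.Plus.modelCategoryQuillen.exists_mono_quasiIso_injective K.obj (n - 1) n
      (by omega)
  let L' : CochainComplex.Plus C := ⟨L, n - 1, hL'⟩
  let i' : K ⟶ L' := ObjectProperty.homMk i
  have nat := F.rightDerivedFunctorPlusUnit.naturality ((HomotopyCategory.Plus.quotient C).map i')
  haveI : ∀ m, Injective (L'.obj.X m) := hL
  haveI h1 : IsIso (F.rightDerivedFunctorPlusUnit.app ((HomotopyCategory.Plus.quotient C).obj L')) :=
    inferInstance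
  have hq : HomotopyCategory.Plus.quasiIso C ((HomotopyCategory.Plus.quotient C).map i') := by
    show HomotopyCategory.quasiIso C _ ((HomotopyCategory.quotient C _).map i)
    rw [HomotopyCategory.quotient_map_mem_quasiIso_iff, HomologicalComplex.mem_quasiIso_iff]
    exact hi'
  haveI h2 : IsIso (DerivedCategory.Plus.Qh.map ((HomotopyCategory.Plus.quotient C).map i')) :=
    Localization.inverts DerivedCategory.Plus.Qh (HomotopyCategory.Plus.quasiIso C) _ hq
  have hq' : HomotopyCategory.Plus.quasiIso D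
      (F.mapHomotopyCategoryPlus.map ((HomotopyCategory.Plus.quotient C).map i')) := by
    show HomotopyCategory.quasiIso D _
      ((HomotopyCategory.quotient D _).map ((F.mapHomologicalComplex _).map i))
    rw [HomotopyCategory.quotient_map_mem_quasiIso_iff, HomologicalComplex.mem_quasiIso_iff]
    haveI := hL'
    exact quasiIso_map_of_mono F i (n - 1) (fun m j hj => hK m j hj)
      (fun m => acyc_of_injective F (L.X m))
  haveI h3 : IsIso (DerivedCategory.Plus.Qh.map
      (F.mapHomotopyCategoryPlus.map ((HomotopyCategory.Plus.quotient C).map i'))) :=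
    Localization.inverts DerivedCategory.Plus.Qh (HomotopyCategory.Plus.quasiIso D) _ hq'
  dsimp only [Functor.comp_map] at nat
  haveI h4 : IsIso (F.rightDerivedFunctorPlus.map
      (DerivedCategory.Plus.Qh.map ((HomotopyCategory.Plus.quotient C).map i'))) := inferInstance
  have e : F.rightDerivedFunctorPlusUnit.app ((HomotopyCategory.Plus.quotient C).obj K) =
      (DerivedCategory.Plus.Qh.map
        (F.mapHomotopyCategoryPlus.map ((HomotopyCategory.Plus.quotient C).map i')) ≫
      F.rightDerivedFunctorPlusUnit.app ((HomotopyCategory.Plus.quotient C).obj L')) ≫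
      inv (F.rightDerivedFunctorPlus.map
        (DerivedCategory.Plus.Qh.map ((HomotopyCategory.Plus.quotient C).map i'))) := by
    rw [nat, Category.assoc, IsIso.hom_inv_id, Category.comp_id]
  rw [e]
  infer_instance

end Groth.Agent.Helper9.Leray
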