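import Mathlib
import Groth.Agent.Lib.Helper9.Leray1
import Groth.Agent.Lib.Helper9.InjCx

/-!
# Acyclic objects and functors of finite cohomological dimension
-/

set_option autoImplicit false
universe w w' v u v' u'
open CategoryTheory CategoryTheory.Limits HomologicalComplex

namespace Groth.Agent.Helper9.Leray

variable {C : Type u} [Category.{v} C] [Abelian C] [EnoughInjectives C]
  {D : Type u'} [Category.{v'} D] [Abelian D] (F : C ⥤ D) [F.Additive]

lemma acyc_X₂ (S : ShortComplex C) (hS : S.ShortExact) (h₁ : Acyc F S.X₁) (h₃ : Acyc F S.X₃) :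
    Acyc F S.X₂ := by
  intro i hi
  exact ((Groth.Agent.Helper24.Horseshoe.derivedLES F).exact₂ S hS i).isZero_X₂
    ((h₁ i hi).eq_of_src _ _) ((h₃ i hi).eq_of_tgt _ _)

lemma acyc_X₂_iff_X₃ (S : ShortComplex C) (hS : S.ShortExact) (h₁ : Acyc F S.X₁) :
    Acyc F S.X₂ ↔ Acyc F S.X₃ :=
  ⟨acyc_X₃ F S hS h₁, acyc_X₂ F S hS h₁⟩

lemma acyc_biprod {X Y : C} (hX : Acyc F X) (hY : Acyc F Y) : Acyc F (X ⊞ Y) :=
  acyc_X₂ F _ (ShortComplex.Splitting.ofHasBinaryBiproduct X Y).shortExact hX hY

lemma acyc_of_iso {X Y : C} (e : X ≅ Y) (h : Acyc F X) : Acyc F Y := fun i hi =>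
  (h i hi).of_iso ((F.rightDerived i).mapIso e.symm)

section Dim

variable (n : ℕ) (hn : ∀ X : C, IsZero ((F.rightDerived n).obj X))

include hn in
lemma isZero_of_le : ∀ (j : ℕ), n ≤ j → ∀ X : C, IsZero ((F.rightDerived j).obj X) := by
  intro j hj
  induction j, hj using Nat.le_induction with
  | base => exact hn
  | succ j hj ih =>
    intro X
    let S : ShortComplex C := ShortComplex.mk (Injective.ι X) (cokernel.π (Injective.ι X))
      (cokernel.condition _)
    have hS : S.ShortExact :=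
      { exact := ShortComplex.exact_cokernel _
        mono_f := inferInstanceAs (Mono (Injective.ι X))
        epi_g := inferInstanceAs (Epi (cokernel.π (Injective.ι X))) }
    exact ((Groth.Agent.Helper24.Horseshoe.derivedLES F).exact₁ S hS j (j + 1) rfl).isZero_X₂
      ((ih _).eq_of_src _ _)
      ((F.isZero_rightDerived_obj_injective_succ j (Injective.under X)).eq_of_tgt _ _)

include hn in
lemma acyc_top (n' : ℕ) (hn' : n ≤ n') (K : CochainComplex C ℕ)
    (hex : ∀ i : ℕ, 1 ≤ i → i ≤ n' → K.ExactAt i) (hz : ∀ i : ℕ, n' < i → IsZero (K.X i))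
    (hP : ∀ i : ℕ, i < n' → Acyc F (K.X i)) : Acyc F (K.X n') := by
  have claim : ∀ i : ℕ, i ≤ n' → ∀ j : ℕ, 1 ≤ j →
      IsZero ((F.rightDerived (j + (n' - i))).obj (K.cycles i)) := by
    intro i
    induction i with
    | zero => intro _ j hj; exact isZero_of_le F n hn _ (by omega) _
    | succ i ih =>
      intro hi j hj
      have hS : (InjCx.zsc K i).ShortExact := by
        have hm : Mono (InjCx.zsc K i).f := inferInstanceAs (Mono (K.iCycles i))
        have he : Epi (InjCx.zsc K i).g := InjCx.epi_toCycles K i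
          ((HomologicalComplex.exactAt_iff_isZero_homology _ _).1 (hex (i + 1) (by omega) hi))
        exact ShortComplex.ShortExact.mk' (InjCx.zsc_exact K i) hm he
      have h := (Groth.Agent.Helper24.Horseshoe.derivedLES F).exact₃ (InjCx.zsc K i) hS
        (j + (n' - (i + 1))) (j + (n' - (i + 1)) + 1) rfl
      refine h.isZero_X₂ ((hP i (by omega) _ (by omega)).eq_of_src _ _) (IsZero.eq_of_tgt ?_ _ _)
      have h' := ih (by omega) j hj
      rwa [show j + (n' - i) = j + (n' - (i + 1)) + 1 by omega] at h'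
  haveI : IsIso (K.iCycles n') :=
    K.isIso_iCycles n' (n' + 1) (by simp) ((hz (n' + 1) (by omega)).eq_of_tgt _ _)
  intro j hj
  have h := claim n' le_rfl j hj
  rw [show j + (n' - n') = j by omega] at h
  exact h.of_iso ((F.rightDerived j).mapIso (asIso (K.iCycles n')).symm)

include hn in
lemma acyc_cycles' (K : CochainComplex C ℤ) (hK : K.Acyclic) (hA : ∀ m, Acyc F (K.X m))
    (m : ℤ) : Acyc F (K.cycles m) := by
  have claim : ∀ (k : ℕ) (m : ℤ) (j : ℕ), 1 ≤ j → n ≤ j + k →
      IsZero ((F.rightDerived j).obj (K.cycles m)) := by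
    intro k
    induction k with
    | zero => intro m j _ hj; exact isZero_of_le F n hn j (by omega) _
    | succ k ih =>
      intro m j hj1 hj
      obtain ⟨m', rfl⟩ : ∃ m', m = m' + 1 := ⟨m - 1, by omega⟩
      exact ((Groth.Agent.Helper24.Horseshoe.derivedLES F).exact₃ (zsc K m')
        (zsc_shortExact K hK m') j (j + 1) rfl).isZero_X₂
        ((hA m' j (by omega)).eq_of_src _ _)
        ((ih m' (j + 1) (by omega) (by omega)).eq_of_tgt _ _)
  intro j hj
  exact claim n m j hj (by omega)

end Dim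

theorem acyclic_map' [PreservesFiniteLimits F] (K : CochainComplex C ℤ) (hK : K.Acyclic)
    (hZ : ∀ m, Acyc F (K.cycles m)) :
    ((F.mapHomologicalComplex (ComplexShape.up ℤ)).obj K).Acyclic := by
  intro j
  obtain ⟨m, rfl⟩ : ∃ m, j = m + 1 := ⟨j - 1, by omega⟩
  rw [HomologicalComplex.exactAt_iff' _ m (m + 1) (m + 1 + 1) (by simp) (by simp)]
  have h1 := shortExact_map F (zsc K m) (zsc_shortExact K hK m) (hZ m)
  have h2 := shortExact_map F (zsc K (m + 1)) (zsc_shortExact K hK (m + 1)) (hZ (m + 1))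
  have h3 := shortExact_map F (zsc K (m + 1 + 1)) (zsc_shortExact K hK (m + 1 + 1))
    (hZ (m + 1 + 1))
  haveI : Epi (F.map (K.toCycles m (m + 1))) := h1.epi_g
  haveI : Mono (F.map (K.iCycles (m + 1 + 1))) := h3.mono_f
  exact Groth.Agent.Helper9.PDim.exact_splice (F.map (K.toCycles m (m + 1)))
    (F.map (K.iCycles (m + 1)))
    (F.map (K.toCycles (m + 1) (m + 1 + 1))) (F.map (K.iCycles (m + 1 + 1))) _ h2.exact
    _ _ (by rw [Functor.mapHomologicalComplex_obj_d, ← F.map_comp, K.toCycles_i])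
    (by rw [Functor.mapHomologicalComplex_obj_d, ← F.map_comp, K.toCycles_i]) _

end Groth.Agent.Helper9.Leray
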