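import Mathlib
import Groth.Prelude.Def_OmegaPn
import Groth.Agent.Lib.Helper13.PullbackLocal
import Groth.Agent.Lib.Helper13.QCohPush

/-!
# Principal parts: the projections of the infinitesimal neighbourhoods of the diagonal are affine
-/

set_option autoImplicit false
universe u
open CategoryTheory CategoryTheory.Limits AlgebraicGeometry TopologicalSpace Opposite

namespace Groth.Agent.Helper9.PrinPart2

open PrinPart

variable {X S : Scheme.{u}} (f : X ⟶ S) (n : ℕ)

theorem pr1_toNbhd_apply (x : X) : pr1 f n (toNbhd f n x) = x := by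
  rw [← Scheme.Hom.comp_apply, toNbhd_pr1]
  rfl

theorem toNbhd_pr1_apply (y : nbhd f n) : toNbhd f n (pr1 f n y) = y := by
  obtain ⟨x, rfl⟩ := toInfNbhd_surjective (diagCl f) n y
  exact congrArg _ (pr1_toNbhd_apply f n x)

theorem pr1_surjective : Function.Surjective (pr1 f n) :=
  fun x => ⟨toNbhd f n x, pr1_toNbhd_apply f n x⟩

theorem pr1_isInducing : Topology.IsInducing (pr1 f n) := by
  refine Topology.IsInducing.of_comp (pr1 f n).continuous (toNbhd f n).continuous ?_
  have : (toNbhd f n) ∘ (pr1 f n) = id := funext (toNbhd_pr1_apply f n)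
  rw [this]
  exact Topology.IsInducing.id

instance isAffineHom_pr1 : IsAffineHom (pr1 f n) := by
  refine isAffineHom_of_isInducing _ (pr1_isInducing f n) ?_
  rw [(pr1_surjective f n).range_eq]
  exact isClosed_univ

theorem isQuasicoherent_PMod (F : X.Modules) [F.IsQuasicoherent] :
    (PMod f n F).IsQuasicoherent := by
  haveI := Groth.Agent.Helper13.Pullback.isQuasicoherent_pullback (pr2 f n) F
  exact Groth.Agent.Helper13.QCohPush.isQuasicoherent_pushforward (pr1 f n) _

end Groth.Agent.Helper9.PrinPart2
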