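import Mathlib
import Groth.Prelude.Def_OmegaPn
import Groth.Prelude.Def_CohB1
import Groth.Agent.Lib.Helper9.PrinPart2
import Groth.Agent.Lib.Helper13.FittPullback
import Groth.Agent.Lib.Helper13.PushFinite

/-!
# Principal parts: finiteness of the projections, coherence of `P^n(F)`
-/

set_option autoImplicit false
universe u
open CategoryTheory CategoryTheory.Limits AlgebraicGeometry TopologicalSpace Opposite

namespace Groth.Agent.Helper9.PrinPart3

open PrinPart Groth.Agent.Helper9.PrinPart2

variable {X S : Scheme.{u}} (f : X ⟶ S) (n : ℕ)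

instance surjective_toNbhd : Surjective (toNbhd f n) :=
  ⟨toInfNbhd_surjective (diagCl f) n⟩

instance universallyClosed_pr1 : UniversallyClosed (pr1 f n) := by
  haveI : UniversallyClosed (toNbhd f n ≫ pr1 f n) := by
    rw [toNbhd_pr1]; infer_instance
  exact UniversallyClosed.of_comp_surjective (toNbhd f n) (pr1 f n)

instance isIntegralHom_pr1 : IsIntegralHom (pr1 f n) :=
  IsIntegralHom.iff_universallyClosed_and_isAffineHom.mpr ⟨inferInstance, inferInstance⟩

instance locallyOfFiniteType_pr1 [LocallyOfFiniteType f] : LocallyOfFiniteType (pr1 f n) := by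
  unfold pr1 nbhdι infNbhdι
  infer_instance

instance isFinite_pr1 [LocallyOfFiniteType f] : IsFinite (pr1 f n) :=
  (IsFinite.iff_isIntegralHom_and_locallyOfFiniteType _).mpr ⟨inferInstance, inferInstance⟩

theorem isCoh_PMod [LocallyOfFiniteType f] (F : X.Modules) (hF : Coh.IsCoh F) :
    Coh.IsCoh (PMod f n F) := by
  obtain ⟨hq, hft⟩ := hF
  have : F.IsQuasicoherent := hq
  have : SheafOfModules.IsFiniteType (R := X.ringCatSheaf) F := hft
  have := Groth.Agent.Helper13.Pullback.isQuasicoherent_pullback (pr2 f n) F
  have := Groth.Agent.Helper13.FittSheaf.isFiniteType_pullback (pr2 f n) F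
  exact ⟨isQuasicoherent_PMod f n F,
    (Groth.Agent.Helper13.PushFinite.isFiniteType_pushforward_iff (pr1 f n) _).mp inferInstance⟩

end Groth.Agent.Helper9.PrinPart3
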