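import Mathlib
import Groth.Prelude.Def_OmegaPn
import Groth.Prelude.Def_CohB1
import Groth.Agent.Lib.Helper9.PrinPart3
import Groth.Agent.Lib.Helper7.FinPres
import Groth.Agent.Lib.Helper13.FinPresAffine

/-!
# Principal parts: finite presentation of the projections and of `P^n(F)`
-/

set_option autoImplicit false
universe u
open CategoryTheory CategoryTheory.Limits AlgebraicGeometry TopologicalSpace Opposite TensorProduct

namespace Groth.Agent.Helper9.PrinPart4

open PrinPart Groth.Agent.Helper9.PrinPart2 Groth.Agent.Helper9.PrinPart3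

theorem fg_ker_of_surjective_of_finitePresentation {A B : Type*} [CommRing A] [CommRing B]
    (φ : A →+* B) (hs : Function.Surjective φ) (hφ : φ.FinitePresentation) :
    (RingHom.ker φ).FG := by
  letI := φ.toAlgebra
  have : Algebra.FinitePresentation A B := hφ
  exact Algebra.FinitePresentation.ker_fG_of_surjective (Algebra.ofId A B) hs

section ClosedImm

variable {X Y : Scheme.{u}}

theorem ker_ideal_fg (i : Y ⟶ X) [IsClosedImmersion i] [LocallyOfFinitePresentation i]
    (U : X.affineOpens) : (i.ker.ideal U).FG := by
  rw [Scheme.Hom.ker_apply]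
  refine fg_ker_of_surjective_of_finitePresentation _ (i.app_surjective U.1 U.2) ?_
  have h := HasRingHomProperty.appLE (P := @LocallyOfFinitePresentation) i inferInstance U
    ⟨i ⁻¹ᵁ U.1, U.2.preimage i⟩ le_rfl
  rwa [Scheme.Hom.appLE_eq_app] at h

theorem lfp_subschemeι (I : X.IdealSheafData) (hI : ∀ U : X.affineOpens, (I.ideal U).FG) :
    LocallyOfFinitePresentation I.subschemeι := by
  rw [HasRingHomProperty.iff_appLE (P := @LocallyOfFinitePresentation)]
  intro U V e
  have h1 : (I.subschemeι.app U).hom.FinitePresentation :=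
    RingHom.FinitePresentation.of_surjective _ (I.subschemeι_app_surjective U)
      (by rw [I.ker_subschemeι_app U]; exact hI U)
  have h2 : (I.subscheme.presheaf.map (homOfLE e).op).hom.FinitePresentation := by
    have h := HasRingHomProperty.appLE (P := @LocallyOfFinitePresentation) (𝟙 I.subscheme)
      inferInstance ⟨I.subschemeι ⁻¹ᵁ U.1, U.2.preimage I.subschemeι⟩ V e
    have e2 : ((𝟙 I.subscheme : I.subscheme ⟶ I.subscheme).appLE (I.subschemeι ⁻¹ᵁ U.1) V e) =
        I.subscheme.presheaf.map (homOfLE e).op := by
      simp [Scheme.Hom.appLE]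
      exact Category.id_comp _
    rwa [e2] at h
  have h3 : I.subschemeι.appLE U V e =
      I.subschemeι.app U ≫ I.subscheme.presheaf.map (homOfLE e).op := rfl
  rw [h3]
  exact h2.comp h1

theorem lfp_infNbhdι (i : Y ⟶ X) [IsClosedImmersion i] [LocallyOfFinitePresentation i] (n : ℕ) :
    LocallyOfFinitePresentation (infNbhdι i n) := by
  unfold infNbhdι
  refine lfp_subschemeι _ (fun U => ?_)
  rw [Scheme.IdealSheafData.ideal_pow]
  exact (ker_ideal_fg i U).pow

end ClosedImm

section Diag

variable {X S : Scheme.{u}} (f : X ⟶ S) (n : ℕ)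

theorem lfp_diagonal [LocallyOfFiniteType f] :
    LocallyOfFinitePresentation (pullback.diagonal f) := by
  apply Groth.Agent.Helper7.locallyOfFinitePresentation_of_comp (pullback.diagonal f)
    (pullback.fst f f)
  · rw [pullback.diagonal_fst]
    infer_instance
  · infer_instance

instance lfp_diagCl [LocallyOfFiniteType f] : LocallyOfFinitePresentation (diagCl f) := by
  have h := lfp_diagonal f
  exact MorphismProperty.of_postcomp (W := @LocallyOfFinitePresentation)
    (W' := @IsOpenImmersion) (diagCl f) (pullback.diagonal f).coborderRange.ι inferInstance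
    (by rwa [Scheme.Hom.liftCoborder_ι])

instance lfp_pr1 [LocallyOfFinitePresentation f] : LocallyOfFinitePresentation (pr1 f n) := by
  haveI := lfp_infNbhdι (diagCl f) n
  unfold pr1 nbhdι
  infer_instance

end Diag

section Pullback

variable {X Y : Scheme.{u}} (f : X ⟶ Y) (G : Y.Modules)

/-- The pullback of a finitely presented module is finitely presented. -/
theorem isFinitePresentation_pullback
    [hG : SheafOfModules.IsFinitePresentation (R := Y.ringCatSheaf) G] :
    SheafOfModules.IsFinitePresentation (R := X.ringCatSheaf)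
      ((Scheme.Modules.pullback f).obj G) := by
  have : G.IsQuasicoherent :=
    inferInstanceAs (SheafOfModules.IsQuasicoherent (R := Y.ringCatSheaf) G)
  apply Groth.Agent.Helper13.LocFree.isFinitePresentation_of_finitePresentation_sections
  intro x
  obtain ⟨_, ⟨V, hV, rfl⟩, hxV, -⟩ := Y.isBasis_affineOpens.exists_subset_of_mem_open
    (Set.mem_univ (f x)) isOpen_univ
  obtain ⟨_, ⟨U, hU, rfl⟩, hxU, hUV⟩ := X.isBasis_affineOpens.exists_subset_of_mem_open
    (show x ∈ ((f ⁻¹ᵁ V : X.Opens) : Set X) from hxV) (f ⁻¹ᵁ V).2
  refine ⟨U, hU, hxU, ?_⟩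
  letI := (f.appLE V U hUV).hom.toAlgebra
  haveI : Module.FinitePresentation Γ(Y, V) Γ(G, V) :=
    Groth.Agent.Helper13.LocFree.finitePresentation_sections_of_isFinitePresentation G hV
  exact Module.FinitePresentation.of_equiv
    (Groth.Agent.Helper13.Pullback.sectionsPullbackEquiv f G hU hV hUV).symm

end Pullback

theorem isFP_PMod {X S : Scheme.{u}} (f : X ⟶ S) [LocallyOfFinitePresentation f] (n : ℕ)
    (F : X.Modules) (hF : CohB1.IsFP F) : CohB1.IsFP (PMod f n F) := by
  have : SheafOfModules.IsFinitePresentation (R := X.ringCatSheaf) F := hF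
  have : F.IsQuasicoherent :=
    inferInstanceAs (SheafOfModules.IsQuasicoherent (R := X.ringCatSheaf) F)
  have := Groth.Agent.Helper13.Pullback.isQuasicoherent_pullback (pr2 f n) F
  have h := isFinitePresentation_pullback (pr2 f n) F
  exact (Groth.Agent.Helper13.PushFinite.isFinitePresentation_pushforward_iff (pr1 f n) _).mp h

end Groth.Agent.Helper9.PrinPart4
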