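import Mathlib
import Groth.Agent.Lib.Helper1.GU10
import Groth.Agent.Lib.Helper14.EtaleReduced

/-!
# Rational sections of separated unramified morphisms (EGA IV 18.10.11-ish)

Extension of a section defined on a dense open at geometrically unibranch points.
-/

set_option autoImplicit false
set_option linter.style.haveILetI false

open CategoryTheory CategoryTheory.Limits AlgebraicGeometry Opposite TopologicalSpace

universe u

namespace Groth.Agent.Helper9.RatSec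

/-- A scheme smooth over a reduced scheme is reduced (copy of helper16's proof, light imports). -/
theorem isReduced_of_smooth {X Y : Scheme.{u}} (f : X ⟶ Y) [Smooth f] [IsReduced Y] :
    IsReduced X := by
  refine @isReduced_of_isReduced_stalk X (fun x => ?_)
  obtain ⟨_, ⟨W, hW, rfl⟩, hxW, -⟩ :=
    Y.isBasis_affineOpens.exists_subset_of_mem_open (Set.mem_univ (f x)) isOpen_univ
  obtain ⟨_, ⟨V, hV, rfl⟩, hxV, hVW⟩ :=
    X.isBasis_affineOpens.exists_subset_of_mem_open (show x ∈ (f ⁻¹ᵁ W : Set X) from hxW)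
      (f ⁻¹ᵁ W).isOpen
  have he : RingHom.Smooth (f.appLE W V hVW).hom :=
    HasRingHomProperty.appLE (P := @Smooth) f inferInstance ⟨W, hW⟩ ⟨V, hV⟩ hVW
  algebraize [(f.appLE W V hVW).hom]
  haveI : _root_.IsReduced Γ(Y, W) := inferInstance
  haveI : _root_.IsReduced Γ(X, V) := Groth.Agent.Helper14.isReduced_of_smooth Γ(Y, W) Γ(X, V)
  letI := TopCat.Presheaf.algebra_section_stalk X.presheaf (⟨x, hxV⟩ : V)
  haveI := hV.isLocalization_stalk ⟨x, hxV⟩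
  exact isReduced_localizationPreserves (hV.primeIdealOf ⟨x, hxV⟩).asIdeal.primeCompl
    (X.presheaf.stalk x) inferInstance

theorem geomUnibranch_congr {Y : Scheme.{u}} {y y' : Y} (h : y = y')
    (hy : CAlg2.IsGeomUnibranch (Y.presheaf.stalk y)) :
    CAlg2.IsGeomUnibranch (Y.presheaf.stalk y') := by
  subst h; exact hy

theorem apply_section {X Y : Scheme.{u}} (f : X ⟶ Y) (U : Y.Opens)
    (u : (U : Scheme.{u}) ⟶ X) (hu : u ≫ f = U.ι) (p : ↥U) : f (u p) = p.1 := by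
  have h := Scheme.Hom.comp_apply u f p
  rw [hu] at h
  exact h.symm

/-- If the composite `s ≫ f` is an open immersion and `f` is unramified, then `s` is an open
immersion. -/
theorem isOpenImmersion_of_comp {X Y T : Scheme.{u}} (f : X ⟶ Y) [FormallyUnramified f]
    [LocallyOfFiniteType f] (s : T ⟶ X) [IsOpenImmersion (s ≫ f)] : IsOpenImmersion s := by
  have hP : (@IsOpenImmersion).HasOfPostcompProperty
      (@FormallyUnramified ⊓ @LocallyOfFiniteType) := by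
    rw [MorphismProperty.hasOfPostcompProperty_iff_le_diagonal]
    intro A B g hg
    haveI := hg.1
    haveI := hg.2
    change IsOpenImmersion (pullback.diagonal g)
    infer_instance
  exact hP.of_postcomp s f ⟨inferInstance, inferInstance⟩ inferInstance

/-- Lemma E: around a point whose local ring has prime nilradical, if irreducible components are
locally finite, there is an irreducible open neighbourhood. -/
theorem exists_irreducible_open_nhd (Y : Scheme.{u})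
    (hcomp : LocallyFinite (fun Z : ↥(irreducibleComponents ↥Y) => (Z : Set ↥Y)))
    (y : Y) (hy : (nilradical (Y.presheaf.stalk y)).IsPrime) :
    ∃ Y₁ : Y.Opens, y ∈ Y₁ ∧ IsIrreducible (Y₁ : Set Y) := by
  classical
  obtain ⟨ζ₀, hζ₀y, hζ₀⟩ := Groth.Agent.Helper1.GU.exists_generic_generization Y y hy
  let g : ↥(irreducibleComponents ↥Y) → Set ↥Y :=
    fun Z => if y ∈ (Z : Set ↥Y) then ∅ else (Z : Set ↥Y)
  have hg : LocallyFinite g := hcomp.subset (fun Z => by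
    by_cases h : y ∈ (Z : Set ↥Y)
    · simp [g, h]
    · simp [g, h])
  have hgc : ∀ Z, IsClosed (g Z) := fun Z => by
    by_cases h : y ∈ (Z : Set ↥Y)
    · simp [g, h]
    · simp only [g, h, if_false]
      exact isClosed_of_mem_irreducibleComponents _ Z.2
  have hC : IsClosed (⋃ Z, g Z) := hg.isClosed_iUnion hgc
  have hyC : y ∈ (⋃ Z, g Z)ᶜ := by
    rw [Set.mem_compl_iff, Set.mem_iUnion]
    rintro ⟨Z, hZ⟩
    by_cases h : y ∈ (Z : Set ↥Y)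
    · simp [g, h] at hZ
    · simp only [g, h, if_false] at hZ
      try exact h hZ
  have hsub : (⋃ Z, g Z)ᶜ ⊆ closure ({ζ₀} : Set Y) := by
    intro p hp
    rw [Set.mem_compl_iff, Set.mem_iUnion, not_exists] at hp
    have hmem := irreducibleComponent_mem_irreducibleComponents p
    have hpZ : p ∈ irreducibleComponent p := mem_irreducibleComponent
    have hyZ : y ∈ irreducibleComponent p := by
      by_contra h
      apply hp ⟨irreducibleComponent p, hmem⟩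
      show p ∈ (if y ∈ irreducibleComponent p then ∅ else irreducibleComponent p)
      rw [if_neg h]
      try exact hpZ
    have hirr : IsIrreducible (irreducibleComponent p) := isIrreducible_irreducibleComponent
    have hcl : IsClosed (irreducibleComponent p) := isClosed_irreducibleComponent
    have hgen := hirr.isGenericPoint_genericPoint hcl
    have hζy : hirr.genericPoint ⤳ y := hgen.specializes hyZ
    have h1 : ζ₀ ⤳ hirr.genericPoint := hζ₀ _ hζy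
    have h2 : irreducibleComponent p ⊆ closure {ζ₀} := by
      rw [← hgen.def]
      exact closure_minimal
        (Set.singleton_subset_iff.mpr (specializes_iff_mem_closure.mp h1)) isClosed_closure
    exact h2 hpZ
  exact ⟨⟨(⋃ Z, g Z)ᶜ, hC.isOpen_compl⟩, hyC, ⟨y, hyC⟩,
    (isIrreducible_singleton.closure).isPreirreducible.open_subset hC.isOpen_compl hsub⟩

/-- Lemma E2: with a dense open `U`, the generic point of the irreducible neighbourhood is in `U`. -/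
theorem exists_generic_in_dense (Y : Scheme.{u})
    (hcomp : LocallyFinite (fun Z : ↥(irreducibleComponents ↥Y) => (Z : Set ↥Y)))
    (y : Y) (hy : (nilradical (Y.presheaf.stalk y)).IsPrime)
    (U : Y.Opens) (hU : Dense (U : Set ↥Y)) :
    ∃ (Y₁ : Y.Opens) (η' : ↥U), y ∈ Y₁ ∧ IsIrreducible (Y₁ : Set Y) ∧ η'.1 ∈ Y₁ ∧
      ∀ p ∈ Y₁, (η'.1 : Y) ⤳ p := by
  obtain ⟨Y₁, hyY₁, hirr⟩ := exists_irreducible_open_nhd Y hcomp y hy
  have hgen := hirr.isGenericPoint_genericPoint_closure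
  have hη₁ : hirr.genericPoint ∈ (Y₁ : Set Y) :=
    (hgen.mem_open_set_iff Y₁.2).mpr ⟨y, subset_closure hyY₁, hyY₁⟩
  have hηU : hirr.genericPoint ∈ (U : Set Y) := by
    obtain ⟨p, hp₁, hpU⟩ := hU.inter_open_nonempty Y₁ Y₁.2 ⟨y, hyY₁⟩
    exact (hgen.mem_open_set_iff U.2).mpr ⟨p, subset_closure hp₁, hpU⟩
  exact ⟨Y₁, ⟨hirr.genericPoint, hηU⟩, hyY₁, hirr, hη₁,
    fun p hp => hgen.specializes (subset_closure hp)⟩

/-- Lemma A. -/
theorem exists_open_specializes {Z Y : Scheme.{u}} (g : Z ⟶ Y) [Etale g] [IsIntegral Y]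
    (z₀ ζ₀ : Z) (hζ₀ : g ζ₀ = genericPoint Y) (hsp : ζ₀ ⤳ z₀)
    (hY : CAlg2.IsGeomUnibranch (Y.presheaf.stalk (g z₀))) :
    ∃ Z₂ : Z.Opens, z₀ ∈ Z₂ ∧ ∀ z ∈ Z₂, ζ₀ ⤳ z := by
  haveI : LocallyQuasiFinite g := Groth.Agent.Helper1.GU.locallyQuasiFinite_of_unramified g
  have hprime := Groth.Agent.Helper1.GU.isPrime_nilradical_stalk_of_etale g z₀ hY
  obtain ⟨W, hWo, hzW, hfin⟩ :=
    Groth.Agent.Helper1.GU.exists_open_finite_fiber g (genericPoint Y) z₀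
  let B : Set Z := ⋃ ζ ∈ ((g ⁻¹' {genericPoint Y}) ∩ W) \ {ζ₀}, closure ({ζ} : Set Z)
  have hBc : IsClosed B :=
    (hfin.subset Set.diff_subset).isClosed_biUnion (fun _ _ => isClosed_closure)
  have hz₀B : z₀ ∉ B := by
    intro h
    rw [Set.mem_iUnion₂] at h
    obtain ⟨ζ, hζ, hz⟩ := h
    have h1 : ζ ⤳ z₀ := specializes_iff_mem_closure.mpr hz
    have := Groth.Agent.Helper1.GU.eq_of_specializes_of_fiber g z₀ hprime ζ ζ₀ h1 hsp hζ.1.1 hζ₀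
    exact hζ.2 this
  refine ⟨⟨W ∩ Bᶜ, hWo.inter hBc.isOpen_compl⟩, ⟨hzW, hz₀B⟩, ?_⟩
  rintro z ⟨hzW', hzB⟩
  obtain ⟨ζ, hζz, hζ⟩ := Flat.generalizingMap g (genericPoint_specializes (g z))
  have hζW : ζ ∈ W := hζz.mem_open hWo hzW'
  by_cases h : ζ = ζ₀
  · exact h ▸ hζz
  · exfalso
    apply hzB
    rw [Set.mem_iUnion₂]
    exact ⟨ζ, ⟨⟨hζ, hζW⟩, h⟩, specializes_iff_mem_closure.mp hζz⟩

/-- Lemma F' (integral base). -/
theorem exists_etale_nhd_specializes {X Y : Scheme.{u}} (f : X ⟶ Y) [IsIntegral Y]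
    [LocallyOfFiniteType f] [FormallyUnramified f] (x ξ : X)
    (hY : CAlg2.IsGeomUnibranch (Y.presheaf.stalk (f x))) (hξx : ξ ⤳ x)
    (hξ : f ξ = genericPoint Y) :
    ∃ Z₂ : X.Opens, x ∈ Z₂ ∧ Etale (Z₂.ι ≫ f) ∧ ∀ q ∈ Z₂, ξ ⤳ q := by
  have hunr : FormallyUnramified ((⊤ : X.Opens).ι ≫ f) :=
    MorphismProperty.comp_mem _ _ _ inferInstance inferInstance
  obtain ⟨W, hxW, hW⟩ := Groth.Agent.Helper1.GU.exists_etale_nhd_of_unrAt f x hY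
    ⟨ξ, hξx, hξ⟩ ⟨⊤, trivial, hunr⟩
  haveI := hW
  have hξW : ξ ∈ W := hξx.mem_open W.2 hxW
  have e1 : (W.ι ≫ f) (⟨x, hxW⟩ : ↥W) = f x := by
    rw [Scheme.Hom.comp_apply]; rfl
  have e2 : (W.ι ≫ f) (⟨ξ, hξW⟩ : ↥W) = genericPoint Y := by
    rw [Scheme.Hom.comp_apply]; exact hξ
  have hsp' : (⟨ξ, hξW⟩ : ↥W) ⤳ (⟨x, hxW⟩ : ↥W) :=
    (W.ι.isOpenEmbedding.isInducing.specializes_iff).mp hξx
  obtain ⟨Z', hz₀, hZ'⟩ := exists_open_specializes (W.ι ≫ f) (⟨x, hxW⟩ : ↥W) (⟨ξ, hξW⟩ : ↥W)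
    e2 hsp' (geomUnibranch_congr e1.symm hY)
  refine ⟨W.ι ''ᵁ Z', ⟨⟨x, hxW⟩, hz₀, rfl⟩, ?_, ?_⟩
  · have hle : W.ι ''ᵁ Z' ≤ W := W.ι_image_le Z'
    have h1 : (W.ι ''ᵁ Z').ι ≫ f = X.homOfLE hle ≫ (W.ι ≫ f) := by
      rw [← Category.assoc, Scheme.homOfLE_ι]
    rw [h1]
    infer_instance
  · rintro q ⟨q', hq', rfl⟩
    exact (W.ι.isOpenEmbedding.isInducing.specializes_iff).mpr (hZ' q' hq')

/-- Lemma F'' : the same over an integral open `Y₁` of `Y`. -/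
theorem exists_etale_nhd_specializes' {X Y : Scheme.{u}} (f : X ⟶ Y) (Y₁ : Y.Opens)
    [IsIntegral (Y₁ : Scheme.{u})]
    [LocallyOfFiniteType f] [FormallyUnramified f] (x ξ : X) (hx : f x ∈ Y₁)
    (hY : CAlg2.IsGeomUnibranch (Y.presheaf.stalk (f x))) (hξx : ξ ⤳ x)
    (hξ₁ : f ξ ∈ Y₁) (hξ : ∀ p ∈ Y₁, f ξ ⤳ p) :
    ∃ Z₂ : X.Opens, x ∈ Z₂ ∧ Etale (Z₂.ι ≫ f) ∧ ∀ q ∈ Z₂, ξ ⤳ q := by
  haveI : FormallyUnramified (f ∣_ Y₁) :=
    IsZariskiLocalAtTarget.restrict (P := @FormallyUnramified) ‹FormallyUnramified f› Y₁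
  haveI : LocallyOfFiniteType (f ∣_ Y₁) :=
    IsZariskiLocalAtTarget.restrict (P := @LocallyOfFiniteType) ‹LocallyOfFiniteType f› Y₁
  have hx₁ : x ∈ f ⁻¹ᵁ Y₁ := hx
  have hξX₁ : ξ ∈ f ⁻¹ᵁ Y₁ := hξ₁
  have hξ₁x₁ : (⟨ξ, hξX₁⟩ : ↥(f ⁻¹ᵁ Y₁)) ⤳ (⟨x, hx₁⟩ : ↥(f ⁻¹ᵁ Y₁)) :=
    ((f ⁻¹ᵁ Y₁).ι.isOpenEmbedding.isInducing.specializes_iff).mp hξx
  have hfξ₁ : ((f ∣_ Y₁) (⟨ξ, hξX₁⟩ : ↥(f ⁻¹ᵁ Y₁))).1 = f ξ :=
    morphismRestrict_base_coe f Y₁ ⟨ξ, hξX₁⟩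
  have hfx₁ : ((f ∣_ Y₁) (⟨x, hx₁⟩ : ↥(f ⁻¹ᵁ Y₁))).1 = f x :=
    morphismRestrict_base_coe f Y₁ ⟨x, hx₁⟩
  have hgen : (f ∣_ Y₁) (⟨ξ, hξX₁⟩ : ↥(f ⁻¹ᵁ Y₁)) = genericPoint ↥(Y₁ : Scheme.{u}) := by
    have hg : IsGenericPoint ((f ∣_ Y₁) (⟨ξ, hξX₁⟩ : ↥(f ⁻¹ᵁ Y₁)))
        (Set.univ : Set ↥(Y₁ : Scheme.{u})) := by
      rw [isGenericPoint_iff_specializes]
      intro p
      refine ⟨fun _ => Set.mem_univ _, fun _ => ?_⟩
      refine (Y₁.ι.isOpenEmbedding.isInducing.specializes_iff).mp ?_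
      have h3 : f ξ ⤳ p.1 := hξ p.1 p.2
      rw [← hfξ₁] at h3
      exact h3
    exact hg.eq (genericPoint_spec _)
  have hY₁ : CAlg2.IsGeomUnibranch
      ((Y₁ : Scheme.{u}).presheaf.stalk ((f ∣_ Y₁) (⟨x, hx₁⟩ : ↥(f ⁻¹ᵁ Y₁)))) := by
    have h4 := geomUnibranch_congr hfx₁.symm hY
    exact Groth.Agent.Helper1.GU.isGeomUnibranch_of_ringEquiv
      (Y₁.stalkIso _).commRingCatIsoToRingEquiv.symm h4
  obtain ⟨Z', hx₁Z', hZ'et, hZ'⟩ := exists_etale_nhd_specializes (f ∣_ Y₁)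
    (⟨x, hx₁⟩ : ↥(f ⁻¹ᵁ Y₁)) (⟨ξ, hξX₁⟩ : ↥(f ⁻¹ᵁ Y₁)) hY₁ hξ₁x₁ hgen
  haveI := hZ'et
  refine ⟨(f ⁻¹ᵁ Y₁).ι ''ᵁ Z', ⟨⟨x, hx₁⟩, hx₁Z', rfl⟩, ?_, ?_⟩
  · have h0 : ((f ⁻¹ᵁ Y₁).ι ''ᵁ Z').ι =
        ((f ⁻¹ᵁ Y₁).ι.isoImage Z').inv ≫ Z'.ι ≫ (f ⁻¹ᵁ Y₁).ι :=
      (Scheme.Hom.isoImage_inv_ι (f ⁻¹ᵁ Y₁).ι Z').symm
    have h1 : ((f ⁻¹ᵁ Y₁).ι ''ᵁ Z').ι ≫ f =
        ((f ⁻¹ᵁ Y₁).ι.isoImage Z').inv ≫ (Z'.ι ≫ (f ∣_ Y₁)) ≫ Y₁.ι := by
      rw [h0]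
      simp only [Category.assoc]
      rw [morphismRestrict_ι]
    rw [h1]
    infer_instance
  · rintro q ⟨q', hq', rfl⟩
    exact ((f ⁻¹ᵁ Y₁).ι.isOpenEmbedding.isInducing.specializes_iff).mpr (hZ' q' hq')

/-- Lemma F. -/
theorem exists_etale_nhd {X Y : Scheme.{u}} [IsReduced Y]
    (hcomp : LocallyFinite (fun Z : ↥(irreducibleComponents ↥Y) => (Z : Set ↥Y)))
    (f : X ⟶ Y) [LocallyOfFiniteType f] [FormallyUnramified f]
    (U : Y.Opens) (hU : Dense (U : Set ↥Y)) (u : (U : Scheme.{u}) ⟶ X) (hu : u ≫ f = U.ι)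
    (x : X) (hy : CAlg2.IsGeomUnibranch (Y.presheaf.stalk (f x)))
    (hx : x ∈ closure (Set.range u)) :
    ∃ (Z₂ : X.Opens) (η' : ↥U), x ∈ Z₂ ∧ Etale (Z₂.ι ≫ f) ∧ ∀ q ∈ Z₂, u η' ⤳ q := by
  have hprime : (nilradical (Y.presheaf.stalk (f x))).IsPrime :=
    (Ideal.Quotient.isDomain_iff_prime _).mp hy.1.1
  obtain ⟨Y₁, η', hyY₁, hirr, hη'Y₁, hη'⟩ := exists_generic_in_dense Y hcomp (f x) hprime U hU
  haveI : IrreducibleSpace ↥(Y₁ : Scheme.{u}) := Subtype.irreducibleSpace hirr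
  haveI : IsIntegral (Y₁ : Scheme.{u}) := isIntegral_of_irreducibleSpace_of_isReduced _
  have hfξ : f (u η') = η'.1 := apply_section f U u hu η'
  have hξx : u η' ⤳ x := by
    have h1 : ((f ⁻¹ᵁ Y₁ : X.Opens) : Set X) ∩ Set.range u ⊆ closure {u η'} := by
      rintro _ ⟨hq, p, rfl⟩
      have hp : p.1 ∈ Y₁ := by
        rw [← apply_section f U u hu p]; exact hq
      have h2 : η' ⤳ p := (U.ι.isOpenEmbedding.isInducing.specializes_iff).mp (hη' p.1 hp)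
      exact specializes_iff_mem_closure.mp (h2.map u.continuous)
    have h3 : x ∈ closure (((f ⁻¹ᵁ Y₁ : X.Opens) : Set X) ∩ Set.range u) :=
      (f ⁻¹ᵁ Y₁).2.inter_closure ⟨hyY₁, hx⟩
    exact specializes_iff_mem_closure.mpr (closure_minimal h1 isClosed_closure h3)
  obtain ⟨Z₂, hxZ₂, het, hZ₂⟩ := exists_etale_nhd_specializes' f Y₁ x (u η') hyY₁ hy hξx
    (by rw [hfξ]; exact hη'Y₁) (by rw [hfξ]; exact hη')
  exact ⟨Z₂, η', hxZ₂, het, hZ₂⟩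

/-- Lemma B. -/
theorem mem_range_of_mem_closure {X Y : Scheme.{u}} (f : X ⟶ Y) [IsSeparated f]
    (U : Y.Opens) (u : (U : Scheme.{u}) ⟶ X) (hu : u ≫ f = U.ι) (q : X)
    (hq : q ∈ closure (Set.range u)) (hfq : f q ∈ U) : q ∈ Set.range u := by
  have hr : Set.range u ⊆ Set.range (f ⁻¹ᵁ U).ι := by
    rw [Scheme.Opens.range_ι]
    rintro _ ⟨p, rfl⟩
    show f (u p) ∈ U
    rw [apply_section f U u hu p]; exact p.2
  obtain ⟨u', hu'⟩ : ∃ u' : (U : Scheme.{u}) ⟶ ((f ⁻¹ᵁ U : X.Opens) : Scheme.{u}),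
      u' ≫ (f ⁻¹ᵁ U).ι = u :=
    ⟨IsOpenImmersion.lift (f ⁻¹ᵁ U).ι u hr, IsOpenImmersion.lift_fac _ _ _⟩
  have hsec : u' ≫ (f ∣_ U) = 𝟙 _ := by
    rw [← cancel_mono U.ι, Category.assoc, morphismRestrict_ι, ← Category.assoc, hu', hu,
      Category.id_comp]
  haveI : IsClosedImmersion (u' ≫ (f ∣_ U)) := by rw [hsec]; infer_instance
  haveI : IsClosedImmersion u' := IsClosedImmersion.of_comp u' (f ∣_ U)
  have hcl : IsClosed (Set.range u') := u'.isClosedEmbedding.isClosed_range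
  have h_pt : ∀ t, (f ⁻¹ᵁ U).ι (u' t) = u t := fun t => by
    rw [← Scheme.Hom.comp_apply, hu']
  have h2 : (f ⁻¹ᵁ U).ι '' Set.range u' = Set.range u := by
    ext p
    constructor
    · rintro ⟨_, ⟨t, rfl⟩, rfl⟩
      exact ⟨t, (h_pt t).symm⟩
    · rintro ⟨t, rfl⟩
      exact ⟨u' t, ⟨t, rfl⟩, h_pt t⟩
  have hq' : (⟨q, hfq⟩ : ↥(f ⁻¹ᵁ U)) ∈ closure (Set.range u') := by
    rw [(f ⁻¹ᵁ U).ι.isOpenEmbedding.isInducing.closure_eq_preimage_closure_image]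
    show (f ⁻¹ᵁ U).ι ⟨q, hfq⟩ ∈ closure ((f ⁻¹ᵁ U).ι '' Set.range u')
    rw [h2]
    exact hq
  rw [hcl.closure_eq] at hq'
  obtain ⟨t, ht⟩ := hq'
  exact ⟨t, (h_pt t).symm.trans (congrArg (f ⁻¹ᵁ U).ι ht)⟩

/-- Lemma S. -/
theorem eq_of_range_subset {X Y T : Scheme.{u}} (f : X ⟶ Y) (U : Y.Opens)
    (u : (U : Scheme.{u}) ⟶ X) [IsOpenImmersion u] (hu : u ≫ f = U.ι) (a b : T ⟶ X)
    (hab : a ≫ f = b ≫ f) (ha : Set.range a ⊆ Set.range u) (hb : Set.range b ⊆ Set.range u) :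
    a = b := by
  have h1 : IsOpenImmersion.lift u a ha = IsOpenImmersion.lift u b hb := by
    rw [← cancel_mono U.ι, ← hu, ← Category.assoc, ← Category.assoc, IsOpenImmersion.lift_fac,
      IsOpenImmersion.lift_fac, hab]
  calc a = IsOpenImmersion.lift u a ha ≫ u := (IsOpenImmersion.lift_fac u a ha).symm
    _ = IsOpenImmersion.lift u b hb ≫ u := by rw [h1]
    _ = b := IsOpenImmersion.lift_fac u b hb

/-- Lemma C: the étale neighbourhood maps monomorphically to `Y`. -/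
theorem mono_of_specializes {X Y : Scheme.{u}} [IsReduced Y]
    (f : X ⟶ Y) [IsSeparated f] [LocallyOfFiniteType f] [FormallyUnramified f]
    (U : Y.Opens) (u : (U : Scheme.{u}) ⟶ X) (hu : u ≫ f = U.ι)
    (Z₂ : X.Opens) [Etale (Z₂.ι ≫ f)] (η' : ↥U) (hZ₂ : ∀ q ∈ Z₂, u η' ⤳ q) :
    Mono (Z₂.ι ≫ f) := by
  haveI hUι : IsOpenImmersion (u ≫ f) := by rw [hu]; infer_instance
  haveI : IsOpenImmersion u := isOpenImmersion_of_comp f u
  have hcl : ∀ q ∈ Z₂, q ∈ closure (Set.range u) := fun q hq =>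
    closure_mono (Set.singleton_subset_iff.mpr (Set.mem_range_self η'))
      (specializes_iff_mem_closure.mp (hZ₂ q hq))
  have hmemU : ∀ q ∈ Z₂, f q ∈ U → q ∈ Set.range u := fun q hq h =>
    mem_range_of_mem_closure f U u hu q (hcl q hq) h
  have hgenY : ∀ q ∈ Z₂, (η'.1 : Y) ⤳ f q := fun q hq => by
    have h := (hZ₂ q hq).map f.continuous
    rwa [apply_section f U u hu η'] at h
  -- the kernel pair
  haveI : Smooth (pullback.fst (Z₂.ι ≫ f) (Z₂.ι ≫ f) ≫ Z₂.ι ≫ f) := inferInstance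
  haveI : IsReduced (pullback (Z₂.ι ≫ f) (Z₂.ι ≫ f)) :=
    isReduced_of_smooth (pullback.fst (Z₂.ι ≫ f) (Z₂.ι ≫ f) ≫ Z₂.ι ≫ f)
  have hfs : pullback.fst (Z₂.ι ≫ f) (Z₂.ι ≫ f) = pullback.snd (Z₂.ι ≫ f) (Z₂.ι ≫ f) := by
    rw [← cancel_mono Z₂.ι]
    have hπ : (pullback.fst (Z₂.ι ≫ f) (Z₂.ι ≫ f) ≫ Z₂.ι) ≫ f =
        (pullback.snd (Z₂.ι ≫ f) (Z₂.ι ≫ f) ≫ Z₂.ι) ≫ f := by
      rw [Category.assoc, Category.assoc]; exact pullback.condition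
    -- the dense open
    have hdense : Dense (((pullback.fst (Z₂.ι ≫ f) (Z₂.ι ≫ f) ≫ Z₂.ι ≫ f) ⁻¹ᵁ U :
        (pullback (Z₂.ι ≫ f) (Z₂.ι ≫ f)).Opens) : Set ↥(pullback (Z₂.ι ≫ f) (Z₂.ι ≫ f))) := by
      intro p
      have h1 : (η'.1 : Y) ⤳ (pullback.fst (Z₂.ι ≫ f) (Z₂.ι ≫ f) ≫ Z₂.ι ≫ f) p := by
        have h2 := hgenY (pullback.fst (Z₂.ι ≫ f) (Z₂.ι ≫ f) p).1
          (pullback.fst (Z₂.ι ≫ f) (Z₂.ι ≫ f) p).2
        rw [Scheme.Hom.comp_apply, Scheme.Hom.comp_apply]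
        exact h2
      obtain ⟨p', hp'p, hp'⟩ :=
        Flat.generalizingMap (pullback.fst (Z₂.ι ≫ f) (Z₂.ι ≫ f) ≫ Z₂.ι ≫ f) h1
      have hp'U : p' ∈ ((pullback.fst (Z₂.ι ≫ f) (Z₂.ι ≫ f) ≫ Z₂.ι ≫ f) ⁻¹ᵁ U :
          (pullback (Z₂.ι ≫ f) (Z₂.ι ≫ f)).Opens) := by
        show (pullback.fst (Z₂.ι ≫ f) (Z₂.ι ≫ f) ≫ Z₂.ι ≫ f) p' ∈ U
        rw [hp']; exact η'.2
      exact closure_mono (Set.singleton_subset_iff.mpr hp'U)
        (specializes_iff_mem_closure.mp hp'p)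
    haveI : IsDominant ((pullback.fst (Z₂.ι ≫ f) (Z₂.ι ≫ f) ≫ Z₂.ι ≫ f) ⁻¹ᵁ U).ι := by
      refine ⟨?_⟩
      rw [DenseRange, Scheme.Opens.range_ι]
      exact hdense
    refine ext_of_isDominant_of_isSeparated f hπ
      ((pullback.fst (Z₂.ι ≫ f) (Z₂.ι ≫ f) ≫ Z₂.ι ≫ f) ⁻¹ᵁ U).ι ?_
    refine eq_of_range_subset f U u hu _ _ ?_ ?_ ?_
    · simp only [Category.assoc]
      rw [pullback.condition]
    · rintro _ ⟨t, rfl⟩
      rw [Scheme.Hom.comp_apply, Scheme.Hom.comp_apply]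
      refine hmemU _ (pullback.fst (Z₂.ι ≫ f) (Z₂.ι ≫ f) t.1).2 ?_
      have h5 : (pullback.fst (Z₂.ι ≫ f) (Z₂.ι ≫ f) ≫ Z₂.ι ≫ f) t.1 ∈ U := t.2
      rw [Scheme.Hom.comp_apply, Scheme.Hom.comp_apply] at h5
      exact h5
    · rintro _ ⟨t, rfl⟩
      rw [Scheme.Hom.comp_apply, Scheme.Hom.comp_apply]
      refine hmemU _ (pullback.snd (Z₂.ι ≫ f) (Z₂.ι ≫ f) t.1).2 ?_
      have h5 : (pullback.fst (Z₂.ι ≫ f) (Z₂.ι ≫ f) ≫ Z₂.ι ≫ f) t.1 ∈ U := t.2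
      have h6 : (pullback.fst (Z₂.ι ≫ f) (Z₂.ι ≫ f) ≫ Z₂.ι ≫ f) t.1 =
          (pullback.snd (Z₂.ι ≫ f) (Z₂.ι ≫ f) ≫ Z₂.ι ≫ f) t.1 :=
        congrArg (fun φ : pullback (Z₂.ι ≫ f) (Z₂.ι ≫ f) ⟶ Y => φ t.1) pullback.condition
      rw [h6, Scheme.Hom.comp_apply, Scheme.Hom.comp_apply] at h5
      exact h5
  refine ⟨fun {T} a b hab => ?_⟩
  calc a = pullback.lift a b hab ≫ pullback.fst (Z₂.ι ≫ f) (Z₂.ι ≫ f) :=
        (pullback.lift_fst _ _ _).symm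
    _ = pullback.lift a b hab ≫ pullback.snd (Z₂.ι ≫ f) (Z₂.ι ≫ f) := by rw [hfs]
    _ = b := pullback.lift_snd _ _ _

/-- Lemma D: extension of the section. -/
theorem exists_extension {X Y : Scheme.{u}} [IsReduced Y]
    (f : X ⟶ Y) [IsSeparated f] [LocallyOfFiniteType f] [FormallyUnramified f]
    (U : Y.Opens) (u : (U : Scheme.{u}) ⟶ X) (hu : u ≫ f = U.ι)
    (Z₂ : X.Opens) [Etale (Z₂.ι ≫ f)] (η' : ↥U) (hZ₂ : ∀ q ∈ Z₂, u η' ⤳ q) :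
    ∃ (V : Y.Opens) (v : (V : Scheme.{u}) ⟶ X), (∀ q ∈ Z₂, f q ∈ V) ∧ v ≫ f = V.ι ∧
      Y.homOfLE (inf_le_left : U ⊓ V ≤ U) ≫ u = Y.homOfLE (inf_le_right : U ⊓ V ≤ V) ≫ v := by
  haveI hUι : IsOpenImmersion (u ≫ f) := by rw [hu]; infer_instance
  haveI : IsOpenImmersion u := isOpenImmersion_of_comp f u
  have hcl : ∀ q ∈ Z₂, q ∈ closure (Set.range u) := fun q hq =>
    closure_mono (Set.singleton_subset_iff.mpr (Set.mem_range_self η'))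
      (specializes_iff_mem_closure.mp (hZ₂ q hq))
  have hmemU : ∀ q ∈ Z₂, f q ∈ U → q ∈ Set.range u := fun q hq h =>
    mem_range_of_mem_closure f U u hu q (hcl q hq) h
  haveI : Mono (Z₂.ι ≫ f) := mono_of_specializes f U u hu Z₂ η' hZ₂
  haveI : IsOpenImmersion (Z₂.ι ≫ f) := IsOpenImmersion.of_flat_of_mono (Z₂.ι ≫ f)
  refine ⟨(Z₂.ι ≫ f).opensRange, (Z₂.ι ≫ f).isoOpensRange.inv ≫ Z₂.ι, ?_, ?_, ?_⟩
  · intro q hq
    exact ⟨⟨q, hq⟩, by rw [Scheme.Hom.comp_apply]; rfl⟩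
  · rw [Category.assoc, Scheme.Hom.isoOpensRange_inv_comp]
  · -- agreement on `U ⊓ V`
    have hra : Set.range (Y.homOfLE (inf_le_left : U ⊓ (Z₂.ι ≫ f).opensRange ≤ U) ≫ u) ⊆
        Set.range Z₂.ι := by
      rw [Scheme.Opens.range_ι]
      rintro _ ⟨p, rfl⟩
      rw [Scheme.Hom.comp_apply]
      obtain ⟨z, hz⟩ := p.2.2
      rw [Scheme.Hom.comp_apply] at hz
      have hzU : f (Z₂.ι z) ∈ U := by rw [hz]; exact p.2.1
      obtain ⟨t, ht⟩ := hmemU (Z₂.ι z) z.2 hzU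
      have htp : t = Y.homOfLE (inf_le_left : U ⊓ (Z₂.ι ≫ f).opensRange ≤ U) p := by
        apply U.ι.isOpenEmbedding.injective
        show t.1 = (Y.homOfLE (inf_le_left : U ⊓ (Z₂.ι ≫ f).opensRange ≤ U) p).1
        rw [Scheme.homOfLE_apply, ← apply_section f U u hu t, ht, hz]
      rw [← htp, ht]
      exact z.2
    have h1 : IsOpenImmersion.lift Z₂.ι _ hra =
        Y.homOfLE (inf_le_right : U ⊓ (Z₂.ι ≫ f).opensRange ≤ (Z₂.ι ≫ f).opensRange) ≫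
          (Z₂.ι ≫ f).isoOpensRange.inv := by
      rw [← cancel_mono (Z₂.ι ≫ f), ← Category.assoc, IsOpenImmersion.lift_fac, Category.assoc,
        Category.assoc, Scheme.Hom.isoOpensRange_inv_comp, hu, Scheme.homOfLE_ι,
        Scheme.homOfLE_ι]
    calc Y.homOfLE (inf_le_left : U ⊓ (Z₂.ι ≫ f).opensRange ≤ U) ≫ u
        = IsOpenImmersion.lift Z₂.ι _ hra ≫ Z₂.ι := (IsOpenImmersion.lift_fac _ _ _).symm
      _ = _ := by rw [h1, Category.assoc]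

/-- Main theorem (S5994). -/
theorem main {X Y : Scheme.{u}} [IsReduced Y]
    (hcomp : LocallyFinite (fun Z : ↥(irreducibleComponents ↥Y) => (Z : Set ↥Y)))
    (f : X ⟶ Y) [IsSeparated f] [LocallyOfFiniteType f] [FormallyUnramified f]
    (U : Y.Opens) (hU : Dense (U : Set ↥Y)) (u : (U : Scheme.{u}) ⟶ X) (hu : u ≫ f = U.ι)
    (y : Y) (hy : CAlg2.IsGeomUnibranch (Y.presheaf.stalk y))
    (hZ : (closure (Set.range u) ∩ f ⁻¹' {y}).Nonempty) :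
    ∃ (V : Y.Opens) (v : (V : Scheme.{u}) ⟶ X), y ∈ V ∧ v ≫ f = V.ι ∧
      Y.homOfLE (inf_le_left : U ⊓ V ≤ U) ≫ u = Y.homOfLE (inf_le_right : U ⊓ V ≤ V) ≫ v := by
  obtain ⟨x, hxcl, hxy⟩ := hZ
  have hxy' : f x = y := hxy
  subst hxy'
  obtain ⟨Z₂, η', hxZ₂, het, hZ₂⟩ := exists_etale_nhd hcomp f U hU u hu x hy hxcl
  haveI := het
  obtain ⟨V, v, hV, hv, hag⟩ := exists_extension f U u hu Z₂ η' hZ₂
  exact ⟨V, v, hV x hxZ₂, hv, hag⟩

/-- S5996. -/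
theorem main_closed {X Y : Scheme.{u}} [IsReduced Y]
    (hcomp : LocallyFinite (fun Z : ↥(irreducibleComponents ↥Y) => (Z : Set ↥Y)))
    (f : X ⟶ Y) [IsSeparated f] [LocallyOfFiniteType f] [FormallyUnramified f]
    (U : Y.Opens) (hU : Dense (U : Set ↥Y)) (u : (U : Scheme.{u}) ⟶ X) (hu : u ≫ f = U.ι)
    (hcl : ∀ T : Set ↥X, IsClosed T → IsIrreducible T → IsClosed (f '' T))
    (y : Y) (hy : CAlg2.IsGeomUnibranch (Y.presheaf.stalk y)) :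
    ∃ (V : Y.Opens) (v : (V : Scheme.{u}) ⟶ X), y ∈ V ∧ v ≫ f = V.ι ∧
      Y.homOfLE (inf_le_left : U ⊓ V ≤ U) ≫ u = Y.homOfLE (inf_le_right : U ⊓ V ≤ V) ≫ v := by
  have hprime : (nilradical (Y.presheaf.stalk y)).IsPrime :=
    (Ideal.Quotient.isDomain_iff_prime _).mp hy.1.1
  obtain ⟨Y₁, η', hyY₁, hirr, hη'Y₁, hη'⟩ := exists_generic_in_dense Y hcomp y hprime U hU
  have hT : IsClosed (f '' closure ({u η'} : Set X)) :=
    hcl _ isClosed_closure isIrreducible_singleton.closure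
  have hy' : y ∈ f '' closure ({u η'} : Set X) := by
    have h1 : f (u η') ∈ f '' closure ({u η'} : Set X) := ⟨_, subset_closure rfl, rfl⟩
    have h2 : closure {f (u η')} ⊆ f '' closure ({u η'} : Set X) :=
      closure_minimal (Set.singleton_subset_iff.mpr h1) hT
    apply h2
    rw [apply_section f U u hu η']
    exact specializes_iff_mem_closure.mp (hη' y hyY₁)
  obtain ⟨t, ht, hty⟩ := hy'
  exact main hcomp f U hU u hu y hy
    ⟨t, closure_mono (Set.singleton_subset_iff.mpr (Set.mem_range_self η')) ht, hty⟩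

/-- S5995. -/
theorem main_clopen {X Y : Scheme.{u}} [IsReduced Y]
    (hcomp : LocallyFinite (fun Z : ↥(irreducibleComponents ↥Y) => (Z : Set ↥Y)))
    (f : X ⟶ Y) [IsSeparated f] [LocallyOfFiniteType f] [FormallyUnramified f]
    (U : Y.Opens) (hU : Dense (U : Set ↥Y)) (u : (U : Scheme.{u}) ⟶ X) (hu : u ≫ f = U.ι)
    (hY : ∀ y : Y, CAlg2.IsGeomUnibranch (Y.presheaf.stalk y))
    (hmax : ∀ (V : Y.Opens) (v : (V : Scheme.{u}) ⟶ X), v ≫ f = V.ι →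
      Y.homOfLE (inf_le_left : U ⊓ V ≤ U) ≫ u = Y.homOfLE (inf_le_right : U ⊓ V ≤ V) ≫ v → V ≤ U) :
    IsOpen (Set.range u) ∧ IsClosed (Set.range u) := by
  haveI hUι : IsOpenImmersion (u ≫ f) := by rw [hu]; infer_instance
  haveI : IsOpenImmersion u := isOpenImmersion_of_comp f u
  refine ⟨u.isOpenEmbedding.isOpen_range, ?_⟩
  rw [← closure_subset_iff_isClosed]
  intro x hx
  obtain ⟨V, v, hyV, hv, hag⟩ := main hcomp f U hU u hu (f x) (hY (f x)) ⟨x, hx, rfl⟩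
  have hVU := hmax V v hv hag
  exact mem_range_of_mem_closure f U u hu x hx (hVU hyV)

end Groth.Agent.Helper9.RatSec
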