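import Mathlib
import Groth.Prelude.Def_DerSch
import Groth.Agent.Lib.Helper5.SkyMod2
import Groth.Agent.Lib.Helper5.StalkCx2
import Groth.Agent.Lib.Helper13.EpiGen

/-!
# The pullback of modules along a flat surjective morphism is faithful (helper9)
-/

set_option autoImplicit false
set_option linter.style.haveILetI false
universe u

open CategoryTheory CategoryTheory.Limits AlgebraicGeometry TopologicalSpace Opposite TensorProduct

namespace Groth.Agent.Helper9.PullFaith

section Ring

variable {R S : Type u} [CommRing R] [CommRing S] (f : R →+* S)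

set_option backward.isDefEq.respectTransparency false in
/-- extension of scalars along a flat local homomorphism of local rings is faithful. -/
theorem extendScalars_map_injective (hf : f.Flat) [IsLocalRing R] [IsLocalRing S] [IsLocalHom f]
    {M N : ModuleCat.{u} R} (g₁ g₂ : M ⟶ N)
    (hg : (ModuleCat.extendScalars f).map g₁ = (ModuleCat.extendScalars f).map g₂) : g₁ = g₂ := by
  let S' : ModuleCat.{u} R := (ModuleCat.restrictScalars f).obj (ModuleCat.of S S)
  haveI : Module.FaithfullyFlat R S' := by
    letI : Algebra R S := f.toAlgebra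
    haveI h0 : Module.Flat R S := hf
    haveI : IsLocalHom (algebraMap R S) := ‹IsLocalHom f›
    haveI h1 : Module.FaithfullyFlat R S := Module.FaithfullyFlat.of_flat_of_isLocalHom
    let e : S' ≃ₗ[R] S :=
      { toFun := fun s => s
        invFun := fun s => s
        map_add' := fun _ _ => rfl
        map_smul' := fun _ _ => rfl
        left_inv := fun _ => rfl
        right_inv := fun _ => rfl }
    exact Module.FaithfullyFlat.of_linearEquiv R S e
  have key1 : ∀ (g : M ⟶ N) (w : S' ⊗[R] M),
      ((ModuleCat.extendScalars f).map g).hom w = (g.hom.lTensor S') w := by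
    intro g w
    induction w using TensorProduct.induction_on with
    | zero => rw [map_zero, map_zero]
    | tmul s m => rfl
    | add a b ha hb => rw [map_add, map_add, ha, hb]
  have h2 : (g₁.hom - g₂.hom).lTensor S' = 0 := by
    rw [LinearMap.lTensor_sub]
    apply LinearMap.ext
    intro w
    rw [LinearMap.sub_apply, ← key1, ← key1, hg, sub_self]
    rfl
  have h3 : g₁.hom - g₂.hom = 0 := (Module.FaithfullyFlat.zero_iff_lTensor_zero R S' _).mpr h2
  ext m
  have := congrArg (fun l : M →ₗ[R] N => l m) h3
  simpa [sub_eq_zero] using this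

end Ring

section Scheme

open Groth.Agent.Helper13.FinType Groth.Agent.Helper13.QCoh

variable {X Y : Scheme.{u}}

theorem stalk_map_eq_of_pullback_map_eq (f : X ⟶ Y) [Flat f] {M N : Y.Modules} (φ ψ : M ⟶ N)
    (h : (Scheme.Modules.pullback f).map φ = (Scheme.Modules.pullback f).map ψ) (x : X) :
    (DerSch.stalkFunctor Y (f.base x)).map φ = (DerSch.stalkFunctor Y (f.base x)).map ψ := by
  let e := Groth.Agent.Helper5.Sky.pullbackStalkIso f x
  have n1 := e.hom.naturality φ
  have n2 := e.hom.naturality ψ
  have h1 : (Scheme.Modules.pullback f ⋙ DerSch.stalkFunctor X x).map φ =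
      (Scheme.Modules.pullback f ⋙ DerSch.stalkFunctor X x).map ψ := by
    simp only [Functor.comp_map, h]
  rw [h1, n2] at n1
  have h2 : (DerSch.stalkFunctor Y (f.base x) ⋙
      ModuleCat.extendScalars (Groth.Agent.Helper5.Sky.φst f x)).map ψ =
      (DerSch.stalkFunctor Y (f.base x) ⋙
      ModuleCat.extendScalars (Groth.Agent.Helper5.Sky.φst f x)).map φ :=
    (cancel_epi (e.hom.app M)).mp n1
  exact (extendScalars_map_injective (Groth.Agent.Helper5.Sky.φst f x) (Flat.stalkMap f x) _ _
    h2.symm)

theorem faithful_pullback (f : X ⟶ Y) [Flat f] [Surjective f] :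
    (Scheme.Modules.pullback f).Faithful := by
  refine ⟨fun {M N} φ ψ h => ?_⟩
  apply hom_ext_stalk
  intro y m
  obtain ⟨x, rfl⟩ := f.surjective y
  have := stalk_map_eq_of_pullback_map_eq f φ ψ h x
  exact congr($this m)

end Scheme

end Groth.Agent.Helper9.PullFaith
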