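import Mathlib
import Groth.Agent.S2144
import Groth.Agent.Lib.Helper9.PullFaith
import Groth.Agent.Lib.Helper13.FinType
import Groth.Agent.Lib.Helper13.StalkBasis2
import Groth.Agent.Lib.Helper13.PbGen
import Groth.Agent.Lib.Helper5.PBT1

/-! Merged file (helper9, 2026-11-30): part A = original FTDesc (finite type descends on the source
along fppf surjections), part B = later additions (finite type of modules descends along flat
surjections).  Both parts live in namespace `Groth.Agent.Helper9.FTDesc`. -/

section FTDescPartA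

/-!
# Finite type descends on the source along fppf surjections (helper9)
-/

set_option autoImplicit false
universe u
open CategoryTheory CategoryTheory.Limits AlgebraicGeometry MorphismProperty TensorProduct

namespace Groth.Agent.Helper9.FTDesc

section A2

variable {R A₀ A B₀ : Type u} [CommRing R] [CommRing A₀] [CommRing A] [CommRing B₀]
  [Algebra R A₀] [Algebra A₀ A] [Algebra R A] [IsScalarTower R A₀ A] [Algebra A₀ B₀]

theorem finiteType_of_tensor [Module.FaithfullyFlat A₀ B₀] [Algebra.FiniteType R A₀]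
    (hft : Algebra.FiniteType R (A ⊗[A₀] B₀)) :
    Algebra.FiniteType R A := by
  classical
  obtain ⟨s, hs⟩ := hft.out
  choose Sx hSx using fun x : A ⊗[A₀] B₀ => TensorProduct.exists_finset x
  let F : Finset A := s.biUnion (fun x => (Sx x).image Prod.fst)
  let A' : Subalgebra A₀ A := Algebra.adjoin A₀ (F : Set A)
  have hFA' : ∀ a ∈ F, a ∈ A' := fun a ha => Algebra.subset_adjoin ha
  have hA'ft : Algebra.FiniteType A₀ A' := (Subalgebra.fg_iff_finiteType A').1 ⟨F, rfl⟩
  have hA'R : Algebra.FiniteType R A' := Algebra.FiniteType.trans (inferInstance) hA'ft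
  -- the comparison map
  let ψ : A' ⊗[A₀] B₀ →ₐ[A₀] A ⊗[A₀] B₀ := Algebra.TensorProduct.map A'.val (AlgHom.id A₀ B₀)
  have hψ : Function.Surjective ψ := by
    have hle : Algebra.adjoin R (s : Set (A ⊗[A₀] B₀)) ≤ ψ.range.restrictScalars R := by
      refine Algebra.adjoin_le ?_
      intro x hx
      rw [hSx x]
      refine Subalgebra.sum_mem _ ?_
      intro i hi
      have hi1 : i.1 ∈ A' := hFA' _ (Finset.mem_biUnion.2
        ⟨x, hx, Finset.mem_image_of_mem _ hi⟩)
      exact ⟨(⟨i.1, hi1⟩ : A') ⊗ₜ i.2, by simp [ψ]⟩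
    rw [hs] at hle
    intro y
    obtain ⟨x, hx⟩ := hle (Algebra.mem_top (x := y))
    exact ⟨x, hx⟩
  have h1 : Function.Surjective (A'.val.toLinearMap.rTensor B₀) := by
    intro y
    obtain ⟨x, hx⟩ := hψ y
    exact ⟨x, hx⟩
  have h2 : Function.Surjective (A'.val.toLinearMap.lTensor B₀) := by
    rw [← LinearMap.comm_comp_rTensor_comp_comm_eq]
    exact (TensorProduct.comm A₀ A B₀).surjective.comp
      (h1.comp (TensorProduct.comm A₀ B₀ A').surjective)
  have hsurj : Function.Surjective A'.val.toLinearMap :=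
    (Module.FaithfullyFlat.lTensor_surjective_iff_surjective A₀ B₀ _).1 h2
  exact Algebra.FiniteType.of_surjective (IsScalarTower.toAlgHom R A' A)
    (fun a => by obtain ⟨x, hx⟩ := hsurj a; exact ⟨x, hx⟩)

end A2

/-- **Finite type descends on the source along faithfully flat finitely presented ring maps.** -/
theorem finiteType_of_ff {R A B : Type u} [CommRing R] [CommRing A] [CommRing B]
    [Algebra R A] [Algebra A B] [Algebra R B] [IsScalarTower R A B]
    [Algebra.FinitePresentation A B]
    [Module.FaithfullyFlat A B] [Algebra.FiniteType R B] : Algebra.FiniteType R A := by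
  obtain ⟨A₀, B₀, _, _, _, _, _, _, hA₀, hB₀, hff, ⟨φ⟩⟩ :=
    Groth.Agent.S2144.result (R := R) (A := A) (B := B)
  haveI : Algebra.FiniteType R A₀ := inferInstance
  have hft : Algebra.FiniteType R (A ⊗[A₀] B₀) :=
    Algebra.FiniteType.equiv inferInstance (φ.restrictScalars R)
  exact finiteType_of_tensor (A₀ := A₀) (B₀ := B₀) hft

/-- the general reduction: a property given by a local property of ring maps descends on the
source along fppf surjective morphisms as soon as the ring property does along finitely presented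
faithfully flat ring maps. (Adapted from helper16's étale version.) -/
theorem of_comp_fppf_surjective {P : MorphismProperty Scheme.{u}}
    {Q : ∀ {R S : Type u} [CommRing R] [CommRing S], (R →+* S) → Prop}
    [HasRingHomProperty P Q]
    (hQ : ∀ {R A B : Type u} [CommRing R] [CommRing A] [CommRing B] (f : R →+* A) (g : A →+* B),
      g.FinitePresentation → g.FaithfullyFlat → Q (g.comp f) → Q f)
    {U' U V : Scheme.{u}} (e : U' ⟶ U) (h : U ⟶ V) [Flat e] [LocallyOfFinitePresentation e]
    [Surjective e]
    (hP : P (e ≫ h)) : P h := by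
  wlog hV : ∃ R, V = Spec R generalizing U' U V
  · rw [IsZariskiLocalAtTarget.iff_of_openCover (P := P) V.affineCover]
    intro i
    dsimp only [Scheme.Cover.pullbackHom]
    let j := pullback.fst h (V.affineCover.f i)
    refine this (pullback.snd e j) (pullback.snd h (V.affineCover.f i)) ?_ ⟨_, rfl⟩
    have sq : IsPullback (pullback.fst e j ≫ 𝟙 _) (pullback.snd e j ≫ pullback.snd h _)
        (e ≫ h) (V.affineCover.f i) := by
      rw [Category.comp_id]
      exact (IsPullback.of_hasPullback e j).paste_vert (IsPullback.of_hasPullback h _)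
    rw [Category.comp_id] at sq
    exact IsZariskiLocalAtTarget.of_isPullback (P := P) (iY := V.affineCover.f i) sq hP
  obtain ⟨R, rfl⟩ := hV
  wlog hU : ∃ A, U = Spec A generalizing U' U
  · rw [IsZariskiLocalAtSource.iff_of_openCover (P := P) U.affineCover]
    intro i
    refine this (pullback.snd e (U.affineCover.f i)) (U.affineCover.f i ≫ h) ?_ ⟨_, rfl⟩
    rw [← Category.assoc, ← pullback.condition, Category.assoc]
    exact IsZariskiLocalAtSource.comp (P := P) hP _
  obtain ⟨A, rfl⟩ := hU
  -- a finite affine refinement of `U'`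
  let 𝒰 := U'.affineCover
  have hopen : ∀ x : U', IsOpen (Set.range (𝒰.f x ≫ e)) := fun x =>
    (𝒰.f x ≫ e).isOpenMap.isOpen_range
  have hcover : (Set.univ : Set (Spec A)) ⊆ ⋃ x : U', Set.range (𝒰.f x ≫ e) := by
    intro v _
    obtain ⟨v', rfl⟩ := e.surjective v
    obtain ⟨y, hy⟩ := 𝒰.covers v'
    exact Set.mem_iUnion.2 ⟨_, ⟨y, by rw [Scheme.Hom.comp_apply, hy]⟩⟩
  obtain ⟨t, ht⟩ := isCompact_univ.elim_finite_subcover _ hopen hcover
  let g : t → Scheme.{u} := fun x => 𝒰.X x.1
  let φ : ∐ g ⟶ Spec A := Sigma.desc (fun x : t => 𝒰.f x.1 ≫ e)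
  haveI : ∀ x : t, IsAffine (g x) := fun x => inferInstanceAs (IsAffine (𝒰.X x.1))
  haveI : IsAffine (∐ g) := inferInstance
  haveI : Flat φ := IsZariskiLocalAtSource.sigmaDesc (P := @Flat) (fun x => inferInstance)
  haveI : LocallyOfFinitePresentation φ :=
    IsZariskiLocalAtSource.sigmaDesc (P := @LocallyOfFinitePresentation) (fun x => inferInstance)
  haveI : Surjective φ := by
    apply Surjective.sigmaDesc_of_union_range_eq_univ
    rw [Set.eq_univ_iff_forall]
    intro v
    have hv := ht (Set.mem_univ v)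
    simp only [Set.mem_iUnion] at hv
    obtain ⟨x, hxt, hx⟩ := hv
    exact Set.mem_iUnion.2 ⟨⟨x, hxt⟩, hx⟩
  have hPφ : P (φ ≫ h) := by
    have : φ ≫ h = Sigma.desc (fun x : t => 𝒰.f x.1 ≫ e ≫ h) := by
      apply Sigma.hom_ext
      intro x
      rw [Sigma.ι_desc, ← Category.assoc, Sigma.ι_desc, Category.assoc]
    rw [this]
    exact IsZariskiLocalAtSource.sigmaDesc (P := P)
      (fun x => IsZariskiLocalAtSource.comp (P := P) hP _)
  rw [HasRingHomProperty.iff_of_isAffine (P := P)] at hPφ ⊢
  have hff : φ.appTop.hom.FaithfullyFlat :=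
    (Flat.flat_and_surjective_iff_faithfullyFlat_of_isAffine φ).1 ⟨inferInstance, inferInstance⟩
  have het : φ.appTop.hom.FinitePresentation :=
    (HasRingHomProperty.iff_of_isAffine (P := @LocallyOfFinitePresentation)).1 inferInstance
  refine hQ h.appTop.hom φ.appTop.hom het hff ?_
  have : (φ ≫ h).appTop.hom = φ.appTop.hom.comp h.appTop.hom := by
    rw [Scheme.Hom.comp_appTop]
    rfl
  rwa [← this]

/-- finite type descends on the source along fppf surjective morphisms. -/
theorem locallyOfFiniteType_of_comp_fppf_surjective {U' U V : Scheme.{u}} (e : U' ⟶ U)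
    (h : U ⟶ V) [Flat e] [LocallyOfFinitePresentation e] [Surjective e]
    (hP : LocallyOfFiniteType (e ≫ h)) :
    LocallyOfFiniteType h := by
  refine of_comp_fppf_surjective (P := @LocallyOfFiniteType) (Q := @RingHom.FiniteType) ?_ e h hP
  intro R A B _ _ _ f g hg hgf hc
  algebraize [f, g, g.comp f]
  exact finiteType_of_ff (R := R) (A := A) (B := B)

/-- family version: jointly surjective fppf presieve. -/
theorem of_presieve {P : MorphismProperty Scheme.{u}} [IsZariskiLocalAtSource P]
    (hP : ∀ {U' U V : Scheme.{u}} (e : U' ⟶ U) (h : U ⟶ V) [Flat e]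
      [LocallyOfFinitePresentation e] [Surjective e], P (e ≫ h) → P h)
    {X Y : Scheme.{u}} (f : X ⟶ Y) (R : Presieve X) (hR : R ∈ Scheme.fppfPrecoverage X)
    (h : ∀ ⦃U : Scheme.{u}⦄ ⦃g : U ⟶ X⦄, R g → P (g ≫ f)) : P f := by
  have hsurj := (Presieve.mem_comap_jointlySurjectivePrecoverage_iff (F := Scheme.forget)).1 hR.1
  choose U g hg u hu using hsurj
  let φ : ∐ U ⟶ X := Sigma.desc g
  have hg' : ∀ x, (@Flat ⊓ @LocallyOfFinitePresentation : MorphismProperty Scheme.{u}) (g x) :=
    fun x => hR.2 (hg x)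
  haveI : ∀ x, Flat (g x) := fun x => (hg' x).1
  haveI : ∀ x, LocallyOfFinitePresentation (g x) := fun x => (hg' x).2
  haveI : Flat φ := IsZariskiLocalAtSource.sigmaDesc (P := @Flat) (fun x => inferInstance)
  haveI : LocallyOfFinitePresentation φ :=
    IsZariskiLocalAtSource.sigmaDesc (P := @LocallyOfFinitePresentation) (fun x => inferInstance)
  haveI : Surjective φ := by
    apply Surjective.sigmaDesc_of_union_range_eq_univ
    rw [Set.eq_univ_iff_forall]
    intro v
    exact Set.mem_iUnion.2 ⟨v, u v, hu v⟩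
  refine hP φ f ?_
  have : φ ≫ f = Sigma.desc (fun x => g x ≫ f) := by
    apply Sigma.hom_ext
    intro x
    rw [Sigma.ι_desc, ← Category.assoc, Sigma.ι_desc]
  rw [this]
  exact IsZariskiLocalAtSource.sigmaDesc (P := P) (fun x => h (hg x))

end Groth.Agent.Helper9.FTDesc


end FTDescPartA

section FTDescPartB

/-!
# Finite type descends along flat surjective open morphisms (helper9)

* `span_eq_top_of_extendScalars`: generation descends along flat local homomorphisms.
* `span_germ_eq_top_of_pullback`: if the germs of `f^* s_j` span the stalk of `f^* F` at `x`, the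
  germs of the `s_j` span the stalk of `F` at `f x` (for flat `f`).
* `isFiniteType_of_pullback`.
-/

set_option autoImplicit false
set_option linter.style.haveILetI false
set_option backward.isDefEq.respectTransparency false
universe u

open CategoryTheory CategoryTheory.Limits AlgebraicGeometry TopologicalSpace Opposite TensorProduct

namespace Groth.Agent.Helper9.FTDesc

section Ring

theorem span_image_eq_top {S : Type*} [Ring S] {A B : Type*} [AddCommGroup A] [Module S A]
    [AddCommGroup B] [Module S B] (e : A →ₗ[S] B) (he : Function.Surjective e) {ι : Type*}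
    (g : ι → A) (hg : Submodule.span S (Set.range g) = ⊤) (g' : ι → B)
    (hgg' : ∀ j, e (g j) = g' j) : Submodule.span S (Set.range g') = ⊤ := by
  have h1 : Submodule.map e (Submodule.span S (Set.range g)) = ⊤ := by
    rw [hg, Submodule.map_top, LinearMap.range_eq_top]
    exact he
  rw [Submodule.map_span] at h1
  rw [eq_top_iff, ← h1, Submodule.span_le]
  rintro _ ⟨_, ⟨j, rfl⟩, rfl⟩
  exact Submodule.subset_span ⟨j, (hgg' j).symm⟩

open ChangeOfRings

variable {R S : Type u} [CommRing R] [CommRing S] (φ : R →+* S)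

theorem span_eq_top_of_extendScalars (hφ : φ.Flat) [IsLocalRing R] [IsLocalRing S] [IsLocalHom φ]
    (M : ModuleCat.{u} R) {ι : Type*} (m : ι → M)
    (h : Submodule.span S (M := ↑((ModuleCat.extendScalars φ).obj M))
      (Set.range fun j => ((1 : S) ⊗ₜ[R, φ] (m j))) = ⊤) :
    Submodule.span R (Set.range m) = ⊤ := by
  let N : Submodule R M := Submodule.span R (Set.range m)
  let Q : ModuleCat.{u} R := ModuleCat.of R (M ⧸ N)
  let q : M ⟶ Q := ModuleCat.ofHom N.mkQ
  have h1 : (ModuleCat.extendScalars φ).map q = (ModuleCat.extendScalars φ).map 0 := by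
    have hz : (ModuleCat.extendScalars φ).map (0 : M ⟶ Q) = 0 := Functor.map_zero _ _ _
    rw [hz]
    apply ModuleCat.hom_ext
    apply LinearMap.ext
    intro w
    have htop : (⊤ : Submodule S ((ModuleCat.extendScalars φ).obj M)) ≤
        LinearMap.ker ((ModuleCat.extendScalars φ).map q).hom := by
      rw [← h, Submodule.span_le]
      rintro _ ⟨j, rfl⟩
      rw [SetLike.mem_coe, LinearMap.mem_ker]
      have hq : q (m j) = 0 :=
        (Submodule.Quotient.mk_eq_zero N).2 (Submodule.subset_span ⟨j, rfl⟩)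
      have := ModuleCat.ExtendScalars.map_tmul φ q (1 : S) (m j)
      rw [hq, TensorProduct.tmul_zero] at this
      exact this
    have hw := htop (Submodule.mem_top (x := w))
    rw [LinearMap.mem_ker] at hw
    rw [hw]
    rfl
  have h2 : q = 0 := PullFaith.extendScalars_map_injective φ hφ q 0 h1
  have h3 : N.mkQ = 0 := congrArg ModuleCat.Hom.hom h2
  change N = ⊤
  rw [← Submodule.ker_mkQ N, h3, LinearMap.ker_zero]

end Ring

section Scheme

open Groth.Agent.Helper13.FinType Groth.Agent.Helper13.QCoh Groth.Agent.Helper13.PbGen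
open Groth.Agent.Helper13.StalkBasis Groth.Agent.Helper5.Sky Groth.Agent.Helper5.PBT

variable {X Y : Scheme.{u}}

/-- If the germs at `x` of the pulled back sections `f^* s_j` span the stalk of `f^* F`, then the
germs of the `s_j` at `f x` span the stalk of `F` (for flat `f`). -/
theorem span_germ_eq_top_of_pullback (f : X ⟶ Y) [Flat f] (x : X) (F : Y.Modules) (V : Y.Opens)
    (hx : f.base x ∈ V) {ι : Type*} (s : ι → Γ(F, V))
    (h : Submodule.span (X.presheaf.stalk x) (Set.range fun j =>
      ((Scheme.Modules.pullback f).obj F).presheaf.germ (f ⁻¹ᵁ V) x hx (ηsec f F V (s j))) = ⊤) :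
    Submodule.span (Y.presheaf.stalk (f.base x))
      (Set.range fun j => F.presheaf.germ V (f.base x) hx (s j)) = ⊤ := by
  have hsurj : Function.Surjective ((pullbackStalkIso f x).hom.app F).hom :=
    (ConcreteCategory.bijective_of_isIso ((pullbackStalkIso f x).hom.app F)).2
  refine span_eq_top_of_extendScalars (φst f x) (Flat.stalkMap f x)
    ((DerSch.stalkFunctor Y (f.base x)).obj F) (fun j => F.presheaf.germ V (f.base x) hx (s j)) ?_
  exact span_image_eq_top ((pullbackStalkIso f x).hom.app F).hom hsurj _ h _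
    (fun j => pullbackStalkIso_hom_germ f x F V hx hx (s j))

/-- **Descent of finite type** along a flat surjective morphism whose underlying map is open. -/
theorem isFiniteType_of_pullback (f : X ⟶ Y) [Flat f] [Surjective f]
    (hf : IsOpenMap f.base) (F : Y.Modules)
    (h : SheafOfModules.IsFiniteType (R := X.ringCatSheaf) ((Scheme.Modules.pullback f).obj F)) :
    SheafOfModules.IsFiniteType (R := Y.ringCatSheaf) F := by
  let P : X.Modules := (Scheme.Modules.pullback f).obj F
  haveI hPft : SheafOfModules.IsFiniteType (R := X.ringCatSheaf) P := h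
  apply isFiniteType_of_genOn
  intro y
  obtain ⟨x, rfl⟩ := f.surjective y
  -- the stalk of `P` at `x` is finitely generated
  obtain ⟨U₁, hxU₁, I, hI, σ, hσ⟩ := exists_genOn_of_isFiniteType P x
  haveI := hI
  have hfg := Submodule.fg_span (R := X.presheaf.stalk x)
    (Set.finite_range fun i => P.presheaf.germ U₁ x hxU₁ (σ i))
  rw [hσ x hxU₁] at hfg
  have htop : Submodule.span (X.presheaf.stalk x) (genSet f F x) = ⊤ := genSpan_eq_top f F x
  rw [← htop] at hfg
  obtain ⟨T, hTsub, hTspan⟩ := (Submodule.fg_span_iff_fg_span_finset_subset _).1 hfg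
  have hTtop : Submodule.span (X.presheaf.stalk x) (T : Set (P.presheaf.stalk x)) = ⊤ := by
    rw [← hTspan]
    exact htop
  have hch : ∀ t : T, ∃ (V : Y.Opens) (hz : f.base x ∈ V) (a : Γ(F, V)),
      (t : P.presheaf.stalk x) = P.presheaf.germ (f ⁻¹ᵁ V) x hz (ηsec f F V a) :=
    fun t => hTsub t.2
  choose V hz a ha using hch
  obtain ⟨V₀, hxV₀, hV₀⟩ := exists_common_open (f.base x) V hz
  let e : Fin (Fintype.card T) ≃ T := (Fintype.equivFin T).symm
  let s : Fin (Fintype.card T) → Γ(F, V₀) :=
    fun j => F.presheaf.map (homOfLE (hV₀ (e j))).op (a (e j))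
  have hspan : Submodule.span (X.presheaf.stalk x)
      (Set.range fun j => P.presheaf.germ (f ⁻¹ᵁ V₀) x hxV₀ (ηsec f F V₀ (s j))) = ⊤ := by
    rw [eq_top_iff, ← hTtop, Submodule.span_le]
    intro t ht
    obtain ⟨j, hj⟩ := e.surjective ⟨t, Finset.mem_coe.1 ht⟩
    apply Submodule.subset_span
    refine ⟨j, ?_⟩
    have h1 : ηsec f F V₀ (s j) =
        P.presheaf.map ((Opens.map f.base).map (homOfLE (hV₀ (e j)))).op
          (ηsec f F (V (e j)) (a (e j))) := ηsec_res f F (homOfLE (hV₀ (e j))) (a (e j))
    have h2 : P.presheaf.germ (f ⁻¹ᵁ V₀) x hxV₀ (ηsec f F V₀ (s j)) =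
        P.presheaf.germ (f ⁻¹ᵁ V (e j)) x (hz (e j)) (ηsec f F (V (e j)) (a (e j))) := by
      rw [h1]
      exact TopCat.Presheaf.germ_res_apply P.presheaf _ x _ _
    exact h2.trans ((ha (e j)).symm.trans (congrArg Subtype.val hj))
  obtain ⟨U', hU'le, hxU', hgen⟩ :=
    exists_genOn_nhd P (fun j => ηsec f F V₀ (s j)) x hxV₀ hspan
  let W : Y.Opens := ⟨f.base '' (U' : Set X), hf _ U'.isOpen⟩
  have hWle : W ≤ V₀ := by
    intro y' hy'
    obtain ⟨x', hx', rfl⟩ : y' ∈ f.base '' (U' : Set X) := hy'
    exact hU'le hx'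
  have hxW : f.base x ∈ W := show f.base x ∈ f.base '' (U' : Set X) from ⟨x, hxU', rfl⟩
  refine ⟨W, hxW, ULift.{u} (Fin (Fintype.card T)), inferInstance,
    fun j => F.presheaf.map (homOfLE hWle).op (s j.down), ?_⟩
  intro y' hy'
  obtain ⟨x', hx', rfl⟩ : y' ∈ f.base '' (U' : Set X) := hy'
  have h1 := hgen x' hx'
  have h2 : Submodule.span (X.presheaf.stalk x') (Set.range fun j =>
      P.presheaf.germ (f ⁻¹ᵁ V₀) x' (hU'le hx') (ηsec f F V₀ (s j))) = ⊤ := by
    rw [eq_top_iff, ← h1, Submodule.span_le]
    rintro _ ⟨i, rfl⟩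
    apply Submodule.subset_span
    exact ⟨i, (TopCat.Presheaf.germ_res_apply P.presheaf (homOfLE hU'le) x' hx'
      (ηsec f F V₀ (s i))).symm⟩
  have h3 := span_germ_eq_top_of_pullback f x' F V₀ (hU'le hx') s h2
  rw [eq_top_iff, ← h3, Submodule.span_le]
  rintro _ ⟨j, rfl⟩
  apply Submodule.subset_span
  exact ⟨⟨j⟩, TopCat.Presheaf.germ_res_apply F.presheaf (homOfLE hWle) (f.base x') _ (s j)⟩

end Scheme

end Groth.Agent.Helper9.FTDesc


end FTDescPartB
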