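import Mathlib
import Groth.Prelude.Def_Mor2

/-!
# Finite locally free morphisms are free over small affine opens of the base

`exists_free_nbhd`: for `g : Z ⟶ S` finite, flat and locally of finite presentation and `s : S`
there is an affine open `U ∋ s` such that `Γ(Z ×_S U, ⊤)` is a finite free `Γ(U, ⊤)`-module.
(Requested by helper14 for S7194.)
-/

universe u

open CategoryTheory CategoryTheory.Limits AlgebraicGeometry Opposite

namespace Groth.Agent.Helper9.FreeNbhd

/-- Freeness of the canonical localization transports to any other presentation of the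
localization. -/
lemma free_of_isLocalization {R M : Type*} [CommRing R] [AddCommGroup M] [Module R M]
    (S : Submonoid R) (Rₛ Mₛ : Type*) [CommRing Rₛ] [Algebra R Rₛ] [IsLocalization S Rₛ]
    [AddCommGroup Mₛ] [Module R Mₛ] (f : M →ₗ[R] Mₛ) [IsLocalizedModule S f]
    [Module Rₛ Mₛ] [IsScalarTower R Rₛ Mₛ]
    (h : Module.Free (Localization S) (LocalizedModule S M)) : Module.Free Rₛ Mₛ := by
  letI := RingHomInvPair.of_ringEquiv
    (IsLocalization.algEquiv S (Localization S) Rₛ).toRingEquiv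
  letI := RingHomInvPair.of_ringEquiv
    (IsLocalization.algEquiv S (Localization S) Rₛ).toRingEquiv.symm
  have key : Module.Free (Localization S) (LocalizedModule S M) ↔ Module.Free Rₛ Mₛ := by
    set e := (IsLocalization.algEquiv S (Localization S) Rₛ).toRingEquiv
    apply Module.Free.iff_of_equiv (σ := e)
    refine { __ := IsLocalizedModule.iso S f, map_smul' := ?_ }
    intro r x
    obtain ⟨r, s, rfl⟩ := IsLocalization.exists_mk'_eq S r
    apply ((Module.End.isUnit_iff _).mp (IsLocalizedModule.map_units f s)).1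
    simp [e, ← map_smul, ← smul_assoc]
  exact key.mp h

/-- A finite flat finitely presented algebra is free after inverting one element outside a given
prime. -/
lemma exists_away_free {A B : Type u} [CommRing A] [CommRing B] [Algebra A B]
    [Module.Finite A B] [Module.Flat A B] [Algebra.FinitePresentation A B]
    (p : PrimeSpectrum A) :
    ∃ r : A, r ∉ p.asIdeal ∧
      Module.Free (Localization (Submonoid.powers r))
        (LocalizedModule (Submonoid.powers r) B) := by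
  haveI : Module.FinitePresentation A B :=
    Module.FinitePresentation.of_finite_of_finitePresentation A B
  have hp : p ∈ Module.freeLocus A B := by
    rw [Module.freeLocus_eq_univ]; exact Set.mem_univ p
  haveI : Module.Free (Localization.AtPrime p.asIdeal)
      (LocalizedModule p.asIdeal.primeCompl B) := hp
  obtain ⟨r, hr, hr', _⟩ := Module.FinitePresentation.exists_free_localizedModule_powers
    p.asIdeal.primeCompl (LocalizedModule.mkLinearMap p.asIdeal.primeCompl B)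
    (Localization.AtPrime p.asIdeal)
  exact ⟨r, hr, hr'⟩

/-- Transport of freeness along a commutative square of ring isomorphisms. -/
lemma free_of_ringEquiv_square {A B A' B' : Type*} [CommRing A] [CommRing B] [CommRing A']
    [CommRing B'] (φ : A →+* B) (φ' : A' →+* B') (eA : A ≃+* A') (eB : B ≃+* B')
    (h : ∀ a, eB (φ a) = φ' (eA a))
    (hfree : letI := φ.toAlgebra; Module.Free A B) :
    letI := φ'.toAlgebra; Module.Free A' B' := by
  letI := φ.toAlgebra
  letI := φ'.toAlgebra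
  letI i1 : RingHomInvPair (eA : A →+* A') (eA.symm : A' →+* A) :=
    RingHomInvPair.of_ringEquiv eA
  letI i2 : RingHomInvPair (eA.symm : A' →+* A) (eA : A →+* A') :=
    RingHomInvPair.symm _ _
  let e₂ : B ≃ₛₗ[(eA : A →+* A')] B' :=
    { toFun := eB
      map_add' := map_add eB
      map_smul' := fun a x => by
        show eB (a • x) = (eA a) • eB x
        rw [Algebra.smul_def, Algebra.smul_def, map_mul, RingHom.algebraMap_toAlgebra,
          RingHom.algebraMap_toAlgebra, h]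
      invFun := eB.symm
      left_inv := eB.left_inv
      right_inv := eB.right_inv }
  exact (Module.Free.iff_of_equiv e₂).mp hfree

/-- Step 1: the element `r`. -/
lemma exists_r {Z S : Scheme.{u}} (g : Z ⟶ S) [IsFinite g] [Flat g]
    [LocallyOfFinitePresentation g] {V : S.Opens} (hV : IsAffineOpen V)
    (p : PrimeSpectrum Γ(S, V)) :
    letI := (g.app V).hom.toAlgebra
    ∃ r : Γ(S, V), r ∉ p.asIdeal ∧
      Module.Free (Localization (Submonoid.powers r))
        (LocalizedModule (Submonoid.powers r) Γ(Z, g ⁻¹ᵁ V)) := by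
  have hW : IsAffineOpen (g ⁻¹ᵁ V) := hV.preimage g
  have h1 : (g.app V).hom.Finite := IsFinite.finite_app g V hV
  have h2 : (g.app V).hom.Flat := by
    rw [Scheme.Hom.app_eq_appLE]
    exact HasRingHomProperty.appLE (P := @Flat) g inferInstance ⟨V, hV⟩ ⟨_, hW⟩ le_rfl
  have h3 : (g.app V).hom.FinitePresentation := by
    rw [Scheme.Hom.app_eq_appLE]
    exact HasRingHomProperty.appLE (P := @LocallyOfFinitePresentation) g inferInstance
      ⟨V, hV⟩ ⟨_, hW⟩ le_rfl
  letI := (g.app V).hom.toAlgebra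
  haveI : Module.Finite Γ(S, V) Γ(Z, g ⁻¹ᵁ V) := h1
  haveI : Module.Flat Γ(S, V) Γ(Z, g ⁻¹ᵁ V) := h2
  haveI : Algebra.FinitePresentation Γ(S, V) Γ(Z, g ⁻¹ᵁ V) := h3
  exact exists_away_free p

/-- Step 2: freeness of sections over the basic open. -/
lemma free_app_basicOpen {Z S : Scheme.{u}} (g : Z ⟶ S) [IsAffineHom g]
    {V : S.Opens} (hV : IsAffineOpen V) (r : Γ(S, V))
    (hfree : letI := (g.app V).hom.toAlgebra
      Module.Free (Localization (Submonoid.powers r))
        (LocalizedModule (Submonoid.powers r) Γ(Z, g ⁻¹ᵁ V))) :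
    letI := (g.app (S.basicOpen r)).hom.toAlgebra
    Module.Free Γ(S, S.basicOpen r) Γ(Z, g ⁻¹ᵁ S.basicOpen r) := by
  have hW : IsAffineOpen (g ⁻¹ᵁ V) := hV.preimage g
  have hUV : S.basicOpen r ≤ V := S.basicOpen_le r
  have hle : g ⁻¹ᵁ S.basicOpen r ≤ g ⁻¹ᵁ V := fun x hx => hUV hx
  letI algAB : Algebra Γ(S, V) Γ(Z, g ⁻¹ᵁ V) := (g.app V).hom.toAlgebra
  letI algA'B' : Algebra Γ(S, S.basicOpen r) Γ(Z, g ⁻¹ᵁ S.basicOpen r) :=
    (g.app (S.basicOpen r)).hom.toAlgebra
  letI algBB' : Algebra Γ(Z, g ⁻¹ᵁ V) Γ(Z, g ⁻¹ᵁ S.basicOpen r) :=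
    (Z.presheaf.map (homOfLE hle).op).hom.toAlgebra
  letI algAB' : Algebra Γ(S, V) Γ(Z, g ⁻¹ᵁ S.basicOpen r) :=
    (g.app V ≫ Z.presheaf.map (homOfLE hle).op).hom.toAlgebra
  haveI tw1 : IsScalarTower Γ(S, V) Γ(Z, g ⁻¹ᵁ V) Γ(Z, g ⁻¹ᵁ S.basicOpen r) :=
    IsScalarTower.of_algebraMap_eq' rfl
  have nat : S.presheaf.map (homOfLE hUV).op ≫ g.app (S.basicOpen r)
      = g.app V ≫ Z.presheaf.map (homOfLE hle).op := g.naturality (homOfLE hUV).op
  haveI tw2 : IsScalarTower Γ(S, V) Γ(S, S.basicOpen r) Γ(Z, g ⁻¹ᵁ S.basicOpen r) := by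
    refine IsScalarTower.of_algebraMap_eq' ?_
    show (g.app V ≫ Z.presheaf.map (homOfLE hle).op).hom
      = (g.app (S.basicOpen r)).hom.comp (S.presheaf.map (homOfLE hUV).op).hom
    rw [← CommRingCat.hom_comp, nat]
  haveI locA : IsLocalization (Submonoid.powers r) Γ(S, S.basicOpen r) :=
    hV.isLocalization_basicOpen r
  haveI locB : IsLocalization
      (Algebra.algebraMapSubmonoid Γ(Z, g ⁻¹ᵁ V) (Submonoid.powers r))
      Γ(Z, g ⁻¹ᵁ S.basicOpen r) := by
    rw [Algebra.algebraMapSubmonoid_powers]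
    exact hW.isLocalization_of_eq_basicOpen (g.app V r) (homOfLE hle)
      (Scheme.preimage_basicOpen g r)
  exact free_of_isLocalization (Submonoid.powers r) Γ(S, S.basicOpen r)
    Γ(Z, g ⁻¹ᵁ S.basicOpen r)
    (IsScalarTower.toAlgHom Γ(S, V) Γ(Z, g ⁻¹ᵁ V) Γ(Z, g ⁻¹ᵁ S.basicOpen r)).toLinearMap hfree

/-- For an open immersion `j` with range `U`, the map `Γ(Y, U) ⟶ Γ(X, ⊤)` is an isomorphism. -/
lemma isIso_appLE_top {X Y : Scheme.{u}} (j : X ⟶ Y) [IsOpenImmersion j] (U : Y.Opens)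
    (hU : j.opensRange = U) (e : (⊤ : X.Opens) ≤ j ⁻¹ᵁ U) : IsIso (j.appLE U ⊤ e) := by
  have key : ∀ {a b : Y.Opens} (h : a ≤ b) (_ : b ≤ a),
      IsIso (Y.presheaf.map (homOfLE h).op) := by
    intro a b h h'
    have : IsIso (homOfLE h) := ⟨⟨homOfLE h', Subsingleton.elim _ _, Subsingleton.elim _ _⟩⟩
    infer_instance
  have hle : U ≤ j ''ᵁ ⊤ := by rw [Scheme.Hom.image_top_eq_opensRange, hU]
  have h1 := j.appLE_appIso_inv e
  have h2 : IsIso (j.appLE U ⊤ e ≫ (j.appIso ⊤).inv) := by rw [h1]; exact key _ hle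
  exact IsIso.of_isIso_comp_right (j.appLE U ⊤ e) (j.appIso ⊤).inv

lemma appLE_congr_hom {X Y : Scheme.{u}} {f f' : X ⟶ Y} (h : f = f') (U : Y.Opens)
    (V : X.Opens) (e : V ≤ f ⁻¹ᵁ U) (e' : V ≤ f' ⁻¹ᵁ U) :
    f.appLE U V e = f'.appLE U V e' := by
  subst h; rfl

/-- Step 3: transport to the pullback. -/
lemma free_pullback_of_free_app {Z S : Scheme.{u}} (g : Z ⟶ S) (U : S.Opens)
    (hfree : letI := (g.app U).hom.toAlgebra; Module.Free Γ(S, U) Γ(Z, g ⁻¹ᵁ U)) :
    letI := ((pullback.fst U.ι g).appTop).hom.toAlgebra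
    Module.Free Γ(U.toScheme, ⊤) Γ(pullback U.ι g, ⊤) := by
  have hrange : (pullback.snd U.ι g).opensRange = g ⁻¹ᵁ U := by
    rw [Scheme.Hom.opensRange_pullbackSnd, Scheme.Opens.opensRange_ι]
  have eA_le : (⊤ : U.toScheme.Opens) ≤ U.ι ⁻¹ᵁ U := (Scheme.Opens.ι_preimage_self U).ge
  have eB_le : (⊤ : (pullback U.ι g).Opens) ≤ (pullback.snd U.ι g) ⁻¹ᵁ (g ⁻¹ᵁ U) :=
    (show (pullback.snd U.ι g) ⁻¹ᵁ (g ⁻¹ᵁ U) = ⊤ by
      rw [← hrange, Scheme.Hom.preimage_opensRange]).ge
  haveI iA : IsIso (U.ι.appLE U ⊤ eA_le) :=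
    isIso_appLE_top U.ι U (Scheme.Opens.opensRange_ι U) eA_le
  haveI iB : IsIso ((pullback.snd U.ι g).appLE (g ⁻¹ᵁ U) ⊤ eB_le) :=
    isIso_appLE_top _ _ hrange eB_le
  have comm : g.app U ≫ (pullback.snd U.ι g).appLE (g ⁻¹ᵁ U) ⊤ eB_le
      = U.ι.appLE U ⊤ eA_le ≫ (pullback.fst U.ι g).appTop := by
    have e1 : (pullback.snd U.ι g ≫ g).appLE U ⊤ eB_le
        = g.app U ≫ (pullback.snd U.ι g).appLE (g ⁻¹ᵁ U) ⊤ eB_le :=
      Scheme.Hom.comp_appLE _ _ _ _ _
    have e3 : (pullback.fst U.ι g).appLE ⊤ ⊤ le_top = (pullback.fst U.ι g).appTop :=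
      Scheme.Hom.appLE_eq_app (pullback.fst U.ι g)
    have e2 := Scheme.Hom.appLE_comp_appLE (pullback.fst U.ι g) U.ι U ⊤ ⊤ eA_le le_top
    rw [e3] at e2
    rw [← e1, e2]
    exact appLE_congr_hom pullback.condition.symm _ _ _ _
  exact free_of_ringEquiv_square (g.app U).hom ((pullback.fst U.ι g).appTop).hom
    (asIso (U.ι.appLE U ⊤ eA_le)).commRingCatIsoToRingEquiv
    (asIso ((pullback.snd U.ι g).appLE (g ⁻¹ᵁ U) ⊤ eB_le)).commRingCatIsoToRingEquiv
    (fun a => ConcreteCategory.congr_hom comm a) hfree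

/-- **(L)** A finite locally free morphism is finite free over a small affine open neighbourhood
of any point of the base. -/
theorem exists_free_nbhd {Z S : Scheme.{u}} (g : Z ⟶ S) (hg : Mor2.IsFinLocFree g) (s : S) :
    ∃ U : S.Opens, IsAffineOpen U ∧ s ∈ U ∧
      (letI := ((pullback.fst U.ι g).appTop).hom.toAlgebra;
        Module.Finite Γ(U.toScheme, ⊤) Γ(pullback U.ι g, ⊤) ∧
        Module.Free Γ(U.toScheme, ⊤) Γ(pullback U.ι g, ⊤)) := by
  obtain ⟨hfin, hflat, hfp⟩ := hg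
  haveI := hfin
  haveI := hflat
  haveI := hfp
  obtain ⟨V, hV, hsV, -⟩ :=
    exists_isAffineOpen_mem_and_subset (x := s) (U := ⊤) (by trivial)
  obtain ⟨r, hr, hfreeloc⟩ := exists_r g hV (hV.primeIdealOf ⟨s, hsV⟩)
  have hU : IsAffineOpen (S.basicOpen r) := hV.basicOpen r
  have hsU : s ∈ S.basicOpen r := by
    have h1 : hV.fromSpec (hV.primeIdealOf ⟨s, hsV⟩) = s := hV.fromSpec_primeIdealOf ⟨s, hsV⟩
    have h2 : hV.primeIdealOf ⟨s, hsV⟩ ∈ hV.fromSpec ⁻¹ᵁ S.basicOpen r := by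
      rw [hV.fromSpec_preimage_basicOpen]; exact hr
    have h3 : hV.fromSpec (hV.primeIdealOf ⟨s, hsV⟩) ∈ S.basicOpen r := h2
    rwa [h1] at h3
  refine ⟨S.basicOpen r, hU, hsU, ?_, ?_⟩
  · haveI : IsAffine (S.basicOpen r).toScheme := hU
    exact Scheme.Hom.finite_appTop (pullback.fst (S.basicOpen r).ι g)
  · exact free_pullback_of_free_app g (S.basicOpen r) (free_app_basicOpen g hV r hfreeloc)

end Groth.Agent.Helper9.FreeNbhd
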