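import Mathlib
import Groth.Agent.Lib.Helper14.AffNbhd

/-!
# Affine "boxes" in fibre powers

For `f : X ⟶ S`, affine opens `U ⊆ X`, `V ⊆ S` with `U ⊆ f⁻¹ V`, the open
`⋂ᵢ πᵢ⁻¹ U ∩ base⁻¹ V` of the `d`-fold fibre power of `X` over `S` is affine
(it is the `d`-fold fibre power of `U` over `V`).
Also: a finite set of points of an affine open `U₀` lying in an open `W₀` is contained in a basic
open of `U₀` inside `W₀` (prime avoidance).
-/

set_option autoImplicit false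
universe u
open CategoryTheory CategoryTheory.Limits AlgebraicGeometry TopologicalSpace

namespace Groth.Agent.Helper9.FibPowAff

lemma apply_mem_of_comp_eq {A Y : Scheme.{u}} (U : Y.Opens) (g : A ⟶ Y) (h : A ⟶ U)
    (e : h ≫ U.ι = g) (a : A) : g a ∈ U := by
  subst e
  rw [Scheme.Hom.comp_apply]
  have : U.ι (h a) ∈ Set.range U.ι := ⟨h a, rfl⟩
  rwa [Scheme.Opens.range_ι] at this

lemma comp_apply' {A B C : Scheme.{u}} (g : A ⟶ B) (h : B ⟶ C) (k : A ⟶ C) (e : g ≫ h = k)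
    (a : A) : h (g a) = k a := by
  subst e; rw [Scheme.Hom.comp_apply]

lemma ι_apply_mem {Y : Scheme.{u}} (U : Y.Opens) (a : (U : Scheme.{u})) : U.ι a ∈ U := by
  have : U.ι a ∈ Set.range U.ι := ⟨a, rfl⟩
  rwa [Scheme.Opens.range_ι] at this

/-- Prime avoidance on an affine open: finitely many points of an affine open `U₀` lying in an
open `W₀` lie in an affine open contained in `W₀`. -/
theorem exists_affine_le_of_finite {X : Scheme.{u}} (U₀ : X.Opens) (hU₀ : IsAffineOpen U₀)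
    (W₀ : X.Opens) (T : Finset X) (hT : ∀ y ∈ T, y ∈ U₀ ∧ y ∈ W₀) :
    ∃ U : X.Opens, IsAffineOpen U ∧ U ≤ W₀ ∧ ∀ y ∈ T, y ∈ U := by
  classical
  obtain ⟨O, hOdef⟩ : ∃ O : Set (PrimeSpectrum Γ(X, U₀)), O = {p | hU₀.fromSpec p ∈ W₀} :=
    ⟨_, rfl⟩
  have hO : IsOpen O := by
    rw [hOdef]
    exact W₀.isOpen.preimage hU₀.fromSpec.continuous
  have hmemO : ∀ p : PrimeSpectrum Γ(X, U₀), p ∈ O ↔ hU₀.fromSpec p ∈ W₀ := by
    intro p; rw [hOdef]; rfl
  obtain ⟨q, hq⟩ : ∃ q : {y // y ∈ T} → PrimeSpectrum Γ(X, U₀),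
      ∀ y, q y = hU₀.primeIdealOf ⟨y.1, (hT y.1 y.2).1⟩ := ⟨_, fun _ => rfl⟩
  have hqy : ∀ y : {y // y ∈ T}, hU₀.fromSpec (q y) = y.1 := by
    intro y; rw [hq]; exact hU₀.fromSpec_primeIdealOf ⟨y.1, (hT y.1 y.2).1⟩
  have hqO : ∀ y : {y // y ∈ T}, q y ∈ O := by
    intro y; rw [hmemO, hqy]; exact (hT y.1 y.2).2
  have hnot : ∀ 𝔮 ∈ Set.range (fun y : {y // y ∈ T} => (q y).asIdeal),
      ¬ PrimeSpectrum.vanishingIdeal Oᶜ ≤ 𝔮 := by
    rintro _ ⟨y, rfl⟩ hle
    have h1 : q y ∈ PrimeSpectrum.zeroLocus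
        ((PrimeSpectrum.vanishingIdeal Oᶜ : Ideal Γ(X, U₀)) : Set Γ(X, U₀)) := by
      rw [PrimeSpectrum.mem_zeroLocus]
      exact hle
    rw [PrimeSpectrum.zeroLocus_vanishingIdeal_eq_closure, hO.isClosed_compl.closure_eq] at h1
    exact h1 (hqO y)
  obtain ⟨g, hgI, hg⟩ := Groth.Agent.Helper14.AffNbhd.exists_mem_forall_notMem_of_finite
    (PrimeSpectrum.vanishingIdeal Oᶜ) (Set.range (fun y : {y // y ∈ T} => (q y).asIdeal))
    (Set.finite_range _) (by rintro _ ⟨y, rfl⟩; exact (q y).isPrime) hnot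
  refine ⟨X.basicOpen g, hU₀.basicOpen g, ?_, ?_⟩
  · intro z hz
    have hz0 : z ∈ U₀ := X.basicOpen_le g hz
    obtain ⟨p, hp⟩ : ∃ p : PrimeSpectrum Γ(X, U₀), hU₀.fromSpec p = z :=
      ⟨hU₀.primeIdealOf ⟨z, hz0⟩, hU₀.fromSpec_primeIdealOf ⟨z, hz0⟩⟩
    have hp1 : p ∈ (hU₀.fromSpec ⁻¹ᵁ X.basicOpen g) := by
      show hU₀.fromSpec p ∈ X.basicOpen g
      rw [hp]; exact hz
    rw [hU₀.fromSpec_preimage_basicOpen] at hp1
    have hp2 : g ∉ p.asIdeal := (PrimeSpectrum.mem_basicOpen g p).1 hp1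
    by_contra hzW
    have hpO : p ∈ Oᶜ := by
      intro hpO
      rw [hmemO, hp] at hpO
      exact hzW hpO
    exact hp2 ((PrimeSpectrum.mem_vanishingIdeal _ _).1 hgI p hpO)
  · intro y hy
    have h1 : g ∉ (q ⟨y, hy⟩).asIdeal := hg _ ⟨⟨y, hy⟩, rfl⟩
    have h2 : q ⟨y, hy⟩ ∈ PrimeSpectrum.basicOpen g := (PrimeSpectrum.mem_basicOpen g _).2 h1
    rw [← hU₀.fromSpec_preimage_basicOpen] at h2
    have h3 : hU₀.fromSpec (q ⟨y, hy⟩) ∈ X.basicOpen g := h2
    rw [hqy] at h3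
    exact h3

variable {X S : Scheme.{u}} (f : X ⟶ S) (d : ℕ)

/-- The "box" `⋂ᵢ πᵢ⁻¹ U ∩ base⁻¹ V` in the `d`-fold fibre power. -/
noncomputable def boxOpen (U : X.Opens) (V : S.Opens) :
    (widePullback S (fun _ : Fin d => X) (fun _ => f)).Opens :=
  (⨅ i : Fin d, (WidePullback.π (fun _ : Fin d => f) i) ⁻¹ᵁ U) ⊓
    (WidePullback.base (fun _ : Fin d => f)) ⁻¹ᵁ V

lemma mem_boxOpen (U : X.Opens) (V : S.Opens)
    (p : (widePullback S (fun _ : Fin d => X) (fun _ => f) : Scheme.{u})) :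
    p ∈ boxOpen f d U V ↔
      (∀ i : Fin d, (WidePullback.π (fun _ : Fin d => f) i) p ∈ U) ∧
        (WidePullback.base (fun _ : Fin d => f)) p ∈ V := by
  have h1 : p ∈ (⨅ i : Fin d, (WidePullback.π (fun _ : Fin d => f) i) ⁻¹ᵁ U) ↔
      ∀ i : Fin d, p ∈ (WidePullback.π (fun _ : Fin d => f) i) ⁻¹ᵁ U := by
    rw [← SetLike.mem_coe, Opens.coe_iInf, Set.mem_iInter]
    rfl
  unfold boxOpen
  rw [Opens.mem_inf, h1]
  rfl

theorem isAffineOpen_boxOpen {U : X.Opens} {V : S.Opens} (hU : IsAffineOpen U)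
    (hV : IsAffineOpen V) (hUV : U ≤ f ⁻¹ᵁ V) : IsAffineOpen (boxOpen f d U V) := by
  obtain ⟨W, hWdef⟩ : ∃ W, W = boxOpen f d U V := ⟨_, rfl⟩
  rw [← hWdef]
  have hWmem : ∀ p, p ∈ W ↔ (∀ i : Fin d, (WidePullback.π (fun _ : Fin d => f) i) p ∈ U) ∧
        (WidePullback.base (fun _ : Fin d => f)) p ∈ V := by
    intro p; rw [hWdef]; exact mem_boxOpen f d U V p
  -- the restricted structure map
  have hr : Set.range (U.ι ≫ f) ⊆ Set.range V.ι := by
    rintro _ ⟨a, rfl⟩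
    rw [Scheme.Opens.range_ι]
    exact hUV (ι_apply_mem U a)
  obtain ⟨f', hf'⟩ : ∃ f' : (U : Scheme.{u}) ⟶ V, f' ≫ V.ι = U.ι ≫ f :=
    ⟨IsOpenImmersion.lift V.ι _ hr, IsOpenImmersion.lift_fac _ _ _⟩
  have hπr : ∀ i : Fin d, Set.range (W.ι ≫ WidePullback.π (fun _ : Fin d => f) i) ⊆
      Set.range U.ι := by
    intro i
    rintro _ ⟨a, rfl⟩
    rw [Scheme.Opens.range_ι]
    exact ((hWmem _).1 (ι_apply_mem W a)).1 i
  have hbr : Set.range (W.ι ≫ WidePullback.base (fun _ : Fin d => f)) ⊆ Set.range V.ι := by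
    rintro _ ⟨a, rfl⟩
    rw [Scheme.Opens.range_ι]
    exact ((hWmem _).1 (ι_apply_mem W a)).2
  obtain ⟨pU, hpU⟩ : ∃ pU : ∀ _ : Fin d, (W : Scheme.{u}) ⟶ U,
      ∀ i, pU i ≫ U.ι = W.ι ≫ WidePullback.π (fun _ : Fin d => f) i :=
    ⟨fun i => IsOpenImmersion.lift U.ι _ (hπr i), fun i => IsOpenImmersion.lift_fac _ _ _⟩
  obtain ⟨pV, hpV⟩ : ∃ pV : (W : Scheme.{u}) ⟶ V,
      pV ≫ V.ι = W.ι ≫ WidePullback.base (fun _ : Fin d => f) :=
    ⟨IsOpenImmersion.lift V.ι _ hbr, IsOpenImmersion.lift_fac _ _ _⟩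
  have harrow : ∀ i : Fin d, WidePullback.π (fun _ : Fin d => f) i ≫ f =
      WidePullback.base (fun _ : Fin d => f) := fun i => WidePullback.π_arrow (fun _ : Fin d => f) i
  have hw : ∀ i : Fin d, pU i ≫ f' = pV := by
    intro i
    rw [← cancel_mono V.ι, Category.assoc, hf', ← Category.assoc, hpU, hpV, Category.assoc, harrow]
  -- compatibility of a cone with `f`
  have hcompat : ∀ (t : WidePullbackCone (fun _ : Fin d => f')) (i : Fin d),
      (t.π i ≫ U.ι) ≫ f = t.base ≫ V.ι := by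
    intro t i
    rw [Category.assoc, ← hf', ← Category.assoc, t.condition]
  have hex : ∀ t : WidePullbackCone (fun _ : Fin d => f'), ∃ l : t.pt ⟶ (W : Scheme.{u}),
      l ≫ W.ι = WidePullback.lift (t.base ≫ V.ι) (fun i => t.π i ≫ U.ι) (hcompat t) := by
    intro t
    have hrange : Set.range (WidePullback.lift (t.base ≫ V.ι) (fun i => t.π i ≫ U.ι)
        (hcompat t) : t.pt ⟶ widePullback S (fun _ : Fin d => X) (fun _ => f)) ⊆
        Set.range W.ι := by
      rintro _ ⟨a, rfl⟩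
      rw [Scheme.Opens.range_ι]
      refine (hWmem _).2 ⟨fun i => ?_, ?_⟩
      · rw [comp_apply' _ _ _ (WidePullback.lift_π (fun _ : Fin d => f) (t.base ≫ V.ι)
          (fun i => t.π i ≫ U.ι) (hcompat t) i) a]
        exact apply_mem_of_comp_eq U _ (t.π i) rfl a
      · rw [comp_apply' _ _ _ (WidePullback.lift_base (fun _ : Fin d => f) (t.base ≫ V.ι)
          (fun i => t.π i ≫ U.ι) (hcompat t)) a]
        exact apply_mem_of_comp_eq V _ t.base rfl a
    exact ⟨IsOpenImmersion.lift W.ι _ hrange, IsOpenImmersion.lift_fac _ _ _⟩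
  choose l hl using hex
  have hc : IsLimit (WidePullbackCone.mk pV pU hw) := by
    refine WidePullbackCone.IsLimit.mk _ (fun t => l t) ?_ ?_ ?_
    · intro t
      show l t ≫ pV = t.base
      rw [← cancel_mono V.ι, Category.assoc, hpV, ← Category.assoc, hl, WidePullback.lift_base]
    · intro t i
      show l t ≫ pU i = t.π i
      rw [← cancel_mono U.ι, Category.assoc, hpU, ← Category.assoc, hl, WidePullback.lift_π]
    · intro t m hmb hmπ
      obtain ⟨m', hm'⟩ : ∃ m' : t.pt ⟶ (W : Scheme.{u}), m' = m := ⟨m, rfl⟩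
      have hmb' : m' ≫ pV = t.base := by rw [hm']; exact hmb
      have hmπ' : ∀ i, m' ≫ pU i = t.π i := by intro i; rw [hm']; exact hmπ i
      have key : m' = l t := by
        rw [← cancel_mono W.ι, hl]
        apply WidePullback.hom_ext
        · intro i
          rw [WidePullback.lift_π, Category.assoc, ← hpU, ← Category.assoc, hmπ']
        · rw [WidePullback.lift_base, Category.assoc, ← hpV, ← Category.assoc, hmb']
      rw [← hm']
      exact key
  haveI : ∀ i, IsAffine ((WidePullbackShape.wideCospan (V : Scheme.{u})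
      (fun _ : Fin d => (U : Scheme.{u})) (fun _ => f')).obj i) := by
    intro i
    cases i with
    | none => exact hV
    | some j => exact hU
  have haff : IsAffine (WidePullbackCone.mk pV pU hw).pt := Scheme.isAffine_of_isLimit _ hc
  exact haff

end Groth.Agent.Helper9.FibPowAff
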