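import Mathlib
import Groth.Prelude.Def_EGA41
import Groth.Agent.Lib.Helper9.Cartier6

/-!
# The imperfection module over a larger base is a quotient of the absolute one
-/

set_option autoImplicit false
set_option linter.unusedSectionVars false
set_option linter.style.haveILetI false

universe u

open TensorProduct KaehlerDifferential

namespace Groth.Agent.Helper9.Cartier

open Groth.Agent.Helper9.Imperf

section Lift

variable {a : Type*} {b : Type*} {K L : Type u} [CommRing a] [CommRing b] [CommRing K]
  [CommRing L] [Algebra a b] [Algebra a K] [Algebra b K] [IsScalarTower a b K] [Algebra K L]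
  [Algebra a L] [Algebra b L] [IsScalarTower a K L] [IsScalarTower b K L] [IsScalarTower a b L]

theorem exists_lift' (w : L ⊗[K] Ω[K⁄b]) (hw : w ∈ EGA41.imperfection b K L) :
    ∃ z ∈ EGA41.imperfection a K L, (KaehlerDifferential.map a b K K).baseChange L z = w := by
  have hsurj : Function.Surjective ((KaehlerDifferential.map a b K K).baseChange L) := by
    have := LinearMap.lTensor_surjective L (KaehlerDifferential.map_surjective a b K)
    intro z
    obtain ⟨y, hy⟩ := this z
    exact ⟨y, hy⟩
  obtain ⟨z₀, hz₀w⟩ := hsurj w
  have h2 : KaehlerDifferential.map a b L L (mapBaseChange a K L z₀) = 0 := by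
    rw [map_mapBaseChange, hz₀w]
    exact hw
  have h3 := mem_span_of_map_eq_zero (a := a) (b := b) (K := L) _ h2
  set S' : Submodule L (L ⊗[K] Ω[K⁄a]) := Submodule.span L
    (Set.range fun x : b => (1 : L) ⊗ₜ[K] D a K (algebraMap b K x)) with hS'
  have hS'_map : S'.map (mapBaseChange a K L) = Submodule.span L
      (Set.range fun x : b => D a L (algebraMap b L x)) := by
    rw [hS', Submodule.map_span, ← Set.range_comp]
    congr 2
    ext x
    change mapBaseChange a K L ((1 : L) ⊗ₜ[K] D a K (algebraMap b K x)) = _
    rw [mapBaseChange_tmul, one_smul, KaehlerDifferential.map_D,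
      ← IsScalarTower.algebraMap_apply]
  obtain ⟨s, hsS', hs⟩ : ∃ s ∈ S', mapBaseChange a K L s = mapBaseChange a K L z₀ := by
    rw [← hS'_map] at h3
    exact h3
  have hs' : (KaehlerDifferential.map a b K K).baseChange L s = 0 := by
    have hle : S' ≤ LinearMap.ker ((KaehlerDifferential.map a b K K).baseChange L) := by
      rw [hS', Submodule.span_le]
      rintro _ ⟨x, rfl⟩
      rw [SetLike.mem_coe, LinearMap.mem_ker, phi_tmul_D, Derivation.map_algebraMap,
        TensorProduct.tmul_zero]
    exact hle hsS'
  refine ⟨z₀ - s, ?_, ?_⟩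
  · change mapBaseChange a K L (z₀ - s) = 0
    rw [map_sub, hs, sub_self]
  · rw [map_sub, hz₀w, hs', sub_zero]

/-- The canonical surjection `Υ_{L/K/a} → Υ_{L/K/b}`. -/
noncomputable def imperfMap : EGA41.imperfection a K L →ₗ[L] EGA41.imperfection b K L :=
  ((KaehlerDifferential.map a b K K).baseChange L).restrict (by
    intro z hz
    change mapBaseChange b K L ((KaehlerDifferential.map a b K K).baseChange L z) = 0
    rw [← map_mapBaseChange]
    have : mapBaseChange a K L z = 0 := hz
    rw [this, map_zero])

lemma imperfMap_surjective :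
    Function.Surjective (imperfMap (a := a) (b := b) (K := K) (L := L)) := by
  rintro ⟨w, hw⟩
  obtain ⟨z, hz, hzw⟩ := exists_lift' (a := a) w hw
  exact ⟨⟨z, hz⟩, Subtype.ext hzw⟩

end Lift

section Ineq

variable {k K L : Type u} [Field k] [Field K] [Field L]
    [Algebra k K] [Algebra K L] [Algebra k L] [IsScalarTower k K L] [Algebra.EssFiniteType K L]

theorem ineq_of_essFiniteType :
    Module.Finite L (Ω[L⁄K]) ∧ Module.Finite L (EGA41.imperfection k K L) ∧
      (Cardinal.toNat (Algebra.trdeg K L) : ℤ) ≤
        (Module.finrank L (Ω[L⁄K]) : ℤ) - Module.finrank L (EGA41.imperfection k K L) := by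
  obtain ⟨h1, h2, _, h4⟩ := P.of_essFiniteType K L
  have hsurj := imperfMap_surjective (a := ℤ) (b := k) (K := K) (L := L)
  haveI : Module.Finite L (EGA41.imperfection k K L) := Module.Finite.of_surjective _ hsurj
  have hle : Module.finrank L (EGA41.imperfection k K L) ≤
      Module.finrank L (EGA41.imperfection ℤ K L) := by
    have h := LinearMap.rank_le_of_surjective _ hsurj
    exact Cardinal.toNat_le_toNat h (Module.rank_lt_aleph0 L _)
  refine ⟨h1, inferInstance, ?_⟩
  rw [← h4]
  have : (Module.finrank L (EGA41.imperfection k K L) : ℤ) ≤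
      Module.finrank L (EGA41.imperfection ℤ K L) := by exact_mod_cast hle
  linarith

end Ineq

end Groth.Agent.Helper9.Cartier
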