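import Mathlib
import Groth.Agent.Lib.Helper6.FSchAdic
import Groth.Agent.Lib.Helper6.IdealComap

/-!
# Lifting properties of a morphism through a nilpotent thickening of the base

`IsPullback i F₀ F j` with `j : Y ⟶ Y'` a surjective closed immersion into a locally Noetherian
scheme: closed immersions, proper morphisms and finite morphisms `F₀` lift to `F`.
-/

set_option autoImplicit false
set_option linter.style.haveILetI false
universe u

open CategoryTheory CategoryTheory.Limits AlgebraicGeometry TopologicalSpace Opposite Topology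

namespace Groth.Agent.Helper9.Thick

section Algebra

variable {B A A₀ : Type u} [CommRing B] [CommRing A] [CommRing A₀]

theorem eq_top_of_nilpotent {M : Type*} [AddCommGroup M] [Module B M] (J : Ideal B) (n : ℕ)
    (hJ : J ^ n = ⊥) (N : Submodule B M) (h : ⊤ ≤ N ⊔ J • (⊤ : Submodule B M)) : N = ⊤ := by
  have key : ∀ k : ℕ, (⊤ : Submodule B M) ≤ N ⊔ (J ^ k) • (⊤ : Submodule B M) := by
    intro k
    induction k with
    | zero =>
      rw [pow_zero, Ideal.one_eq_top, Submodule.top_smul]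
      exact le_sup_right
    | succ k ih =>
      calc (⊤ : Submodule B M) ≤ N ⊔ J • (⊤ : Submodule B M) := h
        _ ≤ N ⊔ J • (N ⊔ (J ^ k) • (⊤ : Submodule B M)) :=
            sup_le_sup_left (Submodule.smul_mono le_rfl ih) _
        _ = N ⊔ (J • N ⊔ J • (J ^ k) • (⊤ : Submodule B M)) := by rw [Submodule.smul_sup]
        _ ≤ N ⊔ (J ^ (k + 1)) • (⊤ : Submodule B M) := by
            refine sup_le le_sup_left (sup_le (le_sup_of_le_left Submodule.smul_le_right) ?_)
            rw [← Submodule.mul_smul, ← pow_succ']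
            exact le_sup_right
  have h1 := key n
  rw [hJ, Submodule.bot_smul, sup_bot_eq] at h1
  exact top_le_iff.mp h1

theorem surjective_of_nilpotent (φ : B →+* A) (π : A →+* A₀) (J : Ideal B) (n : ℕ)
    (hJ : J ^ n = ⊥) (hker : RingHom.ker π = J.map φ)
    (h : Function.Surjective (π.comp φ)) : Function.Surjective φ := by
  letI : Algebra B A := φ.toAlgebra
  let N : Submodule B A := LinearMap.range (Algebra.linearMap B A)
  have hN : N = ⊤ := by
    apply eq_top_of_nilpotent J n hJ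
    intro a _
    obtain ⟨b, hb⟩ := h (π a)
    have h1 : a - φ b ∈ RingHom.ker π := by
      rw [RingHom.mem_ker, map_sub, ← hb]
      simp
    rw [hker] at h1
    have h2 : a - φ b ∈ J • (⊤ : Submodule B A) := by
      rw [Ideal.smul_top_eq_map]
      exact h1
    have h3 : a = φ b + (a - φ b) := by ring
    rw [h3]
    exact Submodule.add_mem_sup ⟨b, rfl⟩ h2
  intro a
  have h4 : a ∈ N := hN ▸ Submodule.mem_top
  obtain ⟨b, hb⟩ := h4
  exact ⟨b, hb⟩

theorem finiteType_of_nilpotent (φ : B →+* A) (π : A →+* A₀) (hπ : Function.Surjective π)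
    (J : Ideal B) (n : ℕ) (hJ : J ^ n = ⊥) (hker : RingHom.ker π = J.map φ)
    (h : (π.comp φ).FiniteType) : φ.FiniteType := by
  letI : Algebra B A := φ.toAlgebra
  letI : Algebra B A₀ := (π.comp φ).toAlgebra
  have hft : Algebra.FiniteType B A₀ := h
  obtain ⟨m, g, hg⟩ := Algebra.FiniteType.iff_quotient_mvPolynomial''.mp hft
  let ψ : MvPolynomial (Fin m) B →ₐ[B] A :=
    MvPolynomial.aeval (fun k => Function.surjInv hπ (g (MvPolynomial.X k)))
  let πa : A →ₐ[B] A₀ := { π with commutes' := fun b => rfl }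
  have hcomp : πa.comp ψ = g := by
    apply MvPolynomial.algHom_ext
    intro k
    change π (ψ (MvPolynomial.X k)) = g (MvPolynomial.X k)
    simp only [ψ, MvPolynomial.aeval_X]
    exact Function.surjInv_eq hπ _
  have hψ : Function.Surjective ψ := by
    refine surjective_of_nilpotent (ψ : MvPolynomial (Fin m) B →+* A) π
      (J.map (MvPolynomial.C : B →+* MvPolynomial (Fin m) B)) n ?_ ?_ ?_
    · rw [← Ideal.map_pow, hJ, Ideal.map_bot]
    · rw [hker, Ideal.map_map]
      congr 1
      ext b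
      change φ b = ψ (MvPolynomial.C b)
      simp only [ψ, MvPolynomial.aeval_C]
      rfl
    · intro a₀
      obtain ⟨p, hp⟩ := hg a₀
      refine ⟨p, ?_⟩
      rw [← hp, ← hcomp]
      rfl
  exact Algebra.FiniteType.of_surjective ψ hψ

end Algebra

section Scheme

variable {X X' Y Y' : Scheme.{u}} {i : X ⟶ X'} {F₀ : X ⟶ Y} {F : X' ⟶ Y'} {j : Y ⟶ Y'}

theorem isClosedImmersion_left (sq : IsPullback i F₀ F j) [IsClosedImmersion j] :
    IsClosedImmersion i :=
  MorphismProperty.of_isPullback (P := @IsClosedImmersion) sq.flip inferInstance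

theorem surjective_left (sq : IsPullback i F₀ F j) (hj : Function.Surjective j.base) :
    Surjective i :=
  MorphismProperty.of_isPullback (P := @Surjective) sq.flip ⟨hj⟩

theorem universallyClosed (sq : IsPullback i F₀ F j) [IsClosedImmersion j]
    (hj : Function.Surjective j.base) [UniversallyClosed F₀] : UniversallyClosed F := by
  haveI : Surjective i := surjective_left sq hj
  haveI : UniversallyClosed (i ≫ F) := by
    rw [sq.w]
    infer_instance
  exact UniversallyClosed.of_comp_surjective i F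

theorem isSeparated (sq : IsPullback i F₀ F j) [IsClosedImmersion j]
    (hj : Function.Surjective j.base) [IsSeparated F₀] : IsSeparated F := by
  haveI := isClosedImmersion_left sq
  haveI hs : Surjective i := surjective_left sq hj
  haveI : IsSeparated (i ≫ F) := by
    rw [sq.w]
    infer_instance
  let t := pullback.map (i ≫ F) (i ≫ F) F F i i (𝟙 Y') ((Category.comp_id _).trans rfl)
    ((Category.comp_id _).trans rfl)
  have ht1 : IsClosedImmersion t :=
    MorphismProperty.pullbackMap (P := @IsClosedImmersion) inferInstance inferInstance rfl rfl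
  have hcomm : pullback.diagonal (i ≫ F) ≫ t = i ≫ pullback.diagonal F := by
    apply pullback.hom_ext
    · simp only [t, Category.assoc, pullback.lift_fst, pullback.diagonal_fst,
        pullback.diagonal_fst_assoc, Category.comp_id]
    · simp only [t, Category.assoc, pullback.lift_snd, pullback.diagonal_snd,
        pullback.diagonal_snd_assoc, Category.comp_id]
  constructor
  refine IsClosedImmersion.of_isPreimmersion _ ?_
  have hr : Set.range (pullback.diagonal F) = t '' Set.range (pullback.diagonal (i ≫ F)) := by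
    rw [← Set.range_comp]
    have h1 : (t : _ → _) ∘ (pullback.diagonal (i ≫ F)) = (pullback.diagonal F) ∘ i := by
      funext x
      exact congrArg (fun φ : X ⟶ pullback F F => φ x) hcomm
    rw [h1, Set.range_comp, hs.surj.range_eq, Set.image_univ]
  rw [hr]
  exact t.isClosedEmbedding.isClosedMap _ (pullback.diagonal (i ≫ F)).isClosedEmbedding.isClosed_range

theorem exists_pow_ker_eq_bot [IsLocallyNoetherian Y'] (hj : Function.Surjective j.base)
    (U : Y'.affineOpens) : ∃ n : ℕ, (RingHom.ker (j.app U.1).hom) ^ n = ⊥ := by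
  haveI : IsNoetherianRing Γ(Y', U.1) := IsLocallyNoetherian.component_noetherian U
  have hle : RingHom.ker (j.app U.1).hom ≤ nilradical Γ(Y', U.1) := by
    intro s hs
    rw [RingHom.mem_ker] at hs
    have h1 : j ⁻¹ᵁ (Y'.basicOpen s) = ⊥ := by
      rw [Scheme.preimage_basicOpen, hs, Scheme.basicOpen_zero]
    have h2 : Y'.basicOpen s = ⊥ := by
      rw [eq_bot_iff]
      intro y hy
      obtain ⟨x, rfl⟩ := hj y
      have h3 : x ∈ j ⁻¹ᵁ (Y'.basicOpen s) := hy
      rw [h1] at h3
      exact h3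
    exact (Scheme.isNilpotent_iff_basicOpen_eq_bot_of_isCompact (U := U.1) U.2.isCompact s).mpr h2
  have hfg : (RingHom.ker (j.app U.1).hom).FG := IsNoetherian.noetherian _
  exact (Ideal.FG.isNilpotent_iff_le_nilradical hfg).mpr hle

theorem ker_app_eq (sq : IsPullback i F₀ F j) [IsClosedImmersion j] (U : Y'.affineOpens)
    (V : X'.affineOpens) (e : V.1 ≤ F ⁻¹ᵁ U.1) :
    RingHom.ker (i.app V.1).hom = (RingHom.ker (j.app U.1).hom).map (F.appLE U.1 V.1 e).hom := by
  haveI := isClosedImmersion_left sq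
  have h1 : i.ker = j.ker.comap F := Groth.Agent.Helper6.FSchLib.ker_of_isPullback sq
  have h2 := Groth.Agent.Helper6.IdealComap.ideal_comap F j.ker V U e
  rw [← h1, Scheme.Hom.ker_apply, Scheme.Hom.ker_apply] at h2
  exact h2

theorem appLE_eq_of_eq {Z W : Scheme.{u}} {g₁ g₂ : Z ⟶ W} (h : g₁ = g₂) (U : W.Opens) (V : Z.Opens)
    (e₁ : V ≤ g₁ ⁻¹ᵁ U) (e₂ : V ≤ g₂ ⁻¹ᵁ U) : g₁.appLE U V e₁ = g₂.appLE U V e₂ := by
  subst h
  rfl

theorem le_preimage (sq : IsPullback i F₀ F j) (U : Y'.Opens) (V : X'.Opens) (e : V ≤ F ⁻¹ᵁ U) :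
    i ⁻¹ᵁ V ≤ F₀ ⁻¹ᵁ (j ⁻¹ᵁ U) := by
  have h1 : i ⁻¹ᵁ V ≤ i ⁻¹ᵁ (F ⁻¹ᵁ U) := fun x hx => e hx
  rw [← Scheme.Hom.comp_preimage, sq.w, Scheme.Hom.comp_preimage] at h1
  exact h1

theorem comp_eq (sq : IsPullback i F₀ F j) (U : Y'.Opens) (V : X'.Opens) (e : V ≤ F ⁻¹ᵁ U) :
    F.appLE U V e ≫ i.app V = j.app U ≫ F₀.appLE (j ⁻¹ᵁ U) (i ⁻¹ᵁ V) (le_preimage sq U V e) := by
  rw [Scheme.Hom.app_eq_appLE, Scheme.Hom.app_eq_appLE, Scheme.Hom.appLE_comp_appLE,
    Scheme.Hom.appLE_comp_appLE]
  exact appLE_eq_of_eq sq.w _ _ _ _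

theorem comp_eq_hom (sq : IsPullback i F₀ F j) (U : Y'.Opens) (V : X'.Opens) (e : V ≤ F ⁻¹ᵁ U) :
    (i.app V).hom.comp (F.appLE U V e).hom =
      (F₀.appLE (j ⁻¹ᵁ U) (i ⁻¹ᵁ V) (le_preimage sq U V e)).hom.comp (j.app U).hom := by
  rw [← CommRingCat.hom_comp, ← CommRingCat.hom_comp, comp_eq sq U V e]

theorem locallyOfFiniteType (sq : IsPullback i F₀ F j) [IsClosedImmersion j]
    (hj : Function.Surjective j.base) [IsLocallyNoetherian Y'] [LocallyOfFiniteType F₀] :
    LocallyOfFiniteType F := by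
  haveI := isClosedImmersion_left sq
  rw [HasRingHomProperty.iff_appLE (P := @LocallyOfFiniteType)]
  intro U V e
  obtain ⟨n, hn⟩ := exists_pow_ker_eq_bot hj U
  have hker := ker_app_eq sq U V e
  have hV₀ : IsAffineOpen (i ⁻¹ᵁ V.1) := V.2.preimage i
  have hU₀ : IsAffineOpen (j ⁻¹ᵁ U.1) := U.2.preimage j
  refine finiteType_of_nilpotent _ (i.app V.1).hom (i.app_surjective V.1 V.2) _ n hn hker ?_
  rw [comp_eq_hom sq U.1 V.1 e]
  exact (F₀.finiteType_appLE hU₀ hV₀ _).comp
    (RingHom.FiniteType.of_surjective _ (j.app_surjective U.1 U.2))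

theorem isProper (sq : IsPullback i F₀ F j) [IsClosedImmersion j]
    (hj : Function.Surjective j.base) [IsLocallyNoetherian Y'] [IsProper F₀] : IsProper F := by
  haveI := isSeparated sq hj
  haveI := universallyClosed sq hj
  haveI := locallyOfFiniteType sq hj
  exact {}

theorem isFinite (sq : IsPullback i F₀ F j) [IsClosedImmersion j]
    (hj : Function.Surjective j.base) [IsLocallyNoetherian Y'] [IsFinite F₀] : IsFinite F := by
  haveI := isProper sq hj
  haveI hs : Surjective i := surjective_left sq hj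
  haveI : LocallyQuasiFinite F := by
    apply LocallyQuasiFinite.of_finite_preimage_singleton
    intro y'
    obtain ⟨y, rfl⟩ := hj y'
    refine ((F₀.finite_preimage_singleton y).image i).subset ?_
    intro x' hx'
    obtain ⟨x, rfl⟩ := hs.surj x'
    refine ⟨x, ?_, rfl⟩
    have h1 : F (i x) = j y := hx'
    have h2 : F (i x) = j (F₀ x) := congrArg (fun φ : X ⟶ Y' => φ x) sq.w
    rw [h2] at h1
    exact j.isClosedEmbedding.injective h1
  exact IsFinite.of_isProper_of_locallyQuasiFinite F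

theorem isClosedImmersion (sq : IsPullback i F₀ F j) [IsClosedImmersion j]
    (hj : Function.Surjective j.base) [IsLocallyNoetherian Y'] [IsClosedImmersion F₀] :
    IsClosedImmersion F := by
  haveI := isFinite sq hj
  rw [isClosedImmersion_iff_isAffineHom]
  refine ⟨inferInstance, fun U hU => ?_⟩
  have hV : IsAffineOpen (F ⁻¹ᵁ U) := hU.preimage F
  obtain ⟨n, hn⟩ := exists_pow_ker_eq_bot hj ⟨U, hU⟩
  have hker := ker_app_eq sq ⟨U, hU⟩ ⟨F ⁻¹ᵁ U, hV⟩ le_rfl
  have hU₀ : IsAffineOpen (j ⁻¹ᵁ U) := hU.preimage j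
  have heq : i ⁻¹ᵁ (F ⁻¹ᵁ U) = F₀ ⁻¹ᵁ (j ⁻¹ᵁ U) := by
    rw [← Scheme.Hom.comp_preimage, sq.w, Scheme.Hom.comp_preimage]
  have hs : Function.Surjective (F.appLE U (F ⁻¹ᵁ U) le_rfl).hom := by
    refine surjective_of_nilpotent _ (i.app (F ⁻¹ᵁ U)).hom _ n hn hker ?_
    rw [comp_eq_hom sq U (F ⁻¹ᵁ U) le_rfl, RingHom.coe_comp]
    refine Function.Surjective.comp ?_ (j.app_surjective U hU)
    have h1 : Function.Surjective (F₀.appLE (j ⁻¹ᵁ U) (F₀ ⁻¹ᵁ (j ⁻¹ᵁ U)) le_rfl).hom := by
      rw [Scheme.Hom.appLE_eq_app]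
      exact F₀.app_surjective _ hU₀
    exact (F₀.appLE_congr _ rfl heq (fun φ => Function.Surjective φ.hom)).mpr h1
  rw [Scheme.Hom.app_eq_appLE]
  exact hs

end Scheme

end Groth.Agent.Helper9.Thick
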