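import Mathlib
universe u
namespace Groth.Agent.Helper9.SmulSpan

theorem exists_smul_mem_span {T P' : Type u} [CommRing T] [AddCommGroup P'] [Module T P']
    [Module.Finite T P'] (𝔄 𝔅 : Ideal T) (u : P' →ₗ[T] T)
    (hF3 : ∀ x, u x ∈ 𝔅 → x ∈ 𝔄 • (⊤ : Submodule T P'))
    (𝔮 : Ideal T) [𝔮.IsPrime] (h𝔄𝔮 : 𝔄 ≤ 𝔮) {c : ℕ} (y : Fin c → P')
    (hy : ∀ x : P', ∃ s : T, s ∉ 𝔮 ∧ s * u x ∈ Ideal.span (Set.range fun j => u (y j)) ⊔ 𝔅) :
    ∃ s : T, s ∉ 𝔮 ∧ ∀ x : P', s • x ∈ Submodule.span T (Set.range y) := by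
  classical
  set N : Submodule T P' := Submodule.span T (Set.range y) with hN
  have hmapN : Submodule.map u N = Ideal.span (Set.range fun j => u (y j)) := by
    rw [hN, Submodule.map_span, ← Set.range_comp]
    rfl
  have h1 : ∀ x : P', ∃ s : T, s ∉ 𝔮 ∧ s • x ∈ N ⊔ 𝔄 • (⊤ : Submodule T P') := by
    intro x
    obtain ⟨s, hs, hmem⟩ := hy x
    obtain ⟨a, ha, b, hb, hab⟩ := Submodule.mem_sup.mp hmem
    rw [← hmapN] at ha
    obtain ⟨n, hn, rfl⟩ := ha
    refine ⟨s, hs, ?_⟩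
    have hu : u (s • x - n) ∈ 𝔅 := by
      rw [map_sub, map_smul, smul_eq_mul, ← hab, add_sub_cancel_left]
      exact hb
    have hz := hF3 _ hu
    have e : s • x = n + (s • x - n) := by abel
    rw [e]
    exact Submodule.add_mem_sup hn hz
  obtain ⟨G, hG⟩ := (Module.Finite.fg_top : (⊤ : Submodule T P').FG)
  choose sf hsf hsf' using h1
  set s₀ : T := ∏ g ∈ G, sf g with hs₀
  have hs₀q : s₀ ∉ 𝔮 := by
    intro h
    rw [hs₀, Ideal.IsPrime.prod_mem_iff] at h
    obtain ⟨g, _, hg⟩ := h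
    exact hsf g hg
  have h2g : ∀ g ∈ G, s₀ • g ∈ N ⊔ 𝔄 • (⊤ : Submodule T P') := by
    intro g hg
    have e : s₀ = (∏ g' ∈ G.erase g, sf g') * sf g := by
      rw [hs₀, Finset.prod_erase_mul G sf hg]
    rw [e, mul_smul]
    exact Submodule.smul_mem _ _ (hsf' g)
  have h2 : ∀ x : P', s₀ • x ∈ N ⊔ 𝔄 • (⊤ : Submodule T P') := by
    intro x
    have hx : x ∈ Submodule.span T (G : Set P') := by rw [hG]; trivial
    refine Submodule.span_induction
      (p := fun x _ => s₀ • x ∈ N ⊔ 𝔄 • (⊤ : Submodule T P')) ?_ ?_ ?_ ?_ hx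
    · intro g hg
      exact h2g g hg
    · rw [smul_zero]
      exact Submodule.zero_mem _
    · intro a b _ _ ha hb
      rw [smul_add]
      exact Submodule.add_mem _ ha hb
    · intro r a _ ha
      rw [smul_comm]
      exact Submodule.smul_mem _ _ ha
  let f : Module.End T (P' ⧸ N) := algebraMap T (Module.End T (P' ⧸ N)) s₀
  have hrange : LinearMap.range f ≤ 𝔄 • (⊤ : Submodule T (P' ⧸ N)) := by
    rintro _ ⟨w, rfl⟩
    obtain ⟨x, rfl⟩ := Submodule.Quotient.mk_surjective N w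
    change s₀ • (Submodule.Quotient.mk x : P' ⧸ N) ∈ _
    obtain ⟨n, hn, z, hz, hnz⟩ := Submodule.mem_sup.mp (h2 x)
    have e : (Submodule.Quotient.mk (s₀ • x) : P' ⧸ N) = Submodule.Quotient.mk z := by
      rw [← hnz, Submodule.Quotient.mk_add, (Submodule.Quotient.mk_eq_zero N).mpr hn, zero_add]
    rw [← Submodule.Quotient.mk_smul, e]
    have hmap : Submodule.map N.mkQ (𝔄 • (⊤ : Submodule T P')) ≤
        𝔄 • (⊤ : Submodule T (P' ⧸ N)) := by
      rw [Submodule.map_smul'']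
      exact Submodule.smul_mono le_rfl le_top
    exact hmap ⟨z, hz, rfl⟩
  obtain ⟨p, hmonic, -, hcoeff, hp⟩ :=
    LinearMap.exists_monic_and_natDegree_eq_and_coeff_mem_pow_and_aeval_eq_zero T f 𝔄 hrange
  refine ⟨p.eval s₀, ?_, ?_⟩
  · intro hmem
    apply hs₀q
    have hpow : s₀ ^ p.natDegree ∈ 𝔮 := by
      have hsum := Polynomial.eval_eq_sum_range (p := p) s₀
      rw [Finset.sum_range_succ, hmonic.coeff_natDegree, one_mul] at hsum
      have hlow : ∑ i ∈ Finset.range p.natDegree, p.coeff i * s₀ ^ i ∈ 𝔮 := by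
        refine Ideal.sum_mem _ fun i hi => ?_
        apply Ideal.mul_mem_right
        apply h𝔄𝔮
        have hlt : i < p.natDegree := Finset.mem_range.mp hi
        exact Ideal.pow_le_self (by omega) (hcoeff i)
      have e : s₀ ^ p.natDegree =
          p.eval s₀ - ∑ i ∈ Finset.range p.natDegree, p.coeff i * s₀ ^ i := by
        rw [hsum]; ring
      rw [e]
      exact Ideal.sub_mem _ hmem hlow
    exact Ideal.IsPrime.mem_of_pow_mem inferInstance _ hpow
  · intro x
    have h3 : (Polynomial.aeval f p) (Submodule.Quotient.mk x : P' ⧸ N) = 0 := by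
      rw [hp]; rfl
    have h4 : Polynomial.aeval f p = algebraMap T (Module.End T (P' ⧸ N)) (p.eval s₀) := by
      change Polynomial.aeval (algebraMap T (Module.End T (P' ⧸ N)) s₀) p = _
      rw [Polynomial.aeval_algebraMap_apply, Polynomial.coe_aeval_eq_eval]
    rw [h4, Module.algebraMap_end_apply, ← Submodule.Quotient.mk_smul,
      Submodule.Quotient.mk_eq_zero] at h3
    exact h3

end Groth.Agent.Helper9.SmulSpan
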