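import Mathlib
import Groth.Prelude.Def_PCoh
import Groth.Agent.Lib.Helper9.PCoh4

/-!
# Pseudo-coherence (punctual case): the inductive step (S5628), main lemma
-/

set_option autoImplicit false
universe w v u
open CategoryTheory CategoryTheory.Limits

namespace Groth.Agent.Helper9.PCohLib

variable {C : Type u} [Category.{v} C] [Abelian C]

/-- From an epimorphism `Q₀ ⟶ H^n(M)` with `Q₀` in `P`, produce (by quasi-liftability) a cocycle
`Q ⟶ Z^n(M)` with `Q` in `P` inducing an epimorphism onto `H^n(M)`. -/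
theorem exists_cycle_of_finiteType (P : ObjectProperty C) (hql : PCoh.IsQuasiLiftable P)
    (M : CochainComplex C ℤ) (n : ℤ) (h : PCoh.IsOfFiniteType P (M.homology n)) :
    ∃ (Q : C) (c : Q ⟶ M.cycles n), P Q ∧ Epi (c ≫ M.homologyπ n) := by
  obtain ⟨Q₀, π₀, hQ₀, hπ₀⟩ := h
  obtain ⟨Q, w, hQ, hw⟩ := hql (pullback (M.homologyπ n) π₀) Q₀ (pullback.snd _ _) inferInstance hQ₀
  refine ⟨Q, w ≫ pullback.fst _ _, hQ, ?_⟩
  have : (w ≫ pullback.fst _ _) ≫ M.homologyπ n = (w ≫ pullback.snd _ _) ≫ π₀ := by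
    rw [Category.assoc, Category.assoc, pullback.condition]
  rw [this]
  exact epi_comp _ _

/-- A chain map from a single complex, built from a cycle, and surjectivity on homology. -/
theorem epi_homologyMap_mkHomFromSingle (M : CochainComplex C ℤ) (n : ℤ) (Q : C)
    (c : Q ⟶ M.cycles n) (hc : Epi (c ≫ M.homologyπ n))
    (z : (HomologicalComplex.single C (ComplexShape.up ℤ) n).obj Q ⟶ M)
    (hz : z.f n = (HomologicalComplex.singleObjXSelf (ComplexShape.up ℤ) n Q).hom ≫ c ≫ M.iCycles n) :
    Epi (HomologicalComplex.homologyMap z n) := by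
  rw [HomologicalComplex.epi_homologyMap_iff_up_to_refinements z (n - 1) n (n + 1) (by simp) (by simp)]
  intro A y₂ hy₂
  obtain ⟨A₁, π₁, hπ₁, x, hx⟩ := surjective_up_to_refinements_of_epi (c ≫ M.homologyπ n)
    (M.liftCycles y₂ (n + 1) (by simp) hy₂ ≫ M.homologyπ n)
  have hx' : (π₁ ≫ M.liftCycles y₂ (n + 1) (by simp) hy₂) ≫ M.homologyπ n =
      (x ≫ c) ≫ M.homologyπ n := by
    rw [Category.assoc, Category.assoc]; exact hx
  rw [M.comp_homologyπ_eq_iff_up_to_refinements (n - 1) n (by simp)] at hx'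
  obtain ⟨A₂, π₂, hπ₂, x₁, hx₁⟩ := hx'
  have hx₂ := hx₁ =≫ M.iCycles n
  simp only [Category.assoc, HomologicalComplex.liftCycles_i, Preadditive.add_comp,
    HomologicalComplex.toCycles_i] at hx₂
  refine ⟨A₂, π₂ ≫ π₁, epi_comp _ _,
    π₂ ≫ x ≫ (HomologicalComplex.singleObjXSelf (ComplexShape.up ℤ) n Q).inv, ?_, x₁, ?_⟩
  · simp
  · rw [hz]
    simp only [Category.assoc, Iso.inv_hom_id_assoc]
    exact hx₂


theorem isZero_homology_single (Q : C) (n j : ℤ) (hj : j ≠ n) :
    IsZero (((HomologicalComplex.single C (ComplexShape.up ℤ) n).obj Q).homology j) :=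
  (HomologicalComplex.ExactAt.of_isZero
    (HomologicalComplex.isZero_single_obj_X (ComplexShape.up ℤ) n Q j hj)).isZero_homology

/-- S5628 (strong form). -/
theorem exists_step (P : ObjectProperty C) [P.IsClosedUnderIsomorphisms]
    (hql : PCoh.IsQuasiLiftable P) (n : ℤ) {E F : CochainComplex C ℤ} (u : E ⟶ F)
    (hu : IsNQI (n + 1) u)
    (hcone : PCoh.IsOfFiniteType P ((CochainComplex.mappingCone u).homology n)) :
    ∃ (E' : CochainComplex C ℤ) (v : E ⟶ E') (u' : E' ⟶ F), v ≫ u' = u ∧ (∀ i : ℤ, Mono (v.f i)) ∧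
      (∀ i : ℤ, i ≠ n → IsIso (v.f i)) ∧ P (cokernel (v.f n)) ∧ IsNQI n u' := by
  obtain ⟨C', i, p, hi, hp, hip, -⟩ := exists_mono_quasiIso_fac u
  subst hip
  have hi' : IsNQI (n + 1) i := IsNQI.of_comp_quasiIso i p hu
  have hS₁ := shortExact_cokernel i
  have hM : ∀ j : ℤ, n + 1 ≤ j → IsZero ((cokernel i).homology j) := fun j hj =>
    (exactAt_cokernel_of_isNQI i (n + 1) hi' j hj).isZero_homology
  have hft : PCoh.IsOfFiniteType P ((cokernel i).homology n) := by
    obtain ⟨e⟩ := homology_cokernel_iso i p n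
    exact isOfFiniteType_of_iso P e.symm hcone
  obtain ⟨Q, c, hQ, hc⟩ := exists_cycle_of_finiteType P hql (cokernel i) n hft
  let z : (HomologicalComplex.single C (ComplexShape.up ℤ) n).obj Q ⟶ cokernel i :=
    HomologicalComplex.mkHomFromSingle (c ≫ (cokernel i).iCycles n) (fun k _ => by simp)
  have hz : Epi (HomologicalComplex.homologyMap z n) :=
    epi_homologyMap_mkHomFromSingle (cokernel i) n Q c hc z (by simp [z])
  -- the pullback
  let v : E ⟶ pullback (cokernel.π i) z := pullback.lift i 0 (by rw [cokernel.condition, zero_comp])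
  have hv1 : v ≫ pullback.fst (cokernel.π i) z = i := pullback.lift_fst _ _ _
  have hv2 : v ≫ pullback.snd (cokernel.π i) z = 0 := pullback.lift_snd _ _ _
  have hvmono : Mono v := mono_of_mono_fac hv1
  let S₂ : ShortComplex (CochainComplex C ℤ) := ShortComplex.mk v (pullback.snd (cokernel.π i) z) hv2
  have hS₂ : S₂.ShortExact :=
    { exact := by
        rw [ShortComplex.exact_iff_exact_up_to_refinements]
        intro A x₂ hx₂
        have hx₂' : x₂ ≫ pullback.snd (cokernel.π i) z = 0 := hx₂
        have h0 : (x₂ ≫ pullback.fst (cokernel.π i) z) ≫ cokernel.π i = 0 := by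
          rw [Category.assoc, pullback.condition, ← Category.assoc, hx₂', zero_comp]
        refine ⟨A, 𝟙 A, inferInstance,
          hS₁.fIsKernel.lift (KernelFork.ofι (x₂ ≫ pullback.fst (cokernel.π i) z) h0), ?_⟩
        have hfac : hS₁.fIsKernel.lift (KernelFork.ofι (x₂ ≫ pullback.fst (cokernel.π i) z) h0) ≫ i =
            x₂ ≫ pullback.fst (cokernel.π i) z := hS₁.fIsKernel.fac _ WalkingParallelPair.zero
        rw [Category.id_comp]
        change x₂ = _ ≫ v
        apply pullback.hom_ext
        · rw [Category.assoc, hv1, hfac]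
        · rw [Category.assoc, hv2, comp_zero, hx₂']
      mono_f := hvmono
      epi_g := inferInstanceAs (Epi (pullback.snd (cokernel.π i) z)) }
  let φ : S₂ ⟶ ShortComplex.mk i (cokernel.π i) (cokernel.condition i) :=
    { τ₁ := 𝟙 E
      τ₂ := pullback.fst (cokernel.π i) z
      τ₃ := z
      comm₁₂ := by dsimp [S₂]; rw [hv1, Category.id_comp]
      comm₂₃ := pullback.condition }
  -- `pullback.fst` is an `n`-quasi-isomorphism
  have hzero : ∀ j : ℤ, j ≠ n →
      IsZero (((HomologicalComplex.single C (ComplexShape.up ℤ) n).obj Q).homology j) :=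
    fun j hj => isZero_homology_single Q n j hj
  have hzepi : ∀ j : ℤ, n ≤ j → Epi (HomologicalComplex.homologyMap z j) := by
    intro j hj
    rcases hj.lt_or_eq with h | h
    · exact ⟨fun _ _ _ => (hM j (by omega)).eq_of_src _ _⟩
    · subst h; exact hz
  have hzmono : ∀ j : ℤ, n < j → Mono (HomologicalComplex.homologyMap z j) := by
    intro j hj
    exact ⟨fun _ _ _ => (hzero j (by omega)).eq_of_tgt _ _⟩
  have hfst : IsNQI n (pullback.fst (cokernel.π i) z) := by
    have hepi : ∀ j : ℤ, n ≤ j → Epi (HomologicalComplex.homologyMap (pullback.fst (cokernel.π i) z) j) := by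
      intro j hj
      refine epi_homologyMap_τ₂ φ hS₂ hS₁ j (j + 1) rfl ?_ (hzepi j hj) ?_
      · change Epi (HomologicalComplex.homologyMap (𝟙 E) j)
        rw [HomologicalComplex.homologyMap_id]; infer_instance
      · change Mono (HomologicalComplex.homologyMap (𝟙 E) (j + 1))
        rw [HomologicalComplex.homologyMap_id]; infer_instance
    refine ⟨fun j hj => ?_, hepi n le_rfl⟩
    have h1 := hepi j hj.le
    have h2 : Mono (HomologicalComplex.homologyMap (pullback.fst (cokernel.π i) z) j) := by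
      refine mono_homologyMap_τ₂ φ hS₂ hS₁ (j - 1) j (by omega) (hzepi (j - 1) (by omega)) ?_
        (hzmono j hj)
      change Mono (HomologicalComplex.homologyMap (𝟙 E) j)
      rw [HomologicalComplex.homologyMap_id]; infer_instance
    exact isIso_of_mono_of_epi _
  refine ⟨pullback (cokernel.π i) z, v, pullback.fst (cokernel.π i) z ≫ p, ?_, ?_, ?_, ?_,
    hfst.comp_quasiIso p⟩
  · rw [← Category.assoc, hv1]
  · intro j; infer_instance
  · intro j hj
    have hS₂j := hS₂.map_of_exact (HomologicalComplex.eval C (ComplexShape.up ℤ) j)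
    exact hS₂j.isIso_f_iff.2 (HomologicalComplex.isZero_single_obj_X (ComplexShape.up ℤ) n Q j hj)
  · have hS₂n := hS₂.map_of_exact (HomologicalComplex.eval C (ComplexShape.up ℤ) n)
    have hcok := hS₂n.gIsCokernel
    have e : cokernel (v.f n) ≅ ((HomologicalComplex.single C (ComplexShape.up ℤ) n).obj Q).X n :=
      IsColimit.coconePointUniqueUpToIso (cokernelIsCokernel (v.f n)) hcok
    exact P.prop_of_iso (e ≪≫ HomologicalComplex.singleObjXSelf (ComplexShape.up ℤ) n Q).symm hQ

end Groth.Agent.Helper9.PCohLib
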