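import Mathlib
import Groth.Prelude.Def_PCoh
import Groth.Agent.Lib.Helper9.PCoh5

/-!
# Pseudo-coherence (punctual case): resolutions (S5597)
-/

set_option autoImplicit false
universe w v u
open CategoryTheory CategoryTheory.Limits

namespace Groth.Agent.Helper9.PCohLib

variable {C : Type u} [Category.{v} C] [Abelian C]

theorem isIso_of_isZero {X Y : C} (f : X ⟶ Y) (hX : IsZero X) (hY : IsZero Y) : IsIso f :=
  ⟨0, hX.eq_of_src _ _, hY.eq_of_src _ _⟩

theorem epi_of_isZero_tgt {X Y : C} (f : X ⟶ Y) (hY : IsZero Y) : Epi f :=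
  ⟨fun _ _ _ => hY.eq_of_src _ _⟩

theorem mono_of_isZero_src {X Y : C} (f : X ⟶ Y) (hX : IsZero X) : Mono f :=
  ⟨fun _ _ _ => hX.eq_of_tgt _ _⟩

open CochainComplex in
/-- The mapping cone of a map between complexes with terms in `P` (in the relevant range). -/
theorem prop_mappingCone_X (P : ObjectProperty C) [P.IsClosedUnderIsomorphisms]
    (hsum : ∀ X Y : C, P X → P Y → P (X ⨯ Y)) {G F : CochainComplex C ℤ} (φ : G ⟶ F) (j : ℤ)
    (hG : P (G.X (j + 1))) (hF : P (F.X j)) : P ((mappingCone φ).X j) := by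
  have e : (mappingCone φ).X j ≅ G.X (j + 1) ⨯ F.X j :=
    HomologicalComplex.homotopyCofiber.XIsoBiprod φ j (j + 1) rfl ≪≫ biprod.isoProd _ _
  exact P.prop_of_iso e.symm (hsum _ _ hG hF)

open CochainComplex in
theorem finiteType_homology_mappingCone (P : ObjectProperty C) [P.IsClosedUnderIsomorphisms]
    (hsum : ∀ X Y : C, P X → P Y → P (X ⨯ Y)) (hqs : PCoh.IsQuasiStableUnderKernels P)
    {G E F : CochainComplex C ℤ} (w : G ⟶ E) (u : E ⟶ F) [QuasiIso u] (m b : ℤ)
    (hG : ∀ j, P (G.X j)) (hGb : ∀ j, b < j → IsZero (G.X j))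
    (hF : ∀ j, m ≤ j → P (F.X j)) (hFb : ∀ j, b < j → IsZero (F.X j))
    (hw : IsNQI (m + 1) w) :
    PCoh.IsOfFiniteType P ((mappingCone w).homology m) := by
  have h1 : PCoh.IsOfFiniteType P ((mappingCone (w ≫ u)).homology m) := by
    apply finiteType_homology_of_strictPC P hqs m
    · refine ⟨⟨b, fun j hj => ?_⟩, fun j hj => ?_⟩
      · rw [mappingCone.isZero_X_iff]
        exact ⟨hGb _ (by omega), hFb _ hj⟩
      · exact prop_mappingCone_X P hsum _ j (hG _) (hF j hj)
    · intro j hj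
      exact (isNQI_iff_mappingCone (w ≫ u) (m + 1)).1 (hw.comp_quasiIso u) j (by omega)
  have h2 : QuasiIso (mappingCone.map w (w ≫ u) (𝟙 G) u (by simp)) :=
    quasiIso_mappingCone_map _ _ _ _ _
  exact isOfFiniteType_of_iso P
    (asIso (HomologicalComplex.homologyMap (mappingCone.map w (w ≫ u) (𝟙 G) u (by simp)) m)).symm h1

/-- The induction. -/
theorem exists_partial_resolution (P : ObjectProperty C) [P.IsClosedUnderIsomorphisms]
    [P.ContainsZero]
    (hsum : ∀ X Y : C, P X → P Y → P (X ⨯ Y)) (hqs : PCoh.IsQuasiStableUnderKernels P)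
    (hql : PCoh.IsQuasiLiftable P) (n b : ℤ) {E F : CochainComplex C ℤ} (u : E ⟶ F) [QuasiIso u]
    (hF : ∀ j, n ≤ j → P (F.X j)) (hFb : ∀ j, b < j → IsZero (F.X j)) :
    ∀ k : ℕ, (k : ℤ) ≤ b + 1 - n → ∃ (G : CochainComplex C ℤ) (w : G ⟶ E),
      (∀ j, P (G.X j)) ∧ (∀ j, b < j → IsZero (G.X j)) ∧ (∀ j, j ≤ b - k → IsZero (G.X j)) ∧
        IsNQI (b + 1 - k) w := by
  have hE : ∀ j, b < j → IsZero (E.homology j) := by
    intro j hj
    have h : IsZero (F.homology j) := (HomologicalComplex.ExactAt.of_isZero (hFb j hj)).isZero_homology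
    exact h.of_iso (asIso (HomologicalComplex.homologyMap u j))
  intro k
  induction k with
  | zero =>
    intro _
    refine ⟨HomologicalComplex.zero, 0, fun j => P.prop_of_isZero (isZero_zero C),
      fun j _ => isZero_zero C, fun j _ => isZero_zero C, ?_, ?_⟩
    · intro j hj
      have h0 : IsZero ((HomologicalComplex.zero : CochainComplex C ℤ).homology j) :=
        (HomologicalComplex.ExactAt.of_isZero (isZero_zero C)).isZero_homology
      exact isIso_of_isZero _ h0 (hE j (by push_cast at hj; omega))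
    · exact epi_of_isZero_tgt _ (hE _ (by push_cast; omega))
  | succ k ih =>
    intro hk
    obtain ⟨G, w, hGP, hGb, hGz, hw⟩ := ih (by push_cast at hk; omega)
    have hw' : IsNQI (b - k + 1) w := by
      have : b + 1 - (k : ℤ) = b - k + 1 := by ring
      rwa [this] at hw
    have hft : PCoh.IsOfFiniteType P ((CochainComplex.mappingCone w).homology (b - k)) :=
      finiteType_homology_mappingCone P hsum hqs w u (b - k) b hGP hGb
        (fun j hj => hF j (by push_cast at hk; omega)) hFb hw'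
    obtain ⟨G', v, w', hvw, hvmono, hviso, hcok, hw''⟩ := exists_step P hql (b - k) w hw' hft
    have hiso : ∀ j, j ≠ b - k → (G'.X j ≅ G.X j) := fun j hj =>
      haveI := hviso j hj
      (asIso (v.f j)).symm
    refine ⟨G', w', ?_, ?_, ?_, ?_⟩
    · intro j
      by_cases hj : j = b - k
      · subst hj
        have hz : IsZero (G.X (b - k)) := hGz _ le_rfl
        have h0 : v.f (b - k) = 0 := hz.eq_of_src _ _
        rw [h0] at hcok
        exact P.prop_of_iso cokernelZeroIsoTarget hcok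
      · exact P.prop_of_iso (hiso j hj).symm (hGP j)
    · intro j hj
      exact (hGb j hj).of_iso (hiso j (by omega))
    · intro j hj
      push_cast at hj
      exact (hGz j (by omega)).of_iso (hiso j (by omega))
    · have : b + 1 - ((k + 1 : ℕ) : ℤ) = b - k := by push_cast; ring
      rw [this]
      exact hw''

/-- S5597. -/
theorem exists_strictPC_resolution (P : ObjectProperty C) [P.IsClosedUnderIsomorphisms]
    [P.ContainsZero]
    (hsum : ∀ X Y : C, P X → P Y → P (X ⨯ Y)) (hqs : PCoh.IsQuasiStableUnderKernels P)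
    (hql : PCoh.IsQuasiLiftable P) (n : ℤ) {E F : CochainComplex C ℤ}
    (hF : PCoh.IsStrictPC P n F) (u : E ⟶ F) [QuasiIso u] :
    ∃ (F' : CochainComplex C ℤ) (v : F' ⟶ E), PCoh.IsStrictPC P n F' ∧ QuasiIso v := by
  obtain ⟨⟨b₀, hb₀⟩, hFP⟩ := hF
  set b := max b₀ (n - 1) with hb
  have hFb : ∀ j, b < j → IsZero (F.X j) := fun j hj => hb₀ j (by omega)
  obtain ⟨G, w, hGP, hGb, -, hw⟩ := exists_partial_resolution P hsum hqs hql n b u hFP hFb
    (b + 1 - n).toNat (by omega)
  have hw' : IsNQI n w := by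
    have : b + 1 - ((b + 1 - n).toNat : ℤ) = n := by omega
    rwa [this] at hw
  obtain ⟨G', v, w', hvw, hw'q, -, hviso⟩ := exists_factorisation_of_isNQI n w hw'
  have hiso : ∀ j, n ≤ j → (G'.X j ≅ G.X j) := fun j hj =>
    haveI := hviso j hj
    (asIso (v.f j)).symm
  refine ⟨G', w', ⟨⟨b, fun j hj => ?_⟩, fun j hj => ?_⟩, hw'q⟩
  · exact (hGb j hj).of_iso (hiso j (by omega))
  · exact P.prop_of_iso (hiso j hj).symm (hGP j)

end Groth.Agent.Helper9.PCohLib
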