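import Mathlib
import Groth.Prelude.Def_PCoh
import Groth.Agent.Lib.Helper9.PCoh6

/-!
# Pseudo-coherence (punctual case): derived category level
-/

set_option autoImplicit false
universe w v u
open CategoryTheory CategoryTheory.Limits Pretriangulated

namespace Groth.Agent.Helper9.PCohLib

variable {C : Type u} [Category.{v} C] [Abelian C] [HasDerivedCategory.{w} C]

/-- `F ∈ D(C)` is `n`-pseudo-coherent. -/
def IsNPC (P : ObjectProperty C) (n : ℤ) (F : DerivedCategory C) : Prop :=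
  ∃ E : CochainComplex C ℤ, PCoh.IsStrictPC P n E ∧ Nonempty (DerivedCategory.Q.obj E ≅ F)

variable (P : ObjectProperty C)

theorem IsNPC.of_iso {n : ℤ} {F F' : DerivedCategory C} (h : IsNPC P n F) (e : F ≅ F') :
    IsNPC P n F' := by
  obtain ⟨E, hE, ⟨e'⟩⟩ := h
  exact ⟨E, hE, ⟨e' ≪≫ e⟩⟩

theorem isNPC_Q_of_quasiIso {n : ℤ} {E X : CochainComplex C ℤ} (hE : PCoh.IsStrictPC P n E)
    (v : E ⟶ X) [QuasiIso v] : IsNPC P n (DerivedCategory.Q.obj X) :=
  ⟨E, hE, ⟨asIso (DerivedCategory.Q.map v)⟩⟩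

variable [P.IsClosedUnderIsomorphisms] [P.ContainsZero]
  (hsum : ∀ X Y : C, P X → P Y → P (X ⨯ Y)) (hqs : PCoh.IsQuasiStableUnderKernels P)
  (hql : PCoh.IsQuasiLiftable P)

include hsum hqs hql

/-- Strictification: an `n`-pseudo-coherent complex receives a quasi-isomorphism from a strictly
`n`-pseudo-coherent one. -/
theorem exists_quasiIso_of_isNPC_Q {n : ℤ} {X : CochainComplex C ℤ}
    (h : IsNPC P n (DerivedCategory.Q.obj X)) :
    ∃ (E : CochainComplex C ℤ) (v : E ⟶ X), PCoh.IsStrictPC P n E ∧ QuasiIso v := by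
  obtain ⟨E, hE, ⟨e⟩⟩ := h
  obtain ⟨X', s, hs, g, hg⟩ := DerivedCategory.right_fac e.hom
  have hs' : QuasiIso s := (DerivedCategory.isIso_Q_map_iff_quasiIso C s).1 hs
  have hg' : QuasiIso g := by
    rw [← DerivedCategory.isIso_Q_map_iff_quasiIso C g]
    have : DerivedCategory.Q.map g = DerivedCategory.Q.map s ≫ e.hom := by
      rw [hg, IsIso.hom_inv_id_assoc]
    rw [this]
    infer_instance
  obtain ⟨E', t, hE', ht⟩ := exists_strictPC_resolution P hsum hqs hql n hE s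
  exact ⟨E', t ≫ g, hE', inferInstance⟩

/-- Representing a morphism of `D(C)` whose source is `n`-pseudo-coherent. -/
theorem exists_rep_of_isNPC {n : ℤ} {E₁ Y : CochainComplex C ℤ} (hE₁ : PCoh.IsStrictPC P n E₁)
    (α : DerivedCategory.Q.obj E₁ ⟶ DerivedCategory.Q.obj Y) :
    ∃ (E : CochainComplex C ℤ) (t : E ⟶ E₁) (g : E ⟶ Y), PCoh.IsStrictPC P n E ∧ QuasiIso t ∧
      DerivedCategory.Q.map g = DerivedCategory.Q.map t ≫ α := by
  obtain ⟨X', s, hs, g, hg⟩ := DerivedCategory.right_fac α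
  have hs' : QuasiIso s := (DerivedCategory.isIso_Q_map_iff_quasiIso C s).1 hs
  obtain ⟨E', t, hE', ht⟩ := exists_strictPC_resolution P hsum hqs hql n hE₁ s
  refine ⟨E', t ≫ s, t ≫ g, hE', inferInstance, ?_⟩
  rw [Functor.map_comp, Functor.map_comp, hg, Category.assoc, IsIso.hom_inv_id_assoc]

open CochainComplex in
/-- The cone of a distinguished triangle whose first two vertices are represented by complexes. -/
theorem exists_cone_rep {n : ℤ} (T : Triangle (DerivedCategory C)) (hT : T ∈ distTriang _)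
    {E₁ E₂ : CochainComplex C ℤ} (hE₁ : PCoh.IsStrictPC P n E₁)
    (e₁ : DerivedCategory.Q.obj E₁ ≅ T.obj₁) (e₂ : DerivedCategory.Q.obj E₂ ≅ T.obj₂) :
    ∃ (E : CochainComplex C ℤ) (g : E ⟶ E₂), PCoh.IsStrictPC P n E ∧
      Nonempty (DerivedCategory.Q.obj (mappingCone g) ≅ T.obj₃) := by
  obtain ⟨E, t, g, hE, ht, hg⟩ := exists_rep_of_isNPC P hsum hqs hql hE₁ (e₁.hom ≫ T.mor₁ ≫ e₂.inv)
  refine ⟨E, g, hE, ⟨?_⟩⟩
  let a : DerivedCategory.Q.obj E ≅ T.obj₁ := asIso (DerivedCategory.Q.map t) ≪≫ e₁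
  have hT' := DerivedCategory.mappingCone_triangle_distinguished g
  exact Triangle.π₃.mapIso (isoTriangleOfIso₁₂ _ T hT' hT a e₂ (by
      change DerivedCategory.Q.map g ≫ e₂.hom = (DerivedCategory.Q.map t ≫ e₁.hom) ≫ T.mor₁
      rw [hg]
      simp))

end Groth.Agent.Helper9.PCohLib
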