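import Mathlib
import Groth.Prelude.Def_PCoh
import Groth.Agent.Lib.Helper9.PCoh7

/-!
# Pseudo-coherence (punctual case): two out of three (S5599), shifts
-/

set_option autoImplicit false
universe w v u
open CategoryTheory CategoryTheory.Limits Pretriangulated

namespace Groth.Agent.Helper9.PCohLib

variable {C : Type u} [Category.{v} C] [Abelian C] [HasDerivedCategory.{w} C]
variable (P : ObjectProperty C)

theorem IsNPC.shift {n : ℤ} {F : DerivedCategory C} (hF : IsNPC P n F) (m : ℤ) :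
    IsNPC P (n - m) ((shiftFunctor (DerivedCategory C) m).obj F) := by
  obtain ⟨E, ⟨⟨b, hb⟩, hP⟩, ⟨e⟩⟩ := hF
  refine ⟨(shiftFunctor (CochainComplex C ℤ) m).obj E, ⟨⟨b - m, fun i hi => ?_⟩, fun i hi => ?_⟩, ⟨?_⟩⟩
  · exact hb (i + m) (by omega)
  · exact hP (i + m) (by omega)
  · exact ((DerivedCategory.Q (C := C)).commShiftIso m).app E ≪≫
      (shiftFunctor (DerivedCategory C) m).mapIso e

theorem IsNPC.of_le {n n' : ℤ} {F : DerivedCategory C} (hF : IsNPC P n F) (h : n ≤ n') :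
    IsNPC P n' F := by
  obtain ⟨E, ⟨hb, hP⟩, e⟩ := hF
  exact ⟨E, ⟨hb, fun i hi => hP i (by omega)⟩, e⟩

open CochainComplex in
theorem isStrictPC_mappingCone [P.IsClosedUnderIsomorphisms]
    (hsum : ∀ X Y : C, P X → P Y → P (X ⨯ Y)) {n : ℤ} {E₁ E₂ : CochainComplex C ℤ}
    (g : E₁ ⟶ E₂) (h₁ : PCoh.IsStrictPC P (n + 1) E₁) (h₂ : PCoh.IsStrictPC P n E₂) :
    PCoh.IsStrictPC P n (mappingCone g) := by
  obtain ⟨⟨b₁, hb₁⟩, hP₁⟩ := h₁
  obtain ⟨⟨b₂, hb₂⟩, hP₂⟩ := h₂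
  refine ⟨⟨max b₁ b₂, fun j hj => ?_⟩, fun j hj => ?_⟩
  · rw [mappingCone.isZero_X_iff]
    exact ⟨hb₁ _ (by omega), hb₂ _ (by omega)⟩
  · exact prop_mappingCone_X P hsum g j (hP₁ _ (by omega)) (hP₂ _ hj)

variable [P.IsClosedUnderIsomorphisms] [P.ContainsZero]
  (hsum : ∀ X Y : C, P X → P Y → P (X ⨯ Y)) (hqs : PCoh.IsQuasiStableUnderKernels P)
  (hql : PCoh.IsQuasiLiftable P)

include hsum hqs hql

theorem isNPC_obj₃ {n : ℤ} (T : Triangle (DerivedCategory C)) (hT : T ∈ distTriang _)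
    (h₁ : IsNPC P (n + 1) T.obj₁) (h₂ : IsNPC P n T.obj₂) : IsNPC P n T.obj₃ := by
  obtain ⟨E₁, hE₁, ⟨e₁⟩⟩ := h₁
  obtain ⟨E₂, hE₂, ⟨e₂⟩⟩ := h₂
  obtain ⟨E, g, hE, ⟨e⟩⟩ := exists_cone_rep P hsum hqs hql T hT hE₁ e₁ e₂
  exact ⟨_, isStrictPC_mappingCone P hsum g hE hE₂, ⟨e⟩⟩

theorem isNPC_obj₂ {n : ℤ} (T : Triangle (DerivedCategory C)) (hT : T ∈ distTriang _)
    (h₁ : IsNPC P n T.obj₁) (h₃ : IsNPC P n T.obj₃) : IsNPC P n T.obj₂ := by
  have hT' := inv_rot_of_distTriang T hT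
  have h := isNPC_obj₃ P hsum hqs hql (n := n) T.invRotate hT' ?_ h₁
  · exact h
  · have := h₃.shift P (-1)
    rw [show n - -1 = n + 1 by ring] at this
    exact this

theorem isNPC_obj₁ {n : ℤ} (T : Triangle (DerivedCategory C)) (hT : T ∈ distTriang _)
    (h₂ : IsNPC P (n + 1) T.obj₂) (h₃ : IsNPC P n T.obj₃) : IsNPC P (n + 1) T.obj₁ := by
  have hT' := inv_rot_of_distTriang T hT
  have h := isNPC_obj₂ P hsum hqs hql (n := n + 1) T.invRotate hT' ?_ h₂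
  · exact h
  · have := h₃.shift P (-1)
    rw [show n - -1 = n + 1 by ring] at this
    exact this

end Groth.Agent.Helper9.PCohLib
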