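import Mathlib
import Groth.Prelude.Def_PCoh
import Groth.Agent.Lib.Helper9.PCoh8

/-!
# Pseudo-coherence (punctual case): S5603, S5598
-/

set_option autoImplicit false
universe w v u
open CategoryTheory CategoryTheory.Limits Pretriangulated

namespace Groth.Agent.Helper9.PCohLib

variable {C : Type u} [Category.{v} C] [Abelian C] [HasDerivedCategory.{w} C]

open DerivedCategory in
/-- `H^i(Q X) ≅ H^i(X)`. -/
noncomputable def homologyQIso (X : CochainComplex C ℤ) (i : ℤ) :
    (homologyFunctor C i).obj (Q.obj X) ≅ X.homology i :=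
  (homologyFunctorFactors C i).app X

open DerivedCategory in
theorem isIso_homologyFunctor_map_Q_iff {X Y : CochainComplex C ℤ} (f : X ⟶ Y) (i : ℤ) :
    IsIso ((homologyFunctor C i).map (Q.map f)) ↔ IsIso (HomologicalComplex.homologyMap f i) :=
  (MorphismProperty.isomorphisms C).arrow_mk_iso_iff
    (Arrow.isoMk ((homologyFunctorFactors C i).app X) ((homologyFunctorFactors C i).app Y)
      ((homologyFunctorFactors C i).hom.naturality f).symm)

open DerivedCategory in
theorem epi_homologyFunctor_map_Q_iff {X Y : CochainComplex C ℤ} (f : X ⟶ Y) (i : ℤ) :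
    Epi ((homologyFunctor C i).map (Q.map f)) ↔ Epi (HomologicalComplex.homologyMap f i) :=
  (MorphismProperty.epimorphisms C).arrow_mk_iso_iff
    (Arrow.isoMk ((homologyFunctorFactors C i).app X) ((homologyFunctorFactors C i).app Y)
      ((homologyFunctorFactors C i).hom.naturality f).symm)

/-- `n`-isomorphisms in `D(C)`. -/
def IsNIso (n : ℤ) {F G : DerivedCategory C} (α : F ⟶ G) : Prop :=
  (∀ i : ℤ, n < i → IsIso ((DerivedCategory.homologyFunctor C i).map α)) ∧
    Epi ((DerivedCategory.homologyFunctor C n).map α)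

theorem isNIso_Q_map_iff {n : ℤ} {X Y : CochainComplex C ℤ} (f : X ⟶ Y) :
    IsNIso n (DerivedCategory.Q.map f) ↔ IsNQI n f := by
  constructor
  · rintro ⟨h1, h2⟩
    exact ⟨fun i hi => (isIso_homologyFunctor_map_Q_iff f i).1 (h1 i hi),
      (epi_homologyFunctor_map_Q_iff f n).1 h2⟩
  · rintro ⟨h1, h2⟩
    exact ⟨fun i hi => (isIso_homologyFunctor_map_Q_iff f i).2 (h1 i hi),
      (epi_homologyFunctor_map_Q_iff f n).2 h2⟩

theorem IsNIso.comp_iso {n : ℤ} {F G H : DerivedCategory C} {α : F ⟶ G} (hα : IsNIso n α)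
    (β : G ⟶ H) [IsIso β] : IsNIso n (α ≫ β) := by
  refine ⟨fun i hi => ?_, ?_⟩
  · rw [Functor.map_comp]
    have := hα.1 i hi
    infer_instance
  · rw [Functor.map_comp]
    have := hα.2
    infer_instance

theorem IsNIso.of_comp_iso {n : ℤ} {F G H : DerivedCategory C} (α : F ⟶ G)
    (β : G ⟶ H) [IsIso β] (h : IsNIso n (α ≫ β)) : IsNIso n α := by
  have : α = (α ≫ β) ≫ inv β := by simp
  rw [this]
  exact h.comp_iso (inv β)

variable (P : ObjectProperty C)

section

variable [P.IsClosedUnderIsomorphisms] [P.ContainsZero]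

/-- A strictly `n`-pc complex from an `n`-quasi-isomorphism out of a strictly `n`-pc complex. -/
theorem isNPC_of_isNQI {n : ℤ} {E X : CochainComplex C ℤ} (hE : PCoh.IsStrictPC P n E)
    (g : E ⟶ X) (hg : IsNQI n g) : IsNPC P n (DerivedCategory.Q.obj X) := by
  obtain ⟨⟨b, hb⟩, hP⟩ := hE
  obtain ⟨E', v, u', -, hu', -, hviso⟩ := exists_factorisation_of_isNQI n g hg
  have hiso : ∀ j, n ≤ j → (E'.X j ≅ E.X j) := fun j hj =>
    haveI := hviso j hj
    (asIso (v.f j)).symm
  refine isNPC_Q_of_quasiIso P (E := E') ⟨⟨max b n, fun j hj => ?_⟩, fun j hj => ?_⟩ u'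
  · exact (hb j (by omega)).of_iso (hiso j (by omega))
  · exact P.prop_of_iso (hiso j hj).symm (hP j hj)

/-- S5603 (⇐). -/
theorem isNPC_of_finiteType_homology (hql : PCoh.IsQuasiLiftable P) (n : ℤ) (F : DerivedCategory C)
    (hac : ∀ i : ℤ, n < i → IsZero ((DerivedCategory.homologyFunctor C i).obj F))
    (hft : PCoh.IsOfFiniteType P ((DerivedCategory.homologyFunctor C n).obj F)) : IsNPC P n F := by
  let X := DerivedCategory.Q.objPreimage F
  let eX : DerivedCategory.Q.obj X ≅ F := DerivedCategory.Q.objObjPreimageIso F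
  have hX : ∀ i, (DerivedCategory.homologyFunctor C i).obj F ≅ X.homology i := fun i =>
    (DerivedCategory.homologyFunctor C i).mapIso eX.symm ≪≫ homologyQIso X i
  have hacX : ∀ i, n < i → IsZero (X.homology i) := fun i hi => (hac i hi).of_iso (hX i).symm
  have hftX : PCoh.IsOfFiniteType P (X.homology n) := isOfFiniteType_of_iso P (hX n) hft
  obtain ⟨Q₁, c, hQ₁, hc⟩ := exists_cycle_of_finiteType P hql X n hftX
  let z : (HomologicalComplex.single C (ComplexShape.up ℤ) n).obj Q₁ ⟶ X :=
    HomologicalComplex.mkHomFromSingle (c ≫ X.iCycles n) (fun k _ => by simp)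
  have hz : Epi (HomologicalComplex.homologyMap z n) :=
    epi_homologyMap_mkHomFromSingle X n Q₁ c hc z (by simp [z])
  have hz' : IsNQI n z :=
    ⟨fun j hj => isIso_of_isZero _ (isZero_homology_single Q₁ n j (by omega)) (hacX j hj), hz⟩
  have hS : PCoh.IsStrictPC P n ((HomologicalComplex.single C (ComplexShape.up ℤ) n).obj Q₁) := by
    refine ⟨⟨n, fun j hj => HomologicalComplex.isZero_single_obj_X _ _ _ _ (by omega)⟩, fun j hj => ?_⟩
    by_cases h : j = n
    · subst h
      exact P.prop_of_iso (HomologicalComplex.singleObjXSelf (ComplexShape.up ℤ) j Q₁).symm hQ₁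
    · exact P.prop_of_isZero (HomologicalComplex.isZero_single_obj_X _ _ _ _ h)
  exact (isNPC_of_isNQI P hS z hz').of_iso P eX

/-- S5603 (⇒). -/
theorem finiteType_homology_of_isNPC (hqs : PCoh.IsQuasiStableUnderKernels P) (n : ℤ)
    (F : DerivedCategory C)
    (hac : ∀ i : ℤ, n < i → IsZero ((DerivedCategory.homologyFunctor C i).obj F))
    (h : IsNPC P n F) : PCoh.IsOfFiniteType P ((DerivedCategory.homologyFunctor C n).obj F) := by
  obtain ⟨E, hE, ⟨e⟩⟩ := h
  have hX : ∀ i, (DerivedCategory.homologyFunctor C i).obj F ≅ E.homology i := fun i =>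
    (DerivedCategory.homologyFunctor C i).mapIso e.symm ≪≫ homologyQIso E i
  have hacE : ∀ i, n < i → IsZero (E.homology i) := fun i hi => (hac i hi).of_iso (hX i).symm
  exact isOfFiniteType_of_iso P (hX n).symm (finiteType_homology_of_strictPC P hqs n E hE hacE)

end

end Groth.Agent.Helper9.PCohLib
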