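import Mathlib
import Groth.Prelude.Def_PCoh
import Groth.Agent.Lib.Helper9.PCoh9

/-!
# Pseudo-coherence (punctual case): S5598
-/

set_option autoImplicit false
universe w v u
open CategoryTheory CategoryTheory.Limits Pretriangulated

namespace Groth.Agent.Helper9.PCohLib

variable {C : Type u} [Category.{v} C] [Abelian C] [HasDerivedCategory.{w} C]
variable (P : ObjectProperty C) [P.IsClosedUnderIsomorphisms] [P.ContainsZero]

/-- S5598 (⇐). -/
theorem isNPC_of_isNIso (n : ℤ) (F : DerivedCategory C) {E : CochainComplex C ℤ}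
    (hE : PCoh.IsStrictPC P n E) (α : DerivedCategory.Q.obj E ⟶ F) (hα : IsNIso n α) :
    IsNPC P n F := by
  let X := DerivedCategory.Q.objPreimage F
  let eX : DerivedCategory.Q.obj X ≅ F := DerivedCategory.Q.objObjPreimageIso F
  obtain ⟨Y', g, s, hs, hg⟩ := DerivedCategory.left_fac (α ≫ eX.inv)
  have hs' : QuasiIso s := (DerivedCategory.isIso_Q_map_iff_quasiIso C s).1 hs
  have hg' : IsNQI n g := by
    rw [← isNIso_Q_map_iff]
    have : DerivedCategory.Q.map g = (α ≫ eX.inv) ≫ DerivedCategory.Q.map s := by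
      rw [hg, Category.assoc, IsIso.inv_hom_id, Category.comp_id]
    rw [this]
    exact (hα.comp_iso eX.inv).comp_iso _
  exact (isNPC_of_isNQI P hE g hg').of_iso P ((asIso (DerivedCategory.Q.map s)).symm ≪≫ eX)

/-- S5598 (⇒). -/
theorem exists_isNIso_of_isNPC (hsum : ∀ X Y : C, P X → P Y → P (X ⨯ Y))
    (hqs : PCoh.IsQuasiStableUnderKernels P) (hql : PCoh.IsQuasiLiftable P)
    (n : ℤ) (F : DerivedCategory C) (h : IsNPC P n F) :
    ∃ (E : CochainComplex C ℤ) (a b : ℤ) (α : DerivedCategory.Q.obj E ⟶ F),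
      (∀ i : ℤ, i < a ∨ b < i → IsZero (E.X i)) ∧ (∀ i : ℤ, P (E.X i)) ∧ IsNIso n α := by
  obtain ⟨E₀, ⟨⟨b₀, hb₀⟩, hP₀⟩, ⟨e⟩⟩ := h
  set b := max b₀ (n - 1) with hb
  have hFb : ∀ j, b < j → IsZero (E₀.X j) := fun j hj => hb₀ j (by omega)
  obtain ⟨G, w, hGP, hGb, hGz, hw⟩ := exists_partial_resolution P hsum hqs hql n b (𝟙 E₀) hP₀ hFb
    (b + 1 - n).toNat (by omega)
  have hw' : IsNQI n w := by
    have : b + 1 - ((b + 1 - n).toNat : ℤ) = n := by omega
    rwa [this] at hw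
  refine ⟨G, b - ((b + 1 - n).toNat : ℤ) + 1, b, DerivedCategory.Q.map w ≫ e.hom, ?_, hGP, ?_⟩
  · rintro i (hi | hi)
    · exact hGz i (by omega)
    · exact hGb i hi
  · exact ((isNIso_Q_map_iff w).2 hw').comp_iso e.hom

end Groth.Agent.Helper9.PCohLib
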