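import Mathlib
import Groth.Prelude.Def_PCoh
import Groth.Agent.Lib.Helper9.PCoh11

/-!
# Pseudo-coherence (punctual case): complexes with pseudo-coherent terms (S5619)
-/

set_option autoImplicit false
universe w v u
open CategoryTheory CategoryTheory.Limits Pretriangulated

namespace Groth.Agent.Helper9.PCohLib

variable {C : Type u} [Category.{v} C] [Abelian C]

/-- Splitting off the top term of a complex: a short exact sequence
`0 ⟶ F^b[-b] ⟶ F ⟶ F' ⟶ 0`. -/
theorem exists_top_ses (F : CochainComplex C ℤ) (b : ℤ) (hb : IsZero (F.X (b + 1))) :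
    ∃ (F' : CochainComplex C ℤ)
      (s : (HomologicalComplex.single C (ComplexShape.up ℤ) b).obj (F.X b) ⟶ F) (π : F ⟶ F')
      (w : s ≫ π = 0), (ShortComplex.mk s π w).ShortExact ∧
      (∀ i, i ≠ b → IsIso (π.f i)) ∧ IsZero (F'.X b) := by
  let s : (HomologicalComplex.single C (ComplexShape.up ℤ) b).obj (F.X b) ⟶ F :=
    HomologicalComplex.mkHomFromSingle (𝟙 (F.X b)) (fun k hk => by
      have hk' : b + 1 = k := hk
      subst hk'
      exact hb.eq_of_tgt _ _)
  have hsb : s.f b = (HomologicalComplex.singleObjXSelf (ComplexShape.up ℤ) b (F.X b)).hom ≫ 𝟙 _ := by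
    simp [s]
  have hsb' : IsIso (s.f b) := by rw [hsb]; infer_instance
  have hmono : Mono s := by
    apply HomologicalComplex.mono_of_mono_f
    intro i
    by_cases hi : i = b
    · subst hi; infer_instance
    · exact ⟨fun _ _ _ => (HomologicalComplex.isZero_single_obj_X (ComplexShape.up ℤ) b (F.X b) i hi).eq_of_tgt _ _⟩
  have hS := shortExact_cokernel s
  refine ⟨_, s, cokernel.π s, cokernel.condition s, hS, fun i hi => ?_, ?_⟩
  · have hSi := hS.map_of_exact (HomologicalComplex.eval C (ComplexShape.up ℤ) i)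
    exact hSi.isIso_g_iff.2 (HomologicalComplex.isZero_single_obj_X (ComplexShape.up ℤ) b (F.X b) i hi)
  · have hSb := hS.map_of_exact (HomologicalComplex.eval C (ComplexShape.up ℤ) b)
    exact hSb.isIso_f_iff.1 hsb'

variable [HasDerivedCategory.{w} C]
variable (P : ObjectProperty C) [P.IsClosedUnderIsomorphisms] [P.ContainsZero]

/-- A complex concentrated in one degree, in terms of degree `0`. -/
theorem isNPC_single (n b : ℤ) (A : C)
    (h : IsNPC P (n - b) ((DerivedCategory.singleFunctor C 0).obj A)) :
    IsNPC P n (DerivedCategory.Q.obj ((HomologicalComplex.single C (ComplexShape.up ℤ) b).obj A)) := by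
  have h1 := h.shift P (-b)
  rw [show n - b - -b = n by ring] at h1
  exact h1.of_iso P (((DerivedCategory.singleFunctors C).shiftIso (-b) b 0 (by omega)).app A)

theorem isNPC_of_isZero (n : ℤ) (F : DerivedCategory C) (hF : IsZero F) : IsNPC P n F := by
  refine ⟨HomologicalComplex.zero, ⟨⟨0, fun _ _ => isZero_zero C⟩,
    fun _ _ => P.prop_of_isZero (isZero_zero C)⟩, ⟨?_⟩⟩
  have : IsZero (DerivedCategory.Q.obj (HomologicalComplex.zero : CochainComplex C ℤ)) :=
    (DerivedCategory.Q (C := C)).map_isZero HomologicalComplex.isZero_zero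
  exact this.iso hF

variable (hsum : ∀ X Y : C, P X → P Y → P (X ⨯ Y)) (hqs : PCoh.IsQuasiStableUnderKernels P)
  (hql : PCoh.IsQuasiLiftable P)

include hsum hqs hql

/-- S5619, by induction on the length. -/
theorem isNPC_Q_of_terms_aux (n : ℤ) : ∀ (k : ℕ) (F : CochainComplex C ℤ),
    (∀ i : ℤ, n - 1 + k < i → IsZero (F.X i)) →
    (∀ i : ℤ, n ≤ i → IsNPC P (n - i) ((DerivedCategory.singleFunctor C 0).obj (F.X i))) →
    IsNPC P n (DerivedCategory.Q.obj F) := by
  intro k
  induction k with
  | zero =>
    intro F hb _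
    exact ⟨F, ⟨⟨n - 1, fun i hi => hb i (by push_cast; omega)⟩,
      fun i hi => P.prop_of_isZero (hb i (by push_cast; omega))⟩, ⟨Iso.refl _⟩⟩
  | succ k ih =>
    intro F hb hterms
    obtain ⟨X₃, f, g, zero, hS, hiso, hz⟩ := exists_top_ses F (n + k) (hb _ (by push_cast; omega))
    have hT := DerivedCategory.triangleOfSES_distinguished hS
    have h3 : IsNPC P n (DerivedCategory.Q.obj X₃) := by
      apply ih
      · intro i hi
        by_cases hik : i = n + k
        · subst hik; exact hz
        · haveI := hiso i hik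
          exact (hb i (by push_cast; omega)).of_iso (asIso (g.f i)).symm
      · intro i hi
        by_cases hik : i = n + k
        · subst hik
          exact isNPC_of_isZero P _ _ ((DerivedCategory.singleFunctor C 0).map_isZero hz)
        · haveI := hiso i hik
          exact (hterms i hi).of_iso P ((DerivedCategory.singleFunctor C 0).mapIso (asIso (g.f i)))
    have h1 : IsNPC P n (DerivedCategory.Q.obj
        ((HomologicalComplex.single C (ComplexShape.up ℤ) (n + k)).obj (F.X (n + k)))) :=
      isNPC_single P n (n + k) _ (hterms _ (by omega))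
    exact isNPC_obj₂ P hsum hqs hql _ hT h1 h3

theorem isNPC_Q_of_terms (n b : ℤ) (F : CochainComplex C ℤ) (hb : ∀ i : ℤ, b < i → IsZero (F.X i))
    (hterms : ∀ i : ℤ, n ≤ i → IsNPC P (n - i) ((DerivedCategory.singleFunctor C 0).obj (F.X i))) :
    IsNPC P n (DerivedCategory.Q.obj F) :=
  isNPC_Q_of_terms_aux P hsum hqs hql n (b - n + 1).toNat F (fun i hi => hb i (by omega)) hterms

end Groth.Agent.Helper9.PCohLib
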