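import Mathlib
import Groth.Prelude.Def_PCoh
import Groth.Agent.Lib.Helper9.PCoh12

/-!
# Pseudo-coherence (punctual case): enlarging `C₀` (S5606)
-/

set_option autoImplicit false
universe w v u
open CategoryTheory CategoryTheory.Limits Pretriangulated

namespace Groth.Agent.Helper9.PCohLib

variable {C : Type u} [Category.{v} C] [Abelian C]

/-- Splitting off the bottom term of a complex: a short exact sequence
`0 ⟶ F' ⟶ F ⟶ F^a[-a] ⟶ 0`. -/
theorem exists_bottom_ses (F : CochainComplex C ℤ) (a : ℤ) (ha : IsZero (F.X (a - 1))) :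
    ∃ (F' : CochainComplex C ℤ) (ι : F' ⟶ F)
      (π : F ⟶ (HomologicalComplex.single C (ComplexShape.up ℤ) a).obj (F.X a))
      (w : ι ≫ π = 0), (ShortComplex.mk ι π w).ShortExact ∧
      (∀ i, i ≠ a → IsIso (ι.f i)) ∧ IsZero (F'.X a) := by
  let π : F ⟶ (HomologicalComplex.single C (ComplexShape.up ℤ) a).obj (F.X a) :=
    HomologicalComplex.mkHomToSingle (𝟙 (F.X a)) (fun k hk => by
      have hk' : k + 1 = a := hk
      obtain rfl : k = a - 1 := by omega
      exact ha.eq_of_src _ _)
  have hπa : π.f a = 𝟙 _ ≫ (HomologicalComplex.singleObjXSelf (ComplexShape.up ℤ) a (F.X a)).inv := by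
    simp [π]
  have hπa' : IsIso (π.f a) := by rw [hπa]; infer_instance
  have hepi : Epi π := by
    apply HomologicalComplex.epi_of_epi_f
    intro i
    by_cases hi : i = a
    · subst hi; infer_instance
    · exact ⟨fun _ _ _ => (HomologicalComplex.isZero_single_obj_X (ComplexShape.up ℤ) a (F.X a) i hi).eq_of_src _ _⟩
  have hS : (ShortComplex.mk (kernel.ι π) π (kernel.condition π)).ShortExact :=
    { exact := ShortComplex.exact_kernel π
      mono_f := inferInstanceAs (Mono (kernel.ι π))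
      epi_g := hepi }
  refine ⟨_, kernel.ι π, π, kernel.condition π, hS, fun i hi => ?_, ?_⟩
  · have hSi := hS.map_of_exact (HomologicalComplex.eval C (ComplexShape.up ℤ) i)
    exact hSi.isIso_f_iff.2 (HomologicalComplex.isZero_single_obj_X (ComplexShape.up ℤ) a (F.X a) i hi)
  · have hSa := hS.map_of_exact (HomologicalComplex.eval C (ComplexShape.up ℤ) a)
    exact hSa.isIso_g_iff.1 hπa'

theorem quasiIso_zero_of_acyclic (L : CochainComplex C ℤ) (hL : L.Acyclic) :
    QuasiIso (0 : (HomologicalComplex.zero : CochainComplex C ℤ) ⟶ L) := by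
  rw [quasiIso_iff]
  intro i
  rw [quasiIsoAt_iff_isIso_homologyMap]
  exact isIso_of_isZero _
    (HomologicalComplex.ExactAt.of_isZero (isZero_zero C)).isZero_homology (hL i).isZero_homology

variable [HasDerivedCategory.{w} C]
variable (P : ObjectProperty C) [P.IsClosedUnderIsomorphisms] [P.ContainsZero]

theorem isNPC_Q_of_acyclic (n : ℤ) (L : CochainComplex C ℤ) (hL : L.Acyclic) :
    IsNPC P n (DerivedCategory.Q.obj L) := by
  haveI := quasiIso_zero_of_acyclic L hL
  exact isNPC_Q_of_quasiIso P (E := HomologicalComplex.zero)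
    ⟨⟨0, fun _ _ => isZero_zero C⟩, fun _ _ => P.prop_of_isZero (isZero_zero C)⟩ 0

/-- An object whose `single₀` is `0`-pseudo-coherent is of finite type. -/
theorem finiteType_of_isNPC_single (hqs : PCoh.IsQuasiStableUnderKernels P) (A : C)
    (h : IsNPC P 0 ((DerivedCategory.singleFunctor C 0).obj A)) : PCoh.IsOfFiniteType P A := by
  let S := (HomologicalComplex.single C (ComplexShape.up ℤ) 0).obj A
  have h' : IsNPC P 0 (DerivedCategory.Q.obj S) := h
  have hac : ∀ i : ℤ, 0 < i → IsZero ((DerivedCategory.homologyFunctor C i).obj (DerivedCategory.Q.obj S)) :=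
    fun i hi => (isZero_homology_single A 0 i (by omega)).of_iso (homologyQIso S i)
  have := finiteType_homology_of_isNPC P hqs 0 _ hac h'
  exact isOfFiniteType_of_iso P (homologyQIso S 0 ≪≫
    HomologicalComplex.singleObjHomologySelfIso (ComplexShape.up ℤ) 0 A) this

/-- S5606, quasi-stability. -/
theorem finiteType_of_exact_of_isPC (hsum : ∀ X Y : C, P X → P Y → P (X ⨯ Y))
    (hqs : PCoh.IsQuasiStableUnderKernels P) (hql : PCoh.IsQuasiLiftable P)
    (K : CochainComplex C ℕ) (hK : ∀ i : ℕ, K.ExactAt i)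
    (hb : ∃ n : ℕ, ∀ i : ℕ, n < i → IsZero (K.X i))
    (hpc : ∀ i : ℕ, 1 ≤ i → PCoh.IsPC P ((DerivedCategory.singleFunctor C 0).obj (K.X i))) :
    PCoh.IsOfFiniteType P (K.X 0) := by
  obtain ⟨N, hN⟩ := hb
  let e := ComplexShape.embeddingUpNat
  let L := K.extend e
  have hLX : ∀ i : ℕ, L.X (i : ℤ) ≅ K.X i := fun i => K.extendXIso e rfl
  have hLneg : ∀ j : ℤ, j < 0 → IsZero (L.X j) := fun j hj =>
    K.isZero_extend_X e j (fun i hi => by
      have : (i : ℤ) = j := hi
      omega)
  have hLac : L.Acyclic := by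
    intro j
    by_cases hj : 0 ≤ j
    · obtain ⟨i, rfl⟩ := Int.eq_ofNat_of_zero_le hj
      exact (K.extend_exactAt_iff e (j := i) rfl).2 (hK i)
    · exact K.extend_exactAt e j (fun i hi => by
        have : (i : ℤ) = j := hi
        omega)
  obtain ⟨F', ι, π, w, hS, hιiso, hF'0⟩ := exists_bottom_ses L 0 (hLneg _ (by omega))
  have hF'X : ∀ i, i ≠ 0 → (F'.X i ≅ L.X i) := fun i hi =>
    haveI := hιiso i hi
    asIso (ι.f i)
  have h1 : IsNPC P (0 + 1) (DerivedCategory.Q.obj F') := by
    apply isNPC_Q_of_terms P hsum hqs hql (0 + 1) (N : ℤ) F'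
    · intro i hi
      have hi0 : i ≠ 0 := by omega
      refine IsZero.of_iso ?_ (hF'X i hi0)
      obtain ⟨k, rfl⟩ := Int.eq_ofNat_of_zero_le (by omega : 0 ≤ i)
      exact (hN k (by omega)).of_iso (hLX k)
    · intro i hi
      have hi0 : i ≠ 0 := by omega
      obtain ⟨k, rfl⟩ := Int.eq_ofNat_of_zero_le (by omega : 0 ≤ i)
      have hk : 1 ≤ k := by omega
      have hk' : IsNPC P (0 + 1 - (k : ℤ)) ((DerivedCategory.singleFunctor C 0).obj (K.X k)) :=
        hpc k hk _
      exact hk'.of_iso P ((DerivedCategory.singleFunctor C 0).mapIso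
        (hF'X _ hi0 ≪≫ hLX k).symm)
  have h2 : IsNPC P 0 (DerivedCategory.Q.obj L) := isNPC_Q_of_acyclic P 0 L hLac
  have hT := DerivedCategory.triangleOfSES_distinguished hS
  have h3 := isNPC_obj₃ P hsum hqs hql (n := 0) _ hT h1 h2
  have h4 : PCoh.IsOfFiniteType P (L.X 0) := finiteType_of_isNPC_single P hqs (L.X 0) h3
  exact isOfFiniteType_of_iso P (hLX 0) h4

omit [HasDerivedCategory C] [P.IsClosedUnderIsomorphisms] [P.ContainsZero] in
/-- S5606, quasi-liftability. -/
theorem exists_lift_of_finiteType (hql : PCoh.IsQuasiLiftable P) {E F : C} (u : E ⟶ F) [Epi u]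
    (hF : PCoh.IsOfFiniteType P F) : ∃ (F' : C) (v : F' ⟶ E), P F' ∧ Epi (v ≫ u) := by
  obtain ⟨X, π, hX, hπ⟩ := hF
  obtain ⟨X', t, hX', ht⟩ := hql (pullback u π) X (pullback.snd u π) inferInstance hX
  refine ⟨X', t ≫ pullback.fst u π, hX', ?_⟩
  have : (t ≫ pullback.fst u π) ≫ u = (t ≫ pullback.snd u π) ≫ π := by
    rw [Category.assoc, Category.assoc, pullback.condition]
  rw [this]
  exact epi_comp _ _

end Groth.Agent.Helper9.PCohLib
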