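import Mathlib
import Groth.Prelude.Def_PCoh
import Groth.Agent.Lib.Helper9.PCoh13

/-!
# Pseudo-coherence (punctual case): pseudo-coherent cohomology (S5604)
-/

set_option autoImplicit false
universe w v u
open CategoryTheory CategoryTheory.Limits Pretriangulated

namespace Groth.Agent.Helper9.PCohLib

variable {C : Type u} [Category.{v} C] [Abelian C] [HasDerivedCategory.{w} C]

section Triangle

open DerivedCategory

variable (T : Triangle (DerivedCategory C)) (hT : T ∈ distTriang _)
include hT

theorem isIso_homology_mor₁ (i : ℤ) (h0 : IsZero ((homologyFunctor C (i - 1)).obj T.obj₃))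
    (h1 : IsZero ((homologyFunctor C i).obj T.obj₃)) :
    IsIso ((homologyFunctor C i).map T.mor₁) := by
  have hm : Mono ((homologyFunctor C i).map T.mor₁) :=
    (HomologySequence.exact₁ T hT (i - 1) i (by omega)).mono_g (h0.eq_of_src _ _)
  have he : Epi ((homologyFunctor C i).map T.mor₁) :=
    (HomologySequence.exact₂ T hT i).epi_f (h1.eq_of_tgt _ _)
  exact isIso_of_mono_of_epi _

theorem isIso_homology_mor₂ (i : ℤ) (h0 : IsZero ((homologyFunctor C i).obj T.obj₁))
    (h1 : IsZero ((homologyFunctor C (i + 1)).obj T.obj₁)) :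
    IsIso ((homologyFunctor C i).map T.mor₂) := by
  have hm : Mono ((homologyFunctor C i).map T.mor₂) :=
    (HomologySequence.exact₂ T hT i).mono_g (h0.eq_of_src _ _)
  have he : Epi ((homologyFunctor C i).map T.mor₂) :=
    (HomologySequence.exact₃ T hT i (i + 1) rfl).epi_f (h1.eq_of_tgt _ _)
  exact isIso_of_mono_of_epi _

theorem isZero_homology_obj₃ (i : ℤ) (h0 : IsZero ((homologyFunctor C i).obj T.obj₂))
    (h1 : IsZero ((homologyFunctor C (i + 1)).obj T.obj₁)) :
    IsZero ((homologyFunctor C i).obj T.obj₃) :=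
  (HomologySequence.exact₃ T hT i (i + 1) rfl).isZero_X₂ (h0.eq_of_src _ _) (h1.eq_of_tgt _ _)

end Triangle

variable (P : ObjectProperty C) [P.IsClosedUnderIsomorphisms] [P.ContainsZero]
  (hsum : ∀ X Y : C, P X → P Y → P (X ⨯ Y)) (hqs : PCoh.IsQuasiStableUnderKernels P)
  (hql : PCoh.IsQuasiLiftable P)

include hsum hqs hql

open DerivedCategory in
theorem isNPC_of_homology_aux (n : ℤ) : ∀ (k : ℕ) (F : DerivedCategory C),
    (∀ i : ℤ, n - 1 + k < i → IsZero ((homologyFunctor C i).obj F)) →
    (∀ i : ℤ, n ≤ i → IsNPC P (n - i)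
      ((singleFunctor C 0).obj ((homologyFunctor C i).obj F))) →
    IsNPC P n F := by
  intro k
  induction k with
  | zero =>
    intro F hb _
    exact isNPC_of_finiteType_homology P hql n F (fun i hi => hb i (by push_cast; omega))
      (isOfFiniteType_of_mem P (P.prop_of_isZero (hb n (by push_cast; omega))))
  | succ k ih =>
    intro F hb hterms
    obtain ⟨X, Y, hX, hY, f, g, h, hT⟩ := TStructure.t.exists_triangle F (n + k - 1) (n + k) (by omega)
    haveI : X.IsLE (n + k - 1) := ⟨hX⟩
    haveI : Y.IsGE (n + k) := ⟨hY⟩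
    have hXz : ∀ i, n + k - 1 < i → IsZero ((homologyFunctor C i).obj X) :=
      fun i hi => X.isZero_of_isLE (n + k - 1) i hi
    have hYz : ∀ i, i < n + k → IsZero ((homologyFunctor C i).obj Y) :=
      fun i hi => Y.isZero_of_isGE (n + k) i hi
    have hYz' : ∀ i, n + k < i → IsZero ((homologyFunctor C i).obj Y) := fun i hi =>
      isZero_homology_obj₃ _ hT i (hb i (by push_cast; omega)) (hXz _ (by omega))
    -- `X`
    have hXF : ∀ i, i ≤ n + k - 1 → ((homologyFunctor C i).obj X ≅ (homologyFunctor C i).obj F) :=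
      fun i hi =>
        haveI : IsIso ((homologyFunctor C i).map f) :=
          isIso_homology_mor₁ _ hT i (hYz _ (by omega)) (hYz _ (by omega))
        asIso ((homologyFunctor C i).map f)
    have h1 : IsNPC P n X := by
      apply ih
      · intro i hi
        exact hXz i (by omega)
      · intro i hi
        by_cases hik : i ≤ n + k - 1
        · exact (hterms i hi).of_iso P ((singleFunctor C 0).mapIso (hXF i hik).symm)
        · exact isNPC_of_isZero P _ _ ((singleFunctor C 0).map_isZero (hXz i (by omega)))
    -- `Y`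
    have : Y.IsLE (n + k) := by
      rw [DerivedCategory.isLE_iff]
      exact fun i hi => hYz' i hi
    obtain ⟨A, ⟨eA⟩⟩ := exists_iso_singleFunctor_obj_of_isGE_of_isLE Y (n + k)
    have hFY : (homologyFunctor C (n + k)).obj F ≅ (homologyFunctor C (n + k)).obj Y :=
      haveI : IsIso ((homologyFunctor C (n + k)).map g) :=
        isIso_homology_mor₂ _ hT (n + k) (hXz _ (by omega)) (hXz _ (by omega))
      asIso ((homologyFunctor C (n + k)).map g)
    have hA : (homologyFunctor C (n + k)).obj Y ≅ A :=
      (homologyFunctor C (n + k)).mapIso eA ≪≫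
        homologyQIso ((HomologicalComplex.single C (ComplexShape.up ℤ) (n + k)).obj A) (n + k) ≪≫
        HomologicalComplex.singleObjHomologySelfIso (ComplexShape.up ℤ) (n + k) A
    have h3 : IsNPC P n Y := by
      have h := isNPC_single P n (n + k) A
        ((hterms (n + k) (by omega)).of_iso P ((singleFunctor C 0).mapIso (hFY ≪≫ hA)))
      exact h.of_iso P eA.symm
    exact isNPC_obj₂ P hsum hqs hql _ hT h1 h3

open DerivedCategory in
theorem isNPC_of_homology (n b : ℤ) (F : DerivedCategory C)
    (hb : ∀ i : ℤ, b < i → IsZero ((homologyFunctor C i).obj F))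
    (hterms : ∀ i : ℤ, n ≤ i → IsNPC P (n - i)
      ((singleFunctor C 0).obj ((homologyFunctor C i).obj F))) :
    IsNPC P n F :=
  isNPC_of_homology_aux P hsum hqs hql n (b - n + 1).toNat F (fun i hi => hb i (by omega)) hterms

end Groth.Agent.Helper9.PCohLib
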