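import Mathlib
import Groth.Prelude.Def_PCoh
import Groth.Agent.Lib.Helper9.PCoh14

/-!
# Pseudo-coherence (punctual case): direct sums and retracts (S5605)
-/

set_option autoImplicit false
universe w v u
open CategoryTheory CategoryTheory.Limits Pretriangulated

namespace Groth.Agent.Helper9.PCohLib

variable {C : Type u} [Category.{v} C] [Abelian C]

theorem isZero_of_retract {D : Type*} [Category D] [HasZeroMorphisms D] {X Y : D} (i : X ⟶ Y)
    (p : Y ⟶ X) (h : i ≫ p = 𝟙 X) (hY : IsZero Y) : IsZero X := by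
  rw [IsZero.iff_id_eq_zero, ← h, hY.eq_of_src p 0, comp_zero]

theorem isOfFiniteType_of_retract (P : ObjectProperty C) {X Y : C} (i : X ⟶ Y)
    (p : Y ⟶ X) (h : i ≫ p = 𝟙 X) (hY : PCoh.IsOfFiniteType P Y) : PCoh.IsOfFiniteType P X := by
  haveI : Epi p := epi_of_epi_fac h
  exact isOfFiniteType_of_epi P p hY

variable [HasDerivedCategory.{w} C]
variable (P : ObjectProperty C) [P.IsClosedUnderIsomorphisms] [P.ContainsZero]

theorem isNPC_Q_single_of_mem (m a : ℤ) (A : C) (hA : P A) :
    IsNPC P m (DerivedCategory.Q.obj ((HomologicalComplex.single C (ComplexShape.up ℤ) a).obj A)) := by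
  refine ⟨_, ⟨⟨a, fun j hj => HomologicalComplex.isZero_single_obj_X _ _ _ _ (by omega)⟩,
    fun j _ => ?_⟩, ⟨Iso.refl _⟩⟩
  by_cases h : j = a
  · subst h
    exact P.prop_of_iso (HomologicalComplex.singleObjXSelf (ComplexShape.up ℤ) j A).symm hA
  · exact P.prop_of_isZero (HomologicalComplex.isZero_single_obj_X _ _ _ _ h)

variable (hsum : ∀ X Y : C, P X → P Y → P (X ⨯ Y)) (hqs : PCoh.IsQuasiStableUnderKernels P)
  (hql : PCoh.IsQuasiLiftable P)

include hsum hqs hql

theorem isNPC_biprod {n : ℤ} (F' F'' : DerivedCategory C) [HasBinaryBiproduct F' F'']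
    (h' : IsNPC P n F') (h'' : IsNPC P n F'') : IsNPC P n (F' ⊞ F'') :=
  isNPC_obj₂ P hsum hqs hql _ (binaryBiproductTriangle_distinguished F' F'') h' h''

open DerivedCategory in
theorem isNPC_of_retract_aux (n : ℤ) : ∀ (k : ℕ) (F' F : DerivedCategory C) (i : F' ⟶ F)
    (p : F ⟶ F'), i ≫ p = 𝟙 F' → IsNPC P n F →
    (∀ j : ℤ, n - 1 + k < j → IsZero ((homologyFunctor C j).obj F)) → IsNPC P n F' := by
  intro k
  induction k with
  | zero =>
    intro F' F i p hip _ hb
    have hz : ∀ j, n ≤ j → IsZero ((homologyFunctor C j).obj F') := fun j hj =>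
      isZero_of_retract ((homologyFunctor C j).map i) ((homologyFunctor C j).map p)
        (by rw [← Functor.map_comp, hip]; exact (homologyFunctor C j).map_id _) (hb j (by push_cast; omega))
    exact isNPC_of_finiteType_homology P hql n F' (fun j hj => hz j hj.le)
      (isOfFiniteType_of_mem P (P.prop_of_isZero (hz n le_rfl)))
  | succ k ih =>
    intro F' F i p hip hF hb
    -- the top cohomology of `F` is of finite type
    have hft : PCoh.IsOfFiniteType P ((homologyFunctor C (n + k)).obj F) :=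
      finiteType_homology_of_isNPC P hqs (n + k) F (fun j hj => hb j (by push_cast; omega))
        (hF.of_le P (by omega))
    let X := Q.objPreimage F
    let eX : Q.obj X ≅ F := Q.objObjPreimageIso F
    have hX : ∀ j, (homologyFunctor C j).obj F ≅ X.homology j := fun j =>
      (homologyFunctor C j).mapIso eX.symm ≪≫ homologyQIso X j
    obtain ⟨Q₀, c, hQ₀, hc⟩ := exists_cycle_of_finiteType P hql X (n + k)
      (isOfFiniteType_of_iso P (hX _) hft)
    let z₀' : (HomologicalComplex.single C (ComplexShape.up ℤ) (n + k)).obj Q₀ ⟶ X :=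
      HomologicalComplex.mkHomFromSingle (c ≫ X.iCycles (n + k)) (fun _ _ => by simp)
    have hz₀' : Epi (HomologicalComplex.homologyMap z₀' (n + k)) :=
      epi_homologyMap_mkHomFromSingle X (n + k) Q₀ c hc z₀' (by simp [z₀'])
    let S₀ : DerivedCategory C :=
      Q.obj ((HomologicalComplex.single C (ComplexShape.up ℤ) (n + k)).obj Q₀)
    let z₀ : S₀ ⟶ F := Q.map z₀' ≫ eX.hom
    have hz₀ : Epi ((homologyFunctor C (n + k)).map z₀) := by
      rw [Functor.map_comp]
      have := (epi_homologyFunctor_map_Q_iff z₀' (n + k)).2 hz₀'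
      infer_instance
    have hS₀z : ∀ j, j ≠ n + k → IsZero ((homologyFunctor C j).obj S₀) := fun j hj =>
      (isZero_homology_single Q₀ (n + k) j hj).of_iso (homologyQIso _ j)
    have hS₀pc : ∀ m, IsNPC P m S₀ := fun m => isNPC_Q_single_of_mem P m (n + k) Q₀ hQ₀
    -- the maps
    let z' : S₀ ⟶ F' := z₀ ≫ p
    let z : S₀ ⊞ S₀ ⟶ F := biprod.desc (z' ≫ i) (z₀ - z' ≫ i)
    have hz1 : z' ≫ i = biprod.inl ≫ z := by simp [z]
    have hz2 : z ≫ p = biprod.fst ≫ z' := by
      apply biprod.hom_ext'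
      · simp [z, z', hip]
      · simp [z, z', hip]
    have hzepi : Epi ((homologyFunctor C (n + k)).map z) := by
      have : biprod.lift (𝟙 S₀) (𝟙 S₀) ≫ z = z₀ := by simp [z]
      have h2 : (homologyFunctor C (n + k)).map (biprod.lift (𝟙 S₀) (𝟙 S₀)) ≫
          (homologyFunctor C (n + k)).map z = (homologyFunctor C (n + k)).map z₀ := by
        rw [← Functor.map_comp, this]
      exact epi_of_epi_fac h2
    have hSSz : ∀ j, j ≠ n + k → IsZero ((homologyFunctor C j).obj (S₀ ⊞ S₀)) := by
      intro j hj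
      rw [IsZero.iff_id_eq_zero, ← (homologyFunctor C j).map_id, ← biprod.total,
        (homologyFunctor C j).map_add, (homologyFunctor C j).map_comp, (homologyFunctor C j).map_comp,
        (hS₀z j hj).eq_of_tgt ((homologyFunctor C j).map biprod.fst) 0,
        (hS₀z j hj).eq_of_tgt ((homologyFunctor C j).map biprod.snd) 0]
      simp
    -- the triangles
    obtain ⟨G', g', δ', hTG⟩ := distinguished_cocone_triangle z'
    obtain ⟨H, g, δ, hTH⟩ := distinguished_cocone_triangle z
    have hH : IsNPC P n H :=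
      isNPC_obj₃ P hsum hqs hql _ hTH (isNPC_biprod P hsum hqs hql S₀ S₀ (hS₀pc _) (hS₀pc _)) hF
    have hHz : ∀ j : ℤ, n - 1 + k < j → IsZero ((homologyFunctor C j).obj H) := by
      intro j hj
      by_cases hjk : j = n + k
      · subst hjk
        have h1 : (homologyFunctor C (n + k)).map g = 0 :=
          (HomologySequence.epi_homologyMap_mor₁_iff _ hTH (n + k)).1 hzepi
        haveI : Epi ((homologyFunctor C (n + k)).map g) :=
          (HomologySequence.exact₃ _ hTH (n + k) (n + k + 1) rfl).epi_f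
            ((hSSz _ (by omega)).eq_of_tgt _ _)
        exact IsZero.of_epi_eq_zero _ h1
      · exact isZero_homology_obj₃ _ hTH j (hb j (by push_cast; omega)) (hSSz _ (by omega))
    -- `G'` is a retract of `H`
    let φ₁ := completeDistinguishedTriangleMorphism _ _ hTG hTH biprod.inl i hz1
    let φ₂ := completeDistinguishedTriangleMorphism _ _ hTH hTG biprod.fst p hz2
    have hiso : IsIso (φ₁ ≫ φ₂).hom₃ := isIso₃_of_isIso₁₂ (φ₁ ≫ φ₂) hTG hTG
      (by change IsIso (biprod.inl ≫ biprod.fst); rw [biprod.inl_fst]; infer_instance)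
      (by change IsIso (i ≫ p); rw [hip]; infer_instance)
    obtain ⟨θ, hθ1, -⟩ := hiso.out
    have hG' : IsNPC P n G' :=
      ih G' H φ₁.hom₃ (φ₂.hom₃ ≫ θ) (by
        rw [← Category.assoc]
        exact hθ1) hH hHz
    exact isNPC_obj₂ P hsum hqs hql _ hTG (hS₀pc n) hG'

open DerivedCategory in
/-- A retract of an `n`-pseudo-coherent object is `n`-pseudo-coherent. -/
theorem isNPC_of_retract (n : ℤ) (F' F : DerivedCategory C) (i : F' ⟶ F) (p : F ⟶ F')
    (hip : i ≫ p = 𝟙 F') (hF : IsNPC P n F) : IsNPC P n F' := by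
  obtain ⟨E, ⟨⟨b, hb⟩, hP⟩, ⟨e⟩⟩ := hF
  have hz : ∀ j, b < j → IsZero ((homologyFunctor C j).obj F) := fun j hj =>
    ((HomologicalComplex.ExactAt.of_isZero (hb j hj)).isZero_homology).of_iso
      ((homologyFunctor C j).mapIso e.symm ≪≫ homologyQIso E j)
  exact isNPC_of_retract_aux P hsum hqs hql n (b - n + 1).toNat F' F i p hip
    ⟨E, ⟨⟨b, hb⟩, hP⟩, ⟨e⟩⟩ (fun j hj => hz j (by omega))

end Groth.Agent.Helper9.PCohLib
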