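import Mathlib
import Groth.Prelude.Def_PCoh
import Groth.Agent.Lib.Helper9.PCoh15

/-!
# Pseudo-coherence (punctual case): colimits of sequences of complexes
-/

set_option autoImplicit false
universe w v u
open CategoryTheory CategoryTheory.Limits

namespace Groth.Agent.Helper9.PCohLib

variable {C : Type u} [Category.{v} C] [Abelian C]

section Colim

variable (G : ℕ → CochainComplex C ℤ) (v : ∀ k, G k ⟶ G (k + 1)) {X : CochainComplex C ℤ}
  (w : ∀ k, G k ⟶ X) (hvw : ∀ k, v k ≫ w (k + 1) = w k) (κ : ℤ → ℕ)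
  (hκ : ∀ (q : ℤ) (k : ℕ), κ q ≤ k → IsIso ((v k).f q))

include hκ in
theorem isEventuallyConstantFrom_ofSequence (q : ℤ) :
    ((Functor.ofSequence v) ⋙ HomologicalComplex.eval C (ComplexShape.up ℤ) q).IsEventuallyConstantFrom
      (κ q) := by
  intro j f
  have hj : κ q ≤ j := leOfHom f
  obtain rfl : f = homOfLE hj := Subsingleton.elim _ _
  induction j, hj using Nat.le_induction with
  | base =>
    have : homOfLE (le_refl (κ q)) = 𝟙 _ := Subsingleton.elim _ _
    rw [this, CategoryTheory.Functor.map_id]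
    infer_instance
  | succ j hj ih =>
    have : homOfLE (hj.trans (Nat.le_succ j)) = homOfLE hj ≫ homOfLE (Nat.le_add_right j 1) :=
      Subsingleton.elim _ _
    rw [this, CategoryTheory.Functor.map_comp]
    haveI := ih
    haveI : IsIso (((Functor.ofSequence v) ⋙ HomologicalComplex.eval C (ComplexShape.up ℤ) q).map
        (homOfLE (Nat.le_add_right j 1))) := by
      change IsIso (((Functor.ofSequence v).map (homOfLE (Nat.le_add_right j 1))).f q)
      rw [Functor.ofSequence_map_homOfLE_succ]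
      exact hκ q j hj
    infer_instance

include hvw hκ in
theorem exists_colimit_sequence :
    ∃ (E : CochainComplex C ℤ) (ι : ∀ k, G k ⟶ E) (d : E ⟶ X), (∀ k, ι k ≫ d = w k) ∧
      (∀ (q : ℤ) (k : ℕ), κ q ≤ k → IsIso ((ι k).f q)) := by
  let F := Functor.ofSequence v
  have hconst := isEventuallyConstantFrom_ofSequence G v κ hκ
  haveI : ∀ q : ℤ, HasColimit (F ⋙ HomologicalComplex.eval C (ComplexShape.up ℤ) q) :=
    fun q => (hconst q).hasColimit
  let α : F ⟶ (Functor.const ℕ).obj X := NatTrans.ofSequence (fun k => w k) (fun k => by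
    dsimp [F]
    rw [Functor.ofSequence_map_homOfLE_succ]
    exact (hvw k).trans (Category.comp_id _).symm)
  refine ⟨colimit F, fun k => colimit.ι F k, colimit.desc F ⟨X, α⟩, fun k => ?_, fun q k hk => ?_⟩
  · exact colimit.ι_desc (⟨X, α⟩ : Cocone F) k
  · exact (hconst q).isIso_ι_of_isColimit'
      (isColimitOfPreserves (HomologicalComplex.eval C (ComplexShape.up ℤ) q) (colimit.isColimit F)) k
      (homOfLE hk)

end Colim

theorem quasiIsoAt_of_isIso_f {K L : CochainComplex C ℤ} (φ : K ⟶ L) (q : ℤ)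
    (h0 : IsIso (φ.f (q - 1))) (h1 : IsIso (φ.f q)) (h2 : IsIso (φ.f (q + 1))) : QuasiIsoAt φ q := by
  rw [quasiIsoAt_iff' φ (q - 1) q (q + 1) (by simp) (by simp)]
  let ψ := (HomologicalComplex.shortComplexFunctor' C (ComplexShape.up ℤ) (q - 1) q (q + 1)).map φ
  have : IsIso ψ.τ₁ := h0
  have : IsIso ψ.τ₂ := h1
  have : IsIso ψ.τ₃ := h2
  exact ShortComplex.quasiIso_of_epi_of_isIso_of_mono ψ

end Groth.Agent.Helper9.PCohLib
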