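import Mathlib
import Groth.Prelude.Def_PCoh
import Groth.Agent.Lib.Helper9.PCoh16

/-!
# Pseudo-coherence (punctual case): resolutions with all terms in `C₀`
-/

set_option autoImplicit false
universe w v u
open CategoryTheory CategoryTheory.Limits

namespace Groth.Agent.Helper9.PCohLib

variable {C : Type u} [Category.{v} C] [Abelian C]

/-- A stage of the construction. -/
structure Stage (P : ObjectProperty C) (b : ℤ) (X : CochainComplex C ℤ) (k : ℕ) where
  G : CochainComplex C ℤ
  w : G ⟶ X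
  hP : ∀ j, P (G.X j)
  hb : ∀ j, b < j → IsZero (G.X j)
  hz : ∀ j, j ≤ b - k → IsZero (G.X j)
  hw : IsNQI (b + 1 - k) w

variable (P : ObjectProperty C) [P.IsClosedUnderIsomorphisms] [P.ContainsZero]
  (hsum : ∀ X Y : C, P X → P Y → P (X ⨯ Y)) (hqs : PCoh.IsQuasiStableUnderKernels P)
  (hql : PCoh.IsQuasiLiftable P)

include hsum hqs hql in
theorem Stage.exists_next (b : ℤ) {X F : CochainComplex C ℤ} (u : X ⟶ F) [QuasiIso u]
    (hF : PCoh.IsStrictPCAll P F) {k : ℕ} (s : Stage P b X k) :
    ∃ (s' : Stage P b X (k + 1)) (v : s.G ⟶ s'.G), v ≫ s'.w = s.w ∧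
      ∀ j, j ≠ b - k → IsIso (v.f j) := by
  obtain ⟨G, w, hGP, hGb, hGz, hw⟩ := s
  have hw' : IsNQI (b - k + 1) w := by
    have : b + 1 - (k : ℤ) = b - k + 1 := by ring
    rwa [this] at hw
  have hF' : PCoh.IsStrictPC P (b - k) F := ⟨hF.1, fun j _ => hF.2 j⟩
  have hft : PCoh.IsOfFiniteType P ((CochainComplex.mappingCone w).homology (b - k)) :=
    finiteType_homology_mappingCone' P hsum hqs w u (b - k) b hGP hGb hF' hw'
  obtain ⟨G', v, w', hvw, hvmono, hviso, hcok, hw''⟩ := exists_step P hql (b - k) w hw' hft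
  have hiso : ∀ j, j ≠ b - k → (G'.X j ≅ G.X j) := fun j hj =>
    haveI := hviso j hj
    (asIso (v.f j)).symm
  refine ⟨⟨G', w', ?_, ?_, ?_, ?_⟩, v, hvw, hviso⟩
  · intro j
    by_cases hj : j = b - k
    · subst hj
      have hz : IsZero (G.X (b - k)) := hGz _ le_rfl
      have h0 : v.f (b - k) = 0 := hz.eq_of_src _ _
      rw [h0] at hcok
      exact P.prop_of_iso cokernelZeroIsoTarget hcok
    · exact P.prop_of_iso (hiso j hj).symm (hGP j)
  · intro j hj
    exact (hGb j hj).of_iso (hiso j (by omega))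
  · intro j hj
    push_cast at hj
    exact (hGz j (by omega)).of_iso (hiso j (by omega))
  · have : b + 1 - ((k + 1 : ℕ) : ℤ) = b - k := by push_cast; ring
    rw [this]
    exact hw''

/-- The initial stage. -/
noncomputable def Stage.zero (b : ℤ) (X : CochainComplex C ℤ)
    (hX : ∀ j, b < j → IsZero (X.homology j)) : Stage P b X 0 where
  G := HomologicalComplex.zero
  w := 0
  hP := fun _ => P.prop_of_isZero (isZero_zero C)
  hb := fun _ _ => isZero_zero C
  hz := fun _ _ => isZero_zero C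
  hw := by
    refine ⟨fun j hj => ?_, ?_⟩
    · have h0 : IsZero ((HomologicalComplex.zero : CochainComplex C ℤ).homology j) :=
        (HomologicalComplex.ExactAt.of_isZero (isZero_zero C)).isZero_homology
      exact isIso_of_isZero _ h0 (hX j (by push_cast at hj; omega))
    · exact epi_of_isZero_tgt _ (hX _ (by push_cast; omega))

section Seq

variable (b : ℤ) {X F : CochainComplex C ℤ} (u : X ⟶ F) [QuasiIso u]
  (hF : PCoh.IsStrictPCAll P F) (hX : ∀ j, b < j → IsZero (X.homology j))

/-- The sequence of stages. -/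
noncomputable def stageSeq : ∀ k : ℕ, Stage P b X k
  | 0 => Stage.zero P b X hX
  | (k + 1) => (Stage.exists_next P hsum hqs hql b u hF (stageSeq k)).choose

noncomputable def stageSeqV (k : ℕ) :
    (stageSeq P hsum hqs hql b u hF hX k).G ⟶ (stageSeq P hsum hqs hql b u hF hX (k + 1)).G :=
  (Stage.exists_next P hsum hqs hql b u hF (stageSeq P hsum hqs hql b u hF hX k)).choose_spec.choose

theorem stageSeqV_w (k : ℕ) :
    stageSeqV P hsum hqs hql b u hF hX k ≫ (stageSeq P hsum hqs hql b u hF hX (k + 1)).w =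
      (stageSeq P hsum hqs hql b u hF hX k).w :=
  (Stage.exists_next P hsum hqs hql b u hF
    (stageSeq P hsum hqs hql b u hF hX k)).choose_spec.choose_spec.1

theorem stageSeqV_isIso (k : ℕ) (j : ℤ) (hj : j ≠ b - k) :
    IsIso ((stageSeqV P hsum hqs hql b u hF hX k).f j) :=
  (Stage.exists_next P hsum hqs hql b u hF
    (stageSeq P hsum hqs hql b u hF hX k)).choose_spec.choose_spec.2 j hj

end Seq

include hsum hqs hql in
/-- Resolutions by complexes with all terms in `C₀`. -/
theorem exists_strictPCAll_resolution (b : ℤ) {X F : CochainComplex C ℤ} (u : X ⟶ F) [QuasiIso u]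
    (hF : PCoh.IsStrictPCAll P F) (hX : ∀ j, b < j → IsZero (X.homology j)) :
    ∃ (E : CochainComplex C ℤ) (d : E ⟶ X), QuasiIso d ∧ (∀ j, P (E.X j)) ∧
      (∀ j, b < j → IsZero (E.X j)) := by
  let s := stageSeq P hsum hqs hql b u hF hX
  let κ : ℤ → ℕ := fun q => (b + 1 - q).toNat
  have hκ : ∀ (q : ℤ) (k : ℕ), κ q ≤ k → IsIso ((stageSeqV P hsum hqs hql b u hF hX k).f q) := by
    intro q k hk
    apply stageSeqV_isIso
    have : b + 1 - q ≤ k := by
      have := Int.self_le_toNat (b + 1 - q)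
      have hk' : ((b + 1 - q).toNat : ℤ) ≤ k := by exact_mod_cast hk
      omega
    omega
  obtain ⟨E, ι, d, hιd, hιiso⟩ := exists_colimit_sequence (fun k => (s k).G)
    (stageSeqV P hsum hqs hql b u hF hX) (fun k => (s k).w)
    (stageSeqV_w P hsum hqs hql b u hF hX) κ hκ
  have hκmono : ∀ q q' : ℤ, q ≤ q' → κ q' ≤ κ q := by
    intro q q' h
    exact Int.toNat_le_toNat (by omega)
  refine ⟨E, d, ?_, fun j => ?_, fun j hj => ?_⟩
  · rw [quasiIso_iff]
    intro q
    rw [quasiIsoAt_iff_isIso_homologyMap]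
    let k := κ (q - 1) + 1
    have h0 : IsIso ((ι k).f (q - 1)) := hιiso _ _ (by omega)
    have h1 : IsIso ((ι k).f q) := hιiso _ _ (by have := hκmono (q - 1) q (by omega); omega)
    have h2 : IsIso ((ι k).f (q + 1)) :=
      hιiso _ _ (by have := hκmono (q - 1) (q + 1) (by omega); omega)
    have hq : QuasiIsoAt (ι k) q := quasiIsoAt_of_isIso_f (ι k) q h0 h1 h2
    rw [quasiIsoAt_iff_isIso_homologyMap] at hq
    have hwk : IsIso (HomologicalComplex.homologyMap (s k).w q) := by
      apply (s k).hw.1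
      have := Int.self_le_toNat (b + 1 - (q - 1))
      have hk' : ((k : ℕ) : ℤ) = ((b + 1 - (q - 1)).toNat : ℤ) + 1 := by
        simp [k, κ]
      omega
    have : HomologicalComplex.homologyMap d q =
        inv (HomologicalComplex.homologyMap (ι k) q) ≫ HomologicalComplex.homologyMap (s k).w q := by
      rw [IsIso.eq_inv_comp, ← HomologicalComplex.homologyMap_comp, hιd]
    rw [this]
    infer_instance
  · haveI := hιiso j (κ j) le_rfl
    exact P.prop_of_iso (asIso ((ι (κ j)).f j)) ((s (κ j)).hP j)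
  · haveI := hιiso j (κ j) le_rfl
    exact ((s (κ j)).hb j hj).of_iso (asIso ((ι (κ j)).f j)).symm

end Groth.Agent.Helper9.PCohLib
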