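import Mathlib
import Groth.Prelude.Def_PCoh
import Groth.Agent.Lib.Helper9.PCoh17

/-!
# Pseudo-coherence (punctual case): resolutions with all terms in `C₀`, general form
-/

set_option autoImplicit false
universe w v u
open CategoryTheory CategoryTheory.Limits Pretriangulated

namespace Groth.Agent.Helper9.PCohLib

variable {C : Type u} [Category.{v} C] [Abelian C]

variable (P : ObjectProperty C) [P.IsClosedUnderIsomorphisms] [P.ContainsZero]
  (hql : PCoh.IsQuasiLiftable P)

/-- The finiteness hypothesis needed to run the construction. -/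
def HasFTCones (X : CochainComplex C ℤ) : Prop :=
  ∀ (m : ℤ) (G : CochainComplex C ℤ) (w : G ⟶ X), (∀ j, P (G.X j)) →
    (∃ b : ℤ, ∀ j, b < j → IsZero (G.X j)) → IsNQI (m + 1) w →
      PCoh.IsOfFiniteType P ((CochainComplex.mappingCone w).homology m)

include hql in
theorem Stage.exists_next' (b : ℤ) {X : CochainComplex C ℤ} (hX : HasFTCones P X)
    {k : ℕ} (s : Stage P b X k) :
    ∃ (s' : Stage P b X (k + 1)) (v : s.G ⟶ s'.G), v ≫ s'.w = s.w ∧
      ∀ j, j ≠ b - k → IsIso (v.f j) := by
  obtain ⟨G, w, hGP, hGb, hGz, hw⟩ := s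
  have hw' : IsNQI (b - k + 1) w := by
    have : b + 1 - (k : ℤ) = b - k + 1 := by ring
    rwa [this] at hw
  have hft : PCoh.IsOfFiniteType P ((CochainComplex.mappingCone w).homology (b - k)) :=
    hX (b - k) G w hGP ⟨b, hGb⟩ hw'
  obtain ⟨G', v, w', hvw, hvmono, hviso, hcok, hw''⟩ := exists_step P hql (b - k) w hw' hft
  have hiso : ∀ j, j ≠ b - k → (G'.X j ≅ G.X j) := fun j hj =>
    haveI := hviso j hj
    (asIso (v.f j)).symm
  refine ⟨⟨G', w', ?_, ?_, ?_, ?_⟩, v, hvw, hviso⟩
  · intro j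
    by_cases hj : j = b - k
    · subst hj
      have hz : IsZero (G.X (b - k)) := hGz _ le_rfl
      have h0 : v.f (b - k) = 0 := hz.eq_of_src _ _
      rw [h0] at hcok
      exact P.prop_of_iso cokernelZeroIsoTarget hcok
    · exact P.prop_of_iso (hiso j hj).symm (hGP j)
  · intro j hj
    exact (hGb j hj).of_iso (hiso j (by omega))
  · intro j hj
    push_cast at hj
    exact (hGz j (by omega)).of_iso (hiso j (by omega))
  · have : b + 1 - ((k + 1 : ℕ) : ℤ) = b - k := by push_cast; ring
    rw [this]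
    exact hw''

section Seq

variable (b : ℤ) {X : CochainComplex C ℤ} (hX : HasFTCones P X)
  (hXb : ∀ j, b < j → IsZero (X.homology j))

/-- The sequence of stages. -/
noncomputable def stageSeq' : ∀ k : ℕ, Stage P b X k
  | 0 => Stage.zero P b X hXb
  | (k + 1) => (Stage.exists_next' P hql b hX (stageSeq' k)).choose

noncomputable def stageSeqV' (k : ℕ) :
    (stageSeq' P hql b hX hXb k).G ⟶ (stageSeq' P hql b hX hXb (k + 1)).G :=
  (Stage.exists_next' P hql b hX (stageSeq' P hql b hX hXb k)).choose_spec.choose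

theorem stageSeqV'_w (k : ℕ) :
    stageSeqV' P hql b hX hXb k ≫ (stageSeq' P hql b hX hXb (k + 1)).w =
      (stageSeq' P hql b hX hXb k).w :=
  (Stage.exists_next' P hql b hX (stageSeq' P hql b hX hXb k)).choose_spec.choose_spec.1

theorem stageSeqV'_isIso (k : ℕ) (j : ℤ) (hj : j ≠ b - k) :
    IsIso ((stageSeqV' P hql b hX hXb k).f j) :=
  (Stage.exists_next' P hql b hX (stageSeq' P hql b hX hXb k)).choose_spec.choose_spec.2 j hj

end Seq

include hql in
/-- Resolutions by complexes with all terms in `C₀`. Also records the stages: for every `n` the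
resolution agrees in degrees `≥ n` with a bounded complex. -/
theorem exists_strictPCAll_resolution' (b : ℤ) {X : CochainComplex C ℤ} (hX : HasFTCones P X)
    (hXb : ∀ j, b < j → IsZero (X.homology j)) :
    ∃ (E : CochainComplex C ℤ) (d : E ⟶ X), QuasiIso d ∧ (∀ j, P (E.X j)) ∧
      (∀ j, b < j → IsZero (E.X j)) := by
  let s := stageSeq' P hql b hX hXb
  let κ : ℤ → ℕ := fun q => (b + 1 - q).toNat
  have hκ : ∀ (q : ℤ) (k : ℕ), κ q ≤ k → IsIso ((stageSeqV' P hql b hX hXb k).f q) := by
    intro q k hk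
    apply stageSeqV'_isIso
    have : b + 1 - q ≤ k := by
      have := Int.self_le_toNat (b + 1 - q)
      have hk' : ((b + 1 - q).toNat : ℤ) ≤ k := by exact_mod_cast hk
      omega
    omega
  obtain ⟨E, ι, d, hιd, hιiso⟩ := exists_colimit_sequence (fun k => (s k).G)
    (stageSeqV' P hql b hX hXb) (fun k => (s k).w)
    (stageSeqV'_w P hql b hX hXb) κ hκ
  have hκmono : ∀ q q' : ℤ, q ≤ q' → κ q' ≤ κ q := by
    intro q q' h
    exact Int.toNat_le_toNat (by omega)
  refine ⟨E, d, ?_, fun j => ?_, fun j hj => ?_⟩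
  · rw [quasiIso_iff]
    intro q
    rw [quasiIsoAt_iff_isIso_homologyMap]
    let k := κ (q - 1) + 1
    have h0 : IsIso ((ι k).f (q - 1)) := hιiso _ _ (by omega)
    have h1 : IsIso ((ι k).f q) := hιiso _ _ (by have := hκmono (q - 1) q (by omega); omega)
    have h2 : IsIso ((ι k).f (q + 1)) :=
      hιiso _ _ (by have := hκmono (q - 1) (q + 1) (by omega); omega)
    have hq : QuasiIsoAt (ι k) q := quasiIsoAt_of_isIso_f (ι k) q h0 h1 h2
    rw [quasiIsoAt_iff_isIso_homologyMap] at hq
    have hwk : IsIso (HomologicalComplex.homologyMap (s k).w q) := by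
      apply (s k).hw.1
      have := Int.self_le_toNat (b + 1 - (q - 1))
      have hk' : ((k : ℕ) : ℤ) = ((b + 1 - (q - 1)).toNat : ℤ) + 1 := by
        simp [k, κ]
      omega
    have : HomologicalComplex.homologyMap d q =
        inv (HomologicalComplex.homologyMap (ι k) q) ≫ HomologicalComplex.homologyMap (s k).w q := by
      rw [IsIso.eq_inv_comp, ← HomologicalComplex.homologyMap_comp, hιd]
    rw [this]
    infer_instance
  · haveI := hιiso j (κ j) le_rfl
    exact P.prop_of_iso (asIso ((ι (κ j)).f j)) ((s (κ j)).hP j)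
  · haveI := hιiso j (κ j) le_rfl
    exact ((s (κ j)).hb j hj).of_iso (asIso ((ι (κ j)).f j)).symm

section Derived

variable [HasDerivedCategory.{w} C]
  (hsum : ∀ X Y : C, P X → P Y → P (X ⨯ Y)) (hqs : PCoh.IsQuasiStableUnderKernels P)

include hsum hqs hql in
open CochainComplex in
theorem hasFTCones_of_isPC (X : CochainComplex C ℤ)
    (hX : ∀ m : ℤ, IsNPC P m (DerivedCategory.Q.obj X)) : HasFTCones P X := by
  intro m G w hGP hGb hw
  obtain ⟨b, hb⟩ := hGb
  have hT := DerivedCategory.mappingCone_triangle_distinguished w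
  have h1 : IsNPC P (m + 1) (DerivedCategory.Q.obj G) :=
    ⟨G, ⟨⟨b, hb⟩, fun j _ => hGP j⟩, ⟨Iso.refl _⟩⟩
  have h3 : IsNPC P m (DerivedCategory.Q.obj (mappingCone w)) :=
    isNPC_obj₃ P hsum hqs hql _ hT h1 (hX m)
  have hac : ∀ i : ℤ, m < i → IsZero ((DerivedCategory.homologyFunctor C i).obj
      (DerivedCategory.Q.obj (mappingCone w))) := fun i hi =>
    ((isNQI_iff_mappingCone w (m + 1)).1 hw i (by omega)).of_iso (homologyQIso _ i)
  exact isOfFiniteType_of_iso P (homologyQIso _ m)
    (finiteType_homology_of_isNPC P hqs m _ hac h3)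

include hsum hqs hql in
/-- S4295. -/
theorem exists_strictPCAll_of_isPC (F : DerivedCategory C) (hF : PCoh.IsPC P F) (b : ℤ)
    (hb : ∀ j, b < j → IsZero ((DerivedCategory.homologyFunctor C j).obj F)) :
    ∃ E : CochainComplex C ℤ, (∀ j, P (E.X j)) ∧ (∀ j, b < j → IsZero (E.X j)) ∧
      Nonempty (DerivedCategory.Q.obj E ≅ F) := by
  let X := DerivedCategory.Q.objPreimage F
  let eX : DerivedCategory.Q.obj X ≅ F := DerivedCategory.Q.objObjPreimageIso F
  have hX : ∀ m : ℤ, IsNPC P m (DerivedCategory.Q.obj X) := fun m =>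
    IsNPC.of_iso P (hF m) eX.symm
  have hXb : ∀ j, b < j → IsZero (X.homology j) := fun j hj =>
    (hb j hj).of_iso ((homologyQIso X j).symm ≪≫ (DerivedCategory.homologyFunctor C j).mapIso eX)
  obtain ⟨E, d, hd, hEP, hEb⟩ := exists_strictPCAll_resolution' P hql b
    (hasFTCones_of_isPC P hql hsum hqs X hX) hXb
  exact ⟨E, hEP, hEb, ⟨asIso (DerivedCategory.Q.map d) ≪≫ eX⟩⟩

end Derived

end Groth.Agent.Helper9.PCohLib
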