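import Mathlib
import Groth.Prelude.Def_PCoh
import Groth.Agent.Lib.Helper9.PCoh18

/-!
# Pseudo-coherence (punctual case): `K⁻(C₀)/acyclic ⟶ D(C)` is full and faithful (S4296, S4297)
-/

set_option autoImplicit false
universe w v u
open CategoryTheory CategoryTheory.Limits Pretriangulated

namespace Groth.Agent.Helper9.PCohLib

variable {C : Type u} [Category.{v} C] [Abelian C] [HasDerivedCategory.{w} C]

open DerivedCategory in
theorem exists_homotopy_of_Q_map_eq {X Y : CochainComplex C ℤ} (f g : X ⟶ Y)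
    (h : Q.map f = Q.map g) :
    ∃ (X' : CochainComplex C ℤ) (t : X' ⟶ X), QuasiIso t ∧ Nonempty (Homotopy (t ≫ f) (t ≫ g)) := by
  have key : ∀ φ : X ⟶ Y, Qh.map ((HomotopyCategory.quotient C (ComplexShape.up ℤ)).map φ) =
      (quotientCompQhIso C).hom.app X ≫ Q.map φ ≫ (quotientCompQhIso C).inv.app Y := by
    intro φ
    have := quotientCompQhIso_hom_naturality φ
    rw [← Category.assoc, ← this]
    simp
  have h' : Qh.map ((HomotopyCategory.quotient C (ComplexShape.up ℤ)).map f) =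
      Qh.map ((HomotopyCategory.quotient C (ComplexShape.up ℤ)).map g) := by
    rw [key, key, h]
  obtain ⟨Z, s, hs, hsfg⟩ :=
    (MorphismProperty.map_eq_iff_precomp Qh (HomotopyCategory.quasiIso C (ComplexShape.up ℤ)) _ _).1 h'
  obtain ⟨X', rfl⟩ := HomotopyCategory.quotient_obj_surjective Z
  obtain ⟨t, rfl⟩ := (HomotopyCategory.quotient _ _).map_surjective s
  rw [HomotopyCategory.quotient_map_mem_quasiIso_iff] at hs
  refine ⟨X', t, hs, ⟨HomotopyCategory.homotopyOfEq _ _ ?_⟩⟩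
  rw [Functor.map_comp, Functor.map_comp]
  exact hsfg

variable (P : ObjectProperty C) [P.IsClosedUnderIsomorphisms] [P.ContainsZero]
  (hsum : ∀ X Y : C, P X → P Y → P (X ⨯ Y)) (hqs : PCoh.IsQuasiStableUnderKernels P)
  (hql : PCoh.IsQuasiLiftable P)

include hsum hqs hql

/-- Resolution of a complex quasi-isomorphic to a strictly pseudo-coherent one. -/
theorem exists_strictPCAll_resolution_of_quasiIso {X E : CochainComplex C ℤ} (s : X ⟶ E)
    [QuasiIso s] (hE : PCoh.IsStrictPCAll P E) :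
    ∃ (E'' : CochainComplex C ℤ) (d : E'' ⟶ X), QuasiIso d ∧ PCoh.IsStrictPCAll P E'' := by
  obtain ⟨⟨b, hb⟩, hEP⟩ := hE
  have hXb : ∀ j, b < j → IsZero (X.homology j) := fun j hj =>
    ((HomologicalComplex.ExactAt.of_isZero (hb j hj)).isZero_homology).of_iso
      (asIso (HomologicalComplex.homologyMap s j))
  obtain ⟨E'', d, hd, hP, hz⟩ := exists_strictPCAll_resolution P hsum hqs hql b s ⟨⟨b, hb⟩, hEP⟩ hXb
  exact ⟨E'', d, hd, ⟨⟨b, hz⟩, hP⟩⟩

open DerivedCategory in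
/-- S4296. -/
theorem full_strictPCAll (E E' : CochainComplex C ℤ) (hE : PCoh.IsStrictPCAll P E)
    (α : Q.obj E ⟶ Q.obj E') :
    ∃ (E'' : CochainComplex C ℤ) (s : E'' ⟶ E) (f : E'' ⟶ E'), PCoh.IsStrictPCAll P E'' ∧ QuasiIso s ∧
      Q.map s ≫ α = Q.map f := by
  obtain ⟨X', s₀, hs₀, g, hg⟩ := right_fac α
  have hs₀' : QuasiIso s₀ := (isIso_Q_map_iff_quasiIso C s₀).1 hs₀
  obtain ⟨E'', d, hd, hE''⟩ := exists_strictPCAll_resolution_of_quasiIso P hsum hqs hql s₀ hE
  refine ⟨E'', d ≫ s₀, d ≫ g, hE'', inferInstance, ?_⟩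
  rw [Functor.map_comp, Functor.map_comp, hg, Category.assoc, IsIso.hom_inv_id_assoc]

open DerivedCategory in
/-- S4297. -/
theorem faithful_strictPCAll (E E' : CochainComplex C ℤ) (hE : PCoh.IsStrictPCAll P E)
    (f g : E ⟶ E') (hfg : Q.map f = Q.map g) :
    ∃ (E'' : CochainComplex C ℤ) (s : E'' ⟶ E), PCoh.IsStrictPCAll P E'' ∧ QuasiIso s ∧
      Nonempty (Homotopy (s ≫ f) (s ≫ g)) := by
  obtain ⟨X', t, ht, ⟨H⟩⟩ := exists_homotopy_of_Q_map_eq f g hfg
  obtain ⟨E'', d, hd, hE''⟩ := exists_strictPCAll_resolution_of_quasiIso P hsum hqs hql t hE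
  refine ⟨E'', d ≫ t, hE'', inferInstance, ⟨?_⟩⟩
  exact (Homotopy.ofEq (Category.assoc _ _ _)).trans
    ((H.compLeft d).trans (Homotopy.ofEq (Category.assoc _ _ _).symm))

end Groth.Agent.Helper9.PCohLib
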