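import Mathlib
import Groth.Prelude.Def_PCoh
import Groth.Agent.Lib.Helper9.PCoh19

/-!
# Pseudo-coherence (punctual case): the step with retractions; S12100
-/

set_option autoImplicit false
universe w v u
open CategoryTheory CategoryTheory.Limits

namespace Groth.Agent.Helper9.PCohLib

variable {C : Type u} [Category.{v} C] [Abelian C]

/-- S5628 (strong form, with degreewise retractions). -/
theorem exists_step' (P : ObjectProperty C) [P.IsClosedUnderIsomorphisms]
    (hql : PCoh.IsQuasiLiftable P) (n : ℤ) {E F : CochainComplex C ℤ} (u : E ⟶ F)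
    (hu : IsNQI (n + 1) u)
    (hcone : PCoh.IsOfFiniteType P ((CochainComplex.mappingCone u).homology n)) :
    ∃ (E' : CochainComplex C ℤ) (v : E ⟶ E') (u' : E' ⟶ F), v ≫ u' = u ∧ (∀ i : ℤ, Mono (v.f i)) ∧
      (∀ i : ℤ, i ≠ n → IsIso (v.f i)) ∧ P (cokernel (v.f n)) ∧ IsNQI n u' ∧
      (∀ j : ℤ, ∃ r : E'.X j ⟶ E.X j, v.f j ≫ r = 𝟙 _) := by
  obtain ⟨C', i, p, hi, hp, hip, hret⟩ := exists_mono_quasiIso_fac u
  subst hip
  have hi' : IsNQI (n + 1) i := IsNQI.of_comp_quasiIso i p hu
  have hS₁ := shortExact_cokernel i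
  have hM : ∀ j : ℤ, n + 1 ≤ j → IsZero ((cokernel i).homology j) := fun j hj =>
    (exactAt_cokernel_of_isNQI i (n + 1) hi' j hj).isZero_homology
  have hft : PCoh.IsOfFiniteType P ((cokernel i).homology n) := by
    obtain ⟨e⟩ := homology_cokernel_iso i p n
    exact isOfFiniteType_of_iso P e.symm hcone
  obtain ⟨Q, c, hQ, hc⟩ := exists_cycle_of_finiteType P hql (cokernel i) n hft
  let z : (HomologicalComplex.single C (ComplexShape.up ℤ) n).obj Q ⟶ cokernel i :=
    HomologicalComplex.mkHomFromSingle (c ≫ (cokernel i).iCycles n) (fun k _ => by simp)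
  have hz : Epi (HomologicalComplex.homologyMap z n) :=
    epi_homologyMap_mkHomFromSingle (cokernel i) n Q c hc z (by simp [z])
  -- the pullback
  let v : E ⟶ pullback (cokernel.π i) z := pullback.lift i 0 (by rw [cokernel.condition, zero_comp])
  have hv1 : v ≫ pullback.fst (cokernel.π i) z = i := pullback.lift_fst _ _ _
  have hv2 : v ≫ pullback.snd (cokernel.π i) z = 0 := pullback.lift_snd _ _ _
  have hvmono : Mono v := mono_of_mono_fac hv1
  let S₂ : ShortComplex (CochainComplex C ℤ) := ShortComplex.mk v (pullback.snd (cokernel.π i) z) hv2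
  have hS₂ : S₂.ShortExact :=
    { exact := by
        rw [ShortComplex.exact_iff_exact_up_to_refinements]
        intro A x₂ hx₂
        have hx₂' : x₂ ≫ pullback.snd (cokernel.π i) z = 0 := hx₂
        have h0 : (x₂ ≫ pullback.fst (cokernel.π i) z) ≫ cokernel.π i = 0 := by
          rw [Category.assoc, pullback.condition, ← Category.assoc, hx₂', zero_comp]
        refine ⟨A, 𝟙 A, inferInstance,
          hS₁.fIsKernel.lift (KernelFork.ofι (x₂ ≫ pullback.fst (cokernel.π i) z) h0), ?_⟩
        have hfac : hS₁.fIsKernel.lift (KernelFork.ofι (x₂ ≫ pullback.fst (cokernel.π i) z) h0) ≫ i =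
            x₂ ≫ pullback.fst (cokernel.π i) z := hS₁.fIsKernel.fac _ WalkingParallelPair.zero
        rw [Category.id_comp]
        change x₂ = _ ≫ v
        apply pullback.hom_ext
        · rw [Category.assoc, hv1, hfac]
        · rw [Category.assoc, hv2, comp_zero, hx₂']
      mono_f := hvmono
      epi_g := inferInstanceAs (Epi (pullback.snd (cokernel.π i) z)) }
  let φ : S₂ ⟶ ShortComplex.mk i (cokernel.π i) (cokernel.condition i) :=
    { τ₁ := 𝟙 E
      τ₂ := pullback.fst (cokernel.π i) z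
      τ₃ := z
      comm₁₂ := by dsimp [S₂]; rw [hv1, Category.id_comp]
      comm₂₃ := pullback.condition }
  -- `pullback.fst` is an `n`-quasi-isomorphism
  have hzero : ∀ j : ℤ, j ≠ n →
      IsZero (((HomologicalComplex.single C (ComplexShape.up ℤ) n).obj Q).homology j) :=
    fun j hj => isZero_homology_single Q n j hj
  have hzepi : ∀ j : ℤ, n ≤ j → Epi (HomologicalComplex.homologyMap z j) := by
    intro j hj
    rcases hj.lt_or_eq with h | h
    · exact ⟨fun _ _ _ => (hM j (by omega)).eq_of_src _ _⟩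
    · subst h; exact hz
  have hzmono : ∀ j : ℤ, n < j → Mono (HomologicalComplex.homologyMap z j) := by
    intro j hj
    exact ⟨fun _ _ _ => (hzero j (by omega)).eq_of_tgt _ _⟩
  have hfst : IsNQI n (pullback.fst (cokernel.π i) z) := by
    have hepi : ∀ j : ℤ, n ≤ j → Epi (HomologicalComplex.homologyMap (pullback.fst (cokernel.π i) z) j) := by
      intro j hj
      refine epi_homologyMap_τ₂ φ hS₂ hS₁ j (j + 1) rfl ?_ (hzepi j hj) ?_
      · change Epi (HomologicalComplex.homologyMap (𝟙 E) j)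
        rw [HomologicalComplex.homologyMap_id]; infer_instance
      · change Mono (HomologicalComplex.homologyMap (𝟙 E) (j + 1))
        rw [HomologicalComplex.homologyMap_id]; infer_instance
    refine ⟨fun j hj => ?_, hepi n le_rfl⟩
    have h1 := hepi j hj.le
    have h2 : Mono (HomologicalComplex.homologyMap (pullback.fst (cokernel.π i) z) j) := by
      refine mono_homologyMap_τ₂ φ hS₂ hS₁ (j - 1) j (by omega) (hzepi (j - 1) (by omega)) ?_
        (hzmono j hj)
      change Mono (HomologicalComplex.homologyMap (𝟙 E) j)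
      rw [HomologicalComplex.homologyMap_id]; infer_instance
    exact isIso_of_mono_of_epi _
  refine ⟨pullback (cokernel.π i) z, v, pullback.fst (cokernel.π i) z ≫ p, ?_, ?_, ?_, ?_,
    hfst.comp_quasiIso p, ?_⟩
  · rw [← Category.assoc, hv1]
  · intro j; infer_instance
  · intro j hj
    have hS₂j := hS₂.map_of_exact (HomologicalComplex.eval C (ComplexShape.up ℤ) j)
    exact hS₂j.isIso_f_iff.2 (HomologicalComplex.isZero_single_obj_X (ComplexShape.up ℤ) n Q j hj)
  · have hS₂n := hS₂.map_of_exact (HomologicalComplex.eval C (ComplexShape.up ℤ) n)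
    have hcok := hS₂n.gIsCokernel
    have e : cokernel (v.f n) ≅ ((HomologicalComplex.single C (ComplexShape.up ℤ) n).obj Q).X n :=
      IsColimit.coconePointUniqueUpToIso (cokernelIsCokernel (v.f n)) hcok
    exact P.prop_of_iso (e ≪≫ HomologicalComplex.singleObjXSelf (ComplexShape.up ℤ) n Q).symm hQ
  · intro j
    obtain ⟨r, hr⟩ := hret j
    refine ⟨(pullback.fst (cokernel.π i) z).f j ≫ r, ?_⟩
    rw [← Category.assoc, ← HomologicalComplex.comp_f, hv1, hr]


/-- An extension of an object of `P` by an object of `P` which is split lies in `P`. -/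
theorem prop_of_splitMono (P : ObjectProperty C) [P.IsClosedUnderIsomorphisms]
    (hsum : ∀ X Y : C, P X → P Y → P (X ⨯ Y)) {A B : C} (v : A ⟶ B) (r : B ⟶ A)
    (hr : v ≫ r = 𝟙 A) (hA : P A) (hcok : P (cokernel v)) : P B := by
  haveI : Mono v := mono_of_mono_fac hr
  let S : ShortComplex C := ShortComplex.mk v (cokernel.π v) (cokernel.condition v)
  have hS : S.ShortExact :=
    { exact := ShortComplex.exact_cokernel v
      mono_f := inferInstanceAs (Mono v)
      epi_g := inferInstanceAs (Epi (cokernel.π v)) }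
  let σ : S.Splitting := ShortComplex.Splitting.ofExactOfRetraction S hS.exact r hr hS.epi_g
  have e : B ≅ A ⊞ cokernel v := σ.isoBinaryBiproduct
  exact P.prop_of_iso (e ≪≫ biprod.isoProd _ _).symm (hsum _ _ hA hcok)


section Colim'

variable (G : ℕ → CochainComplex C ℤ) (v : ∀ k, G k ⟶ G (k + 1)) {X : CochainComplex C ℤ}
  (w : ∀ k, G k ⟶ X) (hvw : ∀ k, v k ≫ w (k + 1) = w k) (κ : ℤ → ℕ)
  (hκ : ∀ (q : ℤ) (k : ℕ), κ q ≤ k → IsIso ((v k).f q))

include hvw hκ in
theorem exists_colimit_sequence' :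
    ∃ (E : CochainComplex C ℤ) (ι : ∀ k, G k ⟶ E) (d : E ⟶ X), (∀ k, ι k ≫ d = w k) ∧
      (∀ k, v k ≫ ι (k + 1) = ι k) ∧
      (∀ (q : ℤ) (k : ℕ), κ q ≤ k → IsIso ((ι k).f q)) := by
  let F := Functor.ofSequence v
  have hconst := isEventuallyConstantFrom_ofSequence G v κ hκ
  haveI : ∀ q : ℤ, HasColimit (F ⋙ HomologicalComplex.eval C (ComplexShape.up ℤ) q) :=
    fun q => (hconst q).hasColimit
  let α : F ⟶ (Functor.const ℕ).obj X := NatTrans.ofSequence (fun k => w k) (fun k => by
    dsimp [F]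
    rw [Functor.ofSequence_map_homOfLE_succ]
    exact (hvw k).trans (Category.comp_id _).symm)
  refine ⟨colimit F, fun k => colimit.ι F k, colimit.desc F ⟨X, α⟩, fun k => ?_, fun k => ?_,
    fun q k hk => ?_⟩
  · exact colimit.ι_desc (⟨X, α⟩ : Cocone F) k
  · have := colimit.w F (homOfLE (Nat.le_succ k))
    dsimp [F] at this
    rw [Functor.ofSequence_map_homOfLE_succ] at this
    exact this
  · exact (hconst q).isIso_ι_of_isColimit'
      (isColimitOfPreserves (HomologicalComplex.eval C (ComplexShape.up ℤ) q) (colimit.isColimit F)) k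
      (homOfLE hk)

end Colim'

theorem isStrictPC_of_isIso_ge (P : ObjectProperty C) [P.IsClosedUnderIsomorphisms]
    (n i : ℤ) (hi : i ≤ n) {E E' : CochainComplex C ℤ} (v : E ⟶ E')
    (hv : ∀ j : ℤ, i ≤ j → IsIso (v.f j)) (hE : PCoh.IsStrictPC P n E) : PCoh.IsStrictPC P n E' := by
  obtain ⟨⟨b, hb⟩, hP⟩ := hE
  refine ⟨⟨max b i, fun j hj => ?_⟩, fun j hj => ?_⟩
  · haveI := hv j (by have := le_max_right b i; omega)
    exact (hb j (by have := le_max_left b i; omega)).of_iso (asIso (v.f j)).symm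
  · haveI := hv j (by omega)
    exact P.prop_of_iso (asIso (v.f j)) (hP j hj)

section Derived

variable [HasDerivedCategory.{w} C] (P : ObjectProperty C) [P.IsClosedUnderIsomorphisms]
  [P.ContainsZero] (hsum : ∀ X Y : C, P X → P Y → P (X ⨯ Y))
  (hqs : PCoh.IsQuasiStableUnderKernels P) (hql : PCoh.IsQuasiLiftable P)

include hsum hqs hql in
open CochainComplex in
theorem finiteType_cone_of_isNPC (n m : ℤ) (hnm : n ≤ m) {G F : CochainComplex C ℤ}
    (w : G ⟶ F) (hG : PCoh.IsStrictPC P n G) (hF : IsNPC P n (DerivedCategory.Q.obj F))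
    (hw : IsNQI (m + 1) w) :
    PCoh.IsOfFiniteType P ((mappingCone w).homology m) := by
  have hT := DerivedCategory.mappingCone_triangle_distinguished w
  have h0 : IsNPC P n (DerivedCategory.Q.obj G) := ⟨G, hG, ⟨Iso.refl _⟩⟩
  have h1 : IsNPC P (m + 1) (DerivedCategory.Q.obj G) := h0.of_le P (show n ≤ m + 1 by omega)
  have h3' : IsNPC P m (DerivedCategory.Q.obj (mappingCone w)) :=
    isNPC_obj₃ P hsum hqs hql _ hT h1 (hF.of_le P hnm)
  have hac : ∀ i : ℤ, m < i → IsZero ((DerivedCategory.homologyFunctor C i).obj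
      (DerivedCategory.Q.obj (mappingCone w))) := fun i hi =>
    ((isNQI_iff_mappingCone w (m + 1)).1 hw i (by omega)).of_iso (homologyQIso _ i)
  exact isOfFiniteType_of_iso P (homologyQIso _ m)
    (finiteType_homology_of_isNPC P hqs m _ hac h3')

include hsum hqs hql in
theorem exists_strictPC_factorisation_aux (n : ℤ) {F : CochainComplex C ℤ}
    (hF : IsNPC P n (DerivedCategory.Q.obj F)) :
    ∀ (k : ℕ) (E : CochainComplex C ℤ) (_ : PCoh.IsStrictPC P n E) (u : E ⟶ F)
      (_ : IsNQI (n + k) u),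
      ∃ (E' : CochainComplex C ℤ) (v : E ⟶ E') (u' : E' ⟶ F), v ≫ u' = u ∧
        PCoh.IsStrictPC P n E' ∧ QuasiIso u' ∧ (∀ j : ℤ, Mono (v.f j)) ∧
        (∀ j : ℤ, n + k ≤ j → IsIso (v.f j)) := by
  intro k
  induction k with
  | zero =>
    intro E hE u hu
    have hu' : IsNQI n u := by simpa using hu
    obtain ⟨E', v, u', hvu, hq, hmono, hiso⟩ := exists_factorisation_of_isNQI n u hu'
    refine ⟨E', v, u', hvu, isStrictPC_of_isIso_ge P n n le_rfl v hiso hE, hq, hmono, ?_⟩
    intro j hj
    exact hiso j (by simpa using hj)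
  | succ k ih =>
    intro E hE u hu
    have hu' : IsNQI ((n + k) + 1) u := by
      have : n + ((k + 1 : ℕ) : ℤ) = (n + k) + 1 := by push_cast; ring
      rwa [this] at hu
    have hft := finiteType_cone_of_isNPC P hsum hqs hql n (n + k) (by omega) u hE hF hu'
    obtain ⟨E₁, v₁, u₁, hvu₁, hmono₁, hiso₁, hcok, hu₁, hret⟩ :=
      exists_step' P hql (n + k) u hu' hft
    have hE₁ : PCoh.IsStrictPC P n E₁ := by
      obtain ⟨⟨b, hb⟩, hP⟩ := hE
      refine ⟨⟨max b (n + k), fun j hj => ?_⟩, fun j hj => ?_⟩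
      · haveI := hiso₁ j (by have := le_max_right b (n + k); omega)
        exact (hb j (by have := le_max_left b (n + k); omega)).of_iso (asIso (v₁.f j)).symm
      · by_cases hjk : j = n + k
        · subst hjk
          obtain ⟨r, hr⟩ := hret (n + k)
          exact prop_of_splitMono P hsum (v₁.f (n + k)) r hr (hP _ hj) hcok
        · haveI := hiso₁ j hjk
          exact P.prop_of_iso (asIso (v₁.f j)) (hP j hj)
    obtain ⟨E', v₂, u', hvu₂, hE', hq, hmono₂, hiso₂⟩ := ih E₁ hE₁ u₁ hu₁
    refine ⟨E', v₁ ≫ v₂, u', by rw [Category.assoc, hvu₂, hvu₁], hE', hq, fun j => ?_, fun j hj => ?_⟩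
    · rw [HomologicalComplex.comp_f]
      haveI := hmono₁ j
      haveI := hmono₂ j
      exact mono_comp _ _
    · rw [HomologicalComplex.comp_f]
      push_cast at hj
      haveI := hiso₁ j (by omega)
      haveI := hiso₂ j (by omega)
      infer_instance

include hsum hqs hql in
/-- S12100. -/
theorem exists_strictPC_factorisation (n i : ℤ) {E F : CochainComplex C ℤ}
    (hE : PCoh.IsStrictPC P n E) (hF : IsNPC P n (DerivedCategory.Q.obj F)) (u : E ⟶ F)
    (hu : IsNQI i u) :
    ∃ (E' : CochainComplex C ℤ) (v : E ⟶ E') (u' : E' ⟶ F), v ≫ u' = u ∧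
      PCoh.IsStrictPC P n E' ∧ QuasiIso u' ∧ (∀ j : ℤ, Mono (v.f j)) ∧
      (∀ j : ℤ, i ≤ j → IsIso (v.f j)) := by
  by_cases hi : i ≤ n
  · obtain ⟨E', v, u', hvu, hq, hmono, hiso⟩ := exists_factorisation_of_isNQI i u hu
    exact ⟨E', v, u', hvu, isStrictPC_of_isIso_ge P n i hi v hiso hE, hq, hmono, hiso⟩
  · have hk : i = n + ((i - n).toNat : ℤ) := by
      have := Int.toNat_of_nonneg (show 0 ≤ i - n by omega)
      omega
    rw [hk] at hu
    obtain ⟨E', v, u', hvu, hE', hq, hmono, hiso⟩ :=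
      exists_strictPC_factorisation_aux P hsum hqs hql n hF (i - n).toNat E hE u hu
    refine ⟨E', v, u', hvu, hE', hq, hmono, fun j hj => hiso j ?_⟩
    rw [← hk]; exact hj

end Derived

end Groth.Agent.Helper9.PCohLib
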