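import Mathlib
import Groth.Agent.Lib.Helper9.PCoh20

/-!
# Termwise surjective resolutions relative to a generating class (Stacks 13.15.4, 13.29.1)

`SplitWith f T` : `f` is a split monomorphism with complement `T`.
`Star w j` : the lifting property "`G^{j-1} ⟶ K^{j-1} ×_{K^j} Z^j(G)` is an epimorphism" (stated up to
refinements). The conjunction of all `Star w j` implies that `w` is a termwise epimorphic
quasi-isomorphism. `exists_attach` attaches one cell to achieve `Star w (m + 1)`.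
-/

set_option autoImplicit false
universe v u
open CategoryTheory CategoryTheory.Limits

namespace Groth.Agent.Helper9.PRes

variable {A : Type u} [Category.{v} A] [Abelian A]

/-- `f : X ⟶ Y` is a split monomorphism with complement `T`. -/
def SplitWith {X Y : A} (f : X ⟶ Y) (T : A) : Prop :=
  ∃ (r : Y ⟶ X) (s : T ⟶ Y) (p : Y ⟶ T), f ≫ r = 𝟙 X ∧ s ≫ p = 𝟙 T ∧ f ≫ p = 0 ∧ s ≫ r = 0 ∧
    r ≫ f + p ≫ s = 𝟙 Y

theorem SplitWith.of_isIso {X Y : A} (f : X ⟶ Y) [IsIso f] {T : A} (hT : IsZero T) :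
    SplitWith f T :=
  ⟨inv f, 0, 0, by simp, hT.eq_of_src _ _, by simp, by simp, by simp⟩

theorem SplitWith.comp_iso {X Y Y' : A} {f : X ⟶ Y} {T : A} (h : SplitWith f T) (g : Y ⟶ Y')
    [IsIso g] : SplitWith (f ≫ g) T := by
  obtain ⟨r, s, p, h1, h2, h3, h4, h5⟩ := h
  refine ⟨inv g ≫ r, s ≫ g, inv g ≫ p, by simp [h1], by simp [h2], by simp [h3], by simp [h4], ?_⟩
  clear h1 h2 h3 h4
  have : (inv g ≫ r) ≫ f ≫ g + (inv g ≫ p) ≫ s ≫ g = inv g ≫ (r ≫ f + p ≫ s) ≫ g := by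
    simp only [Preadditive.add_comp, Preadditive.comp_add, Category.assoc]
  rw [this, h5]; simp

theorem SplitWith.iso_comp {X' X Y : A} (g : X' ⟶ X) [IsIso g] {f : X ⟶ Y} {T : A}
    (h : SplitWith f T) : SplitWith (g ≫ f) T := by
  obtain ⟨r, s, p, h1, h2, h3, h4, h5⟩ := h
  refine ⟨r ≫ inv g, s, p, ?_, h2, by simp [h3], by rw [← Category.assoc, h4, zero_comp], ?_⟩
  · rw [Category.assoc, ← Category.assoc f, h1]; simp
  · simpa using h5

/-- The target of a split monomorphism with complement `T` is the biproduct. -/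
theorem SplitWith.nonempty_iso {X Y : A} {f : X ⟶ Y} {T : A} (h : SplitWith f T) :
    Nonempty (Y ≅ X ⊞ T) := by
  obtain ⟨r, s, p, h1, h2, h3, h4, h5⟩ := h
  exact ⟨{ hom := biprod.lift r p
           inv := biprod.desc f s
           hom_inv_id := by simp [h5]
           inv_hom_id := by ext <;> simp [h1, h2, h3, h4] }⟩

/-- The cokernel of a split monomorphism with complement `T` is `T`. -/
theorem SplitWith.nonempty_cokernelIso {X Y : A} {f : X ⟶ Y} {T : A} (h : SplitWith f T) :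
    Nonempty (cokernel f ≅ T) := by
  obtain ⟨r, s, p, h1, h2, h3, h4, h5⟩ := h
  refine ⟨{ hom := cokernel.desc f p h3
            inv := s ≫ cokernel.π f
            hom_inv_id := ?_
            inv_hom_id := by simp [h2] }⟩
  rw [← cancel_epi (cokernel.π f)]
  have : p ≫ s = 𝟙 Y - r ≫ f := by rw [← h5]; abel
  simp only [cokernel.π_desc_assoc, Category.comp_id]
  rw [← Category.assoc, this, Preadditive.sub_comp]
  simp

theorem SplitWith.nonempty_iso_of_isZero {X Y : A} {f : X ⟶ Y} {T : A} (h : SplitWith f T)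
    (hX : IsZero X) : Nonempty (Y ≅ T) := by
  obtain ⟨r, s, p, h1, h2, h3, h4, h5⟩ := h
  refine ⟨{ hom := p
            inv := s
            hom_inv_id := ?_
            inv_hom_id := h2 }⟩
  rw [← h5, hX.eq_of_tgt r 0, zero_comp, zero_add]

theorem SplitWith.exists_retraction {X Y : A} {f : X ⟶ Y} {T : A} (h : SplitWith f T) :
    ∃ r : Y ⟶ X, f ≫ r = 𝟙 X := by
  obtain ⟨r, s, p, h1, -⟩ := h
  exact ⟨r, h1⟩

/-- The lifting property `(∗_j)`. -/
def Star {G K : CochainComplex A ℤ} (w : G ⟶ K) (j : ℤ) : Prop :=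
  ∀ (i k : ℤ), i + 1 = j → j + 1 = k → ∀ ⦃W : A⦄ (x : W ⟶ K.X i) (z : W ⟶ G.X j),
    z ≫ G.d j k = 0 → x ≫ K.d i j = z ≫ w.f j →
    ∃ (W' : A) (π : W' ⟶ W) (_ : Epi π) (q : W' ⟶ G.X i),
      q ≫ w.f i = π ≫ x ∧ q ≫ G.d i j = π ≫ z

theorem Star.of_iso {G G' K : CochainComplex A ℤ} {w : G ⟶ K} {w' : G' ⟶ K} (φ : G ⟶ G')
    (hφ : φ ≫ w' = w) (j : ℤ) (hj : IsIso (φ.f j)) (hj' : Mono (φ.f (j + 1)))
    (h : Star w j) : Star w' j := by
  intro i k hi hk W x z' hz' hxz'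
  subst hk
  have hφf : ∀ n, φ.f n ≫ w'.f n = w.f n := fun n => by
    rw [← HomologicalComplex.comp_f, hφ]
  obtain ⟨W', π, hπ, q, hq1, hq2⟩ := h i (j + 1) hi rfl x (z' ≫ inv (φ.f j)) (by
    rw [← cancel_mono (φ.f (j + 1)), Category.assoc, Category.assoc, ← φ.comm,
      IsIso.inv_hom_id_assoc, hz', zero_comp]) (by
    rw [hxz', Category.assoc, ← hφf j, IsIso.inv_hom_id_assoc])
  refine ⟨W', π, hπ, q ≫ φ.f i, ?_, ?_⟩
  · rw [Category.assoc, hφf, hq1]
  · rw [Category.assoc, φ.comm, reassoc_of% hq2, IsIso.inv_hom_id, Category.comp_id]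

theorem epi_f_of_star {G K : CochainComplex A ℤ} (w : G ⟶ K) (h : ∀ j, Star w j) (i : ℤ) :
    Epi (w.f i) := by
  rw [epi_iff_surjective_up_to_refinements]
  intro W x
  obtain ⟨W₁, π₁, hπ₁, q₁, hq₁, hq₁'⟩ := h (i + 2) (i + 1) (i + 3) (by ring) (by ring)
    (x ≫ K.d i (i + 1)) 0 (by simp) (by simp)
  obtain ⟨W₂, π₂, hπ₂, q₂, hq₂, -⟩ := h (i + 1) i (i + 2) rfl (by ring) (π₁ ≫ x) q₁
    (by simpa using hq₁') (by rw [hq₁, Category.assoc])
  exact ⟨W₂, π₂ ≫ π₁, epi_comp _ _, q₂, by rw [hq₂, Category.assoc]⟩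

theorem quasiIso_of_star {G K : CochainComplex A ℤ} (w : G ⟶ K) (h : ∀ j, Star w j) :
    QuasiIso w := by
  rw [quasiIso_iff]
  intro j
  rw [quasiIsoAt_iff_isIso_homologyMap]
  have hm : Mono (HomologicalComplex.homologyMap w j) := by
    rw [HomologicalComplex.mono_homologyMap_iff_up_to_refinements w (j - 1) j (j + 1)
      (by simp) (by simp)]
    intro W x₂ hx₂ y₁ hy₁
    obtain ⟨W', π, hπ, q, -, hq⟩ := h j (j - 1) (j + 1) (by ring) rfl y₁ x₂ hx₂ hy₁.symm
    exact ⟨W', π, hπ, q, hq.symm⟩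
  have he : Epi (HomologicalComplex.homologyMap w j) := by
    rw [HomologicalComplex.epi_homologyMap_iff_up_to_refinements w (j - 1) j (j + 1)
      (by simp) (by simp)]
    intro W y₂ hy₂
    obtain ⟨W', π, hπ, q, hq1, hq2⟩ := h (j + 1) j (j + 2) rfl (by ring) y₂ 0 (by simp)
      (by simp [hy₂])
    exact ⟨W', π, hπ, q, by simpa using hq2, 0, by simp [hq1]⟩
  exact isIso_of_mono_of_epi _

end Groth.Agent.Helper9.PRes
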