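import Mathlib
import Groth.Agent.Lib.Helper9.PRes1

/-!
# Attaching a cell (Stacks 13.15.4, one step)
-/

set_option autoImplicit false
universe v u
open CategoryTheory CategoryTheory.Limits CochainComplex HomComplex

namespace Groth.Agent.Helper9.PRes

variable {A : Type u} [Category.{v} A] [Abelian A]

theorem exists_attach (P : A → Prop) (hP : ∀ X : A, ∃ (Y : A) (π : Y ⟶ X), P Y ∧ Epi π)
    {G K : CochainComplex A ℤ} (w : G ⟶ K) (m : ℤ) :
    ∃ (G' : CochainComplex A ℤ) (v : G ⟶ G') (w' : G' ⟶ K) (T : A), P T ∧ v ≫ w' = w ∧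
      (∀ i, i ≠ m → IsIso (v.f i)) ∧ SplitWith (v.f m) T ∧ Star w' (m + 1) := by
  obtain ⟨T, c, hT, hc⟩ := hP (pullback (K.d m (m + 1)) (G.iCycles (m + 1) ≫ w.f (m + 1)))
  obtain ⟨a, ha⟩ : ∃ a : T ⟶ K.X m, a = c ≫ pullback.fst _ _ := ⟨_, rfl⟩
  obtain ⟨zc, hzc⟩ : ∃ zc : T ⟶ G.cycles (m + 1), zc = c ≫ pullback.snd _ _ := ⟨_, rfl⟩
  have hcond : a ≫ K.d m (m + 1) = (zc ≫ G.iCycles (m + 1)) ≫ w.f (m + 1) := by
    rw [ha, hzc]
    simp only [Category.assoc, pullback.condition]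
  obtain ⟨φc, hφc⟩ : ∃ φc : Cocycle ((singleFunctor A (m + 1)).obj T) G 0,
      φc = Cocycle.fromSingleMk (zc ≫ G.iCycles (m + 1)) (add_zero _) (m + 1 + 1) rfl (by simp) :=
    ⟨_, rfl⟩
  obtain ⟨φ, hφ⟩ : ∃ φ : (singleFunctor A (m + 1)).obj T ⟶ G, φ = Cocycle.homOf φc := ⟨_, rfl⟩
  obtain ⟨e, he⟩ : ∃ e : ((singleFunctor A (m + 1)).obj T).X (m + 1) ≅ T,
      e = HomologicalComplex.singleObjXSelf (ComplexShape.up ℤ) (m + 1) T := ⟨_, rfl⟩
  have hφf : e.inv ≫ φ.f (m + 1) = zc ≫ G.iCycles (m + 1) := by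
    have h1 : φ.f (m + 1) = e.hom ≫ zc ≫ G.iCycles (m + 1) := by
      rw [hφ, hφc, he]
      simp
      rfl
    rw [h1, Iso.inv_hom_id_assoc]
  obtain ⟨α, hα⟩ : ∃ α : Cochain ((singleFunctor A (m + 1)).obj T) K (-1),
      α = Cochain.fromSingleMk a (by ring : m + 1 + -1 = m) := ⟨_, rfl⟩
  have hαv : α.v (m + 1) m (by ring) = e.hom ≫ a := by
    rw [hα, he]
    exact Cochain.fromSingleMk_v a _
  have eq : δ (-1) 0 α = Cochain.ofHom (φ ≫ w) := by
    rw [hα, Cochain.δ_fromSingleMk a _ 0 (m + 1) (add_zero _), hcond,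
      Cochain.fromSingleMk_postcomp, hφ, Cochain.ofHom_comp, Cocycle.cochain_ofHom_homOf_eq_coe, hφc]
    rfl
  have hzero : ∀ i : ℤ, i ≠ m → IsZero (((singleFunctor A (m + 1)).obj T).X (i + 1)) := fun i hi =>
    HomologicalComplex.isZero_single_obj_X (ComplexShape.up ℤ) (m + 1) T (i + 1) (by omega)
  refine ⟨mappingCone φ, mappingCone.inr φ, mappingCone.desc φ α w eq, T, hT,
    mappingCone.inr_desc φ α w eq, fun i hi => ?_, ?_, ?_⟩
  · refine ⟨(mappingCone.snd φ).v i i (add_zero i), mappingCone.inr_f_snd_v φ i, ?_⟩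
    have h1 := mappingCone.id_X φ i (i + 1) rfl
    rw [(hzero i hi).eq_of_tgt ((mappingCone.fst φ).1.v i (i + 1) rfl) 0, zero_comp, zero_add] at h1
    exact h1
  · refine ⟨(mappingCone.snd φ).v m m (add_zero m),
      e.inv ≫ (mappingCone.inl φ).v (m + 1) m (by ring),
      (mappingCone.fst φ).1.v m (m + 1) rfl ≫ e.hom,
      mappingCone.inr_f_snd_v φ m, ?_, ?_, ?_, ?_⟩
    · rw [Category.assoc, mappingCone.inl_v_fst_v_assoc, Iso.inv_hom_id]
    · rw [mappingCone.inr_f_fst_v_assoc, zero_comp]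
    · rw [Category.assoc, mappingCone.inl_v_snd_v, comp_zero]
    · have h1 := mappingCone.id_X φ m (m + 1) rfl
      simp only [Category.assoc, Iso.hom_inv_id_assoc]
      rw [← h1]
      exact add_comm _ _
  · intro i k hi hk W x z' hz' hxz'
    obtain rfl : i = m := by omega
    subst hk
    -- the component of `z'` in `G`
    obtain ⟨z, hz⟩ : ∃ z : W ⟶ G.X (i + 1), z = z' ≫ (mappingCone.snd φ).v (i + 1) (i + 1) (add_zero _) :=
      ⟨_, rfl⟩
    have hz'z : z' = z ≫ (mappingCone.inr φ).f (i + 1) := by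
      have h1 := mappingCone.id_X φ (i + 1) (i + 1 + 1) rfl
      rw [(hzero (i + 1) (by omega)).eq_of_tgt ((mappingCone.fst φ).1.v (i + 1) (i + 1 + 1) rfl) 0,
        zero_comp, zero_add] at h1
      rw [hz, Category.assoc, h1, Category.comp_id]
    have hzd : z ≫ G.d (i + 1) (i + 1 + 1) = 0 := by
      have h2 : z' ≫ (mappingCone φ).d (i + 1) (i + 1 + 1) ≫
          (mappingCone.snd φ).v (i + 1 + 1) (i + 1 + 1) (add_zero _) = 0 := by
        rw [reassoc_of% hz', zero_comp]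
      rw [mappingCone.d_snd_v φ (i + 1) (i + 1 + 1) rfl,
        (hzero (i + 1) (by omega)).eq_of_tgt ((mappingCone.fst φ).1.v (i + 1) (i + 1 + 1) rfl) 0,
        zero_comp, zero_add, ← Category.assoc, ← hz] at h2
      exact h2
    have hxz : x ≫ K.d i (i + 1) = z ≫ w.f (i + 1) := by
      rw [hxz', hz'z, Category.assoc, mappingCone.inr_f_desc_f]
    -- the pair
    obtain ⟨y, hy1, hy2⟩ : ∃ y : W ⟶ pullback (K.d i (i + 1)) (G.iCycles (i + 1) ≫ w.f (i + 1)),
        y ≫ pullback.fst _ _ = x ∧ y ≫ pullback.snd _ _ = G.liftCycles z (i + 1 + 1) (by simp) hzd :=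
      ⟨pullback.lift x (G.liftCycles z (i + 1 + 1) (by simp) hzd) (by simp [hxz]),
        pullback.lift_fst _ _ _, pullback.lift_snd _ _ _⟩
    obtain ⟨W', π, hπ, t, ht⟩ := surjective_up_to_refinements_of_epi c y
    refine ⟨W', π, hπ, t ≫ e.inv ≫ (mappingCone.inl φ).v (i + 1) i (by ring), ?_, ?_⟩
    · simp only [Category.assoc]
      rw [mappingCone.inl_v_desc_f, hαv, Iso.inv_hom_id_assoc, ha, ← Category.assoc, ← ht,
        Category.assoc, hy1]
    · simp only [Category.assoc]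
      rw [mappingCone.inl_v_d φ (i + 1) i (i + 1 + 1) (by ring) (by ring)]
      have hS : ((singleFunctor A (i + 1)).obj T).d (i + 1) (i + 1 + 1) = 0 :=
        (HomologicalComplex.isZero_single_obj_X (ComplexShape.up ℤ) (i + 1) T (i + 1 + 1)
          (by omega)).eq_of_tgt _ _
      rw [hS, zero_comp, sub_zero, ← Category.assoc _ (φ.f (i + 1)), hφf, hzc]
      simp only [Category.assoc]
      rw [← Category.assoc t, ← ht, Category.assoc, reassoc_of% hy2, HomologicalComplex.liftCycles_i_assoc,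
        hz'z]

end Groth.Agent.Helper9.PRes
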