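import Mathlib
import Groth.Agent.Lib.Helper9.PRes2

/-!
# Relative termwise surjective resolutions (Stacks 13.15.4, 13.29.1)
-/

set_option autoImplicit false
universe v u
open CategoryTheory CategoryTheory.Limits

namespace Groth.Agent.Helper9.PRes

variable {A : Type u} [Category.{v} A] [Abelian A]

section RR

variable (P : A → Prop) {Q₀ K : CochainComplex A ℤ} (π₀ : Q₀ ⟶ K) (B : ℤ)

/-- A stage of the construction: degrees `> B - k` have been treated. -/
structure TStage (k : ℕ) where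
  G : CochainComplex A ℤ
  v₀ : Q₀ ⟶ G
  w : G ⟶ K
  fac : v₀ ≫ w = π₀
  isIso_low : ∀ j : ℤ, j ≤ B - k → IsIso (v₀.f j)
  isIso_high : ∀ j : ℤ, B < j → IsIso (v₀.f j)
  split : ∀ j : ℤ, B - k < j → j ≤ B → ∃ T, P T ∧ SplitWith (v₀.f j) T
  star : ∀ j : ℤ, B - k + 1 < j → j ≤ B + 1 → Star w j

/-- The initial stage. -/
def TStage.init : TStage P π₀ B 0 where
  G := Q₀
  v₀ := 𝟙 _
  w := π₀
  fac := Category.id_comp _
  isIso_low := fun j _ => by rw [HomologicalComplex.id_f]; infer_instance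
  isIso_high := fun j _ => by rw [HomologicalComplex.id_f]; infer_instance
  split := fun j h1 h2 => by
    exfalso
    simp only [Nat.cast_zero, sub_zero] at h1
    omega
  star := fun j h1 h2 => by
    exfalso
    simp only [Nat.cast_zero, sub_zero] at h1
    omega

variable (hP : ∀ X : A, ∃ (Y : A) (π : Y ⟶ X), P Y ∧ Epi π)

include hP in
theorem TStage.exists_next {k : ℕ} (s : TStage P π₀ B k) :
    ∃ (s' : TStage P π₀ B (k + 1)) (v : s.G ⟶ s'.G), s.v₀ ≫ v = s'.v₀ ∧ v ≫ s'.w = s.w ∧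
      ∀ q : ℤ, q ≠ B - k → IsIso (v.f q) := by
  obtain ⟨G', v, w', T, hT, hvw, hiso, hsplit, hstar⟩ := exists_attach P hP s.w (B - k)
  refine ⟨{ G := G'
            v₀ := s.v₀ ≫ v
            w := w'
            fac := by rw [Category.assoc, hvw, s.fac]
            isIso_low := fun j hj => ?_
            isIso_high := fun j hj => ?_
            split := fun j hj1 hj2 => ?_
            star := fun j hj1 hj2 => ?_ }, v, rfl, hvw, hiso⟩
  · push_cast at hj
    have := s.isIso_low j (by omega)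
    have := hiso j (by omega)
    rw [HomologicalComplex.comp_f]
    infer_instance
  · have := s.isIso_high j hj
    have := hiso j (by omega)
    rw [HomologicalComplex.comp_f]
    infer_instance
  · push_cast at hj1
    rw [HomologicalComplex.comp_f]
    by_cases h : j = B - k
    · subst h
      have := s.isIso_low (B - k) le_rfl
      exact ⟨T, hT, hsplit.iso_comp (s.v₀.f _)⟩
    · obtain ⟨T', hT', h'⟩ := s.split j (by omega) hj2
      have := hiso j h
      exact ⟨T', hT', h'.comp_iso (v.f j)⟩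
  · push_cast at hj1
    by_cases h : j = B - k + 1
    · subst h
      exact hstar
    · have h1 := hiso j (by omega)
      have h2 := hiso (j + 1) (by omega)
      exact Star.of_iso v hvw j h1 inferInstance (s.star j (by omega) hj2)

/-- The sequence of stages. -/
noncomputable def tseq : ∀ k : ℕ, TStage P π₀ B k
  | 0 => TStage.init P π₀ B
  | k + 1 => ((tseq k).exists_next P π₀ B hP).choose

/-- The transition maps. -/
noncomputable def tseqV (k : ℕ) : (tseq P π₀ B hP k).G ⟶ (tseq P π₀ B hP (k + 1)).G :=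
  ((tseq P π₀ B hP k).exists_next P π₀ B hP).choose_spec.choose

theorem tseqV_v₀ (k : ℕ) :
    (tseq P π₀ B hP k).v₀ ≫ tseqV P π₀ B hP k = (tseq P π₀ B hP (k + 1)).v₀ :=
  ((tseq P π₀ B hP k).exists_next P π₀ B hP).choose_spec.choose_spec.1

theorem tseqV_w (k : ℕ) :
    tseqV P π₀ B hP k ≫ (tseq P π₀ B hP (k + 1)).w = (tseq P π₀ B hP k).w :=
  ((tseq P π₀ B hP k).exists_next P π₀ B hP).choose_spec.choose_spec.2.1

theorem tseqV_isIso (k : ℕ) (q : ℤ) (hq : q ≠ B - k) : IsIso ((tseqV P π₀ B hP k).f q) :=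
  ((tseq P π₀ B hP k).exists_next P π₀ B hP).choose_spec.choose_spec.2.2 q hq

include hP in
/-- **Relative resolutions.** Given `π₀ : Q₀ ⟶ K` with both complexes zero above degree `B`, there is
a factorisation `Q₀ ⟶ Q ⟶ K` into a termwise split monomorphism whose complements satisfy `P`,
followed by a termwise epimorphic quasi-isomorphism. -/
theorem exists_relative_resolution (Z : A) (hZ0 : IsZero Z) (hZ : P Z)
    (hQ₀ : ∀ j : ℤ, B < j → IsZero (Q₀.X j)) (hK : ∀ j : ℤ, B < j → IsZero (K.X j)) :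
    ∃ (Q : CochainComplex A ℤ) (ι : Q₀ ⟶ Q) (π : Q ⟶ K), ι ≫ π = π₀ ∧
      (∀ j : ℤ, B < j → IsZero (Q.X j)) ∧ (∀ j : ℤ, ∃ T, P T ∧ SplitWith (ι.f j) T) ∧
      (∀ j : ℤ, Epi (π.f j)) ∧ QuasiIso π := by
  obtain ⟨s, hs⟩ : ∃ s : ∀ k : ℕ, TStage P π₀ B k, s = tseq P π₀ B hP := ⟨_, rfl⟩
  obtain ⟨V, hV⟩ : ∃ V : ∀ k : ℕ, (s k).G ⟶ (s (k + 1)).G, ∀ k, HEq (V k) (tseqV P π₀ B hP k) := by
    subst hs
    exact ⟨_, fun k => HEq.rfl⟩
  have hV1 : ∀ k, (s k).v₀ ≫ V k = (s (k + 1)).v₀ := by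
    subst hs
    intro k
    rw [eq_of_heq (hV k)]
    exact tseqV_v₀ P π₀ B hP k
  have hV2 : ∀ k, V k ≫ (s (k + 1)).w = (s k).w := by
    subst hs
    intro k
    rw [eq_of_heq (hV k)]
    exact tseqV_w P π₀ B hP k
  have hV3 : ∀ (k : ℕ) (q : ℤ), q ≠ B - k → IsIso ((V k).f q) := by
    subst hs
    intro k q hq
    rw [eq_of_heq (hV k)]
    exact tseqV_isIso P π₀ B hP k q hq
  clear hV hs
  obtain ⟨κ, hκdef⟩ : ∃ κ : ℤ → ℕ, ∀ q, κ q = (B + 1 - q).toNat := ⟨_, fun _ => rfl⟩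
  have hκ : ∀ (q : ℤ) (k : ℕ), κ q ≤ k → IsIso ((V k).f q) := by
    intro q k hk
    apply hV3
    rw [hκdef] at hk
    have := Int.self_le_toNat (B + 1 - q)
    have hk' : ((B + 1 - q).toNat : ℤ) ≤ k := by exact_mod_cast hk
    omega
  obtain ⟨E, ι, d, hιd, hvι, hιiso⟩ := Groth.Agent.Helper9.PCohLib.exists_colimit_sequence'
    (fun k => (s k).G) V (fun k => (s k).w) hV2 κ hκ
  have hv₀ : ∀ k, (s k).v₀ ≫ ι k = (s 0).v₀ ≫ ι 0 := by
    intro k
    induction k with
    | zero => rfl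
    | succ k ih => rw [← hV1, Category.assoc, hvι, ih]
  have hκle : ∀ (q : ℤ) (k : ℕ), B + 1 - q ≤ k → κ q ≤ k := by
    intro q k h
    rw [hκdef]
    exact Int.toNat_le.2 h
  have hEzero : ∀ j : ℤ, B < j → IsZero (E.X j) := by
    intro j hj
    have h1 := (s 0).isIso_high j hj
    have h2 := hιiso j 0 (hκle j 0 (by simp; omega))
    exact (hQ₀ j hj).of_iso (asIso ((s 0).v₀.f j) ≪≫ asIso ((ι 0).f j)).symm
  have hstar : ∀ j, Star d j := by
    intro j
    by_cases hj : j ≤ B + 1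
    · obtain ⟨k, hk⟩ : ∃ k : ℕ, (k : ℤ) = B + 2 - j + 1 := ⟨(B + 2 - j + 1).toNat, by
        rw [Int.toNat_of_nonneg]; omega⟩
      have h1 := hιiso j k (hκle j k (by omega))
      have h2 := hιiso (j + 1) k (hκle (j + 1) k (by omega))
      exact Star.of_iso (ι k) (hιd k) j h1 inferInstance ((s k).star j (by omega) hj)
    · intro i k' hi hk' W x z _ _
      refine ⟨W, 𝟙 W, inferInstance, 0, ?_, ?_⟩
      · rw [zero_comp, Category.id_comp]
        exact ((hK i (by omega)).eq_of_tgt _ _)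
      · rw [zero_comp, Category.id_comp]
        exact ((hEzero j (by omega)).eq_of_tgt _ _)
  refine ⟨E, (s 0).v₀ ≫ ι 0, d, ?_, hEzero, fun j => ?_, epi_f_of_star d hstar,
    quasiIso_of_star d hstar⟩
  · rw [Category.assoc, hιd, (s 0).fac]
  · by_cases hj : j ≤ B
    · obtain ⟨k, hk⟩ : ∃ k : ℕ, (k : ℤ) = B + 1 - j := ⟨(B + 1 - j).toNat, by
        rw [Int.toNat_of_nonneg]; omega⟩
      obtain ⟨T, hT, hsp⟩ := (s k).split j (by omega) hj
      have h1 := hιiso j k (hκle j k (by omega))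
      refine ⟨T, hT, ?_⟩
      rw [← hv₀ k, HomologicalComplex.comp_f]
      exact hsp.comp_iso _
    · have h1 := (s 0).isIso_high j (by omega)
      have h2 := hιiso j 0 (hκle j 0 (by simp; omega))
      refine ⟨Z, hZ, ?_⟩
      rw [HomologicalComplex.comp_f]
      exact SplitWith.of_isIso _ hZ0

end RR

end Groth.Agent.Helper9.PRes
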