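import Mathlib
import Groth.Agent.Lib.Helper9.PRes3

/-!
# Towers of resolutions of the truncations `τ_{≤ n} K` (Stacks 13.29.1)
-/

set_option autoImplicit false
universe v u
open CategoryTheory CategoryTheory.Limits

namespace Groth.Agent.Helper9.PRes

variable {A : Type u} [Category.{v} A] [Abelian A]

theorem exists_truncLE_map (K : CochainComplex A ℤ) (a b : ℤ) (hab : a ≤ b) :
    ∃ j : K.truncLE a ⟶ K.truncLE b, j ≫ K.ιTruncLE b = K.ιTruncLE a := by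
  haveI : (K.truncLE a).IsStrictlyLE b := CochainComplex.isStrictlyLE_of_le _ a b hab
  haveI : IsIso ((K.truncLE a).ιTruncLE b) := by
    dsimp [CochainComplex.ιTruncLE]; infer_instance
  refine ⟨inv ((K.truncLE a).ιTruncLE b) ≫ CochainComplex.truncLEMap (K.ιTruncLE a) b, ?_⟩
  rw [Category.assoc, CochainComplex.ιTruncLE_naturality, IsIso.inv_hom_id_assoc]

section Tower

variable (P : ObjectProperty A) [P.IsClosedUnderIsomorphisms]
  (hPsum : ∀ X Y : A, P X → P Y → P (X ⊞ Y))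
  (hP : ∀ X : A, ∃ (Y : A) (π : Y ⟶ X), P Y ∧ Epi π) (K : CochainComplex A ℤ)

/-- A resolution of `τ_{≤ n} K`. -/
structure Lvl (n : ℕ) where
  Q : CochainComplex A ℤ
  π : Q ⟶ K.truncLE (n : ℤ)
  qi : QuasiIso π
  epi : ∀ i, Epi (π.f i)
  zero : ∀ j : ℤ, (n : ℤ) < j → IsZero (Q.X j)
  prop : ∀ i, P (Q.X i)

include hP in
theorem Lvl.exists_init (Z : A) (hZ0 : IsZero Z) (hZ : P Z) : Nonempty (Lvl P K 0) := by
  have hQ₀ : ∀ j : ℤ, IsZero ((HomologicalComplex.zero : CochainComplex A ℤ).X j) := fun j =>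
    isZero_zero A
  obtain ⟨Q, ι, π, -, hQa, hsplit, hepi, hqi⟩ :=
    exists_relative_resolution (fun X : A => P X)
      (0 : (HomologicalComplex.zero : CochainComplex A ℤ) ⟶ K.truncLE ((0 : ℕ) : ℤ)) ((0 : ℕ) : ℤ)
      hP Z hZ0 hZ (fun j _ => hQ₀ j)
      (fun j hj => CochainComplex.isZero_of_isStrictlyLE _ ((0 : ℕ) : ℤ) j hj)
  refine ⟨{ Q := Q, π := π, qi := hqi, epi := hepi, zero := hQa, prop := fun i => ?_ }⟩
  obtain ⟨T, hT, hsp⟩ := hsplit i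
  obtain ⟨e⟩ := hsp.nonempty_iso_of_isZero (hQ₀ i)
  exact P.prop_of_iso e.symm hT

include hP hPsum in
theorem Lvl.exists_next (Z : A) (hZ0 : IsZero Z) (hZ : P Z) {n : ℕ} (L : Lvl P K n) :
    ∃ (L' : Lvl P K (n + 1)) (ι : L.Q ⟶ L'.Q),
      (∀ i, (∃ r : L'.Q.X i ⟶ L.Q.X i, ι.f i ≫ r = 𝟙 _) ∧ P (cokernel (ι.f i))) ∧
      L.π ≫ K.ιTruncLE (n : ℤ) = ι ≫ L'.π ≫ K.ιTruncLE ((n + 1 : ℕ) : ℤ) := by
  obtain ⟨j, hj⟩ := exists_truncLE_map K (n : ℤ) ((n + 1 : ℕ) : ℤ) (by push_cast; omega)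
  obtain ⟨Q, ι, π, hfac, hQa, hsplit, hepi, hqi⟩ :=
    exists_relative_resolution (fun X : A => P X) (L.π ≫ j) ((n + 1 : ℕ) : ℤ)
      hP Z hZ0 hZ (fun i hi => L.zero i (by push_cast at hi; omega))
      (fun i hi => CochainComplex.isZero_of_isStrictlyLE _ ((n + 1 : ℕ) : ℤ) i hi)
  refine ⟨{ Q := Q, π := π, qi := hqi, epi := hepi, zero := hQa, prop := fun i => ?_ }, ι,
    fun i => ?_, ?_⟩
  · obtain ⟨T, hT, hsp⟩ := hsplit i
    obtain ⟨e⟩ := hsp.nonempty_iso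
    exact P.prop_of_iso e.symm (hPsum _ _ (L.prop i) hT)
  · obtain ⟨T, hT, hsp⟩ := hsplit i
    obtain ⟨e⟩ := hsp.nonempty_cokernelIso
    exact ⟨hsp.exists_retraction, P.prop_of_iso e.symm hT⟩
  · rw [← Category.assoc ι, hfac, Category.assoc, hj]

variable (Z : A) (hZ0 : IsZero Z) (hZ : P Z)

/-- The tower of resolutions. -/
noncomputable def lseq : ∀ n : ℕ, Lvl P K n
  | 0 => (Lvl.exists_init P hP K Z hZ0 hZ).some
  | n + 1 => ((lseq n).exists_next P hPsum hP K Z hZ0 hZ).choose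

/-- The transition maps of the tower. -/
noncomputable def lseqι (n : ℕ) :
    (lseq P hPsum hP K Z hZ0 hZ n).Q ⟶ (lseq P hPsum hP K Z hZ0 hZ (n + 1)).Q :=
  ((lseq P hPsum hP K Z hZ0 hZ n).exists_next P hPsum hP K Z hZ0 hZ).choose_spec.choose

theorem lseqι_spec (n : ℕ) :
    (∀ i, (∃ r : (lseq P hPsum hP K Z hZ0 hZ (n + 1)).Q.X i ⟶ (lseq P hPsum hP K Z hZ0 hZ n).Q.X i,
        (lseqι P hPsum hP K Z hZ0 hZ n).f i ≫ r = 𝟙 _) ∧
        P (cokernel ((lseqι P hPsum hP K Z hZ0 hZ n).f i))) ∧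
      (lseq P hPsum hP K Z hZ0 hZ n).π ≫ K.ιTruncLE (n : ℤ) =
        lseqι P hPsum hP K Z hZ0 hZ n ≫ (lseq P hPsum hP K Z hZ0 hZ (n + 1)).π ≫
          K.ιTruncLE ((n + 1 : ℕ) : ℤ) :=
  ((lseq P hPsum hP K Z hZ0 hZ n).exists_next P hPsum hP K Z hZ0 hZ).choose_spec.choose_spec

end Tower

end Groth.Agent.Helper9.PRes
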