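import Mathlib
import Groth.Agent.Lib.Helper24.GSSHyper
import Groth.Agent.Lib.Helper24.WayOut4
import Groth.Agent.Lib.Helper18.RDerLES2
import Groth.Agent.S6620

/-!
# Way-out dévissage for `F.rightDerivedFunctorPlus` (helper9)

For an additive functor `F : C ⥤ D` between abelian categories (`C` with enough injectives), a weak
Serre class `P` of `D` and a class `PC` of objects of `C`: if `R^p F (M) ∈ P` for all `M ∈ PC`, then
`H^i (RF⁺ K) ∈ P` for every `K ∈ D⁺(C)` whose cohomology objects lie in `PC`.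
-/

set_option autoImplicit false
universe w w' v v' u u'
open CategoryTheory CategoryTheory.Limits Pretriangulated

namespace Groth.Agent.Helper9.WayOutPlus

open DerivedCategory DerivedCategory.TStructure Groth.Agent.Helper24.GSS

variable {C : Type u} [Category.{v} C] [Abelian C] [EnoughInjectives C] [HasDerivedCategory.{w} C]
variable {D : Type u'} [Category.{v'} D] [Abelian D] [HasDerivedCategory.{w'} D]
variable (F : C ⥤ D) [F.Additive]

/-- the cohomology objects of `RF⁺ K` -/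
noncomputable abbrev HR (K : DerivedCategory.Plus C) (i : ℤ) : D :=
  (DerivedCategory.homologyFunctor D i).obj
    (DerivedCategory.Plus.ι.obj (F.rightDerivedFunctorPlus.obj K))

/-- invariance under isomorphisms -/
noncomputable def HRIso {K K' : DerivedCategory.Plus C} (e : K ≅ K') (i : ℤ) :
    HR F K i ≅ HR F K' i :=
  (DerivedCategory.homologyFunctor D i).mapIso
    (DerivedCategory.Plus.ι.mapIso (F.rightDerivedFunctorPlus.mapIso e))

/-- comparison with helper24's hypercohomology functor -/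
theorem nonempty_HR_iso_hyper (K : DerivedCategory.Plus C) (n : ℤ) :
    Nonempty (HR F K n ≅ ((hyper F).shift n).obj K) := by
  obtain ⟨L₀, ⟨φ₀⟩⟩ : ∃ L₀ : HomotopyCategory.Plus (InjectiveObject C),
      Nonempty (Qinj.obj L₀ ≅ K) := ⟨_, ⟨(Qinj (C := C)).objObjPreimageIso K⟩⟩
  obtain ⟨L, rfl⟩ := HomotopyCategory.Plus.quotient_obj_surjective L₀
  let e1 := hyperIso₀ F L K φ₀ n
  let Y : HomotopyCategory.Plus C := (InjectiveObject.ι C).mapHomotopyCategoryPlus.obj
    ((HomotopyCategory.Plus.quotient (InjectiveObject C)).obj L)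
  haveI hu : IsIso (F.rightDerivedFunctorPlusUnit.app Y) := inferInstance
  let e2 : F.rightDerivedFunctorPlus.obj K ≅
      (F.mapHomotopyCategoryPlus ⋙ DerivedCategory.Plus.Qh).obj Y :=
    F.rightDerivedFunctorPlus.mapIso φ₀.symm ≪≫ (asIso (F.rightDerivedFunctorPlusUnit.app Y)).symm
  let e3 : HR F K n ≅ (DerivedCategory.homologyFunctor D n).obj (DerivedCategory.Plus.ι.obj
      ((F.mapHomotopyCategoryPlus ⋙ DerivedCategory.Plus.Qh).obj Y)) :=
    (DerivedCategory.homologyFunctor D n).mapIso (DerivedCategory.Plus.ι.mapIso e2)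
  let Z : CochainComplex D ℤ := (F.mapHomologicalComplex (ComplexShape.up ℤ)).obj
    (((InjectiveObject.ι C).mapHomologicalComplex (ComplexShape.up ℤ)).obj L.obj)
  let e4 : (DerivedCategory.homologyFunctor D n).obj (DerivedCategory.Plus.ι.obj
      ((F.mapHomotopyCategoryPlus ⋙ DerivedCategory.Plus.Qh).obj Y)) ≅
      (DerivedCategory.homologyFunctor D n).obj (DerivedCategory.Q.obj Z) :=
    (DerivedCategory.homologyFunctor D n).mapIso ((DerivedCategory.quotientCompQhIso D).app Z)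
  let e5 : (DerivedCategory.homologyFunctor D n).obj (DerivedCategory.Q.obj Z) ≅ Z.homology n :=
    (DerivedCategory.homologyFunctorFactors D n).app Z
  let e6 : Z.homology n ≅
      ((((InjectiveObject.ι C) ⋙ F).mapHomologicalComplex (ComplexShape.up ℤ)).obj L.obj).homology n :=
    Iso.refl _
  exact ⟨e3 ≪≫ e4 ≪≫ e5 ≪≫ e6 ≪≫ e1.symm⟩

variable (P : ObjectProperty D) [WSerre.IsWeakSerre P]

/-- the base case: single objects in any degree -/
theorem prop_HR_single (M : C) (hM : ∀ p : ℕ, P ((F.rightDerived p).obj M)) (a i : ℤ) :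
    P (HR F ((DerivedCategory.Plus.singleFunctor C a).obj M) i) := by
  by_cases hi : i < a
  · haveI : (F.rightDerivedFunctorPlus.obj ((DerivedCategory.Plus.singleFunctor C a).obj M)).IsGE a :=
      Groth.Agent.S6620.result F _ a
    exact P.prop_of_isZero ((DerivedCategory.Plus.ι.obj _).isZero_of_isGE a i hi)
  · obtain ⟨p, rfl⟩ : ∃ p : ℕ, i = (p : ℤ) + a := ⟨(i - a).toNat, by omega⟩
    obtain ⟨e⟩ := nonempty_HR_iso_hyper F ((DerivedCategory.Plus.singleFunctor C a).obj M) ((p : ℤ) + a)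
    exact P.prop_of_iso (e ≪≫ hyperSingleIso F M p a).symm (hM p)

omit [EnoughInjectives C] [HasDerivedCategory.{w} C] [HasDerivedCategory.{w'} D] [WSerre.IsWeakSerre P] in
theorem exact_of_subobject_eq {X Y Z : D} (f : X ⟶ Y) (g : Y ⟶ Z)
    (h : kernelSubobject g = imageSubobject f) :
    ∃ w : f ≫ g = 0, (ShortComplex.mk f g w).Exact := by
  have w : f ≫ g = 0 := by
    have h1 : imageSubobject f ≤ kernelSubobject g := h.ge
    rw [← imageSubobject_arrow_comp f, Category.assoc, ← Subobject.ofLE_arrow h1, Category.assoc,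
      kernelSubobject_arrow_comp]
    simp
  exact ⟨w, (ShortComplex.exact_iff_image_eq_kernel _).mpr h.symm⟩

/-- two out of three, from the long exact sequence of `RF⁺` -/
theorem prop_HR_obj₂ {A₁ A₂ A₃ : DerivedCategory.Plus C} (a : A₁ ⟶ A₂) (b : A₂ ⟶ A₃)
    (c : DerivedCategory.Plus.ι.obj A₃ ⟶ (DerivedCategory.Plus.ι.obj A₁)⟦(1 : ℤ)⟧)
    (hT : Triangle.mk (DerivedCategory.Plus.ι.map a) (DerivedCategory.Plus.ι.map b) c ∈
      distTriang (DerivedCategory C))
    (h₁ : ∀ i, P (HR F A₁ i)) (j : ℤ) (h₃ : P (HR F A₃ j)) (h₃' : P (HR F A₃ (j + 1))) :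
    P (HR F A₂ (j + 1)) := by
  obtain ⟨-, δ, -, hδ⟩ := Groth.Agent.Helper18.RDerLES.les_RF F a b c hT j
  obtain ⟨hb, δ', hδ', -⟩ := Groth.Agent.Helper18.RDerLES.les_RF F a b c hT (j + 1)
  obtain ⟨w₁, e₁⟩ := exact_of_subobject_eq δ _ hδ
  obtain ⟨w₂, e₂⟩ := exact_of_subobject_eq _ _ hb
  obtain ⟨w₃, e₃⟩ := exact_of_subobject_eq _ δ' hδ'
  exact Groth.Agent.Helper24.RlimConst.weakSerre_five P _ _ _ _ w₁ w₂ w₃ e₁ e₂ e₃ h₃ (h₁ _) h₃' (h₁ _)

variable (PC : ObjectProperty C) [PC.IsClosedUnderIsomorphisms] [PC.ContainsZero]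
  (hbase : ∀ M, PC M → ∀ p : ℕ, P ((F.rightDerived p).obj M))

include hbase in
omit [PC.ContainsZero] in
theorem prop_HR_of_single (K : DerivedCategory.Plus C) (a : ℤ) (h1 : K.obj.IsGE a)
    (h2 : K.obj.IsLE a) (hK : PC ((DerivedCategory.homologyFunctor C a).obj K.obj)) (i : ℤ) :
    P (HR F K i) := by
  obtain ⟨Y, ⟨e⟩⟩ := exists_iso_singleFunctor_obj_of_isGE_of_isLE K.obj a
  let e₂ : Y ≅ (DerivedCategory.homologyFunctor C a).obj K.obj :=
    ((singleFunctorCompHomologyFunctorIso C a).app Y).symm ≪≫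
      (DerivedCategory.homologyFunctor C a).mapIso e.symm
  have hY : PC Y := PC.prop_of_iso e₂.symm hK
  let e' : K ≅ (DerivedCategory.Plus.singleFunctor C a).obj Y :=
    DerivedCategory.Plus.ι.preimageIso
      (e : DerivedCategory.Plus.ι.obj K ≅
        DerivedCategory.Plus.ι.obj ((DerivedCategory.Plus.singleFunctor C a).obj Y))
  exact P.prop_of_iso (HRIso F e' i).symm (prop_HR_single F P Y (hbase Y hY) a i)

include hbase in
theorem prop_HR_of_bounded : ∀ (n : ℕ) (K : DerivedCategory.Plus C) (a : ℤ), K.obj.IsGE a →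
    K.obj.IsLE (a + n) → (∀ q, PC ((DerivedCategory.homologyFunctor C q).obj K.obj)) →
    ∀ i, P (HR F K i) := by
  intro n
  induction n with
  | zero =>
    intro K a h1 h2 hK i
    have h2' : K.obj.IsLE a := by simpa using h2
    exact prop_HR_of_single F P PC hbase K a h1 h2' (hK a) i
  | succ n ih =>
    intro K a h1 h2 hK i
    have hb : a + (n : ℤ) + 1 = a + ((n + 1 : ℕ) : ℤ) := by push_cast; ring
    have hT := t.triangleLTGE_distinguished (a + n + 1) K.obj
    have g1 : ((t.truncLT (a + n + 1)).obj K.obj).IsGE a := inferInstance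
    have g2 : ((t.truncLT (a + n + 1)).obj K.obj).IsLE (a + n) :=
      t.isLE_truncLT_obj K.obj _ _ (by omega)
    have g3 : ((t.truncGE (a + n + 1)).obj K.obj).IsGE (a + n + 1) := inferInstance
    have g4 : ((t.truncGE (a + n + 1)).obj K.obj).IsLE (a + n + 1) := by
      have : K.obj.IsLE (a + n + 1) := by rw [hb]; exact h2
      infer_instance
    let A₁ : DerivedCategory.Plus C := ⟨(t.truncLT (a + n + 1)).obj K.obj, ⟨a, g1⟩⟩
    let A₃ : DerivedCategory.Plus C := ⟨(t.truncGE (a + n + 1)).obj K.obj, ⟨a + n + 1, g3⟩⟩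
    let fa : A₁ ⟶ K := ObjectProperty.homMk ((t.truncLTι (a + n + 1)).app K.obj)
    let fb : K ⟶ A₃ := ObjectProperty.homMk ((t.truncGEπ (a + n + 1)).app K.obj)
    have hA₁ : ∀ i, P (HR F A₁ i) := ih A₁ a g1 g2 (fun q => by
      by_cases hq : q < a + n + 1
      · have := Groth.Agent.Helper24.WayOut.isIso_homologyMap_truncLTι K.obj (a + n + 1) q hq
        exact PC.prop_of_iso (asIso ((DerivedCategory.homologyFunctor C q).map
          ((t.truncLTι (a + n + 1)).app K.obj))).symm (hK q)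
      · exact PC.prop_of_isZero
          (isZero_of_isLE ((t.truncLT (a + n + 1)).obj K.obj) (a + n) q (by omega)))
    have hA₃ : ∀ i, P (HR F A₃ i) := fun i =>
      prop_HR_of_single F P PC hbase A₃ (a + n + 1) g3 g4 (by
        have := Groth.Agent.Helper24.RlimTrunc.isIso_homologyMap_truncGEπ K.obj (a + n + 1)
          (a + n + 1) le_rfl
        exact PC.prop_of_iso (asIso ((DerivedCategory.homologyFunctor C (a + n + 1)).map
          ((t.truncGEπ (a + n + 1)).app K.obj))) (hK _)) i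
    obtain ⟨j, rfl⟩ : ∃ j, i = j + 1 := ⟨i - 1, by omega⟩
    exact prop_HR_obj₂ F P fa fb ((t.truncGEδLT (a + n + 1)).app K.obj) hT hA₁ j (hA₃ j)
      (hA₃ (j + 1))

include hbase in
/-- the way-out lemma for `RF⁺` -/
theorem prop_HR (K : DerivedCategory.Plus C)
    (hK : ∀ q, PC ((DerivedCategory.homologyFunctor C q).obj K.obj)) (i : ℤ) : P (HR F K i) := by
  obtain ⟨n₀, hn₀⟩ := K.property
  haveI : K.obj.IsGE n₀ := hn₀
  obtain ⟨j, rfl⟩ : ∃ j, i = j + 1 := ⟨i - 1, by omega⟩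
  obtain ⟨k, hk⟩ : ∃ k : ℕ, j + 3 ≤ n₀ + k + 1 := ⟨(j + 3 - n₀).toNat, by omega⟩
  have hT := t.triangleLTGE_distinguished (n₀ + k + 1) K.obj
  have g1 : ((t.truncLT (n₀ + k + 1)).obj K.obj).IsGE n₀ := inferInstance
  have g2 : ((t.truncLT (n₀ + k + 1)).obj K.obj).IsLE (n₀ + k) :=
    t.isLE_truncLT_obj K.obj _ _ (by omega)
  have g3 : ((t.truncGE (n₀ + k + 1)).obj K.obj).IsGE (n₀ + k + 1) := inferInstance
  let A₁ : DerivedCategory.Plus C := ⟨(t.truncLT (n₀ + k + 1)).obj K.obj, ⟨n₀, g1⟩⟩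
  let A₃ : DerivedCategory.Plus C := ⟨(t.truncGE (n₀ + k + 1)).obj K.obj, ⟨n₀ + k + 1, g3⟩⟩
  let fa : A₁ ⟶ K := ObjectProperty.homMk ((t.truncLTι (n₀ + k + 1)).app K.obj)
  let fb : K ⟶ A₃ := ObjectProperty.homMk ((t.truncGEπ (n₀ + k + 1)).app K.obj)
  have hA₁ : ∀ i, P (HR F A₁ i) := prop_HR_of_bounded F P PC hbase k A₁ n₀ g1 g2 (fun q => by
    by_cases hq : q < n₀ + k + 1
    · have := Groth.Agent.Helper24.WayOut.isIso_homologyMap_truncLTι K.obj (n₀ + k + 1) q hq
      exact PC.prop_of_iso (asIso ((DerivedCategory.homologyFunctor C q).map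
        ((t.truncLTι (n₀ + k + 1)).app K.obj))).symm (hK q)
    · exact PC.prop_of_isZero
        (isZero_of_isLE ((t.truncLT (n₀ + k + 1)).obj K.obj) (n₀ + k) q (by omega)))
  haveI : A₃.IsGE (n₀ + k + 1) := (DerivedCategory.Plus.isGE_ι_obj_iff A₃ _).1 g3
  haveI : (F.rightDerivedFunctorPlus.obj A₃).IsGE (n₀ + k + 1) := Groth.Agent.S6620.result F A₃ _
  have z : ∀ i, i < n₀ + k + 1 → IsZero (HR F A₃ i) := fun i hi =>
    (DerivedCategory.Plus.ι.obj (F.rightDerivedFunctorPlus.obj A₃)).isZero_of_isGE (n₀ + k + 1) i hi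
  exact prop_HR_obj₂ F P fa fb ((t.truncGEδLT (n₀ + k + 1)).app K.obj) hT hA₁ j
    (P.prop_of_isZero (z j (by omega))) (P.prop_of_isZero (z (j + 1) (by omega)))

end Groth.Agent.Helper9.WayOutPlus
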