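import Mathlib
import Groth.Prelude.Def_DCoh2
import Groth.Prelude.Def_CxOX
import Groth.Prelude.Def_WeakSerre
import Groth.Agent.Lib.Helper9.WayOutPlus
import Groth.Agent.Lib.Helper9.LocCohQC
import Groth.Agent.Lib.Helper13.QCohExt
import Groth.Agent.Lib.Helper13.QCohFin

/-!
# `RΓ_Z` preserves `D⁺_qc` and lands in complexes supported on `Z` (helper9)
-/

set_option autoImplicit false
universe u
open CategoryTheory CategoryTheory.Limits AlgebraicGeometry ZeroObject
attribute [local instance] HasDerivedCategory.standard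

namespace Groth.Agent.Helper9.RGammaQC

open Groth.Agent.Helper9.LocCohQC Groth.Agent.Helper13.QCohLocal

variable {U Y : Scheme.{u}} (j : U ⟶ Y) [IsOpenImmersion j]

/-- `(Γ_Z F)|_U = 0`. -/
lemma isZero_restrict_G (F : Y.Modules) :
    IsZero ((Scheme.Modules.restrictFunctor j).obj ((G j).obj F)) := by
  have h1 : (Scheme.Modules.restrictFunctor j).map ((η j).app F) ≫
      (Scheme.Modules.restrictAdjunction j).counit.app ((Scheme.Modules.restrictFunctor j).obj F) =
        𝟙 _ := (Scheme.Modules.restrictAdjunction j).left_triangle_components F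
  have h2 : (Scheme.Modules.restrictFunctor j).map ((ι j).app F) ≫
      (Scheme.Modules.restrictFunctor j).map ((η j).app F) = 0 := by
    rw [← Functor.map_comp, ι_η, Functor.map_zero]
  have h3 : (Scheme.Modules.restrictFunctor j).map ((ι j).app F) = 0 := by
    have := congrArg (· ≫ (Scheme.Modules.restrictAdjunction j).counit.app
      ((Scheme.Modules.restrictFunctor j).obj F)) h2
    simpa only [Category.assoc, h1, zero_comp, Category.comp_id] using this
  haveI : Mono ((Scheme.Modules.restrictFunctor j).map ((ι j).app F)) := inferInstance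
  exact IsZero.of_mono_eq_zero _ h3

/-- `ℋ^p_Z(M)|_U = 0`. -/
lemma isZero_restrict_rightDerived [HasInjectiveResolutions Y.Modules] (M : Y.Modules) (p : ℕ) :
    IsZero ((Scheme.Modules.restrictFunctor j).obj (((G j).rightDerived p).obj M)) := by
  let I := injectiveResolution M
  let K' := ((G j).mapHomologicalComplex (ComplexShape.up ℕ)).obj I.cocomplex
  let e : ((G j).rightDerived p).obj M ≅ K'.homology p := I.isoRightDerivedObj (G j) p
  have hX : IsZero ((Scheme.Modules.restrictFunctor j).obj (K'.X p)) :=
    isZero_restrict_G j (I.cocomplex.X p)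
  haveI : Mono ((Scheme.Modules.restrictFunctor j).map (K'.iCycles p)) := inferInstance
  have hz : IsZero ((Scheme.Modules.restrictFunctor j).obj (K'.cycles p)) :=
    IsZero.of_mono ((Scheme.Modules.restrictFunctor j).map (K'.iCycles p)) hX
  haveI : Epi ((Scheme.Modules.restrictFunctor j).map (K'.homologyπ p)) := inferInstance
  have hh : IsZero ((Scheme.Modules.restrictFunctor j).obj (K'.homology p)) :=
    IsZero.of_epi ((Scheme.Modules.restrictFunctor j).map (K'.homologyπ p)) hz
  exact IsZero.of_iso hh ((Scheme.Modules.restrictFunctor j).mapIso e)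

/-- quasi-coherent modules -/
def PC (Y : Scheme.{u}) : ObjectProperty Y.Modules := fun M => M.IsQuasicoherent

instance : (PC Y).IsClosedUnderIsomorphisms where
  of_iso {M N} e h := by
    haveI : M.IsQuasicoherent := h
    show N.IsQuasicoherent
    exact isQuasicoherent_of_iso e

instance : (PC Y).ContainsZero where
  exists_zero := ⟨0, isZero_zero _,
    Groth.Agent.Helper13.QCohFin.isQuasicoherent_of_isZero (isZero_zero _)⟩

/-- quasi-coherent modules vanishing on `U` -/
def PQ : ObjectProperty Y.Modules := fun M =>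
  M.IsQuasicoherent ∧ IsZero ((Scheme.Modules.restrictFunctor j).obj M)

instance isWeakSerre_PQ : WSerre.IsWeakSerre (PQ j) where
  exists_zero := ⟨0, isZero_zero _,
    Groth.Agent.Helper13.QCohFin.isQuasicoherent_of_isZero (isZero_zero _),
    (Scheme.Modules.restrictFunctor j).map_isZero (isZero_zero _)⟩
  kernels_le := by
    rintro _ ⟨f, k, hk, ⟨hX, hY⟩⟩
    refine ⟨?_, ?_⟩
    · let e : k.pt ≅ kernel f :=
        IsLimit.conePointUniqueUpToIso hk (limit.isLimit (parallelPair f 0))
      haveI hX1 := hX.1
      haveI hY1 := hY.1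
      haveI : (kernel f).IsQuasicoherent := isQuasicoherent_kernel f
      exact isQuasicoherent_of_iso e.symm
    · haveI : Mono (Fork.ι k) := mono_of_isLimit_fork hk
      haveI : Mono ((Scheme.Modules.restrictFunctor j).map (Fork.ι k)) := inferInstance
      exact IsZero.of_mono ((Scheme.Modules.restrictFunctor j).map (Fork.ι k)) hX.2
  cokernels_le := by
    rintro _ ⟨f, k, hk, ⟨hX, hY⟩⟩
    refine ⟨?_, ?_⟩
    · let e : k.pt ≅ cokernel f :=
        IsColimit.coconePointUniqueUpToIso hk (colimit.isColimit (parallelPair f 0))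
      haveI hX1 := hX.1
      haveI hY1 := hY.1
      haveI : (cokernel f).IsQuasicoherent := isQuasicoherent_cokernel f
      exact isQuasicoherent_of_iso e.symm
    · haveI : Epi (Cofork.π k) := epi_of_isColimit_cofork hk
      haveI : Epi ((Scheme.Modules.restrictFunctor j).map (Cofork.π k)) := inferInstance
      exact IsZero.of_epi ((Scheme.Modules.restrictFunctor j).map (Cofork.π k)) hY.2
  prop_X₂_of_shortExact := by
    intro S hS h₁ h₃
    refine ⟨Groth.Agent.Helper13.QCohExt.main S hS h₁.1 h₃.1, ?_⟩
    have hS' := hS.map_of_exact (Scheme.Modules.restrictFunctor j)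
    exact hS'.exact.isZero_of_both_zeros (h₁.2.eq_of_src _ _) (h₃.2.eq_of_tgt _ _)

/-- `RΓ_Z` sends `D⁺_qc` to complexes with quasi-coherent cohomology vanishing on `U`. -/
theorem main [EnoughInjectives Y.Modules]
    (hqc : ∀ M : Y.Modules, M.IsQuasicoherent → ∀ p : ℕ,
      (((DCoh.gammaZ j).rightDerived p).obj M).IsQuasicoherent)
    (E : DerivedCategory.Plus Y.Modules) (hE : DCoh.IsQCohD E.obj) (i : ℤ) :
    PQ j (DCoh.HD ((DCoh.RgammaZPlus j).obj E).obj i) :=
  Groth.Agent.Helper9.WayOutPlus.prop_HR (DCoh.gammaZ j) (PQ j) (PC Y)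
    (fun M hM p => ⟨hqc M hM p, isZero_restrict_rightDerived j M p⟩) E hE i

end Groth.Agent.Helper9.RGammaQC
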