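import Mathlib
import Groth.Prelude.Def_DCoh3
import Groth.Prelude.Def_CxOX
import Groth.Prelude.Def_CohB1
import Groth.Agent.Lib.Helper9.SuppD
import Groth.Agent.Lib.Helper9.SuppD2
import Groth.Agent.Lib.Helper9.DerAdj
import Groth.Agent.Lib.Helper9.RGammaQC

/-!
# The adjunction `j^* ⊣ Rj_*` for an open immersion on `D(O_X)` (helper9)

* `RpushRestrictIso j : Rj_* ⋙ j^* ≅ 𝟭`, hence `isIso_counit` for ANY adjunction `restrictD j ⊣ Rpush j`;
* `isIso_unit_app_of_isZero_restrictD`: the unit `K ⟶ Rj_* j^* K` is an isomorphism when `K|_W = 0` for an open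
  `W` with `X ∖ W ⊆ j(U)`;
* `isZero_restrictD_RgammaZ`: `(RΓ_Z G)|_U = 0` for the unbounded `RΓ_Z`;
* stalk lemmas for restriction along a general open immersion.
-/

set_option autoImplicit false
universe u
open CategoryTheory CategoryTheory.Limits TopologicalSpace AlgebraicGeometry Opposite Pretriangulated

attribute [local instance] HasDerivedCategory.standard

namespace Groth.Agent.Helper9.OpenAdj

open Groth.Agent.Helper29.OpenMVC Groth.Agent.Helper11.KI Groth.Agent.Helper9.SuppD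

variable {U X : Scheme.{u}} (j : U ⟶ X) [IsOpenImmersion j]

/-- the adjunction `j^* ⊣ j_*` on homotopy categories -/
noncomputable abbrev adjK :
    (Scheme.Modules.restrictFunctor j).mapHomotopyCategory (ComplexShape.up ℤ) ⊣
      (Scheme.Modules.pushforward j).mapHomotopyCategory (ComplexShape.up ℤ) :=
  Groth.Agent.Helper9.DerAdj.homotopyAdj (Scheme.Modules.restrictAdjunction j) (ComplexShape.up ℤ)

instance isIso_adjK_counit : IsIso (adjK j).counit := by
  haveI : ∀ Y, IsIso ((adjK j).counit.app Y) := by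
    rintro ⟨M⟩
    haveI : ∀ i, IsIso ((Groth.Agent.Helper9.DerAdj.counitCx (Scheme.Modules.restrictAdjunction j)
        (ComplexShape.up ℤ) M).f i) :=
      fun i => inferInstanceAs (IsIso ((Scheme.Modules.restrictAdjunction j).counit.app (M.X i)))
    haveI : IsIso (Groth.Agent.Helper9.DerAdj.counitCx (Scheme.Modules.restrictAdjunction j)
        (ComplexShape.up ℤ) M) := HomologicalComplex.Hom.isIso_of_components _
    exact inferInstanceAs (IsIso ((HomotopyCategory.quotient _ _).map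
      (Groth.Agent.Helper9.DerAdj.counitCx (Scheme.Modules.restrictAdjunction j)
        (ComplexShape.up ℤ) M)))
  exact NatIso.isIso_of_isIso_app _

/-- `K(j_*) ⋙ Q ⋙ j^* ≅ Q` -/
noncomputable def θ : DCoh.pushKh j ⋙ DCoh.restrictD j ≅ DerivedCategory.Qh :=
  Functor.associator _ _ _ ≪≫
    Functor.isoWhiskerLeft _ (Scheme.Modules.restrictFunctor j).mapDerivedCategoryFactorsh ≪≫
    (Functor.associator _ _ _).symm ≪≫
    Functor.isoWhiskerRight (asIso (adjK j).counit) DerivedCategory.Qh ≪≫ Functor.leftUnitor _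

/-- `Rj_* ⋙ j^* ≅ 𝟭` -/
noncomputable def RpushRestrictIso [DCoh.HasRpush j] :
    DCoh.Rpush j ⋙ DCoh.restrictD j ≅ 𝟭 (DCoh.D U) := by
  haveI h1 : (DCoh.Rpush j ⋙ DCoh.restrictD j).IsRightDerivedFunctor
      (Functor.whiskerRight (βp j) (DCoh.restrictD j) ≫ (Functor.associator _ _ _).hom)
      (WK U.Modules) :=
    isRightDerivedFunctor_comp (DCoh.pushKh j) (DCoh.Rpush j) (βp j) (DCoh.restrictD j)
  haveI h2 : (𝟭 (DCoh.D U)).IsRightDerivedFunctor ((θ j).hom ≫ (Functor.rightUnitor _).inv)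
      (WK U.Modules) :=
    isRightDerivedFunctor_of_isIso (DCoh.pushKh j ⋙ DCoh.restrictD j) (𝟭 _) _
      (fun I _ => by rw [NatTrans.comp_app]; infer_instance)
  exact Functor.rightDerivedUnique _ _
    (Functor.whiskerRight (βp j) (DCoh.restrictD j) ≫ (Functor.associator _ _ _).hom)
    ((θ j).hom ≫ (Functor.rightUnitor _).inv) (WK U.Modules)

/-- the counit of any adjunction `j^* ⊣ Rj_*` is an isomorphism -/
theorem isIso_counit [DCoh.HasRpush j] (adj : DCoh.restrictD j ⊣ DCoh.Rpush j) : IsIso adj.counit :=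
  adj.isIso_counit_of_iso (RpushRestrictIso j)

/-- `(RΓ_Z G)|_U = 0` -/
theorem isZero_restrictD_RgammaZ [CxOX.HasRgammaZ j] (G : DCoh.D X) :
    IsZero ((DCoh.restrictD j).obj ((CxOX.RgammaZ j).obj G)) := by
  obtain ⟨I, hI, -, ⟨e⟩⟩ := exists_res G
  haveI := hI
  let βZ := (CxOX.gammaZKh j).totalRightDerivedUnit DerivedCategory.Qh (WK X.Modules)
  haveI : (CxOX.RgammaZ j).IsRightDerivedFunctor βZ (WK X.Modules) := inferInstance
  haveI h1 : IsIso (βZ.app ((quo _).obj I)) := isIso_unit.{u+1} _ (CxOX.RgammaZ j) βZ I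
  let L : CochainComplex X.Modules ℤ :=
    ((DCoh.gammaZ j).mapHomologicalComplex (ComplexShape.up ℤ)).obj I
  let e1 : (CxOX.RgammaZ j).obj G ≅ DerivedCategory.Q.obj L :=
    (CxOX.RgammaZ j).mapIso e ≪≫ (@asIso _ _ _ _ (βZ.app ((quo _).obj I)) h1).symm
  let e2 : (DCoh.restrictD j).obj (DerivedCategory.Q.obj L) ≅ DerivedCategory.Q.obj
      (((Scheme.Modules.restrictFunctor j).mapHomologicalComplex (ComplexShape.up ℤ)).obj L) :=
    (Scheme.Modules.restrictFunctor j).mapDerivedCategoryFactors.app L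
  have hz : IsZero (((Scheme.Modules.restrictFunctor j).mapHomologicalComplex
      (ComplexShape.up ℤ)).obj L) := by
    rw [IsZero.iff_id_eq_zero]
    refine HomologicalComplex.hom_ext _ _ (fun n => ?_)
    exact (Groth.Agent.Helper9.RGammaQC.isZero_restrict_G j (I.X n)).eq_of_src _ _
  exact IsZero.of_iso (DerivedCategory.Q.map_isZero hz) ((DCoh.restrictD j).mapIso e1 ≪≫ e2)

variable {j} in
theorem subsingleton_stalk_of_isZero_restrict' (M : X.Modules)
    (hz : IsZero ((Scheme.Modules.restrictFunctor j).obj M)) (y : U) :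
    Subsingleton (M.presheaf.stalk (j.base y)) := by
  have h0 : ∀ a : M.presheaf.stalk (j.base y), a = 0 := by
    intro a
    obtain ⟨O, hxO, s, rfl⟩ := TopCat.Presheaf.exists_germ_eq M.presheaf (x := j.base y) a
    have hxO' : j.base y ∈ j ''ᵁ (j ⁻¹ᵁ O) := ⟨y, hxO, rfl⟩
    have hle : j ''ᵁ (j ⁻¹ᵁ O) ≤ O := j.image_preimage_le O
    have h1 := TopCat.Presheaf.germ_res_apply M.presheaf (homOfLE hle) (j.base y) hxO' s
    rw [← h1]
    haveI : Subsingleton Γ(M, j ''ᵁ (j ⁻¹ᵁ O)) :=
      subsingleton_sections_of_isZero _ hz (j ⁻¹ᵁ O)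
    rw [Subsingleton.elim (M.presheaf.map (homOfLE hle).op s) 0, map_zero]
  exact ⟨fun a b => by rw [h0 a, h0 b]⟩

variable {j} in
theorem subsingleton_stalk_HD_of_isZero_restrictD' (E : DCoh.D X)
    (hz : IsZero ((DCoh.restrictD j).obj E)) (i : ℤ) (y : U) :
    Subsingleton ((DCoh.HD E i).presheaf.stalk (j.base y)) := by
  apply subsingleton_stalk_of_isZero_restrict' (j := j)
  exact IsZero.of_iso ((DerivedCategory.homologyFunctor _ i).map_isZero hz)
    (HDMapIso (Scheme.Modules.restrictFunctor j) E i).symm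

theorem isZero_of_stalks (E : DCoh.D X)
    (h : ∀ (i : ℤ) (x : X), Subsingleton ((DCoh.HD E i).presheaf.stalk x)) : IsZero E :=
  isZero_of_homology E (fun i => isZero_of_subsingleton_sections _
    (fun V => subsingleton_sections_of_stalks _ V (fun x _ => h i x)))

/-- `K|_W = 0 ⟹ (j^*K)|_{j⁻¹W} = 0` -/
theorem isZero_restrictD_restrictD (K : DCoh.D X) (W : X.Opens)
    (hK : IsZero ((DCoh.restrictD W.ι).obj K)) :
    IsZero ((DCoh.restrictD (j ⁻¹ᵁ W).ι).obj ((DCoh.restrictD j).obj K)) := by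
  apply isZero_of_homology
  intro i
  have e : DCoh.HD ((DCoh.restrictD (j ⁻¹ᵁ W).ι).obj ((DCoh.restrictD j).obj K)) i ≅
      (Scheme.Modules.restrictFunctor ((j ⁻¹ᵁ W).ι ≫ j)).obj (DCoh.HD K i) :=
    HDMapIso (Scheme.Modules.restrictFunctor (j ⁻¹ᵁ W).ι) _ i ≪≫
      (Scheme.Modules.restrictFunctor (j ⁻¹ᵁ W).ι).mapIso
        (HDMapIso (Scheme.Modules.restrictFunctor j) K i) ≪≫
      ((Scheme.Modules.restrictFunctorComp (j ⁻¹ᵁ W).ι j).app (DCoh.HD K i)).symm
  refine IsZero.of_iso ?_ e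
  apply isZero_restrict_of_stalks'
  intro y
  have hy : ((j ⁻¹ᵁ W).ι ≫ j).base y ∈ W := by
    rw [Scheme.Hom.comp_apply]
    exact y.2
  exact subsingleton_stalk_HD_of_isZero_restrictD K W hK i _ hy

/-- the unit `K ⟶ Rj_* j^* K` is an isomorphism when `K` vanishes on an open `W` whose complement lies
in the image of `j` -/
theorem isIso_unit_app_of_isZero_restrictD [DCoh.HasRpush j]
    (adj : DCoh.restrictD j ⊣ DCoh.Rpush j) (K : DCoh.D X) (W : X.Opens)
    (hW : (W : Set X)ᶜ ⊆ Set.range j.base)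
    (hK : IsZero ((DCoh.restrictD W.ι).obj K)) : IsIso (adj.unit.app K) := by
  haveI := isIso_counit j adj
  have h1 : IsIso ((DCoh.restrictD j).map (adj.unit.app K)) := by
    have ht := adj.left_triangle_components K
    have h2 : (DCoh.restrictD j).map (adj.unit.app K) =
        inv (adj.counit.app ((DCoh.restrictD j).obj K)) := by
      rw [← cancel_mono (adj.counit.app ((DCoh.restrictD j).obj K)), ht, IsIso.inv_hom_id]
      rfl
    rw [h2]; infer_instance
  obtain ⟨C, g, h, hT⟩ := distinguished_cocone_triangle (adj.unit.app K)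
  have hT1 := (DCoh.restrictD j).map_distinguished _ hT
  have hT2 := (DCoh.restrictD W.ι).map_distinguished _ hT
  have hCj : IsZero ((DCoh.restrictD j).obj C) := (Triangle.isZero₃_iff_isIso₁ _ hT1).2 h1
  have hK' : IsZero ((DCoh.restrictD W.ι).obj
      ((DCoh.Rpush j).obj ((DCoh.restrictD j).obj K))) :=
    isZero_restrictD_Rpush j W _ (isZero_restrictD_restrictD j K W hK)
  have hCW : IsZero ((DCoh.restrictD W.ι).obj C) := by
    refine (Triangle.isZero₃_iff_isIso₁ _ hT2).2 ?_
    exact ⟨⟨0, hK.eq_of_src _ _, hK'.eq_of_src _ _⟩⟩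
  have hC : IsZero C := by
    apply isZero_of_stalks
    intro i x
    by_cases hx : x ∈ W
    · exact subsingleton_stalk_HD_of_isZero_restrictD C W hCW i x hx
    · obtain ⟨y, rfl⟩ := hW hx
      exact subsingleton_stalk_HD_of_isZero_restrictD' C hCj i y
  exact (Triangle.isZero₃_iff_isIso₁ _ hT).1 hC

end Groth.Agent.Helper9.OpenAdj
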