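import Mathlib
import Groth.Prelude.Def_DCoh3
import Groth.Prelude.Def_CxOX
import Groth.Prelude.Def_CohB1
import Groth.Agent.Lib.Helper9.OpenAdj
import Groth.Agent.Lib.Helper9.LocCohQC
import Groth.Agent.Lib.Helper29.TriR
import Groth.Agent.Lib.Helper29.DAdjA
import Groth.Agent.Lib.Helper17.IR1
import Groth.Agent.Lib.Helper13.QCohKer

/-!
# `Rj_*` and `RΓ_Z` for an open immersion, continued (helper9)

* `isZero_gammaZ_pushforward`: `Γ_Z (j_* N) = 0` when `j(U)` misses `Z`;
* `isZero_RgammaZ_Rpush`: `RΓ_Z (Rj_* F) = 0` when `j(U)` misses `Z`;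
* `nonempty_RgammaZ_iso_of_isZero_restrictD`: `RΓ_Z C ≅ C` when `C` vanishes off `Z`;
* `isZero_RgammaZ_obj₃`: two-out-of-three for vanishing of `RΓ_Z` in a distinguished triangle;
* `isIso_unit_app_of_isZero_RgammaZ`: the unit `G ⟶ Rj_* j^* G` is an isomorphism when `G|_{U'} = 0` and
  `RΓ_{X ∖ (U' ∪ j(U))} G = 0`;
* support / quasi-coherence bookkeeping.
-/

set_option autoImplicit false
universe u
open CategoryTheory CategoryTheory.Limits TopologicalSpace AlgebraicGeometry Opposite Pretriangulated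

attribute [local instance] HasDerivedCategory.standard

namespace Groth.Agent.Helper9.OpenAdj2

open Groth.Agent.Helper29.OpenMVC Groth.Agent.Helper11.KI Groth.Agent.Helper9.SuppD
open Groth.Agent.Helper9.OpenAdj

section Mod

variable {U T X : Scheme.{u}} (j : U ⟶ X) (t : T ⟶ X) [IsOpenImmersion j] [IsOpenImmersion t]

theorem mono_unit_pushforward (N : T.Modules) :
    Mono ((Scheme.Modules.restrictAdjunction t).unit.app ((Scheme.Modules.pushforward t).obj N)) := by
  have h := (Scheme.Modules.restrictAdjunction t).right_triangle_components N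
  exact mono_of_mono_fac h

theorem isZero_gammaZ_of_iso_pushforward (M : X.Modules) (N : T.Modules)
    (φ : M ≅ (Scheme.Modules.pushforward t).obj N) : IsZero ((DCoh.gammaZ t).obj M) := by
  haveI := mono_unit_pushforward t N
  have hn := (Scheme.Modules.restrictAdjunction t).unit.naturality φ.hom
  haveI hm : Mono ((Scheme.Modules.restrictAdjunction t).unit.app M ≫
      (Scheme.Modules.restrictFunctor t ⋙ Scheme.Modules.pushforward t).map φ.hom) := by
    rw [← hn]
    exact (inferInstance : Mono (φ.hom ≫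
      (Scheme.Modules.restrictAdjunction t).unit.app ((Scheme.Modules.pushforward t).obj N)))
  haveI : Mono ((Scheme.Modules.restrictAdjunction t).unit.app M) :=
    mono_of_mono _ ((Scheme.Modules.restrictFunctor t ⋙ Scheme.Modules.pushforward t).map φ.hom)
  have h0 : (Groth.Agent.Helper9.LocCohQC.ι t).app M = 0 := by
    rw [← cancel_mono ((Scheme.Modules.restrictAdjunction t).unit.app M), zero_comp]
    exact Groth.Agent.Helper9.LocCohQC.ι_η t M
  exact IsZero.of_mono_eq_zero _ h0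

theorem isZero_gammaZ_pushforward (H : Set.range j.base ⊆ Set.range t.base) (N : U.Modules) :
    IsZero ((DCoh.gammaZ t).obj ((Scheme.Modules.pushforward j).obj N)) := by
  have hfac : IsOpenImmersion.lift t j H ≫ t = j := IsOpenImmersion.lift_fac t j H
  exact isZero_gammaZ_of_iso_pushforward t _
    ((Scheme.Modules.pushforward (IsOpenImmersion.lift t j H)).obj N)
    ((Scheme.Modules.pushforwardCongr hfac.symm).app N ≪≫
      ((Scheme.Modules.pushforwardComp (IsOpenImmersion.lift t j H) t).app N).symm)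

theorem mem_range_ι_iff (W : X.Opens) (x : X) : x ∈ Set.range W.ι.base ↔ x ∈ W := by
  constructor
  · rintro ⟨y, rfl⟩
    exact y.2
  · intro hx
    exact ⟨⟨x, hx⟩, rfl⟩

end Mod

section Der

variable {U X : Scheme.{u}} (j : U ⟶ X) [IsOpenImmersion j]

/-- `RΓ_Z (Rj_* F) = 0` when `j(U) ∩ Z = ∅` -/
theorem isZero_RgammaZ_Rpush {T : Scheme.{u}} (t : T ⟶ X) [IsOpenImmersion t] [DCoh.HasRpush j]
    [CxOX.HasRgammaZ t] (H : Set.range j.base ⊆ Set.range t.base) (F : DCoh.D U) :
    IsZero ((CxOX.RgammaZ t).obj ((DCoh.Rpush j).obj F)) := by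
  obtain ⟨I, hI, -, ⟨e⟩⟩ := exists_res F
  haveI := hI
  let J : CochainComplex X.Modules ℤ :=
    ((Scheme.Modules.pushforward j).mapHomologicalComplex (ComplexShape.up ℤ)).obj I
  haveI hJ : J.IsKInjective :=
    Groth.Agent.Helper29.DAdjA.isKInjective_map (Scheme.Modules.restrictAdjunction j) I
  have eR : DerivedCategory.Q.obj J ≅ (DCoh.Rpush j).obj F := RpushIso j F I e
  let βZ := (CxOX.gammaZKh t).totalRightDerivedUnit DerivedCategory.Qh (WK X.Modules)
  haveI : (CxOX.RgammaZ t).IsRightDerivedFunctor βZ (WK X.Modules) := inferInstance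
  haveI h1 : IsIso (βZ.app ((quo _).obj J)) := isIso_unit.{u+1} _ (CxOX.RgammaZ t) βZ J
  let L : CochainComplex X.Modules ℤ :=
    ((DCoh.gammaZ t).mapHomologicalComplex (ComplexShape.up ℤ)).obj J
  let e1 : (CxOX.RgammaZ t).obj ((DCoh.Rpush j).obj F) ≅ DerivedCategory.Q.obj L :=
    (CxOX.RgammaZ t).mapIso eR.symm ≪≫ (@asIso _ _ _ _ (βZ.app ((quo _).obj J)) h1).symm
  have hz : IsZero L := by
    rw [IsZero.iff_id_eq_zero]
    refine HomologicalComplex.hom_ext _ _ (fun n => ?_)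
    exact (isZero_gammaZ_pushforward j t H (I.X n)).eq_of_src _ _
  exact IsZero.of_iso (DerivedCategory.Q.map_isZero hz) e1

/-- `RΓ_Z C ≅ C` when `C|_T = 0`, `Z = X ∖ T` -/
theorem nonempty_RgammaZ_iso_of_isZero_restrictD (T : X.Opens) [CxOX.HasRgammaZ T.ι] (C : DCoh.D X)
    (hC : IsZero ((DCoh.restrictD T.ι).obj C)) : Nonempty ((CxOX.RgammaZ T.ι).obj C ≅ C) := by
  obtain ⟨I, hI, hinj, ⟨e⟩⟩ := exists_res C
  haveI := hI
  haveI := hinj
  let βZ := (CxOX.gammaZKh T.ι).totalRightDerivedUnit DerivedCategory.Qh (WK X.Modules)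
  haveI : (CxOX.RgammaZ T.ι).IsRightDerivedFunctor βZ (WK X.Modules) := inferInstance
  haveI h1 : IsIso (βZ.app ((quo _).obj I)) := isIso_unit.{u+1} _ (CxOX.RgammaZ T.ι) βZ I
  let L : CochainComplex X.Modules ℤ :=
    ((DCoh.gammaZ T.ι).mapHomologicalComplex (ComplexShape.up ℤ)).obj I
  let e1 : (CxOX.RgammaZ T.ι).obj C ≅ DerivedCategory.Q.obj L :=
    (CxOX.RgammaZ T.ι).mapIso e ≪≫ (@asIso _ _ _ _ (βZ.app ((quo _).obj I)) h1).symm
  let I' : CochainComplex (T : Scheme.{u}).Modules ℤ :=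
    ((Scheme.Modules.restrictFunctor T.ι).mapHomologicalComplex (ComplexShape.up ℤ)).obj I
  let Pc : CochainComplex X.Modules ℤ :=
    ((Scheme.Modules.pushforward T.ι).mapHomologicalComplex (ComplexShape.up ℤ)).obj I'
  let f : L ⟶ I :=
    { f := fun n => (Groth.Agent.Helper9.LocCohQC.ι T.ι).app (I.X n)
      comm' := fun i k _ => (Groth.Agent.Helper9.LocCohQC.ι_nat T.ι (I.d i k)).symm }
  let g : I ⟶ Pc :=
    { f := fun n => (Groth.Agent.Helper9.LocCohQC.η T.ι).app (I.X n)
      comm' := fun i k _ => (Groth.Agent.Helper9.LocCohQC.η_nat T.ι (I.d i k)).symm }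
  have hfg : f ≫ g = 0 :=
    HomologicalComplex.hom_ext _ _ (fun n => Groth.Agent.Helper9.LocCohQC.ι_η T.ι (I.X n))
  let S : ShortComplex (CochainComplex X.Modules ℤ) := ShortComplex.mk f g hfg
  have hS : S.ShortExact := HomologicalComplex.shortExact_of_degreewise_shortExact S
    (fun n => Groth.Agent.Helper9.LocCohQC.shortExact_of_injective T.ι (I.X n))
  haveI : PreservesFiniteLimits (CxOX.extZero T.ι) :=
    Groth.Agent.Helper17.IR.preservesFiniteLimits_extZero X T
  haveI hI' : I'.IsKInjective :=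
    Groth.Agent.Helper29.DAdjA.isKInjective_map (CxOX.extZeroAdj T.ι) I
  have hzI' : IsZero (DerivedCategory.Q.obj I') :=
    IsZero.of_iso hC (((Scheme.Modules.restrictFunctor T.ι).mapDerivedCategoryFactors.app I).symm ≪≫
      (DCoh.restrictD T.ι).mapIso e.symm)
  haveI : DCoh.HasRpush T.ι := Groth.Agent.Helper11.KI.hasRightDerivedFunctor (DCoh.pushKh T.ι)
  have hzP : IsZero (DerivedCategory.Q.obj Pc) :=
    IsZero.of_iso (isZero_Rpush_obj T.ι _ hzI')
      (RpushIso T.ι (DerivedCategory.Q.obj I') I' (Iso.refl _))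
  have hd := DerivedCategory.triangleOfSES_distinguished hS
  haveI hiso : IsIso (DerivedCategory.Q.map f) := (Triangle.isZero₃_iff_isIso₁ _ hd).1 hzP
  exact ⟨e1 ≪≫ asIso (DerivedCategory.Q.map f) ≪≫ e.symm⟩

/-- two-out-of-three for the vanishing of `RΓ_Z` on a distinguished triangle -/
theorem isZero_RgammaZ_obj₃ {T : Scheme.{u}} (t : T ⟶ X) [IsOpenImmersion t] [CxOX.HasRgammaZ t]
    (Tr : Triangle (DCoh.D X)) (hTr : Tr ∈ distTriang _)
    (h1 : IsZero ((CxOX.RgammaZ t).obj Tr.obj₁)) (h2 : IsZero ((CxOX.RgammaZ t).obj Tr.obj₂)) :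
    IsZero ((CxOX.RgammaZ t).obj Tr.obj₃) := by
  let βZ := (CxOX.gammaZKh t).totalRightDerivedUnit DerivedCategory.Qh (WK X.Modules)
  haveI : (CxOX.RgammaZ t).IsRightDerivedFunctor βZ (WK X.Modules) := inferInstance
  obtain ⟨c', hc'⟩ := Groth.Agent.Helper29.TriR.exists_distinguished (CxOX.gammaZKh t)
    (CxOX.RgammaZ t) βZ Tr hTr
  refine (Triangle.isZero₃_iff_isIso₁ _ hc').2 ?_
  exact ⟨⟨0, h1.eq_of_src _ _, h2.eq_of_src _ _⟩⟩

end Der

section Main

variable {X Xbar : Scheme.{u}} (j : X ⟶ Xbar) [IsOpenImmersion j]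

/-- the unit `G ⟶ Rj_* j^* G` is an isomorphism when `G|_{U'} = 0` and `RΓ_{Xbar ∖ T} G = 0`,
`T = U' ∪ j(X)` -/
theorem isIso_unit_app_of_isZero_RgammaZ (U' T : Xbar.Opens)
    (hT : (T : Set Xbar) = (U' : Set Xbar) ∪ Set.range j.base)
    [DCoh.HasRpush j] [CxOX.HasRgammaZ T.ι] (adj : DCoh.restrictD j ⊣ DCoh.Rpush j)
    (G : DCoh.D Xbar) (hG : IsZero ((DCoh.restrictD U'.ι).obj G))
    (hΓ : IsZero ((CxOX.RgammaZ T.ι).obj G)) : IsIso (adj.unit.app G) := by
  haveI := isIso_counit j adj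
  have h1 : IsIso ((DCoh.restrictD j).map (adj.unit.app G)) := by
    have ht := adj.left_triangle_components G
    have h2 : (DCoh.restrictD j).map (adj.unit.app G) =
        inv (adj.counit.app ((DCoh.restrictD j).obj G)) := by
      rw [← cancel_mono (adj.counit.app ((DCoh.restrictD j).obj G)), ht, IsIso.inv_hom_id]
      rfl
    rw [h2]; infer_instance
  obtain ⟨C, g, h, hTr⟩ := distinguished_cocone_triangle (adj.unit.app G)
  have hT1 := (DCoh.restrictD j).map_distinguished _ hTr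
  have hT2 := (DCoh.restrictD U'.ι).map_distinguished _ hTr
  have hCj : IsZero ((DCoh.restrictD j).obj C) := (Triangle.isZero₃_iff_isIso₁ _ hT1).2 h1
  have hK' : IsZero ((DCoh.restrictD U'.ι).obj
      ((DCoh.Rpush j).obj ((DCoh.restrictD j).obj G))) :=
    isZero_restrictD_Rpush j U' _ (isZero_restrictD_restrictD j G U' hG)
  have hCW : IsZero ((DCoh.restrictD U'.ι).obj C) := by
    refine (Triangle.isZero₃_iff_isIso₁ _ hT2).2 ?_
    exact ⟨⟨0, hG.eq_of_src _ _, hK'.eq_of_src _ _⟩⟩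
  have hCT : IsZero ((DCoh.restrictD T.ι).obj C) := by
    apply isZero_restrictD_of_stalks
    intro i x hx
    have hx' : x ∈ (U' : Set Xbar) ∪ Set.range j.base := by
      rw [← hT]; exact hx
    rcases hx' with hx' | ⟨y, rfl⟩
    · exact subsingleton_stalk_HD_of_isZero_restrictD C U' hCW i x hx'
    · exact subsingleton_stalk_HD_of_isZero_restrictD' C hCj i y
  obtain ⟨eC⟩ := nonempty_RgammaZ_iso_of_isZero_restrictD T C hCT
  have hH : Set.range j.base ⊆ Set.range T.ι.base := by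
    intro x hx
    have hxT : x ∈ (T : Set Xbar) := by
      rw [hT]; exact Or.inr hx
    exact (mem_range_ι_iff T x).2 hxT
  have hΓC : IsZero ((CxOX.RgammaZ T.ι).obj C) :=
    isZero_RgammaZ_obj₃ T.ι _ hTr hΓ (isZero_RgammaZ_Rpush j T.ι hH _)
  have hC : IsZero C := IsZero.of_iso hΓC eC.symm
  exact (Triangle.isZero₃_iff_isIso₁ _ hTr).1 hC

/-- `Rj_* F` has cohomology supported on the closure of `j(Z)` when `F` has cohomology supported on `Z` -/
theorem isSuppD_Rpush (U : X.Opens) (U' : Xbar.Opens)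
    (hU' : (U' : Set Xbar) = (closure (j.base '' ((U : Set X)ᶜ)))ᶜ) [DCoh.HasRpush j]
    (F : DCoh.D X) (hF : CxOX.IsSuppD U.ι F) : CxOX.IsSuppD U'.ι ((DCoh.Rpush j).obj F) := by
  have hE : IsZero ((DCoh.restrictD (j ⁻¹ᵁ U').ι).obj F) := by
    apply isZero_restrictD_of_stalks
    intro i y hy
    by_contra hns
    have h1 : y ∈ (Set.range U.ι.base)ᶜ := hF i hns
    apply h1
    have hyU : y ∈ U := by
      by_contra hyU
      have h2 : j.base y ∈ (U' : Set Xbar) := hy
      rw [hU'] at h2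
      exact h2 (subset_closure ⟨y, hyU, rfl⟩)
    exact (mem_range_ι_iff U y).2 hyU
  have hz := isZero_restrictD_Rpush j U' F hE
  intro i x hx hxr
  have hxU' : x ∈ U' := (mem_range_ι_iff U' x).1 hxr
  exact hx (subsingleton_stalk_HD_of_isZero_restrictD _ U' hz i x hxU')

/-- `j^* G` has cohomology supported on `Z` when `G|_{U'} = 0` -/
theorem isSuppD_restrictD (U : X.Opens) (U' : Xbar.Opens)
    (hU' : (U' : Set Xbar) = (closure (j.base '' ((U : Set X)ᶜ)))ᶜ)
    (G : DCoh.D Xbar) (hG : IsZero ((DCoh.restrictD U'.ι).obj G)) :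
    CxOX.IsSuppD U.ι ((DCoh.restrictD j).obj G) := by
  have hz := isZero_restrictD_restrictD j G U' hG
  intro i y hy hyr
  have hyU : y ∈ U := (mem_range_ι_iff U y).1 hyr
  apply hy
  apply subsingleton_stalk_HD_of_isZero_restrictD _ (j ⁻¹ᵁ U') hz i y
  show j.base y ∈ (U' : Set Xbar)
  rw [hU']
  intro hcl
  have h3 : y ∈ closure ((U : Set X)ᶜ) := by
    rw [j.isOpenEmbedding.isEmbedding.closure_eq_preimage_closure_image]
    exact hcl
  rw [IsClosed.closure_eq (U.isOpen.isClosed_compl)] at h3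
  exact h3 hyU

theorem isQCohD_restrictD (G : DCoh.D Xbar) (hG : DCoh.IsQCohD G) :
    DCoh.IsQCohD ((DCoh.restrictD j).obj G) := by
  intro i
  haveI h1 := hG i
  haveI h2 : ((Scheme.Modules.restrictFunctor j).obj (DCoh.HD G i)).IsQuasicoherent :=
    Scheme.Modules.isQuasicoherent_restrictFunctor j _
  exact Groth.Agent.Helper13.QCohLocal.isQuasicoherent_of_iso
    (HDMapIso (Scheme.Modules.restrictFunctor j) G i).symm

theorem isZero_restrictD_of_isSuppD (W : Xbar.Opens) (G : DCoh.D Xbar) (hG : CxOX.IsSuppD W.ι G) :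
    IsZero ((DCoh.restrictD W.ι).obj G) :=
  isZero_restrictD_of_support G W _ hG (fun x hx hx' => hx' ((mem_range_ι_iff W x).2 hx))

end Main

end Groth.Agent.Helper9.OpenAdj2
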