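import Mathlib
import Groth.Prelude.Def_DCoh3
import Groth.Prelude.Def_CxOX
import Groth.Prelude.Def_CohB1
import Groth.Agent.Lib.Helper9.OpenAdj2
import Groth.Agent.Lib.Helper29.LRAdj

/-!
# The triangle `RΓ_Z E ⟶ E ⟶ Rj_* j^* E` and colocalisation (helper9)

* `comp_mor₁_bijective`, `colocal_unique`: abstract colocalisation lemmas in a pretriangulated category;
* `N j`: objects of `D(O_X)` vanishing on `U`; `rightOrthogonal_Rpush`: `Rj_* E' ∈ N^⊥`;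
* `gammaZKhι_app`, `exists_triangle`: the canonical map `RΓ_Z E ⟶ E` sits in a distinguished triangle with
  third vertex of the form `Rj_* E'`;
* `main14364`: `Rf_* RΓ_{f⁻¹Z} ≅ RΓ_Z Rf_*` (any factorisation is an isomorphism).
-/

set_option autoImplicit false
universe u
open CategoryTheory CategoryTheory.Limits TopologicalSpace AlgebraicGeometry Opposite Pretriangulated

attribute [local instance] HasDerivedCategory.standard

namespace Groth.Agent.Helper9.OpenAdj3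

open Groth.Agent.Helper29.OpenMVC Groth.Agent.Helper11.KI Groth.Agent.Helper9.SuppD
open Groth.Agent.Helper9.OpenAdj Groth.Agent.Helper9.OpenAdj2

section Abstract

variable {C : Type*} [Category C] [HasZeroObject C] [HasShift C ℤ] [Preadditive C]
  [∀ n : ℤ, (shiftFunctor C n).Additive] [Pretriangulated C]
  (P : ObjectProperty C) [P.IsStableUnderShift ℤ]

theorem comp_mor₁_bijective (T : Triangle C) (hT : T ∈ distTriang C)
    (h₃ : P.rightOrthogonal T.obj₃) (W : C) (hW : P W) :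
    Function.Bijective (fun g : W ⟶ T.obj₁ => g ≫ T.mor₁) := by
  have hinj0 : ∀ g : W ⟶ T.obj₁, g ≫ T.mor₁ = 0 → g = 0 := by
    intro g hg
    obtain ⟨g', hg'⟩ := Triangle.coyoneda_exact₂ T.invRotate (inv_rot_of_distTriang _ hT) g hg
    have h3' : P.rightOrthogonal (T.obj₃⟦(-1 : ℤ)⟧) := P.rightOrthogonal.le_shift (-1 : ℤ) _ h₃
    have hz : g' = 0 := h3' g' hW
    rw [hg', hz]
    exact zero_comp
  constructor
  · intro g₁ g₂ h
    have h' : g₁ ≫ T.mor₁ = g₂ ≫ T.mor₁ := h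
    have h0 : (g₁ - g₂) ≫ T.mor₁ = 0 := by rw [Preadditive.sub_comp, h', sub_self]
    exact sub_eq_zero.1 (hinj0 _ h0)
  · intro f
    obtain ⟨g, hg⟩ := Triangle.coyoneda_exact₂ T hT f (h₃ _ hW)
    exact ⟨g, hg.symm⟩

lemma sq_aux {A B D E F : C} (ρE : A ⟶ B) (eh : B ⟶ D) (Re : A ⟶ E) (b : F ≅ E) (ρQ : E ⟶ D)
    (hn : ρE ≫ eh = Re ≫ ρQ) : ρE ≫ eh = (Re ≫ b.inv) ≫ b.hom ≫ ρQ := by
  rw [Category.assoc, Iso.inv_hom_id_assoc]; exact hn

theorem colocal_unique {A R B Q₁ Q₂ : C} {m : A ⟶ B} {ρ : R ⟶ B} {u₁ : B ⟶ Q₁}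
    {d₁ : Q₁ ⟶ A⟦(1 : ℤ)⟧} {u₂ : B ⟶ Q₂} {d₂ : Q₂ ⟶ R⟦(1 : ℤ)⟧}
    (h₁ : Triangle.mk m u₁ d₁ ∈ distTriang C) (h₂ : Triangle.mk ρ u₂ d₂ ∈ distTriang C)
    (hA : P A) (hR : P R) (hQ₁ : P.rightOrthogonal Q₁) (hQ₂ : P.rightOrthogonal Q₂) :
    (∃ α : A ⟶ R, α ≫ ρ = m) ∧ ∀ α : A ⟶ R, α ≫ ρ = m → IsIso α := by
  have b₁ := fun W hW => comp_mor₁_bijective P _ h₁ hQ₁ W hW
  have b₂ := fun W hW => comp_mor₁_bijective P _ h₂ hQ₂ W hW
  refine ⟨(b₂ A hA).2 m, fun α hα => ?_⟩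
  obtain ⟨β, hβ'⟩ : ∃ β : R ⟶ A, β ≫ m = ρ := (b₁ R hR).2 ρ
  have k1 : (α ≫ β) ≫ m = 𝟙 A ≫ m := by rw [Category.assoc, hβ', hα, Category.id_comp]
  have k2 : (β ≫ α) ≫ ρ = 𝟙 R ≫ ρ := by rw [Category.assoc, hα, hβ', Category.id_comp]
  have e1 : α ≫ β = 𝟙 A := (b₁ A hA).1 k1
  have e2 : β ≫ α = 𝟙 R := (b₂ R hR).1 k2
  exact ⟨⟨β, e1, e2⟩⟩

end Abstract

section N

variable {U X : Scheme.{u}} (j : U ⟶ X) [IsOpenImmersion j]

/-- objects of `D(O_X)` vanishing on `U` -/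
def N : ObjectProperty (DCoh.D X) := fun W => IsZero ((DCoh.restrictD j).obj W)

instance isStableUnderShift_N : (N j).IsStableUnderShift ℤ where
  isStableUnderShiftBy n := ⟨fun W hW => by
    show IsZero ((DCoh.restrictD j).obj (W⟦n⟧))
    exact IsZero.of_iso ((shiftFunctor _ n).map_isZero hW)
      (((DCoh.restrictD j).commShiftIso n).app W)⟩

theorem rightOrthogonal_Rpush [DCoh.HasRpush j] (E' : DCoh.D U) :
    (N j).rightOrthogonal ((DCoh.Rpush j).obj E') := by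
  obtain ⟨I, hI, -, ⟨e⟩⟩ := exists_res E'
  haveI := hI
  have eR := RpushIso j E' I e
  refine (N j).rightOrthogonal.prop_of_iso eR ?_
  intro W f hW
  have hW' : IsZero ((DCoh.restrictD j).obj W) := hW
  obtain ⟨u, -, hu⟩ := Groth.Agent.Helper29.DAdjA.existsUnique_lift
    (Scheme.Modules.restrictAdjunction j) W I 0
  exact (hu f (hW'.eq_of_src _ _)).trans (hu 0 (hW'.eq_of_src _ _)).symm

theorem nonempty_Rpush_congr {A B : Scheme.{u}} {g g' : A ⟶ B} (h : g = g') [DCoh.HasRpush g]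
    [DCoh.HasRpush g'] : Nonempty (DCoh.Rpush g ≅ DCoh.Rpush g') := by
  subst h
  exact ⟨Iso.refl _⟩

theorem rightOrthogonal_Rpush_Rpush {X Y : Scheme.{u}} (f : X ⟶ Y) (V : Y.Opens) [DCoh.HasRpush f]
    [DCoh.HasRpush (f ⁻¹ᵁ V).ι] [DCoh.HasRpush V.ι] (E' : DCoh.D ((f ⁻¹ᵁ V : X.Opens) : Scheme.{u})) :
    (N V.ι).rightOrthogonal ((DCoh.Rpush f).obj ((DCoh.Rpush (f ⁻¹ᵁ V).ι).obj E')) := by
  haveI : DCoh.HasRpush (f ∣_ V) :=
    Groth.Agent.Helper11.KI.hasRightDerivedFunctor (DCoh.pushKh (f ∣_ V))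
  haveI : DCoh.HasRpush ((f ⁻¹ᵁ V).ι ≫ f) :=
    Groth.Agent.Helper11.KI.hasRightDerivedFunctor (DCoh.pushKh ((f ⁻¹ᵁ V).ι ≫ f))
  haveI : DCoh.HasRpush ((f ∣_ V) ≫ V.ι) :=
    Groth.Agent.Helper11.KI.hasRightDerivedFunctor (DCoh.pushKh ((f ∣_ V) ≫ V.ι))
  obtain ⟨φ1⟩ := Groth.Agent.Helper29.LRAdj.main0922 (f ⁻¹ᵁ V).ι f
  obtain ⟨φ2⟩ := Groth.Agent.Helper29.LRAdj.main0922 (f ∣_ V) V.ι
  obtain ⟨φ3⟩ := nonempty_Rpush_congr (morphismRestrict_ι f V)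
  exact (N V.ι).rightOrthogonal.prop_of_iso (φ2.app E' ≪≫ φ3.app E' ≪≫ (φ1.app E').symm)
    (rightOrthogonal_Rpush V.ι _)

end N

section Tri

variable {U X : Scheme.{u}} (j : U ⟶ X) [IsOpenImmersion j]

/-- the termwise inclusion `Γ_Z I ⟶ I` -/
noncomputable def ιCx (I : CochainComplex X.Modules ℤ) :
    ((DCoh.gammaZ j).mapHomologicalComplex (ComplexShape.up ℤ)).obj I ⟶ I where
  f n := (Groth.Agent.Helper9.LocCohQC.ι j).app (I.X n)
  comm' i k _ := (Groth.Agent.Helper9.LocCohQC.ι_nat j (I.d i k)).symm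

lemma clean {D : Type*} [Category D] {H : Type*} [Category H] (F : H ⥤ D) (Y : H) {O₂ O₃ : D}
    (x₄ : F.obj Y ⟶ O₂) (x₅ : O₂ ⟶ O₃) :
    𝟙 (F.obj Y) ≫ F.map (𝟙 Y) ≫ 𝟙 (F.obj Y) ≫ x₄ ≫ x₅ ≫ 𝟙 O₃ = x₄ ≫ x₅ := by simp

theorem gammaZKhι_app (I : CochainComplex X.Modules ℤ) :
    (CxOX.gammaZKhι j).app ((HomotopyCategory.quotient _ _).obj I) =
      DerivedCategory.Q.map (ιCx j I) := by
  have h : (NatTrans.mapHomologicalComplex (CxOX.gammaZι j) (ComplexShape.up ℤ)).app I ≫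
      (Functor.mapHomologicalComplexIdIso X.Modules (ComplexShape.up ℤ)).hom.app I = ιCx j I := by
    refine HomologicalComplex.hom_ext _ _ (fun n => ?_)
    exact Category.comp_id _
  refine (Quotient.natTransLift_app _ _ _ _ I).trans ?_
  refine Eq.trans ?_ (congrArg DerivedCategory.Q.map h)
  refine Eq.trans ?_ (DerivedCategory.Q.map_comp _ _).symm
  exact clean DerivedCategory.Qh ((HomotopyCategory.quotient _ _).obj
    (((DCoh.gammaZ j).mapHomologicalComplex (ComplexShape.up ℤ)).obj I))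
    (DerivedCategory.Q.map ((NatTrans.mapHomologicalComplex (CxOX.gammaZι j) (ComplexShape.up ℤ)).app I))
    (DerivedCategory.Q.map ((Functor.mapHomologicalComplexIdIso X.Modules (ComplexShape.up ℤ)).hom.app I))

end Tri

section Tri2

variable {X : Scheme.{u}}

/-- the canonical map `RΓ_Z E ⟶ E` sits in a distinguished triangle whose third vertex is `Rj_* E'` -/
theorem exists_triangle (T : X.Opens) [CxOX.HasRgammaZ T.ι] [DCoh.HasRpush T.ι] (E : DCoh.D X) :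
    ∃ (E' : DCoh.D (T : Scheme.{u})) (u : E ⟶ (DCoh.Rpush T.ι).obj E')
      (d : (DCoh.Rpush T.ι).obj E' ⟶ ((CxOX.RgammaZ T.ι).obj E)⟦(1 : ℤ)⟧),
      Triangle.mk ((CxOX.RgammaZToId T.ι).app E) u d ∈ distTriang (DCoh.D X) := by
  obtain ⟨I, hI, hinj, ⟨e⟩⟩ := exists_res E
  haveI := hI
  haveI := hinj
  let βZ := (CxOX.gammaZKh T.ι).totalRightDerivedUnit DerivedCategory.Qh (WK X.Modules)
  haveI : (CxOX.RgammaZ T.ι).IsRightDerivedFunctor βZ (WK X.Modules) := inferInstance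
  haveI h1 : IsIso (βZ.app ((quo _).obj I)) := isIso_unit.{u+1} _ (CxOX.RgammaZ T.ι) βZ I
  let L : CochainComplex X.Modules ℤ :=
    ((DCoh.gammaZ T.ι).mapHomologicalComplex (ComplexShape.up ℤ)).obj I
  let eβ := @asIso _ _ _ _ (βZ.app ((quo _).obj I)) h1
  let e1 : (CxOX.RgammaZ T.ι).obj E ≅ DerivedCategory.Q.obj L :=
    (CxOX.RgammaZ T.ι).mapIso e ≪≫ eβ.symm
  let I' : CochainComplex (T : Scheme.{u}).Modules ℤ :=
    ((Scheme.Modules.restrictFunctor T.ι).mapHomologicalComplex (ComplexShape.up ℤ)).obj I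
  let Pc : CochainComplex X.Modules ℤ :=
    ((Scheme.Modules.pushforward T.ι).mapHomologicalComplex (ComplexShape.up ℤ)).obj I'
  let g : I ⟶ Pc :=
    { f := fun n => (Groth.Agent.Helper9.LocCohQC.η T.ι).app (I.X n)
      comm' := fun i k _ => (Groth.Agent.Helper9.LocCohQC.η_nat T.ι (I.d i k)).symm }
  have hfg : ιCx T.ι I ≫ g = 0 :=
    HomologicalComplex.hom_ext _ _ (fun n => Groth.Agent.Helper9.LocCohQC.ι_η T.ι (I.X n))
  let S : ShortComplex (CochainComplex X.Modules ℤ) := ShortComplex.mk (ιCx T.ι I) g hfg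
  have hS : S.ShortExact := HomologicalComplex.shortExact_of_degreewise_shortExact S
    (fun n => Groth.Agent.Helper9.LocCohQC.shortExact_of_injective T.ι (I.X n))
  haveI : PreservesFiniteLimits (CxOX.extZero T.ι) :=
    Groth.Agent.Helper17.IR.preservesFiniteLimits_extZero X T
  haveI hI' : I'.IsKInjective :=
    Groth.Agent.Helper29.DAdjA.isKInjective_map (CxOX.extZeroAdj T.ι) I
  obtain ⟨eP⟩ : Nonempty (DerivedCategory.Q.obj Pc ≅
      (DCoh.Rpush T.ι).obj (DerivedCategory.Q.obj I')) :=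
    ⟨RpushIso T.ι (DerivedCategory.Q.obj I') I' (Iso.refl _)⟩
  have hd := DerivedCategory.triangleOfSES_distinguished hS
  have hfac : eβ.hom ≫ (CxOX.RgammaZToId T.ι).app (DerivedCategory.Q.obj I) =
      DerivedCategory.Q.map (ιCx T.ι I) := by
    rw [← gammaZKhι_app T.ι I]
    have h := (CxOX.RgammaZ T.ι).rightDerived_fac_app βZ (WK X.Modules) (𝟭 (DCoh.D X))
      (CxOX.gammaZKhι T.ι ≫ (Functor.rightUnitor _).inv) ((quo _).obj I)
    rw [NatTrans.comp_app] at h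
    simp only [Functor.rightUnitor_inv_app, Category.comp_id] at h
    exact h
  have hsq : (CxOX.RgammaZToId T.ι).app E ≫ e.hom =
      e1.hom ≫ DerivedCategory.Q.map (ιCx T.ι I) := by
    rw [← hfac]
    exact sq_aux _ _ _ eβ _ ((CxOX.RgammaZToId T.ι).naturality e.hom).symm
  refine ⟨DerivedCategory.Q.obj I', e.hom ≫ DerivedCategory.Q.map g ≫ eP.hom,
    eP.inv ≫ DerivedCategory.triangleOfSESδ hS ≫ e1.inv⟦(1 : ℤ)⟧', ?_⟩
  refine isomorphic_distinguished _ hd _ (Triangle.isoMk _ _ e1 e eP.symm hsq ?_ ?_)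
  · show (e.hom ≫ DerivedCategory.Q.map g ≫ eP.hom) ≫ eP.inv = e.hom ≫ DerivedCategory.Q.map g
    rw [Category.assoc, Category.assoc, eP.hom_inv_id, Category.comp_id]
  · show (eP.inv ≫ DerivedCategory.triangleOfSESδ hS ≫ e1.inv⟦(1 : ℤ)⟧') ≫ e1.hom⟦(1 : ℤ)⟧' =
      eP.inv ≫ DerivedCategory.triangleOfSESδ hS
    rw [Category.assoc, Category.assoc, ← Functor.map_comp, e1.inv_hom_id,
      CategoryTheory.Functor.map_id, Category.comp_id]

/-- `Rf_* RΓ_{f⁻¹Z} K ≅ RΓ_Z Rf_* K`: a factorisation exists and every factorisation is an isomorphism -/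
theorem main14364 {Y : Scheme.{u}} (f : X ⟶ Y) (V : Y.Opens)
    [CxOX.HasRgammaZ V.ι] [CxOX.HasRgammaZ (f ⁻¹ᵁ V).ι] [DCoh.HasRpush f] (K : DCoh.D X) :
    (∃ α : (DCoh.Rpush f).obj ((CxOX.RgammaZ (f ⁻¹ᵁ V).ι).obj K) ⟶
        (CxOX.RgammaZ V.ι).obj ((DCoh.Rpush f).obj K),
        α ≫ (CxOX.RgammaZToId V.ι).app ((DCoh.Rpush f).obj K) =
          (DCoh.Rpush f).map ((CxOX.RgammaZToId (f ⁻¹ᵁ V).ι).app K)) ∧
    ∀ α : (DCoh.Rpush f).obj ((CxOX.RgammaZ (f ⁻¹ᵁ V).ι).obj K) ⟶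
        (CxOX.RgammaZ V.ι).obj ((DCoh.Rpush f).obj K),
        α ≫ (CxOX.RgammaZToId V.ι).app ((DCoh.Rpush f).obj K) =
          (DCoh.Rpush f).map ((CxOX.RgammaZToId (f ⁻¹ᵁ V).ι).app K) → IsIso α := by
  haveI : DCoh.HasRpush V.ι := Groth.Agent.Helper11.KI.hasRightDerivedFunctor (DCoh.pushKh V.ι)
  haveI : DCoh.HasRpush (f ⁻¹ᵁ V).ι :=
    Groth.Agent.Helper11.KI.hasRightDerivedFunctor (DCoh.pushKh (f ⁻¹ᵁ V).ι)
  obtain ⟨E', u, d, hT'⟩ := exists_triangle (f ⁻¹ᵁ V) K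
  obtain ⟨E'', u₂, d₂, hT₂⟩ := exists_triangle V ((DCoh.Rpush f).obj K)
  obtain ⟨c', hc'⟩ := Groth.Agent.Helper29.TriR.exists_distinguished (DCoh.pushKh f)
    (DCoh.Rpush f) (βp f) _ hT'
  exact colocal_unique (N V.ι) hc' hT₂
    (isZero_restrictD_Rpush f V _ (isZero_restrictD_RgammaZ (f ⁻¹ᵁ V).ι K))
    (isZero_restrictD_RgammaZ V.ι _)
    (rightOrthogonal_Rpush_Rpush f V E')
    (rightOrthogonal_Rpush V.ι E'')

end Tri2

end Groth.Agent.Helper9.OpenAdj3
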