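import Mathlib
import Groth.Prelude.Def_DCoh3
import Groth.Prelude.Def_CxOX
import Groth.Prelude.Def_CohB1
import Groth.Prelude.Def_DDual2
import Groth.Agent.Lib.Helper9.OpenAdj3

/-!
# Local duality for a compactified morphism: the formal part (helper9)

* `rightOrthogonal_of_isZero_restrictD`: objects killed by `j^*` are right orthogonal to objects vanishing on an
  open `W` with `X̄ ∖ W ⊆ j(X)` (disjoint supports);
* `comp_unit_bijective`: composition with the unit `K ⟶ Rj_* j^* K` is bijective on `Hom(A, -)` for such `A`;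
* `comp_RgammaZToId_bijective`: composition with `RΓ_Z E ⟶ E` is bijective on `Hom(F, -)` for `F` vanishing off `Z`;
* `abs_main`, `bijective_Φ₂`, `main17639`.
-/

set_option autoImplicit false
universe u
open CategoryTheory CategoryTheory.Limits TopologicalSpace AlgebraicGeometry Opposite Pretriangulated

attribute [local instance] HasDerivedCategory.standard

namespace Groth.Agent.Helper9.OpenAdj4

open Groth.Agent.Helper29.OpenMVC Groth.Agent.Helper11.KI Groth.Agent.Helper9.SuppD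
open Groth.Agent.Helper9.OpenAdj Groth.Agent.Helper9.OpenAdj2 Groth.Agent.Helper9.OpenAdj3

section ABS

variable {C D : Type*} [Category C] [Category D] {L : D ⥤ C} {R : C ⥤ D} (adj : L ⊣ R)
  [IsIso adj.counit]

theorem abs_heq {K M : D} (ρ : M ⟶ K) [IsIso (adj.unit.app M)] {F R' : C} (θ : R' ⟶ L.obj M)
    (ρ' : R' ⟶ L.obj K) (hθ : θ ≫ L.map ρ = ρ') (φ : F ⟶ R') :
    inv (adj.counit.app F) ≫ L.map (R.map (φ ≫ θ) ≫ inv (adj.unit.app M) ≫ ρ) = φ ≫ ρ' := by
  have n := adj.counit.naturality (φ ≫ θ)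
  have t := adj.left_triangle_components M
  have hinv : L.map (adj.unit.app M) = inv (adj.counit.app (L.obj M)) :=
    IsIso.eq_inv_of_inv_hom_id t
  have h3 : inv (adj.counit.app (L.obj M)) ≫ L.map (inv (adj.unit.app M)) = 𝟙 (L.obj M) := by
    rw [← hinv, ← Functor.map_comp, IsIso.hom_inv_id]
    exact L.map_id _
  have h2 : inv (adj.counit.app F) ≫ L.map (R.map (φ ≫ θ)) =
      (φ ≫ θ) ≫ inv (adj.counit.app (L.obj M)) := by
    rw [IsIso.inv_comp_eq, ← Category.assoc, IsIso.eq_comp_inv]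
    exact n
  calc inv (adj.counit.app F) ≫ L.map (R.map (φ ≫ θ) ≫ inv (adj.unit.app M) ≫ ρ)
      = (inv (adj.counit.app F) ≫ L.map (R.map (φ ≫ θ))) ≫
          (L.map (inv (adj.unit.app M)) ≫ L.map ρ) := by
        rw [L.map_comp, L.map_comp, Category.assoc]
    _ = ((φ ≫ θ) ≫ inv (adj.counit.app (L.obj M))) ≫
          (L.map (inv (adj.unit.app M)) ≫ L.map ρ) := by rw [h2]
    _ = (φ ≫ θ) ≫ ((inv (adj.counit.app (L.obj M)) ≫ L.map (inv (adj.unit.app M))) ≫ L.map ρ) := by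
        simp only [Category.assoc]
    _ = (φ ≫ θ) ≫ L.map ρ := by rw [h3, Category.id_comp]
    _ = φ ≫ ρ' := by rw [Category.assoc, hθ]

theorem abs_Λ_bijective {K : D} {F : C}
    (hu : Function.Bijective (fun ψ : R.obj F ⟶ K => ψ ≫ adj.unit.app K)) :
    Function.Bijective (fun ψ : R.obj F ⟶ K => inv (adj.counit.app F) ≫ L.map ψ) := by
  constructor
  · intro ψ₁ ψ₂ h
    have h1 : L.map ψ₁ = L.map ψ₂ := (cancel_epi (inv (adj.counit.app F))).1 h
    apply hu.1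
    have n1 := adj.unit.naturality ψ₁
    have n2 := adj.unit.naturality ψ₂
    show ψ₁ ≫ adj.unit.app K = ψ₂ ≫ adj.unit.app K
    calc ψ₁ ≫ adj.unit.app K = adj.unit.app (R.obj F) ≫ R.map (L.map ψ₁) := n1
      _ = adj.unit.app (R.obj F) ≫ R.map (L.map ψ₂) := by rw [h1]
      _ = ψ₂ ≫ adj.unit.app K := n2.symm
  · intro χ
    obtain ⟨ψ, hψ⟩ := hu.2 (R.map χ)
    have hψ' : ψ ≫ adj.unit.app K = R.map χ := hψ
    refine ⟨ψ, ?_⟩
    show inv (adj.counit.app F) ≫ L.map ψ = χ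
    rw [IsIso.inv_comp_eq]
    have t := adj.left_triangle_components K
    have n := adj.counit.naturality χ
    calc L.map ψ = L.map ψ ≫ (L.map (adj.unit.app K) ≫ adj.counit.app (L.obj K)) := by
          rw [t, Category.comp_id]
      _ = L.map (ψ ≫ adj.unit.app K) ≫ adj.counit.app (L.obj K) := by
          rw [Functor.map_comp, Category.assoc]
      _ = L.map (R.map χ) ≫ adj.counit.app (L.obj K) := by rw [hψ']
      _ = adj.counit.app F ≫ χ := n

theorem abs_main {K M : D} (ρ : M ⟶ K) [IsIso (adj.unit.app M)] {F R' : C} (θ : R' ⟶ L.obj M)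
    (ρ' : R' ⟶ L.obj K) (hθ : θ ≫ L.map ρ = ρ')
    (hu : Function.Bijective (fun ψ : R.obj F ⟶ K => ψ ≫ adj.unit.app K))
    (hP1 : Function.Bijective (fun φ : F ⟶ R' => φ ≫ ρ')) :
    Function.Bijective (fun φ : F ⟶ R' => R.map (φ ≫ θ) ≫ inv (adj.unit.app M) ≫ ρ) := by
  have hΛ := abs_Λ_bijective adj hu
  refine (Function.Bijective.of_comp_iff' hΛ _).1 ?_
  have h : ((fun ψ : R.obj F ⟶ K => inv (adj.counit.app F) ≫ L.map ψ) ∘
      (fun φ : F ⟶ R' => R.map (φ ≫ θ) ≫ inv (adj.unit.app M) ≫ ρ)) =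
      fun φ : F ⟶ R' => φ ≫ ρ' := funext (fun φ => abs_heq adj ρ θ ρ' hθ φ)
  rw [h]
  exact hP1

end ABS

section DS

variable {X Xbar : Scheme.{u}} (j : X ⟶ Xbar) [IsOpenImmersion j]

/-- objects killed by `j^*` are right orthogonal to objects vanishing on `W`, when `X̄ ∖ W ⊆ j(X)` -/
theorem rightOrthogonal_of_isZero_restrictD (W : Xbar.Opens)
    (hW : (W : Set Xbar)ᶜ ⊆ Set.range j.base) (B : DCoh.D Xbar)
    (hB : IsZero ((DCoh.restrictD j).obj B)) : (N W.ι).rightOrthogonal B := by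
  haveI : DCoh.HasRpush W.ι := Groth.Agent.Helper11.KI.hasRightDerivedFunctor (DCoh.pushKh W.ι)
  have hst : ∀ (i : ℤ) (x : Xbar), x ∈ j.opensRange →
      Subsingleton ((DCoh.HD B i).presheaf.stalk x) := by
    rintro i x ⟨y, rfl⟩
    exact subsingleton_stalk_HD_of_isZero_restrictD' B hB i y
  have hV : IsZero ((DCoh.restrictD j.opensRange.ι).obj B) := isZero_restrictD_of_stalks B _ hst
  have hWV : IsZero ((DCoh.restrictD (W ⊓ j.opensRange).ι).obj B) :=
    isZero_restrictD_of_stalks B _ (fun i x hx => hst i x hx.2)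
  have hUV : W ⊔ j.opensRange = ⊤ := by
    rw [eq_top_iff]
    intro x _
    by_cases hx : x ∈ W
    · exact Opens.mem_sup.2 (Or.inl hx)
    · exact Opens.mem_sup.2 (Or.inr (hW hx))
  obtain ⟨e⟩ := nonempty_iso_Rpush_restrictD W j.opensRange hUV B hV hWV
  exact (N W.ι).rightOrthogonal.prop_of_iso e.symm (rightOrthogonal_Rpush W.ι _)

/-- composition with the unit `K ⟶ Rj_* j^* K` is bijective on maps out of an object vanishing on `W` -/
theorem comp_unit_bijective [DCoh.HasRpush j] (adj : DCoh.restrictD j ⊣ DCoh.Rpush j)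
    (W : Xbar.Opens) (hW : (W : Set Xbar)ᶜ ⊆ Set.range j.base) (K A : DCoh.D Xbar)
    (hA : IsZero ((DCoh.restrictD W.ι).obj A)) :
    Function.Bijective (fun ψ : A ⟶ K => ψ ≫ adj.unit.app K) := by
  haveI := isIso_counit j adj
  have h1 : IsIso ((DCoh.restrictD j).map (adj.unit.app K)) := by
    have ht := adj.left_triangle_components K
    have h2 : (DCoh.restrictD j).map (adj.unit.app K) =
        inv (adj.counit.app ((DCoh.restrictD j).obj K)) := IsIso.eq_inv_of_inv_hom_id ht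
    rw [h2]; infer_instance
  obtain ⟨Cc, g, h, hTr⟩ := distinguished_cocone_triangle (adj.unit.app K)
  have hT1 := (DCoh.restrictD j).map_distinguished _ hTr
  have hCj : IsZero ((DCoh.restrictD j).obj Cc) := (Triangle.isZero₃_iff_isIso₁ _ hT1).2 h1
  exact comp_mor₁_bijective (N W.ι) _ hTr (rightOrthogonal_of_isZero_restrictD j W hW Cc hCj) A hA

end DS

section P1

variable {X : Scheme.{u}}

/-- composition with `RΓ_Z E ⟶ E` is bijective on maps out of an object vanishing on `T = X ∖ Z` -/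
theorem comp_RgammaZToId_bijective (T : X.Opens) [CxOX.HasRgammaZ T.ι] (E F : DCoh.D X)
    (hF : IsZero ((DCoh.restrictD T.ι).obj F)) :
    Function.Bijective (fun φ : F ⟶ (CxOX.RgammaZ T.ι).obj E => φ ≫ (CxOX.RgammaZToId T.ι).app E) := by
  haveI : DCoh.HasRpush T.ι := Groth.Agent.Helper11.KI.hasRightDerivedFunctor (DCoh.pushKh T.ι)
  obtain ⟨E', u, d, hT⟩ := exists_triangle T E
  exact comp_mor₁_bijective (N T.ι) _ hT (rightOrthogonal_Rpush T.ι E') F hF

end P1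

section Main

theorem bijective_Φ₂ {Xbar Y : Scheme.{u}} (fbar : Xbar ⟶ Y) [DCoh.HasRpush fbar]
    (hfbar : DCoh.RpushPreservesQCoh fbar) (a : DCoh.DQCoh Y ⥤ DCoh.DQCoh Xbar)
    (adj : DCoh.RpushQ fbar hfbar ⊣ a) (G : DCoh.DQCoh Y) (A : DCoh.D Xbar) (hA : DCoh.IsQCohD A) :
    Function.Bijective (fun ψ : A ⟶ (a.obj G).obj =>
      (DCoh.Rpush fbar).map ψ ≫ (adj.counit.app G).hom) := by
  let A' : DCoh.DQCoh Xbar := ⟨A, hA⟩
  have hb := (adj.homEquiv A' G).symm.bijective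
  have key : ∀ ψ : A ⟶ (a.obj G).obj,
      ((adj.homEquiv A' G).symm (ObjectProperty.homMk ψ)).hom =
        (DCoh.Rpush fbar).map ψ ≫ (adj.counit.app G).hom := by
    intro ψ
    rw [Adjunction.homEquiv_counit]
    rfl
  constructor
  · intro ψ₁ ψ₂ h
    have h' : (adj.homEquiv A' G).symm (ObjectProperty.homMk ψ₁) =
        (adj.homEquiv A' G).symm (ObjectProperty.homMk ψ₂) := by
      apply ObjectProperty.hom_ext
      rw [key, key]
      exact h
    exact congrArg (fun m => m.hom) (hb.1 h')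
  · intro χ
    obtain ⟨ψ', hψ'⟩ := hb.2 (ObjectProperty.homMk χ : (DCoh.RpushQ fbar hfbar).obj A' ⟶ G)
    refine ⟨ψ'.hom, ?_⟩
    have h1 := key ψ'.hom
    have h2 : (ObjectProperty.homMk ψ'.hom : A' ⟶ a.obj G) = ψ' := rfl
    rw [h2, hψ'] at h1
    exact h1.symm

theorem main17639 {X Xbar Y : Scheme.{u}} (j : X ⟶ Xbar) [IsOpenImmersion j] (fbar : Xbar ⟶ Y)
    (W : Xbar.Opens) (hW : (W : Set Xbar)ᶜ ⊆ Set.range j.base)
    [DCoh.HasRpush fbar] [DCoh.HasRpush j] (hfbar : DCoh.RpushPreservesQCoh fbar)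
    (hj : DCoh.RpushPreservesQCoh j)
    (a : DCoh.DQCoh Y ⥤ DCoh.DQCoh Xbar) (adj : DCoh.RpushQ fbar hfbar ⊣ a)
    (adjj : DCoh.restrictD j ⊣ DCoh.Rpush j)
    [CxOX.HasRgammaZ W.ι] [CxOX.HasRgammaZ (j ⁻¹ᵁ W).ι]
    (G : DCoh.DQCoh Y)
    (θ : (CxOX.RgammaZ (j ⁻¹ᵁ W).ι).obj ((DCoh.restrictD j).obj (a.obj G).obj) ⟶
      (DCoh.restrictD j).obj ((CxOX.RgammaZ W.ι).obj (a.obj G).obj))
    (hθ : θ ≫ (DCoh.restrictD j).map ((CxOX.RgammaZToId W.ι).app (a.obj G).obj) =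
      (CxOX.RgammaZToId (j ⁻¹ᵁ W).ι).app ((DCoh.restrictD j).obj (a.obj G).obj))
    [IsIso (adjj.unit.app ((CxOX.RgammaZ W.ι).obj (a.obj G).obj))]
    (F : DCoh.D X) (hF : DCoh.IsQCohD F) (hFZ : CxOX.IsSuppD (j ⁻¹ᵁ W).ι F) :
    Function.Bijective (fun φ : F ⟶ (CxOX.RgammaZ (j ⁻¹ᵁ W).ι).obj
        ((DCoh.restrictD j).obj (a.obj G).obj) =>
      (DCoh.Rpush fbar).map ((DCoh.Rpush j).map (φ ≫ θ) ≫
          inv (adjj.unit.app ((CxOX.RgammaZ W.ι).obj (a.obj G).obj)) ≫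
          (CxOX.RgammaZToId W.ι).app (a.obj G).obj) ≫
        (adj.counit.app G).hom) := by
  have hFZ' := isZero_restrictD_of_isSuppD (j ⁻¹ᵁ W) F hFZ
  have hA : IsZero ((DCoh.restrictD W.ι).obj ((DCoh.Rpush j).obj F)) :=
    isZero_restrictD_Rpush j W F hFZ'
  haveI := isIso_counit j adjj
  have hu := comp_unit_bijective j adjj W hW (a.obj G).obj ((DCoh.Rpush j).obj F) hA
  have hP1 := comp_RgammaZToId_bijective (j ⁻¹ᵁ W) ((DCoh.restrictD j).obj (a.obj G).obj) F hFZ'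
  have hΦ₁ := abs_main adjj ((CxOX.RgammaZToId W.ι).app (a.obj G).obj) θ _ hθ hu hP1
  have hΦ₂ := bijective_Φ₂ fbar hfbar a adj G ((DCoh.Rpush j).obj F) (hj F hF)
  exact hΦ₂.comp hΦ₁

end Main

end Groth.Agent.Helper9.OpenAdj4
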