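import Mathlib
import Groth.Prelude.Def_DCoh3
import Groth.Prelude.Def_CxOX
import Groth.Prelude.Def_CohB1
import Groth.Agent.Lib.Helper9.OpenAdj4
import Groth.Agent.Lib.Helper29.DAdjB
import Groth.Agent.Lib.Helper5.PRF3

/-!
# Extending approximations by perfect complexes from an open (helper9)

* `nonempty_adjD j : Nonempty (restrictD j ⊣ Rpush j)`;
* `isZero_homology_cone`, `isIso_epi_of_isZero_homology_cone`: "iso on `H^i` for `i > m`, epi on `H^m`" in terms
  of the cone;
* `main7265`: approximation on `U` by a perfect complex supported on `T ⊆ U` (closed in `X`) extends to `X`,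
  via `P ↦ Rj_* P`.
-/

set_option autoImplicit false
universe u
open CategoryTheory CategoryTheory.Limits TopologicalSpace AlgebraicGeometry Opposite Pretriangulated

attribute [local instance] HasDerivedCategory.standard

namespace Groth.Agent.Helper9.OpenAdj5

open Groth.Agent.Helper29.OpenMVC Groth.Agent.Helper11.KI Groth.Agent.Helper9.SuppD
open Groth.Agent.Helper9.OpenAdj Groth.Agent.Helper9.OpenAdj2 Groth.Agent.Helper9.OpenAdj3
open Groth.Agent.Helper9.OpenAdj4 Groth.Agent.Helper5.PRF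

theorem nonempty_adjD {U X : Scheme.{u}} (j : U ⟶ X) [IsOpenImmersion j] [DCoh.HasRpush j] :
    Nonempty (DCoh.restrictD j ⊣ DCoh.Rpush j) := by
  haveI := Groth.Agent.Helper29.DAdjB.isRightDerivedFunctor_γ (Scheme.Modules.pushforward j)
    (DCoh.Rpush j) (βp j)
  exact Groth.Agent.Helper29.DAdjA.nonempty_adj (Scheme.Modules.restrictAdjunction j) (DCoh.Rpush j)
    (Groth.Agent.Helper29.DAdjB.γ _ (DCoh.Rpush j) (βp j))

section ABS

variable {C D : Type*} [Category C] [Category D] {L : D ⥤ C} {R : C ⥤ D} (adj : L ⊣ R)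

theorem abs_sq {K : D} {F : C} (χ : F ⟶ L.obj K) (ψ : R.obj F ⟶ K)
    (hψ : ψ ≫ adj.unit.app K = R.map χ) : L.map ψ = adj.counit.app F ≫ χ := by
  have t := adj.left_triangle_components K
  have n := adj.counit.naturality χ
  calc L.map ψ = L.map ψ ≫ (L.map (adj.unit.app K) ≫ adj.counit.app (L.obj K)) := by
        rw [t, Category.comp_id]
    _ = L.map (ψ ≫ adj.unit.app K) ≫ adj.counit.app (L.obj K) := by
        rw [Functor.map_comp, Category.assoc]
    _ = L.map (R.map χ) ≫ adj.counit.app (L.obj K) := by rw [hψ]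
    _ = adj.counit.app F ≫ χ := n

end ABS

section Cone

variable {X : Scheme.{u}}

theorem isZero_homology_cone (T : Triangle (DCoh.D X)) (hT : T ∈ distTriang (DCoh.D X)) (m : ℤ)
    (hiso : ∀ i : ℤ, m < i → IsIso ((DerivedCategory.homologyFunctor X.Modules i).map T.mor₁))
    (hepi : Epi ((DerivedCategory.homologyFunctor X.Modules m).map T.mor₁)) (i : ℤ) (hi : m ≤ i) :
    IsZero ((DerivedCategory.homologyFunctor X.Modules i).obj T.obj₃) := by
  have hepi' : Epi ((DerivedCategory.homologyFunctor X.Modules i).map T.mor₁) := by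
    rcases eq_or_lt_of_le hi with h | h
    · subst h; exact hepi
    · haveI := hiso i h; infer_instance
  haveI := hiso (i + 1) (by omega)
  have h1 : (DerivedCategory.homologyFunctor X.Modules i).map T.mor₂ = 0 :=
    (DerivedCategory.HomologySequence.epi_homologyMap_mor₁_iff T hT i).1 hepi'
  have h2 : DerivedCategory.HomologySequence.δ T i (i + 1) rfl = 0 :=
    (DerivedCategory.HomologySequence.mono_homologyMap_mor₁_iff T hT i (i + 1) rfl).1 inferInstance
  exact (DerivedCategory.HomologySequence.exact₃ T hT i (i + 1) rfl).isZero_of_both_zeros h1 h2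

theorem isIso_epi_of_isZero_homology_cone (T : Triangle (DCoh.D X)) (hT : T ∈ distTriang (DCoh.D X))
    (m : ℤ) (hC : ∀ i : ℤ, m ≤ i → IsZero ((DerivedCategory.homologyFunctor X.Modules i).obj T.obj₃)) :
    (∀ i : ℤ, m < i → IsIso ((DerivedCategory.homologyFunctor X.Modules i).map T.mor₁)) ∧
      Epi ((DerivedCategory.homologyFunctor X.Modules m).map T.mor₁) := by
  have hepi : ∀ i : ℤ, m ≤ i → Epi ((DerivedCategory.homologyFunctor X.Modules i).map T.mor₁) :=
    fun i hi => (DerivedCategory.HomologySequence.epi_homologyMap_mor₁_iff T hT i).2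
      ((hC i hi).eq_of_tgt _ _)
  refine ⟨fun i hi => ?_, hepi m le_rfl⟩
  haveI := hepi i hi.le
  haveI : Mono ((DerivedCategory.homologyFunctor X.Modules i).map T.mor₁) :=
    (DerivedCategory.HomologySequence.mono_homologyMap_mor₁_iff T hT (i - 1) i (by omega)).2
      ((hC (i - 1) (by omega)).eq_of_src _ _)
  exact isIso_of_mono_of_epi _

end Cone

section Main

theorem main7265 {X : Scheme.{u}} (U : X.Opens) (T : Set ↥X) (hT : IsClosed T)
    (hTU : T ⊆ (U : Set ↥X)) (E : DCoh.D X) (m : ℤ)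
    (happ : ∃ (P : DCoh.D (U : Scheme.{u})) (α : P ⟶ (DCoh.restrictD U.ι).obj E), DCoh.IsPerfect P ∧
      (∀ i : ℤ, CohB1.support (DCoh.HD P i) ⊆ {v : ↥(U : Scheme.{u}) | U.ι.base v ∈ T}) ∧
      (∀ i : ℤ, m < i → IsIso ((DerivedCategory.homologyFunctor _ i).map α)) ∧
      Epi ((DerivedCategory.homologyFunctor _ m).map α))
    (hsupp : ∀ i : ℤ, m ≤ i → CohB1.support (DCoh.HD E i) ⊆ T) :
    ∃ (P : DCoh.D X) (α : P ⟶ E), DCoh.IsPerfect P ∧ (∀ i : ℤ, CohB1.support (DCoh.HD P i) ⊆ T) ∧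
      (∀ i : ℤ, m < i → IsIso ((DerivedCategory.homologyFunctor X.Modules i).map α)) ∧
      Epi ((DerivedCategory.homologyFunctor X.Modules m).map α) := by
  obtain ⟨P, α, hP, hPT, hiso, hepi⟩ := happ
  haveI : DCoh.HasRpush U.ι := Groth.Agent.Helper11.KI.hasRightDerivedFunctor (DCoh.pushKh U.ι)
  obtain ⟨adj⟩ := nonempty_adjD U.ι
  haveI := isIso_counit U.ι adj
  let W : X.Opens := ⟨Tᶜ, hT.isOpen_compl⟩
  have hW : (W : Set X)ᶜ ⊆ Set.range U.ι.base := by
    intro x hx
    have hxT : x ∈ T := not_not.1 hx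
    exact (mem_range_ι_iff U x).2 (hTU hxT)
  have hPW : IsZero ((DCoh.restrictD (U.ι ⁻¹ᵁ W).ι).obj P) := by
    apply isZero_restrictD_of_stalks
    intro i y hy
    by_contra hns
    exact hy (hPT i hns)
  have hP'W : IsZero ((DCoh.restrictD W.ι).obj ((DCoh.Rpush U.ι).obj P)) :=
    isZero_restrictD_Rpush U.ι W P hPW
  obtain ⟨α', hα'⟩ := (comp_unit_bijective U.ι adj W hW E ((DCoh.Rpush U.ι).obj P) hP'W).2
    ((DCoh.Rpush U.ι).map α)
  have hα'' : α' ≫ adj.unit.app E = (DCoh.Rpush U.ι).map α := hα'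
  have hsq : (DCoh.restrictD U.ι).map α' = adj.counit.app P ≫ α := abs_sq adj α α' hα''
  obtain ⟨C, g, h, hTr⟩ := distinguished_cocone_triangle α
  obtain ⟨C', g', h', hTr'⟩ := distinguished_cocone_triangle α'
  have hTrU := (DCoh.restrictD U.ι).map_distinguished _ hTr'
  have hTrW := (DCoh.restrictD W.ι).map_distinguished _ hTr'
  have hcP : IsIso (adj.counit.app P) := NatIso.isIso_app_of_isIso adj.counit P
  obtain ⟨e₁, he₁⟩ : ∃ e : (DCoh.restrictD U.ι).obj ((DCoh.Rpush U.ι).obj P) ≅ P,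
      e.hom = adj.counit.app P := ⟨@asIso _ _ _ _ (adj.counit.app P) hcP, rfl⟩
  have e₃ : (DCoh.restrictD U.ι).obj C' ≅ C :=
    Triangle.π₃.mapIso (isoTriangleOfIso₁₂ _ _ hTrU hTr e₁ (Iso.refl _)
      (by
        show (DCoh.restrictD U.ι).map α' ≫ 𝟙 _ = e₁.hom ≫ α
        rw [Category.comp_id, he₁]; exact hsq))
  have hC : ∀ i : ℤ, m ≤ i → IsZero (DCoh.HD C i) :=
    fun i hi => isZero_homology_cone _ hTr m hiso hepi i hi
  have hmor₂ : IsIso ((DCoh.restrictD W.ι).map g') :=
    (Triangle.isZero₁_iff_isIso₂ _ hTrW).1 hP'W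
  have hC' : ∀ i : ℤ, m ≤ i → IsZero (DCoh.HD C' i) := by
    intro i hi
    apply isZero_of_subsingleton_sections
    intro V
    refine subsingleton_sections_of_stalks _ V (fun x _ => ?_)
    by_cases hx : x ∈ U
    · have hz : IsZero ((Scheme.Modules.restrictFunctor U.ι).obj (DCoh.HD C' i)) :=
        IsZero.of_iso (hC i hi) ((HDMapIso (Scheme.Modules.restrictFunctor U.ι) C' i).symm ≪≫
          (DerivedCategory.homologyFunctor _ i).mapIso e₃)
      exact subsingleton_stalk_of_isZero_restrict (DCoh.HD C' i) U hz x hx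
    · have hxW : x ∈ W := fun hxT => hx (hTU hxT)
      have hzE : IsZero ((Scheme.Modules.restrictFunctor W.ι).obj (DCoh.HD E i)) :=
        isZero_restrict_of_stalks _ W (fun y hy => by
          by_contra hns
          exact hy (hsupp i hi hns))
      have hz : IsZero ((Scheme.Modules.restrictFunctor W.ι).obj (DCoh.HD C' i)) := by
        refine IsZero.of_iso hzE ?_
        exact (HDRestrictIso C' W i).symm ≪≫
          ((DerivedCategory.homologyFunctor _ i).mapIso (@asIso _ _ _ _ _ hmor₂)).symm ≪≫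
          HDRestrictIso E W i
      exact subsingleton_stalk_of_isZero_restrict (DCoh.HD C' i) W hz x hxW
  obtain ⟨hiso', hepi'⟩ := isIso_epi_of_isZero_homology_cone _ hTr' m hC'
  refine ⟨(DCoh.Rpush U.ι).obj P, α', ?_, ?_, hiso', hepi'⟩
  · rw [isPerfect_iff_forall_perfAt]
    intro x
    by_cases hx : x ∈ U
    · have h1 : PerfAt ((DCoh.restrictD U.ι).obj ((DCoh.Rpush U.ι).obj P)) ⟨x, hx⟩ :=
        perfAt_of_iso ((RpushRestrictIso U.ι).app P).symm
          ((isPerfect_iff_forall_perfAt P).1 hP ⟨x, hx⟩)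
      exact perfAt_of_openImmersion U.ι _ ⟨x, hx⟩ h1
    · have hxW : x ∈ W := fun hxT => hx (hTU hxT)
      have h1 : PerfAt ((DCoh.restrictD W.ι).obj ((DCoh.Rpush U.ι).obj P)) ⟨x, hxW⟩ :=
        (isPerfect_iff_forall_perfAt _).1 (isPerfect_of_isZero _ hP'W) ⟨x, hxW⟩
      exact perfAt_of_openImmersion W.ι _ ⟨x, hxW⟩ h1
  · intro i x hx
    by_contra hxT
    exact hx (subsingleton_stalk_HD_of_isZero_restrictD _ W hP'W i x hxT)

end Main

end Groth.Agent.Helper9.OpenAdj5
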