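import Mathlib
import Groth.Prelude.Def_Coh
import Groth.Prelude.Def_CohTop
import Groth.Agent.Lib.Helper13.RpushShf
import Groth.Agent.Lib.Helper13.AffineVanish

/-!
# Stalks of higher direct images at points with an affine neighbourhood (helper9)

* `isZero_stalk_presheafToSheaf`: the stalk at `y` of the sheafification of a presheaf vanishing on
  a basis of the opens contained in a neighbourhood `V` of `y` is zero.
* `isZero_stalk_Rpush_of_affine_nbhd`: if `f` is affine over a neighbourhood of `y`, the stalks at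
  `y` of the higher direct images of a quasi-coherent module vanish.
-/

set_option autoImplicit false
set_option linter.unusedSectionVars false
universe u
open CategoryTheory CategoryTheory.Limits AlgebraicGeometry Opposite TopologicalSpace

namespace Groth.Agent.Helper9.FinFibre

theorem isZero_stalk_presheafToSheaf {Y : TopCat.{u}} (P : (Opens Y)ᵒᵖ ⥤ AddCommGrpCat.{u}) (y : Y)
    (V : Opens Y) (hy : y ∈ V) (B : Set (Opens Y)) (hB : Opens.IsBasis B)
    (h : ∀ W ∈ B, W ≤ V → Subsingleton (P.obj (op W))) :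
    IsZero (TopCat.Presheaf.stalk
      ((presheafToSheaf (Opens.grothendieckTopology Y) AddCommGrpCat.{u}).obj P).obj y) := by
  obtain ⟨Q, hQ⟩ : ∃ Q : (Opens Y)ᵒᵖ ⥤ AddCommGrpCat.{u},
      Q = ((presheafToSheaf (Opens.grothendieckTopology Y) AddCommGrpCat.{u}).obj P).obj :=
    ⟨_, rfl⟩
  obtain ⟨η, hη⟩ : ∃ η : P ⟶ ((presheafToSheaf (Opens.grothendieckTopology Y)
      AddCommGrpCat.{u}).obj P).obj, η = CategoryTheory.toSheafify _ P := ⟨_, rfl⟩
  have hls : Presheaf.IsLocallySurjective (Opens.grothendieckTopology Y) η := by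
    rw [hη]; infer_instance
  have key : ∀ g : ToType (TopCat.Presheaf.stalk
      ((presheafToSheaf (Opens.grothendieckTopology Y) AddCommGrpCat.{u}).obj P).obj y),
      g = 0 := by
    intro g
    obtain ⟨W₀, hyW₀, s, rfl⟩ := TopCat.Presheaf.exists_germ_eq _ g
    have hmem := Presheaf.imageSieve_mem (Opens.grothendieckTopology Y) η s
    obtain ⟨W₁, i₁, hi₁, hyW₁⟩ := hmem y hyW₀
    obtain ⟨t, ht⟩ := hi₁
    obtain ⟨W₂, hW₂B, hyW₂, hW₂le⟩ :=
      Opens.isBasis_iff_nbhd.1 hB (show y ∈ W₁ ⊓ V from ⟨hyW₁, hy⟩)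
    have hW₂₁ : W₂ ≤ W₁ := hW₂le.trans inf_le_left
    haveI := h W₂ hW₂B (hW₂le.trans inf_le_right)
    have ht0 : P.map (homOfLE hW₂₁).op t = 0 := Subsingleton.elim _ _
    have hnat := congrArg (fun m => m.hom t) (η.naturality (homOfLE hW₂₁).op)
    simp only [AddCommGrpCat.hom_comp, AddMonoidHom.coe_comp, Function.comp_apply] at hnat
    rw [← TopCat.Presheaf.germ_res_apply _ i₁ y hyW₁ s,
      ← TopCat.Presheaf.germ_res_apply _ (homOfLE hW₂₁) y hyW₂]
    have hs0 : (((presheafToSheaf (Opens.grothendieckTopology Y) AddCommGrpCat.{u}).obj P).obj.map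
        (homOfLE hW₂₁).op) ((((presheafToSheaf (Opens.grothendieckTopology Y)
          AddCommGrpCat.{u}).obj P).obj.map i₁.op) s) = 0 := by
      rw [← ht]
      refine hnat.symm.trans ?_
      have : (P.map (homOfLE hW₂₁).op).hom t = 0 := ht0
      rw [this, map_zero]
    rw [hs0, map_zero]
  exact @AddCommGrpCat.isZero_of_subsingleton _ ⟨fun a b => (key a).trans (key b).symm⟩

theorem isAffineOpen_preimage_of_le {X Y : Scheme.{u}} (f : X ⟶ Y) (V : Y.Opens)
    [IsAffineHom (f ∣_ V)] (W : Y.Opens) (hW : IsAffineOpen W) (hWV : W ≤ V) :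
    IsAffineOpen (f ⁻¹ᵁ W) := by
  have h1 : IsAffineOpen (V.ι ⁻¹ᵁ W) := by
    rw [← Scheme.Hom.isAffineOpen_iff_of_isOpenImmersion V.ι,
      Scheme.Hom.image_preimage_eq_opensRange_inf, Scheme.Opens.opensRange_ι, inf_eq_right.2 hWV]
    exact hW
  have h2 : IsAffineOpen ((f ∣_ V) ⁻¹ᵁ (V.ι ⁻¹ᵁ W)) := h1.preimage (f ∣_ V)
  have h3 : (f ⁻¹ᵁ V).ι ''ᵁ ((f ∣_ V) ⁻¹ᵁ (V.ι ⁻¹ᵁ W)) = f ⁻¹ᵁ W := by
    rw [← Scheme.Hom.comp_preimage, morphismRestrict_ι, Scheme.Hom.comp_preimage,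
      Scheme.Hom.image_preimage_eq_opensRange_inf, Scheme.Opens.opensRange_ι]
    exact inf_eq_right.2 (f.preimage_mono hWV)
  rw [← h3]
  exact h2.image_of_isOpenImmersion _

theorem isZero_stalk_Rpush_of_affine_nbhd {X Y : Scheme.{u}} (f : X ⟶ Y) (y : Y) (V : Y.Opens)
    (hy : y ∈ V) [IsAffineHom (f ∣_ V)] (M : X.Modules) [M.IsQuasicoherent] (p : ℕ) (hp : 0 < p) :
    IsZero (TopCat.Presheaf.stalk ((Coh.RpushAb f p).obj (Coh.toAb M)).obj y) := by
  obtain ⟨e⟩ := Groth.Agent.Helper13.RpushShf.main (Opens.grothendieckTopology X)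
    (Opens.grothendieckTopology Y) (TopologicalSpace.Opens.map f.base) (Coh.toAb M) p
  obtain ⟨q, rfl⟩ : ∃ q, p = q + 1 := ⟨p - 1, by omega⟩
  refine IsZero.of_iso ?_ ((TopCat.Presheaf.stalkFunctor AddCommGrpCat.{u} y).mapIso
    ((sheafToPresheaf _ _).mapIso e))
  refine isZero_stalk_presheafToSheaf (Y := Y.toTopCat) _ y V hy {U | IsAffineOpen U}
    Y.isBasis_affineOpens ?_
  intro W hW hWV
  exact Groth.Agent.Helper13.AffineVanish.HU_subsingleton_of_isAffineOpen M (f ⁻¹ᵁ W)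
    (isAffineOpen_preimage_of_le f V W hW hWV) q

end Groth.Agent.Helper9.FinFibre
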