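import Mathlib
import Groth.Agent.Lib.Helper9.AdicLift
import Groth.Agent.Lib.Helper14.PerfectSmooth

/-!
# Uniqueness of coefficient fields (EGA 0_IV 21.x)

A complete Noetherian local ring with non-zero maximal ideal and a coefficient field `u : K → C`
has `u` as its only coefficient field iff `Ω_{K/ℤ} = 0`.
-/

set_option autoImplicit false
set_option linter.unusedSectionVars false
set_option linter.style.haveILetI false

universe u

open IsLocalRing

namespace Groth.Agent.Helper9.CoeffField

section PrimeField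

variable {K : Type u} [Field K]

lemma der_eq_zero_of_mem_bot (D : Derivation ℤ K K) (x : K) (hx : x ∈ (⊥ : Subfield K)) :
    D x = 0 := by
  rw [← Subfield.closure_empty] at hx
  induction hx using Subfield.closure_induction with
  | mem x hx => exact absurd hx (Set.notMem_empty x)
  | one => exact D.map_one_eq_zero
  | add x y _ _ hx hy => rw [map_add, hx, hy, add_zero]
  | neg x _ hx => rw [map_neg, hx, neg_zero]
  | inv x _ hx => rw [Derivation.leibniz_inv, hx, smul_zero]
  | mul x y _ _ hx hy => rw [Derivation.leibniz, hx, hy, smul_zero, smul_zero, add_zero]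

lemma pow_eq_self_of_mem_bot (p : ℕ) [Fact p.Prime] [CharP K p] (x : K)
    (hx : x ∈ (⊥ : Subfield K)) : x ^ p = x := by
  have h : (⊥ : Subfield K) ≤ RingHom.eqLocusField (frobenius K p) (RingHom.id K) := bot_le
  exact h hx

/-- Every field is formally smooth over its prime field. -/
theorem formallySmooth_bot : Algebra.FormallySmooth (⊥ : Subfield K) K := by
  obtain ⟨p, hp⟩ := CharP.exists K
  rcases CharP.char_is_prime_or_zero K p with hpp | rfl
  · haveI := Fact.mk hpp
    haveI : CharP (⊥ : Subfield K) p :=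
      (RingHom.charP_iff (algebraMap (⊥ : Subfield K) K)
        (algebraMap (⊥ : Subfield K) K).injective p).mpr hp
    haveI : ExpChar (⊥ : Subfield K) p := ExpChar.prime hpp
    haveI : PerfectRing (⊥ : Subfield K) p := by
      apply PerfectRing.ofSurjective
      intro x
      refine ⟨x, Subtype.ext ?_⟩
      change ((x : K)) ^ p = x
      exact pow_eq_self_of_mem_bot (K := K) p (x : K) x.2
    exact Groth.Agent.Helper14.PerfectSmooth.formallySmooth_of_perfect p (⊥ : Subfield K) K
  · haveI := CharP.charP_to_charZero K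
    haveI : CharZero (⊥ : Subfield K) := (algebraMap (⊥ : Subfield K) K).charZero
    exact Groth.Agent.Helper14.PerfectSmooth.formallySmooth_of_charZero (⊥ : Subfield K) K

end PrimeField

section Main

attribute [-instance] IsLocalRing.ResidueField.algebra

variable {C : Type u} [CommRing C] [IsLocalRing C] [IsNoetherianRing C]

lemma exists_notMem_sq (hm : maximalIdeal C ≠ ⊥) : ∃ t ∈ maximalIdeal C, t ∉ maximalIdeal C ^ 2 := by
  by_contra hcon
  push Not at hcon
  apply hm
  apply Submodule.eq_bot_of_le_smul_of_le_jacobson_bot (maximalIdeal C) (maximalIdeal C)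
    (IsNoetherian.noetherian _)
  · intro x hx
    rw [smul_eq_mul, ← pow_two]
    exact hcon x hx
  · exact IsLocalRing.maximalIdeal_le_jacobson _

/-- If `Ω_{K/ℤ} = 0`, the coefficient field is unique. -/
theorem section_unique [Subsingleton (Ω[ResidueField C⁄ℤ])] (u v : ResidueField C →+* C)
    (hu : ∀ x, residue C (u x) = x) (hv : ∀ x, residue C (v x) = x) : v = u := by
  haveI : Algebra.FormallyUnramified ℤ (ResidueField C) := ⟨inferInstance⟩
  have h := Algebra.FormallyUnramified.ext_of_iInf (R := ℤ) (I := maximalIdeal C)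
    (Ideal.iInf_pow_eq_bot_of_isLocalRing _ (IsLocalRing.maximalIdeal.isMaximal C).ne_top)
    (g₁ := v.toIntAlgHom) (g₂ := u.toIntAlgHom) (fun x => (hv x).trans (hu x).symm)
  ext x
  exact congrArg (fun g : ResidueField C →ₐ[ℤ] C => g x) h

/-- If `Ω_{K/ℤ} ≠ 0` and `𝔪 ≠ 0`, there is a second coefficient field. -/
theorem exists_other_section [IsAdicComplete (maximalIdeal C) C] (hm : maximalIdeal C ≠ ⊥)
    (u : ResidueField C →+* C) (hu : ∀ x, residue C (u x) = x)
    (hΩ : ¬ Subsingleton (Ω[ResidueField C⁄ℤ])) :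
    ∃ v : ResidueField C →+* C, (∀ x, residue C (v x) = x) ∧ v ≠ u := by
  classical
  obtain ⟨t, ht, ht2⟩ := exists_notMem_sq hm
  -- a nonzero derivation
  rw [not_subsingleton_iff_nontrivial] at hΩ
  obtain ⟨ω, hω⟩ := exists_ne (0 : Ω[ResidueField C⁄ℤ])
  obtain ⟨φ, hφ⟩ := Module.Projective.exists_dual_ne_zero (ResidueField C) hω
  let D₀ : Derivation ℤ (ResidueField C) (ResidueField C) :=
    φ.compDer (KaehlerDifferential.D ℤ (ResidueField C))
  have hD₀ : ∃ a, D₀ a ≠ 0 := by
    by_contra hcon
    push Not at hcon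
    apply hφ
    have hle : (⊤ : Submodule (ResidueField C) (Ω[ResidueField C⁄ℤ])) ≤ LinearMap.ker φ := by
      rw [← KaehlerDifferential.span_range_derivation, Submodule.span_le]
      rintro _ ⟨a, rfl⟩
      exact LinearMap.mem_ker.mpr (hcon a)
    exact hle Submodule.mem_top
  obtain ⟨a, ha⟩ := hD₀
  -- the prime field
  letI : Algebra (⊥ : Subfield (ResidueField C)) C :=
    (u.comp (algebraMap (⊥ : Subfield (ResidueField C)) (ResidueField C))).toAlgebra
  have halg : ∀ r : (⊥ : Subfield (ResidueField C)),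
      algebraMap (⊥ : Subfield (ResidueField C)) C r = u (r : ResidueField C) := fun r => rfl
  haveI : Algebra.FormallySmooth (⊥ : Subfield (ResidueField C)) (ResidueField C) :=
    formallySmooth_bot
  -- the map modulo 𝔪²
  have h_one : Ideal.Quotient.mk (maximalIdeal C ^ 2) (u 1 + u (D₀ 1) * t) = 1 := by
    rw [D₀.map_one_eq_zero, map_zero, zero_mul, add_zero, map_one, map_one]
  have h_mul : ∀ x y, Ideal.Quotient.mk (maximalIdeal C ^ 2) (u (x * y) + u (D₀ (x * y)) * t) =
      Ideal.Quotient.mk (maximalIdeal C ^ 2) (u x + u (D₀ x) * t) *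
        Ideal.Quotient.mk (maximalIdeal C ^ 2) (u y + u (D₀ y) * t) := by
    intro x y
    rw [← map_mul, Ideal.Quotient.eq, Derivation.leibniz, smul_eq_mul, smul_eq_mul]
    have : u (x * y) + u (x * D₀ y + y * D₀ x) * t -
        (u x + u (D₀ x) * t) * (u y + u (D₀ y) * t) = -(u (D₀ x) * u (D₀ y)) * (t * t) := by
      simp only [map_mul, map_add]
      ring
    rw [this, pow_two]
    exact Ideal.mul_mem_left _ _ (Ideal.mul_mem_mul ht ht)
  have h_zero : Ideal.Quotient.mk (maximalIdeal C ^ 2) (u 0 + u (D₀ 0) * t) = 0 := by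
    rw [map_zero, map_zero, map_zero, zero_mul, add_zero, map_zero]
  have h_add : ∀ x y, Ideal.Quotient.mk (maximalIdeal C ^ 2) (u (x + y) + u (D₀ (x + y)) * t) =
      Ideal.Quotient.mk (maximalIdeal C ^ 2) (u x + u (D₀ x) * t) +
        Ideal.Quotient.mk (maximalIdeal C ^ 2) (u y + u (D₀ y) * t) := by
    intro x y
    rw [← map_add]
    congr 1
    simp only [map_add]
    ring
  have h_comm : ∀ r : (⊥ : Subfield (ResidueField C)),
      Ideal.Quotient.mk (maximalIdeal C ^ 2)
        (u (algebraMap _ (ResidueField C) r) +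
          u (D₀ (algebraMap _ (ResidueField C) r)) * t) =
      algebraMap (⊥ : Subfield (ResidueField C)) (C ⧸ maximalIdeal C ^ 2) r := by
    intro r
    have h0 : D₀ (algebraMap (⊥ : Subfield (ResidueField C)) (ResidueField C) r) = 0 :=
      der_eq_zero_of_mem_bot D₀ _ r.2
    rw [h0, map_zero, zero_mul, add_zero]
    rfl
  let v₂ : ResidueField C →ₐ[(⊥ : Subfield (ResidueField C))] C ⧸ maximalIdeal C ^ 2 :=
    { toFun := fun x => Ideal.Quotient.mk (maximalIdeal C ^ 2) (u x + u (D₀ x) * t)
      map_one' := h_one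
      map_mul' := h_mul
      map_zero' := h_zero
      map_add' := h_add
      commutes' := h_comm }
  have hv₂ : ∀ x, v₂ x = Ideal.Quotient.mk (maximalIdeal C ^ 2) (u x + u (D₀ x) * t) :=
    fun _ => rfl
  haveI : IsHausdorff ((maximalIdeal C).map (Ideal.Quotient.mk (maximalIdeal C ^ 2)))
      (C ⧸ maximalIdeal C ^ 2) :=
    (IsHausdorff.map_algebraMap_iff (R := C) (S := C ⧸ maximalIdeal C ^ 2)
      (M := C ⧸ maximalIdeal C ^ 2) (I := maximalIdeal C)).mpr inferInstance
  obtain ⟨v, -, hv⟩ := Groth.Agent.Helper9.AdicLift.exists_lift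
    (⊥ : Ideal (⊥ : Subfield (ResidueField C))) (⊥ : Ideal (ResidueField C)) (maximalIdeal C)
    (maximalIdeal C ^ 2)
    (fun C _ _ J hJ _ u _ => Algebra.FormallySmooth.exists_lift J hJ u)
    ⟨1, by rw [pow_one, Ideal.map_bot]; exact bot_le⟩
    ⟨1, by rw [pow_one]; exact Ideal.pow_le_self two_ne_zero⟩ v₂
    ⟨1, by rw [pow_one, Ideal.map_bot]; exact bot_le⟩
  have hvx : ∀ x, v x - (u x + u (D₀ x) * t) ∈ maximalIdeal C ^ 2 := by
    intro x
    rw [← Ideal.Quotient.eq, ← hv₂, ← hv]
    rfl
  refine ⟨v.toRingHom, fun x => ?_, fun hvu => ?_⟩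
  · have h1 : v x - (u x + u (D₀ x) * t) ∈ maximalIdeal C :=
      Ideal.pow_le_self two_ne_zero (hvx x)
    rw [← IsLocalRing.residue_eq_zero_iff, map_sub, map_add, map_mul,
      (IsLocalRing.residue_eq_zero_iff t).mpr ht, mul_zero, add_zero, hu, sub_eq_zero] at h1
    exact h1
  · apply ht2
    have h1 := hvx a
    have h2 : v a = u a := congrArg (fun g : ResidueField C →+* C => g a) hvu
    rw [h2] at h1
    have h3 : u a - (u a + u (D₀ a) * t) = -(u (D₀ a) * t) := by ring
    rw [h3, neg_mem_iff] at h1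
    have hunit : IsUnit (u (D₀ a)) := by
      rw [← IsLocalRing.notMem_maximalIdeal, ← IsLocalRing.residue_eq_zero_iff, hu]
      exact ha
    exact (Ideal.unit_mul_mem_iff_mem _ hunit).mp h1

end Main

end Groth.Agent.Helper9.CoeffField
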