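import Mathlib
import Groth.Prelude.Def_EGA41
import Groth.Prelude.Def_CAlgX
import Groth.Agent.Lib.Helper9.CoeffField

/-!
# Coefficient fields and the injectivity of `𝔪/𝔪² → K ⊗ Ω_{A/ℤ}`
-/

set_option autoImplicit false
set_option linter.unusedSectionVars false
set_option linter.style.haveILetI false

universe u v

namespace Groth.Agent.Helper9.RankOmega

open IsLocalRing TensorProduct KaehlerDifferential

section Bot

/-- Every field extension of `k` is formally smooth over the prime field of `k`. -/
theorem formallySmooth_bot' (k K : Type u) [Field k] [Field K] [Algebra k K] :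
    Algebra.FormallySmooth (⊥ : Subfield k) K := by
  obtain ⟨p, hp⟩ := CharP.exists k
  rcases CharP.char_is_prime_or_zero k p with hpp | rfl
  · haveI := Fact.mk hpp
    haveI : CharP (⊥ : Subfield k) p :=
      (RingHom.charP_iff (algebraMap (⊥ : Subfield k) k)
        (algebraMap (⊥ : Subfield k) k).injective p).mpr hp
    haveI : ExpChar (⊥ : Subfield k) p := ExpChar.prime hpp
    haveI : PerfectRing (⊥ : Subfield k) p := by
      apply PerfectRing.ofSurjective
      intro x
      refine ⟨x, Subtype.ext ?_⟩
      change ((x : k)) ^ p = x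
      exact CoeffField.pow_eq_self_of_mem_bot (K := k) p (x : k) x.2
    exact Groth.Agent.Helper14.PerfectSmooth.formallySmooth_of_perfect p (⊥ : Subfield k) K
  · haveI := CharP.charP_to_charZero k
    haveI : CharZero (⊥ : Subfield k) := (algebraMap (⊥ : Subfield k) k).charZero
    exact Groth.Agent.Helper14.PerfectSmooth.formallySmooth_of_charZero (⊥ : Subfield k) K

end Bot

section Coeff

/-- A complete local ring containing a field has a coefficient field. -/
theorem exists_section (k₀ A : Type u) [Field k₀] [CommRing A] [IsLocalRing A]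
    [IsNoetherianRing A] [Algebra k₀ A] [IsAdicComplete (maximalIdeal A) A] :
    ∃ s : ResidueField A →+* A, ∀ x, residue A (s x) = x := by
  haveI : Algebra.FormallySmooth (⊥ : Subfield k₀) (ResidueField A) :=
    formallySmooth_bot' k₀ (ResidueField A)
  have hB : EGA41.IsFormallySmoothAdic (⊥ : Subfield k₀) ⊥ (ResidueField A) ⊥ := by
    intro C _ _ J hJ _ u _
    exact Algebra.FormallySmooth.exists_lift J hJ u
  haveI : IsHausdorff ((maximalIdeal A).map (Ideal.Quotient.mk (maximalIdeal A)))
      (A ⧸ maximalIdeal A) := by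
    rw [Ideal.map_quotient_self]
    infer_instance
  let u : ResidueField A →ₐ[(⊥ : Subfield k₀)] A ⧸ maximalIdeal A :=
    AlgHom.id (⊥ : Subfield k₀) (ResidueField A)
  obtain ⟨v, -, hv⟩ := AdicLift.exists_lift (A := (⊥ : Subfield k₀)) (𝔞 := ⊥)
    (B := ResidueField A) (𝔟 := ⊥) (C := A) (𝔠 := maximalIdeal A) (J := maximalIdeal A) hB
    ⟨1, by rw [pow_one, Ideal.map_bot]; exact bot_le⟩ ⟨1, by rw [pow_one]⟩ u
    ⟨1, by rw [pow_one, Ideal.map_bot]; exact bot_le⟩
  refine ⟨v.toRingHom, fun x => ?_⟩
  exact AlgHom.congr_fun hv x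

end Coeff

end Groth.Agent.Helper9.RankOmega
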