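import Mathlib
import Groth.Prelude.Def_EGA41
import Groth.Prelude.Def_CAlgX
import Groth.Agent.Lib.Helper9.RankOmega3

/-!
# The conormal map `𝔪/𝔪² → K ⊗ Ω_{A/ℤ}` is injective when `A` has a coefficient field
-/

set_option autoImplicit false
set_option linter.unusedSectionVars false
set_option linter.style.haveILetI false

universe u v

namespace Groth.Agent.Helper9.RankOmega

open IsLocalRing TensorProduct KaehlerDifferential

section Retract

variable {A : Type u} [CommRing A] [IsLocalRing A] (s : ResidueField A →+* A)
  (hs : ∀ x, residue A (s x) = x)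

include hs in
lemma sub_mem (a : A) : a - s (residue A a) ∈ maximalIdeal A := by
  rw [← residue_eq_zero_iff, map_sub, hs, sub_self]

/-- The additive map `a ↦ a - s(ā)` into the cotangent space. -/
noncomputable def derAdd : A →+ CotangentSpace A where
  toFun a := (maximalIdeal A).toCotangent ⟨a - s (residue A a), sub_mem s hs a⟩
  map_zero' := by
    have : (⟨0 - s (residue A 0), sub_mem s hs 0⟩ : maximalIdeal A) = 0 :=
      Subtype.ext (by simp)
    rw [this, map_zero]
  map_add' a b := by
    rw [← map_add]
    congr 1
    apply Subtype.ext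
    simp only [map_add, Submodule.coe_add]
    ring

lemma derAdd_apply (a : A) :
    derAdd s hs a = (maximalIdeal A).toCotangent ⟨a - s (residue A a), sub_mem s hs a⟩ := rfl

/-- The derivation `A → 𝔪/𝔪²` attached to a coefficient field. -/
noncomputable def der : Derivation ℤ A (CotangentSpace A) :=
  Derivation.mk' (derAdd s hs).toIntLinearMap (by
    intro a b
    change derAdd s hs (a * b) = a • derAdd s hs b + b • derAdd s hs a
    rw [derAdd_apply, derAdd_apply, derAdd_apply, ← map_smul, ← map_smul, ← map_add,
      Ideal.toCotangent_eq]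
    rw [Submodule.coe_add, Submodule.coe_smul, Submodule.coe_smul]
    have h : a * b - s (residue A (a * b)) -
        (a • (b - s (residue A b)) + b • (a - s (residue A a))) =
        -((a - s (residue A a)) * (b - s (residue A b))) := by
      simp only [map_mul, smul_eq_mul]
      ring
    change a * b - s (residue A (a * b)) -
        (a • (b - s (residue A b)) + b • (a - s (residue A a))) ∈ _
    rw [h, pow_two]
    exact neg_mem (Ideal.mul_mem_mul (sub_mem s hs a) (sub_mem s hs b)))

lemma der_apply (a : A) :
    der s hs a = (maximalIdeal A).toCotangent ⟨a - s (residue A a), sub_mem s hs a⟩ := rfl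

lemma der_of_mem (x : maximalIdeal A) : der s hs (x : A) = (maximalIdeal A).toCotangent x := by
  rw [der_apply]
  congr 1
  apply Subtype.ext
  change (x : A) - s (residue A (x : A)) = x
  rw [(residue_eq_zero_iff _).mpr x.2, map_zero, sub_zero]

/-- The retraction `K ⊗ Ω_{A/ℤ} → 𝔪/𝔪²`. -/
noncomputable def retr : ResidueField A ⊗[A] Ω[A⁄ℤ] →ₗ[ResidueField A] CotangentSpace A :=
  LinearMap.liftBaseChange (ResidueField A) (der s hs).liftKaehlerDifferential

lemma retr_one_tmul_D (a : A) :
    retr s hs ((1 : ResidueField A) ⊗ₜ[A] D ℤ A a) = der s hs a := by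
  unfold retr
  rw [LinearMap.liftBaseChange_tmul, one_smul, Derivation.liftKaehlerDifferential_comp_D]

end Retract

section Gamma

variable (A : Type u) [CommRing A] [IsLocalRing A]

lemma maximalIdeal_le_ker :
    maximalIdeal A ≤ (RingHom.ker (algebraMap A (ResidueField A))).comap (AlgHom.id A A) := by
  intro x hx
  rw [Ideal.mem_comap, RingHom.mem_ker]
  exact (residue_eq_zero_iff _).mpr hx

/-- The conormal map on the cotangent space. -/
noncomputable def gammaA : CotangentSpace A →ₗ[A] ResidueField A ⊗[A] Ω[A⁄ℤ] :=
  (kerCotangentToTensor ℤ A (ResidueField A)) ∘ₗ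
    Ideal.mapCotangent (maximalIdeal A) (RingHom.ker (algebraMap A (ResidueField A)))
      (AlgHom.id A A) (maximalIdeal_le_ker A)

lemma gammaA_toCotangent (x : maximalIdeal A) :
    gammaA A ((maximalIdeal A).toCotangent x) = (1 : ResidueField A) ⊗ₜ[A] D ℤ A (x : A) := by
  unfold gammaA
  rw [LinearMap.comp_apply, Ideal.mapCotangent_toCotangent, kerCotangentToTensor_toCotangent]
  rfl

/-- The conormal map as a `K`-linear map. -/
noncomputable def gamma : CotangentSpace A →ₗ[ResidueField A] ResidueField A ⊗[A] Ω[A⁄ℤ] :=
  (gammaA A).extendScalarsOfSurjective residue_surjective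

lemma gamma_toCotangent (x : maximalIdeal A) :
    gamma A ((maximalIdeal A).toCotangent x) = (1 : ResidueField A) ⊗ₜ[A] D ℤ A (x : A) :=
  gammaA_toCotangent A x

lemma range_gamma : LinearMap.range (gamma A) =
    LinearMap.ker (mapBaseChange ℤ A (ResidueField A)) := by
  have h1 := KaehlerDifferential.range_kerCotangentToTensor ℤ A (ResidueField A)
    residue_surjective
  ext z
  have h2 : z ∈ LinearMap.ker (mapBaseChange ℤ A (ResidueField A)) ↔
      z ∈ LinearMap.range (kerCotangentToTensor ℤ A (ResidueField A)) := by
    rw [h1, Submodule.restrictScalars_mem]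
  rw [h2]
  constructor
  · rintro ⟨y, rfl⟩
    obtain ⟨x, rfl⟩ := Ideal.toCotangent_surjective _ y
    rw [gamma_toCotangent]
    exact ⟨Ideal.toCotangent _ ⟨(x : A), maximalIdeal_le_ker A x.2⟩, rfl⟩
  · rintro ⟨y, rfl⟩
    obtain ⟨x, rfl⟩ := Ideal.toCotangent_surjective _ y
    have hx : (x : A) ∈ maximalIdeal A := by
      rw [← residue_eq_zero_iff]
      exact RingHom.mem_ker.mp x.2
    refine ⟨(maximalIdeal A).toCotangent ⟨(x : A), hx⟩, ?_⟩
    rw [gamma_toCotangent, kerCotangentToTensor_toCotangent]

variable {A} in
lemma gamma_injective (s : ResidueField A →+* A) (hs : ∀ x, residue A (s x) = x) :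
    Function.Injective (gamma A) := by
  apply Function.LeftInverse.injective (g := retr s hs)
  intro y
  obtain ⟨x, rfl⟩ := Ideal.toCotangent_surjective _ y
  rw [gamma_toCotangent, retr_one_tmul_D, der_of_mem]

end Gamma

end Groth.Agent.Helper9.RankOmega
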