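import Mathlib
import Groth.Prelude.Def_W4ega4s0809p4Pair

/-!
# Ind-constructibility of "there is a morphism with property `Q` after a field extension" (helper9)

Part 1: base change of the data, field stability, and the locus lemma.
-/

set_option autoImplicit false
universe u
open CategoryTheory CategoryTheory.Limits AlgebraicGeometry

namespace Groth.Agent.Helper9.ConsPair

/-- the relation "after some field extension there is a morphism with property `Q` between the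
base changes" -/
abbrev PQ (Q : ∀ ⦃X Y : Scheme.{u}⦄, (X ⟶ Y) → Prop) :
    ∀ ⦃X Y T : Scheme.{u}⦄, (X ⟶ T) → (Y ⟶ T) → Prop :=
  fun X Y T gX gY => ∃ (T' X' Y' : Scheme.{u}) (h : T' ⟶ T) (gX' : X' ⟶ T') (gY' : Y' ⟶ T')
    (eX : X' ⟶ X) (eY : Y' ⟶ Y), IsIntegral T' ∧ Subsingleton ↥T' ∧
      IsPullback eX gX' gX h ∧ IsPullback eY gY' gY h ∧
        ∃ g : X' ⟶ Y', g ≫ gY' = gX' ∧ Q g

/-- stability under base change -/
def BCStable (Q : ∀ ⦃X Y : Scheme.{u}⦄, (X ⟶ Y) → Prop) : Prop :=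
  ∀ ⦃A B A' B' : Scheme.{u}⦄ (f : A ⟶ B) (f' : A' ⟶ B') (a : A' ⟶ A) (b : B' ⟶ B),
    IsPullback a f' f b → Q f → Q f'

theorem BCStable.of_morphismProperty (P : MorphismProperty Scheme.{u}) [P.IsStableUnderBaseChange] :
    BCStable (fun _ _ f => P f) :=
  fun _ _ _ _ _ _ _ _ sq hf => MorphismProperty.of_isPullback (P := P) sq hf

variable {Q : ∀ ⦃X Y : Scheme.{u}⦄, (X ⟶ Y) → Prop}

/-- transporting a base change `X₂ = XW ×_W T₂` of `XW = X ×_B W` to a base change of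
`X' = X ×_B T'` along `t' : T₂ ⟶ T'`. -/
theorem bc_one {X B W T' T₂ XW X' X₂ : Scheme.{u}} {u : X ⟶ B} {σ : W ⟶ B} {pX : XW ⟶ X}
    {uW : XW ⟶ W} (hXW : IsPullback pX uW u σ) {a : X₂ ⟶ XW} {gX₂ : X₂ ⟶ T₂} {t : T₂ ⟶ W}
    (hX₂ : IsPullback a gX₂ uW t) {eX : X' ⟶ X} {gX' : X' ⟶ T'} {h : T' ⟶ B}
    (hX' : IsPullback eX gX' u h) (t' : T₂ ⟶ T') (ht : t ≫ σ = t' ≫ h) :
    ∃ eX₂ : X₂ ⟶ X', IsPullback eX₂ gX₂ gX' t' := by
  have big : IsPullback (a ≫ pX) gX₂ u (t ≫ σ) := hX₂.paste_horiz hXW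
  rw [ht] at big
  have w : (a ≫ pX) ≫ u = (gX₂ ≫ t') ≫ h := by simpa using big.w
  refine ⟨hX'.lift (a ≫ pX) (gX₂ ≫ t') w,
    IsPullback.of_right ?_ (hX'.lift_snd _ _ _) hX'⟩
  rw [hX'.lift_fst]
  exact big

/-- base change of the whole datum `(XW, YW, gW)` over `W` to `T₂`, compared with the base
changes over `T'`. -/
theorem bc_main (hbc : BCStable Q) {X Y B W T' T₂ XW YW X' Y' : Scheme.{u}} {u : X ⟶ B}
    {v : Y ⟶ B} {σ : W ⟶ B}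
    {pX : XW ⟶ X} {uW : XW ⟶ W} (hXW : IsPullback pX uW u σ)
    {pY : YW ⟶ Y} {vW : YW ⟶ W} (hYW : IsPullback pY vW v σ)
    (gW : XW ⟶ YW) (hgW : gW ≫ vW = uW) (hQ : Q gW)
    {eX : X' ⟶ X} {gX' : X' ⟶ T'} {h : T' ⟶ B} (hX' : IsPullback eX gX' u h)
    {eY : Y' ⟶ Y} {gY' : Y' ⟶ T'} (hY' : IsPullback eY gY' v h)
    (t : T₂ ⟶ W) (t' : T₂ ⟶ T') (ht : t ≫ σ = t' ≫ h) :
    ∃ (X₂ Y₂ : Scheme.{u}) (gX₂ : X₂ ⟶ T₂) (gY₂ : Y₂ ⟶ T₂) (eX₂ : X₂ ⟶ X') (eY₂ : Y₂ ⟶ Y'),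
      IsPullback eX₂ gX₂ gX' t' ∧ IsPullback eY₂ gY₂ gY' t' ∧
        ∃ g₂ : X₂ ⟶ Y₂, g₂ ≫ gY₂ = gX₂ ∧ Q g₂ := by
  have hY₂ : IsPullback (pullback.fst vW t) (pullback.snd vW t) vW t :=
    IsPullback.of_hasPullback vW t
  have hsq : IsPullback (pullback.fst gW (pullback.fst vW t)) (pullback.snd gW (pullback.fst vW t))
      gW (pullback.fst vW t) := IsPullback.of_hasPullback _ _
  have hX₂ : IsPullback (pullback.fst gW (pullback.fst vW t))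
      (pullback.snd gW (pullback.fst vW t) ≫ pullback.snd vW t) uW t := by
    have := (hsq.flip.paste_horiz hY₂.flip).flip
    rwa [hgW] at this
  obtain ⟨eX₂, h1⟩ := bc_one hXW hX₂ hX' t' ht
  obtain ⟨eY₂, h2⟩ := bc_one hYW hY₂ hY' t' ht
  exact ⟨_, _, _, _, eX₂, eY₂, h1, h2, pullback.snd gW (pullback.fst vW t), rfl,
    hbc _ _ _ _ hsq hQ⟩

/-- the relation `PQ Q` is invariant under extension of the base field -/
theorem isFieldStablePair (hbc : BCStable Q) : ConsPropPair.IsFieldStablePair (PQ Q) := by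
  intro X X' Y Y' T T' gX gY gX' gY' eX eY h _ _ _ _ _ _ _ _ hX hY
  constructor
  · rintro ⟨T₁, X₁, Y₁, h₁, gX₁, gY₁, eX₁, eY₁, hT₁, hT₁', hX₁, hY₁, g₁, hg₁, hQ₁⟩
    haveI := hT₁
    obtain ⟨x₁⟩ : Nonempty T₁ := inferInstance
    obtain ⟨x'⟩ : Nonempty T' := inferInstance
    obtain ⟨z, -, -⟩ := Scheme.Pullback.exists_preimage_pullback (f := h₁) (g := h) x₁ x'
      (Subsingleton.elim _ _)
    obtain ⟨X₂, Y₂, gX₂, gY₂, eX₂, eY₂, h1, h2, g₂, hg₂, hQ₂⟩ :=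
      bc_main hbc hX₁ hY₁ g₁ hg₁ hQ₁ hX hY
        ((pullback h₁ h).fromSpecResidueField z ≫ pullback.fst h₁ h)
        ((pullback h₁ h).fromSpecResidueField z ≫ pullback.snd h₁ h)
        (by rw [Category.assoc, Category.assoc, pullback.condition])
    exact ⟨_, X₂, Y₂, _, gX₂, gY₂, eX₂, eY₂, inferInstance, inferInstance, h1, h2,
      g₂, hg₂, hQ₂⟩
  · rintro ⟨T₁, X₁, Y₁, h₁, gX₁, gY₁, eX₁, eY₁, hT₁, hT₁', hX₁, hY₁, g₁, hg₁, hQ₁⟩
    exact ⟨T₁, X₁, Y₁, h₁ ≫ h, gX₁, gY₁, eX₁ ≫ eX, eY₁ ≫ eY, hT₁, hT₁', hX₁.paste_horiz hX,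
      hY₁.paste_horiz hY, g₁, hg₁, hQ₁⟩

/-- if over `σ : W ⟶ S` the base changes of `X` and `Y` admit a morphism with property `Q`, then
the image of `σ` lies in the locus of `PQ Q`. -/
theorem range_subset_locusPair (hbc : BCStable Q) {X Y S W XW YW : Scheme.{u}} (u : X ⟶ S)
    (v : Y ⟶ S) {σ : W ⟶ S} {pX : XW ⟶ X} {uW : XW ⟶ W} (hXW : IsPullback pX uW u σ)
    {pY : YW ⟶ Y} {vW : YW ⟶ W} (hYW : IsPullback pY vW v σ)
    (gW : XW ⟶ YW) (hgW : gW ≫ vW = uW) (hQ : Q gW) :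
    Set.range σ ⊆ ConsPropPair.locusPair (PQ Q) u v := by
  rintro _ ⟨w, rfl⟩
  have hfX : IsPullback (u.fiberι (σ w)) (u.fiberToSpecResidueField (σ w)) u
      (S.fromSpecResidueField (σ w)) := IsPullback.of_hasPullback _ _
  have hfY : IsPullback (v.fiberι (σ w)) (v.fiberToSpecResidueField (σ w)) v
      (S.fromSpecResidueField (σ w)) := IsPullback.of_hasPullback _ _
  obtain ⟨X₂, Y₂, gX₂, gY₂, eX₂, eY₂, h1, h2, g₂, hg₂, hQ₂⟩ :=
    bc_main hbc hXW hYW gW hgW hQ hfX hfY (W.fromSpecResidueField w)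
      (Spec.map (σ.residueFieldMap w))
      (σ.SpecMap_residueFieldMap_fromSpecResidueField w).symm
  have key : PQ Q (u.fiberToSpecResidueField (σ w)) (v.fiberToSpecResidueField (σ w)) :=
    ⟨_, X₂, Y₂, _, gX₂, gY₂, eX₂, eY₂, inferInstance, inferInstance, h1, h2,
      g₂, hg₂, hQ₂⟩
  exact key

end Groth.Agent.Helper9.ConsPair
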