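import Mathlib
import Groth.Agent.Lib.Helper9.ConsPair1
import Groth.Agent.Lib.Helper4.LimHom
import Groth.Agent.Lib.Helper3.FGColim

/-!
# Ind-constructibility of "there is a morphism with property `Q` after a field extension" (helper9)

Part 2: descent of the datum to a stage of a cofiltered limit, and to a finitely generated
subalgebra of a field.
-/

set_option autoImplicit false
universe u
open CategoryTheory CategoryTheory.Limits AlgebraicGeometry

namespace Groth.Agent.Helper9.ConsPair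

/-- descent of the property `Q` to a stage of a cofiltered limit with affine transition maps
(in the shape of EGA IV 8.10.5). -/
def Desc (Q : ∀ ⦃X Y : Scheme.{u}⦄, (X ⟶ Y) → Prop) : Prop :=
  ∀ {I : Type u} [SmallCategory I] [IsCofiltered I]
    (D : I ⥤ Scheme.{u}) (c : Limits.Cone D) (_ : Limits.IsLimit c)
    [∀ (i j : I) (f : i ⟶ j), IsAffineHom (D.map f)] (i₀ : I) [CompactSpace (D.obj i₀)]
    [QuasiSeparatedSpace (D.obj i₀)] {X₀ Y₀ : Scheme.{u}} (f₀ : X₀ ⟶ Y₀) (g₀ : Y₀ ⟶ D.obj i₀)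
    [LocallyOfFinitePresentation g₀] [QuasiCompact g₀] [QuasiSeparated g₀]
    [LocallyOfFinitePresentation (f₀ ≫ g₀)] [QuasiCompact (f₀ ≫ g₀)] [QuasiSeparated (f₀ ≫ g₀)]
    {X Y : Scheme.{u}} (f : X ⟶ Y) (g : Y ⟶ c.pt) (qY : Y ⟶ Y₀) (qX : X ⟶ X₀)
    (_ : IsPullback qY g g₀ (c.π.app i₀)) (_ : IsPullback qX f f₀ qY), Q f →
    ∃ (i : I) (φ : i ⟶ i₀) (Xi Yi : Scheme.{u}) (fi : Xi ⟶ Yi) (gi : Yi ⟶ D.obj i) (pY : Yi ⟶ Y₀)
      (pX : Xi ⟶ X₀), IsPullback pY gi g₀ (D.map φ) ∧ IsPullback pX fi f₀ pY ∧ Q fi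

variable {Q : ∀ ⦃X Y : Scheme.{u}⦄, (X ⟶ Y) → Prop}

theorem exists_lift_isPullback {X S A B P : Scheme.{u}} {u : X ⟶ S} {a : A ⟶ B} {b : B ⟶ S}
    {c : A ⟶ S} {e : P ⟶ X} {p : P ⟶ A} (hP : IsPullback e p u c) (hc : a ≫ b = c) :
    ∃ q : P ⟶ pullback u b, q ≫ pullback.fst u b = e ∧ IsPullback q p (pullback.snd u b) a := by
  subst hc
  have w : e ≫ u = (p ≫ a) ≫ b := by simpa using hP.w
  refine ⟨pullback.lift e (p ≫ a) w, pullback.lift_fst _ _ _,
    IsPullback.of_right ?_ (pullback.lift_snd _ _ _) (IsPullback.of_hasPullback u b)⟩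
  rw [pullback.lift_fst]
  exact hP

set_option backward.isDefEq.respectTransparency false in
/-- a morphism with property `Q` between the base changes to the limit descends, with the
property, to a stage. -/
theorem descend (hdesc : Desc Q) {I : Type u} [SmallCategory I] [IsCofiltered I]
    (D : I ⥤ Scheme.{u}) [∀ {i j} (f : i ⟶ j), IsAffineHom (D.map f)] (c : Cone D)
    (hc : IsLimit c) (i : I) [CompactSpace (D.obj i)] [QuasiSeparatedSpace (D.obj i)]
    {Xi Yi : Scheme.{u}} (xi : Xi ⟶ D.obj i) (yi : Yi ⟶ D.obj i)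
    [LocallyOfFinitePresentation xi] [QuasiCompact xi] [QuasiSeparated xi]
    [LocallyOfFinitePresentation yi] [QuasiCompact yi] [QuasiSeparated yi]
    {X Y : Scheme.{u}} (qX : X ⟶ Xi) (pX : X ⟶ c.pt) (hX : IsPullback qX pX xi (c.π.app i))
    (qY : Y ⟶ Yi) (pY : Y ⟶ c.pt) (hY : IsPullback qY pY yi (c.π.app i))
    (f : X ⟶ Y) (hf : f ≫ pY = pX) (hQ : Q f) :
    ∃ (k : I) (κ : k ⟶ i) (Xk Yk : Scheme.{u}) (uk : Xk ⟶ D.obj k) (vk : Yk ⟶ D.obj k)
      (eX : Xk ⟶ Xi) (eY : Yk ⟶ Yi) (fk : Xk ⟶ Yk),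
      IsPullback eX uk xi (D.map κ) ∧ IsPullback eY vk yi (D.map κ) ∧ fk ≫ vk = uk ∧ Q fk := by
  haveI : CompactSpace Xi := QuasiCompact.compactSpace_of_compactSpace xi
  haveI : QuasiSeparatedSpace Xi := quasiSeparatedSpace_of_quasiSeparated xi
  obtain ⟨j, φ, fj, sX, sY, hfj, hsX1, hsX2, hsY1, hsY2, hsf⟩ :=
    Groth.Agent.Helper4.LimHom.exists_hom_descend D c hc i xi yi qX pX hX qY pY hY f hf
  have hcw : c.π.app j ≫ D.map φ = c.π.app i := c.w φ
  have hXj : IsPullback sX pX (pullback.snd xi (D.map φ)) (c.π.app j) := by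
    have big : IsPullback pX (sX ≫ pullback.fst xi (D.map φ)) (c.π.app j ≫ D.map φ) xi := by
      rw [hsX1, hcw]; exact hX.flip
    exact (IsPullback.of_bot big hsX2.symm (IsPullback.of_hasPullback xi (D.map φ)).flip).flip
  have hYj : IsPullback sY pY (pullback.snd yi (D.map φ)) (c.π.app j) := by
    have big : IsPullback pY (sY ≫ pullback.fst yi (D.map φ)) (c.π.app j ≫ D.map φ) yi := by
      rw [hsY1, hcw]; exact hY.flip
    exact (IsPullback.of_bot big hsY2.symm (IsPullback.of_hasPullback yi (D.map φ)).flip).flip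
  have hfsq : IsPullback sX f fj sY := by
    have big : IsPullback (f ≫ pY) sX (c.π.app j) (fj ≫ pullback.snd yi (D.map φ)) := by
      rw [hf, hfj]; exact hXj.flip
    exact (IsPullback.of_right big hsf.symm hYj.flip).flip
  haveI : CompactSpace (D.obj j) := QuasiCompact.compactSpace_of_compactSpace (D.map φ)
  haveI : QuasiSeparatedSpace (D.obj j) := quasiSeparatedSpace_of_quasiSeparated (D.map φ)
  haveI h1 : LocallyOfFinitePresentation (pullback.snd yi (D.map φ)) :=
    MorphismProperty.pullback_snd (P := @LocallyOfFinitePresentation) _ _ inferInstance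
  haveI h2 : QuasiCompact (pullback.snd yi (D.map φ)) :=
    MorphismProperty.pullback_snd (P := @QuasiCompact) _ _ inferInstance
  haveI h3 : QuasiSeparated (pullback.snd yi (D.map φ)) :=
    MorphismProperty.pullback_snd (P := @QuasiSeparated) _ _ inferInstance
  haveI h4 : LocallyOfFinitePresentation (fj ≫ pullback.snd yi (D.map φ)) := by
    rw [hfj]
    exact MorphismProperty.pullback_snd (P := @LocallyOfFinitePresentation) _ _ inferInstance
  haveI h5 : QuasiCompact (fj ≫ pullback.snd yi (D.map φ)) := by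
    rw [hfj]
    exact MorphismProperty.pullback_snd (P := @QuasiCompact) _ _ inferInstance
  haveI h6 : QuasiSeparated (fj ≫ pullback.snd yi (D.map φ)) := by
    rw [hfj]
    exact MorphismProperty.pullback_snd (P := @QuasiSeparated) _ _ inferInstance
  haveI : ∀ (i j : I) (f : i ⟶ j), IsAffineHom (D.map f) := fun _ _ f => inferInstance
  obtain ⟨k, ψ, Xk, Yk, fk, gk, pYk, pXk, hYk, hXk, hQk⟩ :=
    hdesc D c hc j fj (pullback.snd yi (D.map φ)) f pY sY sX hYj hfsq hQ
  have hXk' : IsPullback pXk (fk ≫ gk) (pullback.snd xi (D.map φ)) (D.map ψ) := by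
    have := hXk.paste_vert hYk
    rwa [hfj] at this
  refine ⟨k, ψ ≫ φ, Xk, Yk, fk ≫ gk, gk, pXk ≫ pullback.fst xi (D.map φ),
    pYk ≫ pullback.fst yi (D.map φ), fk, ?_, ?_, rfl, hQk⟩
  · have := hXk'.paste_horiz (IsPullback.of_hasPullback xi (D.map φ))
    rwa [← Functor.map_comp] at this
  · have := hYk.paste_horiz (IsPullback.of_hasPullback yi (D.map φ))
    rwa [← Functor.map_comp] at this

section affine

open Groth.Agent.Helper3.FGColim

variable {X Y S : Scheme.{u}} (u : X ⟶ S) (v : Y ⟶ S)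
  (R K : Type u) [CommRing R] [CommRing K] [Algebra R K] (r : Spec (CommRingCat.of R) ⟶ S)
  [LocallyOfFiniteType r]

set_option maxHeartbeats 1000000 in
/-- descent of the datum from `Spec K` to `Spec A` for a finitely generated `R`-subalgebra `A`
of `K`. -/
theorem affine_case (hdesc : Desc Q) [IsLocallyNoetherian S]
    [LocallyOfFiniteType u] [QuasiCompact u] [LocallyOfFiniteType v] [QuasiCompact v]
    {XK YK : Scheme.{u}} (uK : XK ⟶ Spec (CommRingCat.of K)) (vK : YK ⟶ Spec (CommRingCat.of K))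
    (eX : XK ⟶ X) (eY : YK ⟶ Y)
    (hXK : IsPullback eX uK u (Spec.map (CommRingCat.ofHom (algebraMap R K)) ≫ r))
    (hYK : IsPullback eY vK v (Spec.map (CommRingCat.ofHom (algebraMap R K)) ≫ r))
    (g : XK ⟶ YK) (hg : g ≫ vK = uK) (hQ : Q g) :
    ∃ (W : Scheme.{u}) (σ : W ⟶ S) (π : Spec (CommRingCat.of K) ⟶ W),
      π ≫ σ = Spec.map (CommRingCat.ofHom (algebraMap R K)) ≫ r ∧ IsAffine W ∧
      LocallyOfFiniteType σ ∧
      ∃ (XW YW : Scheme.{u}) (pX : XW ⟶ X) (uW : XW ⟶ W) (pY : YW ⟶ Y) (vW : YW ⟶ W),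
        IsPullback pX uW u σ ∧ IsPullback pY vW v σ ∧ ∃ gW : XW ⟶ YW, gW ≫ vW = uW ∧ Q gW := by
  classical
  let J := FGSub R K
  let F : J ⥤ Under (CommRingCat.of R) := diagram R K
  let c : Cocone F := cocone R K
  have hc : IsColimit c := isColimit
  have : IsFiltered J := inferInstance
  have : IsConnected J := IsFiltered.isConnected J
  let E : Jᵒᵖ ⥤ Scheme.{u} := (F ⋙ Under.forget _).op ⋙ Scheme.Spec
  let cE : Cone E := Scheme.Spec.mapCone ((Under.forget _).mapCocone c).op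
  have hcE : IsLimit cE :=
    isLimitOfPreserves Scheme.Spec (isColimitOfPreserves (Under.forget _) hc).op
  have haff : ∀ {i j : Jᵒᵖ} (m : i ⟶ j), IsAffineHom (E.map m) := fun m => by
    dsimp [E]; infer_instance
  let q : ∀ j : Jᵒᵖ, E.obj j ⟶ S := fun j => Spec.map (F.obj j.unop).hom ≫ r
  have hq : ∀ {j k : Jᵒᵖ} (m : j ⟶ k), E.map m ≫ q k = q j := by
    intro j k m
    change Spec.map (F.map m.unop).right ≫ Spec.map (F.obj k.unop).hom ≫ r =
      Spec.map (F.obj j.unop).hom ≫ r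
    rw [← Spec.map_comp_assoc, Under.w]
  have hqπ : ∀ j : Jᵒᵖ, cE.π.app j ≫ q j =
      Spec.map (CommRingCat.ofHom (algebraMap R K)) ≫ r := by
    intro j
    change Spec.map (c.ι.app j.unop).right ≫ Spec.map (F.obj j.unop).hom ≫ r = _
    rw [← Spec.map_comp_assoc, Under.w]
    rfl
  have hlft : ∀ j : Jᵒᵖ, LocallyOfFiniteType (q j) := by
    intro j
    have h1 : LocallyOfFiniteType (Spec.map (F.obj j.unop).hom) := by
      rw [HasRingHomProperty.Spec_iff (P := @LocallyOfFiniteType)]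
      have : Algebra.FiniteType R j.unop.1 := (Subalgebra.fg_iff_finiteType _).1 j.unop.2
      change (algebraMap R j.unop.1).FiniteType
      exact RingHom.finiteType_algebraMap.2 this
    exact inferInstanceAs (LocallyOfFiniteType (Spec.map (F.obj j.unop).hom ≫ r))
  have haffobj : ∀ j : Jᵒᵖ, IsAffine (E.obj j) := fun j => by
    dsimp [E]; infer_instance
  let i : Jᵒᵖ := Opposite.op ⟨⊥, Subalgebra.fg_bot⟩
  haveI : IsAffine (E.obj i) := haffobj i
  -- finiteness over the Noetherian base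
  haveI : IsLocallyNoetherian X := LocallyOfFiniteType.isLocallyNoetherian u
  haveI : IsLocallyNoetherian Y := LocallyOfFiniteType.isLocallyNoetherian v
  haveI hx1 : LocallyOfFinitePresentation (pullback.snd u (q i)) :=
    MorphismProperty.pullback_snd (P := @LocallyOfFinitePresentation) _ _ inferInstance
  haveI hx2 : QuasiCompact (pullback.snd u (q i)) :=
    MorphismProperty.pullback_snd (P := @QuasiCompact) _ _ inferInstance
  haveI hx3 : QuasiSeparated (pullback.snd u (q i)) :=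
    MorphismProperty.pullback_snd (P := @QuasiSeparated) _ _ inferInstance
  haveI hy1 : LocallyOfFinitePresentation (pullback.snd v (q i)) :=
    MorphismProperty.pullback_snd (P := @LocallyOfFinitePresentation) _ _ inferInstance
  haveI hy2 : QuasiCompact (pullback.snd v (q i)) :=
    MorphismProperty.pullback_snd (P := @QuasiCompact) _ _ inferInstance
  haveI hy3 : QuasiSeparated (pullback.snd v (q i)) :=
    MorphismProperty.pullback_snd (P := @QuasiSeparated) _ _ inferInstance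
  obtain ⟨qX, hqX1, hqX2⟩ := exists_lift_isPullback hXK (hqπ i)
  obtain ⟨qY, hqY1, hqY2⟩ := exists_lift_isPullback hYK (hqπ i)
  obtain ⟨k, κ, Xk, Yk, uk, vk, eXk, eYk, fk, hXk, hYk, hfk, hQk⟩ :=
    descend hdesc E cE hcE i (pullback.snd u (q i)) (pullback.snd v (q i)) qX uK hqX2 qY vK hqY2
      g hg hQ
  refine ⟨E.obj k, q k, cE.π.app k, hqπ k, haffobj k, hlft k, Xk, Yk,
    eXk ≫ pullback.fst u (q i), uk, eYk ≫ pullback.fst v (q i), vk, ?_, ?_, fk, hfk, hQk⟩
  · have := hXk.paste_horiz (IsPullback.of_hasPullback u (q i))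
    rwa [hq] at this
  · have := hYk.paste_horiz (IsPullback.of_hasPullback v (q i))
    rwa [hq] at this

end affine

/-- `affine_case` in terms of a morphism of `CommRingCat`. -/
theorem affine_case' {X Y S : Scheme.{u}} (u : X ⟶ S) (v : Y ⟶ S) (hdesc : Desc Q)
    [IsLocallyNoetherian S]
    [LocallyOfFiniteType u] [QuasiCompact u] [LocallyOfFiniteType v] [QuasiCompact v]
    (R K : CommRingCat.{u}) (φ : R ⟶ K) (r : Spec R ⟶ S) [LocallyOfFiniteType r]
    {XK YK : Scheme.{u}} (uK : XK ⟶ Spec K) (vK : YK ⟶ Spec K)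
    (eX : XK ⟶ X) (eY : YK ⟶ Y)
    (hXK : IsPullback eX uK u (Spec.map φ ≫ r))
    (hYK : IsPullback eY vK v (Spec.map φ ≫ r))
    (g : XK ⟶ YK) (hg : g ≫ vK = uK) (hQ : Q g) :
    ∃ (W : Scheme.{u}) (σ : W ⟶ S) (π : Spec K ⟶ W),
      π ≫ σ = Spec.map φ ≫ r ∧ IsAffine W ∧
      LocallyOfFiniteType σ ∧
      ∃ (XW YW : Scheme.{u}) (pX : XW ⟶ X) (uW : XW ⟶ W) (pY : YW ⟶ Y) (vW : YW ⟶ W),
        IsPullback pX uW u σ ∧ IsPullback pY vW v σ ∧ ∃ gW : XW ⟶ YW, gW ≫ vW = uW ∧ Q gW := by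
  letI : Algebra R K := φ.hom.toAlgebra
  exact affine_case u v R K r hdesc uK vK eX eY hXK hYK g hg hQ

end Groth.Agent.Helper9.ConsPair
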