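import Mathlib
import Groth.Agent.Lib.Helper9.ConsPair2
import Groth.Agent.Lib.Helper16.Sch.FTDim2

/-!
# Ind-constructibility of "there is a morphism with property `Q` after a field extension" (helper9)

Part 3: the main theorem.
-/

set_option autoImplicit false
universe u
open CategoryTheory CategoryTheory.Limits AlgebraicGeometry

namespace Groth.Agent.Helper9.ConsPair

variable {Q : ∀ ⦃X Y : Scheme.{u}⦄, (X ⟶ Y) → Prop}

set_option maxHeartbeats 1000000 in
/-- EGA IV 9.3.? / 8.10.5-type statement: if `Q` is stable under base change and descends to a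
stage of a cofiltered limit, then "there are a field extension and a morphism with `Q` between the
base changes" is an ind-constructible property of pairs. -/
theorem main (hbc : BCStable Q) (hdesc : Desc Q) : ConsPropPair.IsIndConsPair (PQ Q) := by
  refine ⟨isFieldStablePair hbc, ?_⟩
  intro X Y S u v _ _ _ _ _ _ hη
  obtain ⟨T', X', Y', h, gX', gY', eX, eY, hT'1, hT'2, hX', hY', g, hg, hQ⟩ := hη
  haveI := hT'1
  have hfX : IsPullback (u.fiberι (genericPoint S)) (u.fiberToSpecResidueField (genericPoint S)) u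
      (S.fromSpecResidueField (genericPoint S)) := IsPullback.of_hasPullback _ _
  have hfY : IsPullback (v.fiberι (genericPoint S)) (v.fiberToSpecResidueField (genericPoint S)) v
      (S.fromSpecResidueField (genericPoint S)) := IsPullback.of_hasPullback _ _
  have hX'S := hX'.paste_horiz hfX
  have hY'S := hY'.paste_horiz hfY
  -- pass to the residue field of the point of `T'`
  obtain ⟨z⟩ : Nonempty T' := inferInstance
  obtain ⟨X₂, Y₂, gX₂, gY₂, eX₂, eY₂, h1, h2, g₂, hg₂, hQ₂⟩ :=
    bc_main hbc hX'S hY'S g hg hQ (IsPullback.id_horiz u) (IsPullback.id_horiz v)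
      (T'.fromSpecResidueField z)
      (T'.fromSpecResidueField z ≫ h ≫ S.fromSpecResidueField (genericPoint S))
      (Category.comp_id _).symm
  -- an affine open neighbourhood of the generic point
  obtain ⟨_, ⟨U₀, hU₀, rfl⟩, hηU, -⟩ := S.isBasis_affineOpens.exists_subset_of_mem_open
    (Set.mem_univ (genericPoint S)) isOpen_univ
  have hpt : ∀ x, (T'.fromSpecResidueField z ≫ h ≫ S.fromSpecResidueField (genericPoint S)) x =
      genericPoint S := by
    intro x
    rw [← Category.assoc, Scheme.Hom.comp_apply, Scheme.fromSpecResidueField_apply]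
  have hrange : Set.range (T'.fromSpecResidueField z ≫ h ≫
      S.fromSpecResidueField (genericPoint S)) ⊆ Set.range hU₀.fromSpec := by
    rintro _ ⟨x, rfl⟩
    rw [hU₀.range_fromSpec, hpt]
    exact hηU
  obtain ⟨τ₃, hτ₃⟩ : ∃ τ₃ : Spec (T'.residueField z) ⟶ Spec Γ(S, U₀), τ₃ ≫ hU₀.fromSpec =
      T'.fromSpecResidueField z ≫ h ≫ S.fromSpecResidueField (genericPoint S) :=
    ⟨IsOpenImmersion.lift hU₀.fromSpec _ hrange, IsOpenImmersion.lift_fac _ _ _⟩
  have hfac : Spec.map (Spec.preimage τ₃) ≫ hU₀.fromSpec =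
      T'.fromSpecResidueField z ≫ h ≫ S.fromSpecResidueField (genericPoint S) := by
    rw [Spec.map_preimage, hτ₃]
  rw [← hfac] at h1 h2
  obtain ⟨W, σ, π, hπ, hW, hσ, XW, YW, pX, uW, pY, vW, hXW, hYW, gW, hgW, hQW⟩ :=
    affine_case' u v hdesc Γ(S, U₀) (T'.residueField z) (Spec.preimage τ₃) hU₀.fromSpec
      gX₂ gY₂ eX₂ eY₂ h1 h2 g₂ hg₂ hQ₂
  have hsub : Set.range σ ⊆ ConsPropPair.locusPair (PQ Q) u v :=
    range_subset_locusPair hbc u v hXW hYW gW hgW hQW
  have hηmem : genericPoint S ∈ Set.range σ := by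
    obtain ⟨x₀⟩ : Nonempty ↥(Spec (T'.residueField z)) := inferInstance
    refine ⟨π x₀, ?_⟩
    rw [← Scheme.Hom.comp_apply, hπ, hfac, hpt]
  have hcons : Topology.IsConstructible (Set.range σ) := by
    rw [← Set.image_univ]
    exact σ.isConstructible_image Topology.IsConstructible.univ
  obtain ⟨U, hU, hηU', hsubU⟩ :=
    Groth.Agent.Helper16.FTDim.exists_open_of_mem_constructible (genericPoint S) hcons hηmem
  have hcl : closure ({genericPoint S} : Set S) = Set.univ := genericPoint_spec S
  rw [hcl, Set.inter_univ] at hsubU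
  exact ⟨genericPoint S, interior_maximal (hsubU.trans hsub) hU hηU'⟩

end Groth.Agent.Helper9.ConsPair
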