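import Mathlib
import Groth.Agent.Lib.Helper9.ConsPair3
import Groth.Agent.Lib.Helper4.LimCI
import Groth.Agent.Lib.Helper4.LimFin
import Groth.Agent.Lib.Helper4.LimSep2
import Groth.Agent.Lib.Helper13.QAffRel
import Groth.Agent.S2580
import Groth.Agent.S2581
import Groth.Agent.S2583
import Groth.Agent.S2592
import Groth.Prelude.Def_MoreMor

/-!
# Descent data for further properties (helper9)

Isomorphisms, closed immersions, finite morphisms, separated morphisms, quasi-finite morphisms,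
quasi-affine morphisms.
-/

set_option autoImplicit false
universe u
open CategoryTheory CategoryTheory.Limits AlgebraicGeometry

namespace Groth.Agent.Helper9.ConsPair

/-! ### isomorphisms -/

theorem bcstable_isIso : BCStable (fun (_ _ : Scheme.{u}) g => IsIso g) :=
  fun _ _ _ _ _ _ _ _ sq hf => sq.isIso_snd_of_isIso hf

set_option backward.isDefEq.respectTransparency false in
theorem desc_isIso : Desc (fun (_ _ : Scheme.{u}) g => IsIso g) := by
  intro I _ _ D c hc _ i₀ _ _ X₀ Y₀ f₀ g₀ _ _ _ _ _ _ X Y f g qY qX hY hX hQ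
  haveI : IsIso f := hQ
  obtain ⟨i, φ, Xi, Yi, fi, gi, pY, pX, hYi, hXi, hoi⟩ :=
    Groth.Agent.S2580.result D c hc i₀ f₀ g₀ f g qY qX hY hX
  have hcw : c.π.app i ≫ D.map φ = c.π.app i₀ := c.w φ
  have wY : qY ≫ g₀ = (g ≫ c.π.app i) ≫ D.map φ := by rw [Category.assoc, hcw, hY.w]
  obtain ⟨rY, hrY1, hrY2⟩ : ∃ rY : Y ⟶ Yi, rY ≫ pY = qY ∧ rY ≫ gi = g ≫ c.π.app i :=
    ⟨hYi.lift qY (g ≫ c.π.app i) wY, hYi.lift_fst _ _ _, hYi.lift_snd _ _ _⟩
  have hY' : IsPullback rY g gi (c.π.app i) := by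
    refine IsPullback.of_right ?_ hrY2 hYi
    rw [hrY1, hcw]
    exact hY
  have wX : qX ≫ f₀ = (f ≫ rY) ≫ pY := by rw [Category.assoc, hrY1, hX.w]
  obtain ⟨rX, hrX1, hrX2⟩ : ∃ rX : X ⟶ Xi, rX ≫ pX = qX ∧ rX ≫ fi = f ≫ rY :=
    ⟨hXi.lift qX (f ≫ rY) wX, hXi.lift_fst _ _ _, hXi.lift_snd _ _ _⟩
  have hX' : IsPullback rX f fi rY := by
    refine IsPullback.of_right ?_ hrX2 hXi
    rw [hrX1, hrY1]
    exact hX
  haveI : CompactSpace (D.obj i) := QuasiCompact.compactSpace_of_compactSpace (D.map φ)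
  haveI : QuasiSeparatedSpace (D.obj i) := quasiSeparatedSpace_of_quasiSeparated (D.map φ)
  haveI h1 : LocallyOfFinitePresentation gi :=
    MorphismProperty.of_isPullback (P := @LocallyOfFinitePresentation) hYi inferInstance
  haveI h2 : QuasiCompact gi :=
    MorphismProperty.of_isPullback (P := @QuasiCompact) hYi inferInstance
  haveI h3 : QuasiSeparated gi :=
    MorphismProperty.of_isPullback (P := @QuasiSeparated) hYi inferInstance
  have hcomp : IsPullback pX (fi ≫ gi) (f₀ ≫ g₀) (D.map φ) := hXi.paste_vert hYi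
  haveI h4 : LocallyOfFinitePresentation (fi ≫ gi) :=
    MorphismProperty.of_isPullback (P := @LocallyOfFinitePresentation) hcomp inferInstance
  haveI h5 : QuasiCompact (fi ≫ gi) :=
    MorphismProperty.of_isPullback (P := @QuasiCompact) hcomp inferInstance
  haveI h6 : QuasiSeparated (fi ≫ gi) :=
    MorphismProperty.of_isPullback (P := @QuasiSeparated) hcomp inferInstance
  haveI : Surjective f := inferInstance
  obtain ⟨j, ψ, Xj, Yj, fj, gj, pYj, pXj, hYj, hXj, hsurj⟩ :=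
    Groth.Agent.S2581.result D c hc i fi gi f g rY rX hY' hX'
  have hoj : IsOpenImmersion fj :=
    MorphismProperty.of_isPullback (P := @IsOpenImmersion) hXj hoi
  refine ⟨j, ψ ≫ φ, Xj, Yj, fj, gj, pYj ≫ pY, pXj ≫ pX, ?_, hXj.paste_horiz hXi,
    (isIso_iff_isOpenImmersion_and_surjective fj).2 ⟨hoj, hsurj⟩⟩
  have := hYj.paste_horiz hYi
  rwa [← Functor.map_comp] at this

/-! ### closed immersions, finite morphisms, separated morphisms -/

theorem desc_isClosedImmersion : Desc (fun (_ _ : Scheme.{u}) g => IsClosedImmersion g) := by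
  intro I _ _ D c hc _ i₀ _ _ X₀ Y₀ f₀ g₀ _ _ _ _ _ _ X Y f g qY qX hY hX hQ
  haveI : IsClosedImmersion f := hQ
  haveI : ∀ {i j : I} (f : i ⟶ j), IsAffineHom (D.map f) := fun f => inferInstance
  haveI : CompactSpace Y₀ := QuasiCompact.compactSpace_of_compactSpace g₀
  haveI : QuasiSeparatedSpace Y₀ := quasiSeparatedSpace_of_quasiSeparated g₀
  haveI : CompactSpace X₀ := QuasiCompact.compactSpace_of_compactSpace (f₀ ≫ g₀)
  haveI : QuasiSeparatedSpace X₀ := quasiSeparatedSpace_of_quasiSeparated (f₀ ≫ g₀)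
  obtain ⟨hf₀, hf₀'⟩ := Groth.Agent.Helper4.LimStage.fp_of_comp f₀ g₀
  exact Groth.Agent.Helper4.LimAff.stage_form' D @IsClosedImmersion i₀ f₀ g₀
    (Groth.Agent.Helper4.LimCI.exists_isClosedImmersion_pbMap D c hc i₀ f₀ g₀ f g qY qX hY hX)

theorem desc_isFinite : Desc (fun (_ _ : Scheme.{u}) g => IsFinite g) := by
  intro I _ _ D c hc _ i₀ _ _ X₀ Y₀ f₀ g₀ _ _ _ _ _ _ X Y f g qY qX hY hX hQ
  haveI : IsFinite f := hQ
  haveI : ∀ {i j : I} (f : i ⟶ j), IsAffineHom (D.map f) := fun f => inferInstance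
  haveI : CompactSpace Y₀ := QuasiCompact.compactSpace_of_compactSpace g₀
  haveI : QuasiSeparatedSpace Y₀ := quasiSeparatedSpace_of_quasiSeparated g₀
  haveI : CompactSpace X₀ := QuasiCompact.compactSpace_of_compactSpace (f₀ ≫ g₀)
  haveI : QuasiSeparatedSpace X₀ := quasiSeparatedSpace_of_quasiSeparated (f₀ ≫ g₀)
  obtain ⟨hf₀, hf₀'⟩ := Groth.Agent.Helper4.LimStage.fp_of_comp f₀ g₀
  exact Groth.Agent.Helper4.LimAff.stage_form' D @IsFinite i₀ f₀ g₀
    (Groth.Agent.Helper4.LimFin.exists_isFinite_pbMap D c hc i₀ f₀ g₀ f g qY qX hY hX)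

theorem desc_isSeparated : Desc (fun (_ _ : Scheme.{u}) g => IsSeparated g) := by
  intro I _ _ D c hc _ i₀ _ _ X₀ Y₀ f₀ g₀ _ _ _ _ _ _ X Y f g qY qX hY hX hQ
  haveI : IsSeparated f := hQ
  haveI : ∀ {i j : I} (f : i ⟶ j), IsAffineHom (D.map f) := fun f => inferInstance
  haveI : CompactSpace Y₀ := QuasiCompact.compactSpace_of_compactSpace g₀
  haveI : QuasiSeparatedSpace Y₀ := quasiSeparatedSpace_of_quasiSeparated g₀
  haveI : CompactSpace X₀ := QuasiCompact.compactSpace_of_compactSpace (f₀ ≫ g₀)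
  haveI : QuasiSeparatedSpace X₀ := quasiSeparatedSpace_of_quasiSeparated (f₀ ≫ g₀)
  obtain ⟨j, φ, hj⟩ :=
    Groth.Agent.Helper4.LimSep2.exists_isSeparated_stage' D c hc i₀ f₀ g₀ f g qY qX hY hX
  exact ⟨j, φ, _, _, pullback.snd f₀ (pullback.fst g₀ (D.map φ)), pullback.snd g₀ (D.map φ),
    pullback.fst g₀ (D.map φ), pullback.fst f₀ (pullback.fst g₀ (D.map φ)),
    IsPullback.of_hasPullback g₀ (D.map φ), IsPullback.of_hasPullback f₀ _, hj⟩

/-! ### quasi-finite morphisms -/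

theorem bcstable_quasiFinite : BCStable (fun (_ _ : Scheme.{u}) g =>
    LocallyOfFiniteType g ∧ QuasiCompact g ∧ LocallyQuasiFinite g) :=
  fun _ _ _ _ _ _ _ _ sq hf =>
    ⟨MorphismProperty.of_isPullback (P := @LocallyOfFiniteType) sq hf.1,
      MorphismProperty.of_isPullback (P := @QuasiCompact) sq hf.2.1,
      MorphismProperty.of_isPullback (P := @LocallyQuasiFinite) sq hf.2.2⟩

theorem desc_quasiFinite : Desc (fun (_ _ : Scheme.{u}) g =>
    LocallyOfFiniteType g ∧ QuasiCompact g ∧ LocallyQuasiFinite g) := by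
  intro I _ _ D c hc _ i₀ _ _ X₀ Y₀ f₀ g₀ _ _ _ _ _ _ X Y f g qY qX hY hX hQ
  haveI := hQ.2.2
  obtain ⟨hf₀, hf₀'⟩ := Groth.Agent.Helper4.LimStage.fp_of_comp f₀ g₀
  obtain ⟨i, φ, Xi, Yi, fi, gi, pY, pX, hYi, hXi, hqf⟩ :=
    Groth.Agent.S2583.result D c hc i₀ f₀ g₀ f g qY qX hY hX
  exact ⟨i, φ, Xi, Yi, fi, gi, pY, pX, hYi, hXi,
    MorphismProperty.of_isPullback (P := @LocallyOfFiniteType) hXi inferInstance,
    MorphismProperty.of_isPullback (P := @QuasiCompact) hXi hf₀', hqf⟩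

/-! ### quasi-affine morphisms -/

theorem bcstable_quasiAffine : BCStable (fun (_ _ : Scheme.{u}) g => MoreMor.IsQuasiAffineHom g) := by
  intro A B A' B' f f' a b sq hf
  have h1 : Mor2.IsQuasiAffine (pullback.snd f b) :=
    Groth.Agent.Helper13.QAffRel.isQuasiAffine_baseChange f hf b
  have h2 : sq.isoPullback.hom ≫ pullback.snd f b = f' := sq.isoPullback_hom_snd
  have h3 : Groth.Agent.Helper4.LimQAff.QA (sq.isoPullback.hom ≫ pullback.snd f b) :=
    (MorphismProperty.cancel_left_of_respectsIso _ _ _).2 h1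
  rw [h2] at h3
  exact h3

theorem desc_quasiAffine : Desc (fun (_ _ : Scheme.{u}) g => MoreMor.IsQuasiAffineHom g) := by
  intro I _ _ D c hc _ i₀ _ _ X₀ Y₀ f₀ g₀ _ _ _ _ _ _ X Y f g qY qX hY hX hQ
  exact Groth.Agent.S2592.result D c hc i₀ f₀ g₀ f g qY qX hY hX hQ

end Groth.Agent.Helper9.ConsPair
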