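import Mathlib
import Groth.Prelude.Def_DerSch
import Groth.Agent.Lib.Helper11.TorAmp9
import Groth.Agent.Lib.Helper13.WeakAss

/-!
# Tor amplitude relative to a composite (stalkwise form)
-/

set_option autoImplicit false
universe u

open CategoryTheory CategoryTheory.Limits AlgebraicGeometry DerivedCategory

attribute [local instance] HasDerivedCategory.standard

namespace Groth.Agent.Helper9.TorComp

open Groth.Agent.Helper11.TA

variable {X Y Z : Scheme.{u}}

/-- the stalk over the base of a composite: restriction of scalars in two steps -/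
noncomputable def stalkOverCompIso (f : X ⟶ Y) (g : Y ⟶ Z) (x : X) :
    DerSch.stalkOver (f ≫ g) x ≅
      DerSch.stalkOver f x ⋙ ModuleCat.restrictScalars.{u} (g.stalkMap (f x)).hom :=
  Functor.isoWhiskerLeft (DerSch.stalkFunctor X x)
    (ModuleCat.restrictScalarsComp'.{u} (g.stalkMap (f x)).hom (f.stalkMap x).hom
      ((f ≫ g).stalkMap x).hom (by rw [Scheme.Hom.stalkMap_comp]; rfl)) ≪≫
    (Functor.associator _ _ _).symm

/-- the complex of stalks over the base of a composite -/
noncomputable def stalkCxCompIso (f : X ⟶ Y) (g : Y ⟶ Z) (x : X)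
    (F : CochainComplex X.Modules ℤ) :
    (DerSch.stalkCxOver (f ≫ g) x).obj F ≅
      ((ModuleCat.restrictScalars.{u} (g.stalkMap (f x)).hom).mapHomologicalComplex
        (ComplexShape.up ℤ)).obj ((DerSch.stalkCxOver f x).obj F) :=
  HomologicalComplex.Hom.isoOfComponents (fun i => (stalkOverCompIso f g x).app (F.X i))
    (fun i j _ => ((stalkOverCompIso f g x).hom.naturality (F.d i j)).symm)

/-- in the derived category -/
noncomputable def toDCompIso (f : X ⟶ Y) (g : Y ⟶ Z) (x : X)
    (F : CochainComplex X.Modules ℤ) :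
    DRing.toD ((DerSch.stalkCxOver (f ≫ g) x).obj F) ≅
      (DRing.restrictD (g.stalkMap (f x)).hom).obj (DRing.toD ((DerSch.stalkCxOver f x).obj F)) :=
  Q.mapIso (stalkCxCompIso f g x F) ≪≫
    ((ModuleCat.restrictScalars.{u} (g.stalkMap (f x)).hom).mapDerivedCategoryFactors.app
      ((DerSch.stalkCxOver f x).obj F)).symm

/-- `B` as a module over `A` through `ψ`, two ways -/
noncomputable def restrictSelfIso {A B : Type u} [CommRing A] [CommRing B] (ψ : A →+* B) :
    letI := ψ.toAlgebra
    (ModuleCat.restrictScalars.{u} ψ).obj (ModuleCat.of B B) ≅ ModuleCat.of A B :=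
  letI := ψ.toAlgebra
  LinearEquiv.toModuleIso
    { toFun := fun b => b
      invFun := fun b => b
      map_add' := fun _ _ => rfl
      map_smul' := fun _ _ => rfl
      left_inv := fun _ => rfl
      right_inv := fun _ => rfl }

/-- the stalk of the unit complex over the base, in the derived category -/
noncomputable def unitIso (g : Y ⟶ Z) (y : Y) :
    letI := (g.stalkMap y).hom.toAlgebra
    DRing.toD ((DerSch.stalkCxOver g y).obj (DerSch.unitCx Y)) ≅
      (singleFunctor (ModuleCat.{u} (Z.presheaf.stalk (g y))) 0).obj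
        (ModuleCat.of (Z.presheaf.stalk (g y)) (Y.presheaf.stalk y)) :=
  letI := (g.stalkMap y).hom.toAlgebra
  Q.mapIso ((HomologicalComplex.singleMapHomologicalComplex (DerSch.stalkOver g y)
      (ComplexShape.up ℤ) 0).app (Coh.structureModule Y)) ≪≫
    ((singleFunctorIsoCompQ (ModuleCat.{u} (Z.presheaf.stalk (g y))) 0).app _).symm ≪≫
    (singleFunctor (ModuleCat.{u} (Z.presheaf.stalk (g y))) 0).mapIso
      ((ModuleCat.restrictScalars.{u} (g.stalkMap y).hom).mapIso
        (LinearEquiv.toModuleIso (Groth.Agent.Helper13.WeakAss.unitStalkEquiv y)) ≪≫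
        restrictSelfIso (g.stalkMap y).hom)

theorem main (f : X ⟶ Y) (g : Y ⟶ Z) (n : ℕ) (hg : DerSch.HasTorDimLE g n)
    (F : CochainComplex X.Modules ℤ) (a b : ℤ) (hF : DerSch.HasTorAmplitude f a b F) (x : X) :
    DerSch.HasTorAmplitudeAt (f ≫ g) (a - n) b F x := by
  letI : Algebra (Z.presheaf.stalk (g (f x))) (Y.presheaf.stalk (f x)) :=
    (g.stalkMap (f x)).hom.toAlgebra
  have hB : TorVan (-(n : ℤ)) 0
      ((singleFunctor (ModuleCat.{u} (Z.presheaf.stalk (g (f x)))) 0).obj
        (ModuleCat.of (Z.presheaf.stalk (g (f x))) (Y.presheaf.stalk (f x)))) :=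
    TorVan.of_iso (unitIso g (f x)) (hasTorAmplitudeIn_iff_torVan.mp (hg (f x)))
  have h1 := torVan_restrict n hB (DRing.toD ((DerSch.stalkCxOver f x).obj F)) a b (hF x)
  unfold DerSch.HasTorAmplitudeAt
  rw [hasTorAmplitudeIn_iff_torVan]
  exact TorVan.of_iso (toDCompIso f g x F).symm h1

end Groth.Agent.Helper9.TorComp
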