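import Mathlib
import Groth.Agent.Lib.Helper9.RelPC4
import Groth.Agent.Lib.Helper5.PRF3
import Groth.Agent.Lib.Helper5.TB5
import Groth.Agent.Lib.Helper6.QcohLocal
import Groth.Agent.Lib.Helper13.QCoh
import Groth.Agent.Lib.Helper14.TildeExact
import Groth.Agent.Lib.Helper11.KoszPerf2
import Groth.Prelude.Def_RegImm

/-!
# Perfectness of `i_* O_Z` for a closed immersion, affine-locally (helper9)

* `restrictIso`: for a closed immersion `i : Z ⟶ X` and an affine open `U` of `X`,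
  `(i_* O_Z)|_{Spec Γ(X,U)} ≅ (Γ(Z, i⁻¹U))~`;
* `perfAt_pushUnit`: if `Γ(Z, i⁻¹U)` is a perfect `Γ(X,U)`-module then `i_* O_Z` is perfect at every point of `U`;
* `main6237`: Koszul-regular closed immersions have perfect `i_* O_Z`.
-/

set_option autoImplicit false
universe u
open CategoryTheory CategoryTheory.Limits AlgebraicGeometry Opposite TopologicalSpace

attribute [local instance] HasDerivedCategory.standard

namespace Groth.Agent.Helper9.PushPerf

open Groth.Agent.Helper9.RelPC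

section Res

variable {Z X : Scheme.{u}} (i : Z ⟶ X)

lemma presheaf_map_bijective_of_eq {V W : Z.Opens} (h : V = W) (k : op W ⟶ op V) :
    Function.Bijective (Z.presheaf.map k).hom := by
  subst h
  obtain rfl : k = 𝟙 _ := Subsingleton.elim _ _
  rw [Z.presheaf.map_id]
  exact Function.bijective_id

/-- restriction `Γ(Z, i⁻¹U) → Γ(Z, i⁻¹T)` for `T ≤ U` -/
noncomputable def res {U T : X.Opens} (hTU : T ≤ U) : Γ(Z, i ⁻¹ᵁ U) →+* Γ(Z, i ⁻¹ᵁ T) :=
  (Z.presheaf.map (homOfLE (i.preimage_mono hTU)).op).hom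

lemma res_bijective {U T : X.Opens} (hTU : T ≤ U) (h : T = U) : Function.Bijective (res i hTU) :=
  presheaf_map_bijective_of_eq (by rw [h]) _

lemma res_app {U T : X.Opens} (hTU : T ≤ U) (a : Γ(X, U)) :
    res i hTU (i.app U a) = i.app T (X.presheaf.map (homOfLE hTU).op a) := by
  have h := i.naturality (homOfLE hTU).op
  have h2 := congrArg (fun φ => φ.hom a) h
  simp only [CommRingCat.hom_comp, RingHom.comp_apply] at h2
  exact h2.symm

end Res

section Affine

variable {Z X : Scheme.{u}} (i : Z ⟶ X) {U : X.Opens} (hU : IsAffineOpen U)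

include hU in
lemma image_top_le : hU.fromSpec ''ᵁ ⊤ ≤ U := Groth.Agent.Helper13.QCoh.fromSpec_image_le hU ⊤

include hU in
lemma image_top_eq : hU.fromSpec ''ᵁ ⊤ = U := by
  rw [Scheme.Hom.image_top_eq_opensRange, hU.opensRange_fromSpec]

/-- the comparison map `Γ(Z, i⁻¹U) → Γ((i_*O_Z)|_{Spec Γ(X,U)}, ⊤)` -/
noncomputable def psiFun (b : Γ(Z, i ⁻¹ᵁ U)) : Γ((pushUnit i).restrict hU.fromSpec, ⊤) :=
  ((pushUnit i).restrictAppIso hU.fromSpec ⊤).inv (toSec i (hU.fromSpec ''ᵁ ⊤) (res i (image_top_le hU) b))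

lemma hom_psiFun (b : Γ(Z, i ⁻¹ᵁ U)) :
    ((pushUnit i).restrictAppIso hU.fromSpec ⊤).hom (psiFun i hU b) =
      toSec i (hU.fromSpec ''ᵁ ⊤) (res i (image_top_le hU) b) := by
  unfold psiFun
  rfl

lemma psiFun_add (b b' : Γ(Z, i ⁻¹ᵁ U)) : psiFun i hU (b + b') = psiFun i hU b + psiFun i hU b' := by
  unfold psiFun
  rw [map_add]
  exact map_add ((pushUnit i).restrictAppIso hU.fromSpec ⊤).inv.hom _ _

lemma psiFun_smul (a : Γ(X, U)) (b : Γ(Z, i ⁻¹ᵁ U)) :
    psiFun i hU (i.app U a * b) = a • psiFun i hU b := by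
  have hinj : Function.Injective ((pushUnit i).restrictAppIso hU.fromSpec ⊤).hom :=
    (ConcreteCategory.bijective_of_isIso ((pushUnit i).restrictAppIso hU.fromSpec ⊤).hom).1
  apply hinj
  rw [Groth.Agent.Helper6.QcohLocal.fromSpec_smul hU (pushUnit i) ⊤ (image_top_le hU) a (psiFun i hU b),
    hom_psiFun, hom_psiFun, smul_toSec, map_mul, res_app]

lemma psiFun_bijective : Function.Bijective (psiFun i hU) := by
  have hbij := res_bijective i (image_top_le hU) (image_top_eq hU)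
  constructor
  · intro b b' h
    have h2 := congrArg ((pushUnit i).restrictAppIso hU.fromSpec ⊤).hom h
    rw [hom_psiFun, hom_psiFun] at h2
    exact hbij.1 h2
  · intro x
    obtain ⟨s, hs⟩ := toSec_surjective i (hU.fromSpec ''ᵁ ⊤)
      (((pushUnit i).restrictAppIso hU.fromSpec ⊤).hom x)
    obtain ⟨b, hb⟩ := hbij.2 s
    refine ⟨b, ?_⟩
    have hinj : Function.Injective ((pushUnit i).restrictAppIso hU.fromSpec ⊤).hom :=
      (ConcreteCategory.bijective_of_isIso ((pushUnit i).restrictAppIso hU.fromSpec ⊤).hom).1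
    apply hinj
    rw [hom_psiFun, hb, hs]

/-- the comparison map as a linear equivalence -/
noncomputable def psi :
    letI : Algebra Γ(X, U) Γ(Z, i ⁻¹ᵁ U) := (i.app U).hom.toAlgebra
    Γ(Z, i ⁻¹ᵁ U) ≃ₗ[Γ(X, U)] Γ((pushUnit i).restrict hU.fromSpec, ⊤) :=
  letI : Algebra Γ(X, U) Γ(Z, i ⁻¹ᵁ U) := (i.app U).hom.toAlgebra
  LinearEquiv.ofBijective
    { toFun := psiFun i hU
      map_add' := psiFun_add i hU
      map_smul' := fun a b => by
        rw [RingHom.id_apply, Algebra.smul_def, RingHom.algebraMap_toAlgebra]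
        exact psiFun_smul i hU a b }
    (psiFun_bijective i hU)

end Affine

section Main

variable {Z X : Scheme.{u}} (i : Z ⟶ X) [IsClosedImmersion i] {U : X.Opens} (hU : IsAffineOpen U)

instance isQuasicoherent_pushUnit : (pushUnit i).IsQuasicoherent := by
  haveI : (SheafOfModules.unit Z.ringCatSheaf).IsQuasicoherent :=
    Groth.Agent.Helper13.QCoh.isQuasicoherent_unit Z
  exact Groth.Agent.Helper13.QCohPush.isQuasicoherent_pushforward i _

/-- the module `Γ((i_*O_Z)|_{Spec Γ(X,U)}, ⊤)` is `Γ(Z, i⁻¹U)` -/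
noncomputable def eN :
    letI : Algebra Γ(X, U) Γ(Z, i ⁻¹ᵁ U) := (i.app U).hom.toAlgebra
    ModuleCat.of Γ(X, U) Γ(Z, i ⁻¹ᵁ U) ≅
      (modulesSpecToSheaf.obj ((pushUnit i).restrict hU.fromSpec)).presheaf.obj (op ⊤) :=
  letI : Algebra Γ(X, U) Γ(Z, i ⁻¹ᵁ U) := (i.app U).hom.toAlgebra
  (psi i hU).toModuleIso

/-- `(i_* O_Z)|_{Spec Γ(X,U)} ≅ (Γ(Z, i⁻¹U))~` -/
noncomputable def restrictIso :
    letI : Algebra Γ(X, U) Γ(Z, i ⁻¹ᵁ U) := (i.app U).hom.toAlgebra
    (pushUnit i).restrict hU.fromSpec ≅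
      (tilde.functor Γ(X, U)).obj (ModuleCat.of Γ(X, U) Γ(Z, i ⁻¹ᵁ U)) :=
  letI : Algebra Γ(X, U) Γ(Z, i ⁻¹ᵁ U) := (i.app U).hom.toAlgebra
  (asIso ((pushUnit i).restrict hU.fromSpec).fromTildeΓ).symm ≪≫
    (tilde.functor Γ(X, U)).mapIso (eN i hU).symm

include hU in
/-- if `Γ(Z, i⁻¹U)` is a perfect `Γ(X,U)`-module, then `i_* O_Z` is perfect at the points of `U` -/
theorem perfAt_pushUnit
    (hperf : letI : Algebra Γ(X, U) Γ(Z, i ⁻¹ᵁ U) := (i.app U).hom.toAlgebra
      DRing.IsPerfectModule Γ(X, U) Γ(Z, i ⁻¹ᵁ U))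
    (x : X) (hx : x ∈ U) : Groth.Agent.Helper5.PRF.PerfAt (DCoh.inD X (pushUnit i)) x := by
  letI : Algebra Γ(X, U) Γ(Z, i ⁻¹ᵁ U) := (i.app U).hom.toAlgebra
  obtain ⟨y, hy⟩ : ∃ y, hU.fromSpec.base y = x := by
    have : x ∈ hU.fromSpec.opensRange := by rw [hU.opensRange_fromSpec]; exact hx
    exact this
  rw [← hy]
  apply Groth.Agent.Helper5.PRF.perfAt_of_openImmersion hU.fromSpec _ y
  have hP : DCoh.IsPerfect ((DCoh.tildeD (CommRingCat.of Γ(X, U))).obj
      (Dual.inD Γ(X, U) Γ(Z, i ⁻¹ᵁ U))) :=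
    Groth.Agent.Helper5.TB.tilde_isPerfect _ _ hperf
  have e5 := ((tilde.functor (CommRingCat.of Γ(X, U))).mapDerivedCategorySingleFunctor 0).app
    (ModuleCat.of Γ(X, U) Γ(Z, i ⁻¹ᵁ U))
  have e4 := (DerivedCategory.singleFunctor (Spec Γ(X, U)).Modules 0).mapIso (restrictIso i hU)
  have e3 := ((Scheme.Modules.restrictFunctor hU.fromSpec).mapDerivedCategorySingleFunctor 0).app
    (pushUnit i)
  have hP2 : DCoh.IsPerfect ((DCoh.restrictD hU.fromSpec).obj (DCoh.inD X (pushUnit i))) :=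
    Groth.Agent.Helper5.BP.isPerfect_of_iso (e5 ≪≫ e4.symm ≪≫ e3.symm) hP
  exact (Groth.Agent.Helper5.PRF.isPerfect_iff_forall_perfAt _).mp hP2 y

end Main

section Koszul

lemma isPerfectModule_of_koszul {A B : Type u} [CommRing A] [CommRing B] [Algebra A B]
    (rs : List A) (hK : LCI.IsKoszulRegularSeq A rs)
    (hsurj : Function.Surjective (algebraMap A B))
    (hker : RingHom.ker (algebraMap A B) = Ideal.ofList rs) : DRing.IsPerfectModule A B := by
  have hk : LinearMap.ker (Algebra.linearMap A B) = Ideal.ofList rs := by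
    rw [← hker]
    ext x
    rw [LinearMap.mem_ker, RingHom.mem_ker]
    rfl
  let e : B ≃ₗ[A] A ⧸ Ideal.ofList rs :=
    ((Algebra.linearMap A B).quotKerEquivOfSurjective hsurj).symm.trans
      (Submodule.quotEquivOfEq _ _ hk)
  exact Groth.Agent.Helper11.KoszPerf.isPerfect_single_of_koszulRegular A rs hK (ModuleCat.of A B) e

lemma isPerfectModule_of_subsingleton {A B : Type u} [CommRing A] [AddCommGroup B] [Module A B]
    [Subsingleton B] : DRing.IsPerfectModule A B := by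
  apply Groth.Agent.Helper11.KoszPerf.isPerfect_of_isZero
  exact (DerivedCategory.singleFunctor (ModuleCat.{u} A) 0).map_isZero
    (ModuleCat.isZero_of_subsingleton _)

theorem main6237 {Z X : Scheme.{u}} (i : Z ⟶ X) [IsClosedImmersion i]
    (hi : RegImm.IsRegularImmersion RegImm.Kind.koszul i) :
    DCoh.IsPerfect (DCoh.inD X ((Scheme.Modules.pushforward i).obj (Coh.structureModule Z))) := by
  rw [Groth.Agent.Helper5.PRF.isPerfect_iff_forall_perfAt]
  intro x
  by_cases hx : x ∈ Set.range i.base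
  · obtain ⟨z, rfl⟩ := hx
    obtain ⟨U, hzU, _, rs, hrs, hker⟩ := hi.2 z
    refine perfAt_pushUnit i U.2 ?_ _ hzU
    letI : Algebra Γ(X, U.1) Γ(Z, i ⁻¹ᵁ U.1) := (i.app U.1).hom.toAlgebra
    exact isPerfectModule_of_koszul rs hrs (i.app_surjective U.1 U.2) hker
  · have hcl : IsClosed (Set.range i.base) := i.isClosedEmbedding.isClosed_range
    obtain ⟨_, ⟨U₀, hU₀, rfl⟩, hxU, hsub⟩ := X.isBasis_affineOpens.exists_subset_of_mem_open
      (show x ∈ (Set.range i.base)ᶜ from hx) hcl.isOpen_compl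
    obtain ⟨U, rfl⟩ : ∃ U : X.Opens, U = U₀ := ⟨U₀, rfl⟩
    have hU : IsAffineOpen U := hU₀
    refine perfAt_pushUnit i hU ?_ x hxU
    letI : Algebra Γ(X, U) Γ(Z, i ⁻¹ᵁ U) := (i.app U).hom.toAlgebra
    have hbot : i ⁻¹ᵁ U = ⊥ := by
      ext z
      simp only [Scheme.Hom.mem_preimage, Opens.coe_bot, Set.mem_empty_iff_false, iff_false,
        SetLike.mem_coe]
      intro hz
      exact hsub hz ⟨z, rfl⟩
    haveI : Subsingleton Γ(Z, i ⁻¹ᵁ U) := by
      rw [hbot]
      infer_instance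
    exact isPerfectModule_of_subsingleton

end Koszul

end Groth.Agent.Helper9.PushPerf
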