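import Mathlib

/-!
# Finite sets of points of a fibre of a separated locally quasi-finite morphism lie in an affine open

Via Zariski's main theorem in Mathlib (`toNormalization` is an open immersion into a scheme that is
affine over the base) and prime avoidance.
-/

universe u

open CategoryTheory CategoryTheory.Limits AlgebraicGeometry Opposite

namespace Groth.Agent.Helper9.AFqf

/-- Membership in a basic open, via the prime ideal of the point. -/
lemma mem_basicOpen_iff {N : Scheme.{u}} {V : N.Opens} (hV : IsAffineOpen V) (r : Γ(N, V))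
    (n : N) (hn : n ∈ V) :
    n ∈ N.basicOpen r ↔ r ∉ (hV.primeIdealOf ⟨n, hn⟩).asIdeal := by
  have h1 : hV.fromSpec (hV.primeIdealOf ⟨n, hn⟩) = n := hV.fromSpec_primeIdealOf ⟨n, hn⟩
  have h2 : hV.primeIdealOf ⟨n, hn⟩ ∈ hV.fromSpec ⁻¹ᵁ N.basicOpen r ↔
      r ∉ (hV.primeIdealOf ⟨n, hn⟩).asIdeal := by
    rw [hV.fromSpec_preimage_basicOpen]; exact Iff.rfl
  have h3 : hV.primeIdealOf ⟨n, hn⟩ ∈ hV.fromSpec ⁻¹ᵁ N.basicOpen r ↔
      hV.fromSpec (hV.primeIdealOf ⟨n, hn⟩) ∈ N.basicOpen r := Iff.rfl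
  rw [← h2, h3, h1]

/-- In a scheme admitting an open immersion into an affine scheme, finitely many points lie in a
common affine open. -/
lemma exists_affine_of_openImmersion_affine {Y N : Scheme.{u}} (j : Y ⟶ N) [IsOpenImmersion j]
    [IsAffine N] {d : ℕ} (y : Fin d → Y) : ∃ U : Y.Opens, IsAffineOpen U ∧ ∀ k, y k ∈ U := by
  obtain _ | d := d
  · exact ⟨⊥, isAffineOpen_bot Y, fun k => k.elim0⟩
  have hN : IsAffineOpen (⊤ : N.Opens) := isAffineOpen_top N
  have hmem : ∀ k, j (y k) ∈ j.opensRange := fun k => by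
    rw [← SetLike.mem_coe, Scheme.Hom.coe_opensRange]; exact Set.mem_range_self _
  have h0 : ∀ k, ∃ r : Γ(N, ⊤), N.basicOpen r ≤ j.opensRange ∧ j (y k) ∈ N.basicOpen r := by
    intro k
    exact hN.exists_basicOpen_le (V := j.opensRange) ⟨j (y k), hmem k⟩ trivial
  choose r hr1 hr2 using h0
  have hp : ∀ k, ((hN.primeIdealOf ⟨j (y k), trivial⟩).asIdeal).IsPrime :=
    fun k => (hN.primeIdealOf ⟨j (y k), trivial⟩).isPrime
  have hrp : ∀ k, r k ∉ (hN.primeIdealOf ⟨j (y k), trivial⟩).asIdeal :=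
    fun k => (mem_basicOpen_iff hN (r k) (j (y k)) trivial).mp (hr2 k)
  -- prime avoidance
  have hav : ¬ ((Ideal.span (Set.range r) : Set Γ(N, ⊤)) ⊆
      ⋃ k ∈ ((Finset.univ : Finset (Fin (d + 1))) : Set (Fin (d + 1))),
        ((hN.primeIdealOf ⟨j (y k), trivial⟩).asIdeal : Set Γ(N, ⊤))) := by
    rw [Ideal.subset_union_prime (0 : Fin (d + 1)) 0 (fun k _ _ _ => hp k)]
    rintro ⟨k, -, hk⟩
    exact (hrp k) (hk (Ideal.subset_span ⟨k, rfl⟩))
  obtain ⟨a, haI, hau⟩ := Set.not_subset.mp hav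
  have hak : ∀ k, a ∉ (hN.primeIdealOf ⟨j (y k), trivial⟩).asIdeal := by
    intro k hk
    apply hau
    simp only [Set.mem_iUnion]
    exact ⟨k, by simp, hk⟩
  have hle : N.basicOpen a ≤ j.opensRange := by
    intro n hn
    have hn' : a ∉ (hN.primeIdealOf ⟨n, trivial⟩).asIdeal :=
      (mem_basicOpen_iff hN a n trivial).mp hn
    have hex : ∃ k, r k ∉ (hN.primeIdealOf ⟨n, trivial⟩).asIdeal := by
      by_contra hcon
      push_neg at hcon
      apply hn'
      have hspan : Ideal.span (Set.range r) ≤ (hN.primeIdealOf ⟨n, trivial⟩).asIdeal := by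
        rw [Ideal.span_le]
        rintro _ ⟨k, rfl⟩
        exact hcon k
      exact hspan haI
    obtain ⟨k, hk⟩ := hex
    exact hr1 k ((mem_basicOpen_iff hN (r k) n trivial).mpr hk)
  refine ⟨j ⁻¹ᵁ N.basicOpen a, (hN.basicOpen a).preimage_of_isOpenImmersion j hle, fun k => ?_⟩
  exact (mem_basicOpen_iff hN a (j (y k)) trivial).mpr (hak k)

/-- **AF** for separated, locally quasi-finite morphisms locally of finite type: finitely many
points of one fibre lie in a common affine open of the source. -/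
theorem exists_affine_of_fibre_points {X S : Scheme.{u}} (f : X ⟶ S) [IsSeparated f]
    [LocallyQuasiFinite f] [LocallyOfFiniteType f] (s : S) (d : ℕ) (x : Fin d → X)
    (hx : ∀ k, f (x k) = s) : ∃ U : X.Opens, IsAffineOpen U ∧ ∀ k, x k ∈ U := by
  obtain ⟨S', hS', hsS', -⟩ :=
    exists_isAffineOpen_mem_and_subset (x := s) (U := ⊤) (by trivial)
  have h0 : ∀ k, ∃ W : X.Opens, IsAffineOpen W ∧ x k ∈ W ∧ W.1 ⊆ f ⁻¹ᵁ S' := fun k =>
    exists_isAffineOpen_mem_and_subset (x := x k) (U := f ⁻¹ᵁ S')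
      (by
        have h : f (x k) ∈ S' := by rw [hx k]; exact hsS'
        exact h)
  choose W hW hxW hWS using h0
  have hle : (⨆ k, W k) ≤ f ⁻¹ᵁ S' := iSup_le fun k _ hy => hWS k hy
  have hxX : ∀ k, x k ∈ (⨆ k, W k) := fun k => TopologicalSpace.Opens.mem_iSup.mpr ⟨k, hxW k⟩
  have hfac : f.resLE S' (⨆ k, W k) hle ≫ S'.ι = (⨆ k, W k).ι ≫ f :=
    Scheme.Hom.resLE_comp_ι f hle
  haveI : IsAffine S'.toScheme := hS'
  haveI : IsSeparated (f.resLE S' (⨆ k, W k) hle ≫ S'.ι) := by rw [hfac]; infer_instance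
  haveI : LocallyOfFiniteType (f.resLE S' (⨆ k, W k) hle ≫ S'.ι) := by
    rw [hfac]; infer_instance
  haveI : LocallyQuasiFinite (f.resLE S' (⨆ k, W k) hle ≫ S'.ι) := by
    rw [hfac]; infer_instance
  haveI : IsSeparated (f.resLE S' (⨆ k, W k) hle) := IsSeparated.of_comp _ S'.ι
  haveI : LocallyOfFiniteType (f.resLE S' (⨆ k, W k) hle) := locallyOfFiniteType_of_comp _ S'.ι
  haveI : LocallyQuasiFinite (f.resLE S' (⨆ k, W k) hle) := LocallyQuasiFinite.of_comp _ S'.ι
  have hcompact : IsCompact ((⨆ k, W k : X.Opens) : Set X) := by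
    rw [TopologicalSpace.Opens.coe_iSup]
    exact isCompact_iUnion fun k => (hW k).isCompact
  haveI : CompactSpace (⨆ k, W k : X.Opens).toScheme := isCompact_iff_compactSpace.mp hcompact
  haveI : QuasiCompact (f.resLE S' (⨆ k, W k) hle) :=
    (HasAffineProperty.iff_of_isAffine (P := @QuasiCompact)).mpr
      (inferInstance : CompactSpace (⨆ k, W k : X.Opens).toScheme)
  haveI : IsAffine (f.resLE S' (⨆ k, W k) hle).normalization :=
    isAffine_of_isAffineHom (f.resLE S' (⨆ k, W k) hle).fromNormalization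
  obtain ⟨U, hU, hyU⟩ := exists_affine_of_openImmersion_affine
    (f.resLE S' (⨆ k, W k) hle).toNormalization
    (fun k => (⟨x k, hxX k⟩ : (⨆ k, W k : X.Opens).toScheme))
  refine ⟨(⨆ k, W k : X.Opens).ι ''ᵁ U, hU.image_of_isOpenImmersion _, fun k => ?_⟩
  exact ⟨⟨x k, hxX k⟩, hyU k, rfl⟩

end Groth.Agent.Helper9.AFqf
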