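import Mathlib
import Groth.Agent.Lib.Helper9.AFqf

/-!
# Shrinking a common affine open neighbourhood of finitely many points into a given open

If finitely many points lie in an affine open `U₀` and in an open `O`, they lie in a basic open of
`U₀` contained in `O` (prime avoidance).
-/

universe u

open CategoryTheory CategoryTheory.Limits AlgebraicGeometry Opposite

namespace Groth.Agent.Helper9.AFcov

open Groth.Agent.Helper9.AFqf

/-- Prime avoidance on an affine open: finitely many points of `U₀ ⊓ O` lie in a basic open of `U₀`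
contained in `O`. -/
lemma exists_basicOpen_le_of_finite {X : Scheme.{u}} {U₀ : X.Opens} (hU₀ : IsAffineOpen U₀)
    (O : X.Opens) {d : ℕ} (x : Fin (d + 1) → X) (h0 : ∀ k, x k ∈ U₀) (hO : ∀ k, x k ∈ O) :
    ∃ a : Γ(X, U₀), X.basicOpen a ≤ O ∧ ∀ k, x k ∈ X.basicOpen a := by
  have h1 : ∀ k, ∃ r : Γ(X, U₀), X.basicOpen r ≤ O ∧ x k ∈ X.basicOpen r := by
    intro k
    exact hU₀.exists_basicOpen_le (V := O) ⟨x k, hO k⟩ (h0 k)
  choose r hr1 hr2 using h1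
  have hp : ∀ k, ((hU₀.primeIdealOf ⟨x k, h0 k⟩).asIdeal).IsPrime :=
    fun k => (hU₀.primeIdealOf ⟨x k, h0 k⟩).isPrime
  have hrp : ∀ k, r k ∉ (hU₀.primeIdealOf ⟨x k, h0 k⟩).asIdeal :=
    fun k => (mem_basicOpen_iff hU₀ (r k) (x k) (h0 k)).mp (hr2 k)
  have hav : ¬ ((Ideal.span (Set.range r) : Set Γ(X, U₀)) ⊆
      ⋃ k ∈ ((Finset.univ : Finset (Fin (d + 1))) : Set (Fin (d + 1))),
        ((hU₀.primeIdealOf ⟨x k, h0 k⟩).asIdeal : Set Γ(X, U₀))) := by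
    rw [Ideal.subset_union_prime (0 : Fin (d + 1)) 0 (fun k _ _ _ => hp k)]
    rintro ⟨k, -, hk⟩
    exact (hrp k) (hk (Ideal.subset_span ⟨k, rfl⟩))
  obtain ⟨a, haI, hau⟩ := Set.not_subset.mp hav
  have hak : ∀ k, a ∉ (hU₀.primeIdealOf ⟨x k, h0 k⟩).asIdeal := by
    intro k hk
    apply hau
    simp only [Set.mem_iUnion]
    exact ⟨k, by simp, hk⟩
  refine ⟨a, ?_, fun k => (mem_basicOpen_iff hU₀ a (x k) (h0 k)).mpr (hak k)⟩
  intro n hn
  have hnU : n ∈ U₀ := X.basicOpen_le a hn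
  have hn' : a ∉ (hU₀.primeIdealOf ⟨n, hnU⟩).asIdeal :=
    (mem_basicOpen_iff hU₀ a n hnU).mp hn
  have hex : ∃ k, r k ∉ (hU₀.primeIdealOf ⟨n, hnU⟩).asIdeal := by
    by_contra hcon
    push_neg at hcon
    apply hn'
    have hspan : Ideal.span (Set.range r) ≤ (hU₀.primeIdealOf ⟨n, hnU⟩).asIdeal := by
      rw [Ideal.span_le]
      rintro _ ⟨k, rfl⟩
      exact hcon k
    exact hspan haI
  obtain ⟨k, hk⟩ := hex
  exact hr1 k ((mem_basicOpen_iff hU₀ (r k) n hnU).mpr hk)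

/-- Finitely many points lying in an affine open `U₀` and in an open `O` lie in an affine open
contained in `U₀ ⊓ O`. -/
theorem exists_affine_le_of_mem {X : Scheme.{u}} {U₀ : X.Opens} (hU₀ : IsAffineOpen U₀)
    (O : X.Opens) {d : ℕ} (x : Fin d → X) (h0 : ∀ k, x k ∈ U₀) (hO : ∀ k, x k ∈ O) :
    ∃ U : X.Opens, IsAffineOpen U ∧ U ≤ U₀ ⊓ O ∧ ∀ k, x k ∈ U := by
  obtain _ | d := d
  · exact ⟨⊥, isAffineOpen_bot X, bot_le, fun k => k.elim0⟩
  obtain ⟨a, ha1, ha2⟩ := exists_basicOpen_le_of_finite hU₀ O x h0 hO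
  exact ⟨X.basicOpen a, hU₀.basicOpen a, le_inf (X.basicOpen_le a) ha1, ha2⟩

/-- The covering statement for `Mor_S(Z, X)`: under the AF hypothesis, finitely many points of a
fibre over `s ∈ V` lie in an affine open `U` of `X` with `U ≤ f ⁻¹ᵁ V`. -/
theorem exists_affine_le_preimage {X S : Scheme.{u}} (f : X ⟶ S)
    (hAF : ∀ (s : S) (d : ℕ) (x : Fin d → ↥X), (∀ k, f (x k) = s) →
      ∃ U : X.Opens, IsAffineOpen U ∧ ∀ k, x k ∈ U)
    (s : S) (V : S.Opens) (hsV : s ∈ V) (d : ℕ) (x : Fin d → X) (hx : ∀ k, f (x k) = s) :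
    ∃ U : X.Opens, IsAffineOpen U ∧ U ≤ f ⁻¹ᵁ V ∧ ∀ k, x k ∈ U := by
  obtain ⟨U₀, hU₀, hxU₀⟩ := hAF s d x hx
  obtain ⟨U, hU, hle, hxU⟩ := exists_affine_le_of_mem hU₀ (f ⁻¹ᵁ V) x hxU₀
    (fun k => by
      have h : f (x k) ∈ V := by rw [hx k]; exact hsV
      exact h)
  exact ⟨U, hU, hle.trans inf_le_right, hxU⟩

end Groth.Agent.Helper9.AFcov
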