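import Mathlib
import Groth.Agent.Lib.Helper9.AdicFin

/-!
# Finiteness of completed differentials (EGA 0_IV 20.7.15)
-/

set_option autoImplicit false
set_option linter.unusedSectionVars false

open TensorProduct KaehlerDifferential

namespace Groth.Agent.Helper9.AdicFin

universe u

variable {A B : Type u} [CommRing A] [CommRing B] [Algebra A B] (𝔫 : Ideal B)

theorem finite_kaehler_tensor_quotient [Module.Finite (B ⧸ 𝔫) (Ω[B ⧸ 𝔫⁄A])]
    [Module.Finite (B ⧸ 𝔫) 𝔫.Cotangent] :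
    Module.Finite B ((B ⧸ 𝔫) ⊗[B] Ω[B⁄A]) := by
  have hsurj : Function.Surjective (algebraMap B (B ⧸ 𝔫)) := Ideal.Quotient.mk_surjective
  have hker : RingHom.ker (algebraMap B (B ⧸ 𝔫)) = 𝔫 := Ideal.mk_ker
  haveI h1 : Module.Finite B 𝔫.Cotangent := Module.Finite.trans (B ⧸ 𝔫) _
  haveI h2 : Module.Finite B (Ω[B ⧸ 𝔫⁄A]) := Module.Finite.trans (B ⧸ 𝔫) _
  have h1' : Module.Finite B (RingHom.ker (algebraMap B (B ⧸ 𝔫))).Cotangent := by
    rw [hker]; exact h1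
  constructor
  apply Submodule.fg_of_fg_map_of_fg_inf_ker ((mapBaseChange A B (B ⧸ 𝔫)).restrictScalars B)
  · rw [Submodule.map_top, LinearMap.range_eq_top.mpr
      (by exact mapBaseChange_surjective A B (B ⧸ 𝔫) hsurj)]
    exact Module.Finite.fg_top
  · rw [top_inf_eq]
    have : LinearMap.ker ((mapBaseChange A B (B ⧸ 𝔫)).restrictScalars B) =
        LinearMap.range (kerCotangentToTensor A B (B ⧸ 𝔫)) := by
      rw [range_kerCotangentToTensor A B (B ⧸ 𝔫) hsurj]; rfl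
    rw [this, LinearMap.range_eq_map]
    exact h1'.1.map _

theorem finite_kaehler_quotient [Module.Finite (B ⧸ 𝔫) (Ω[B ⧸ 𝔫⁄A])]
    [Module.Finite (B ⧸ 𝔫) 𝔫.Cotangent] :
    Module.Finite B (Ω[B⁄A] ⧸ (𝔫 • ⊤ : Submodule B Ω[B⁄A])) := by
  haveI := finite_kaehler_tensor_quotient (A := A) 𝔫
  exact Module.Finite.equiv (TensorProduct.quotTensorEquivQuotSMul (Ω[B⁄A]) 𝔫)

/-- EGA 0_IV 20.7.15. -/
theorem finite_adicCompletion_kaehler [IsPrecomplete 𝔫 B] [Module.Finite (B ⧸ 𝔫) (Ω[B ⧸ 𝔫⁄A])]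
    [Module.Finite (B ⧸ 𝔫) 𝔫.Cotangent] :
    Module.Finite B (AdicCompletion 𝔫 (Ω[B⁄A])) := by
  haveI := finite_kaehler_quotient (A := A) 𝔫
  exact finite_adicCompletion 𝔫

end Groth.Agent.Helper9.AdicFin
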