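import Mathlib
import Groth.Prelude.Def_EGA41
import Groth.Agent.Lib.Helper9.PBasisField4

/-!
# Admissible cofinite subfields (EGA 0_IV 21.8.?)
Given a `p`-basis `T` of `K` over `k₀` and a finite subset `F ⊆ T`, the field `k = k₀(K^p)(T ∖ F)`
is cofinite in `K`, and `F` is a `p`-basis of `K` over `k`.
-/

set_option autoImplicit false
universe u

namespace Groth.Agent.Helper9.AdmCofinite

open EGA41 TensorProduct KaehlerDifferential Groth.Agent.Helper9.PBasis

variable (p : ℕ) [hp : Fact p.Prime] {k₀ K : Type u} [Field k₀] [Field K] [Algebra k₀ K] [CharP K p]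

/-- the subfield generated over `k₀` by `K^p` and the `x_t`, `t ∉ F`. -/
def cof (T : Set K) (F : Finset T) : IntermediateField k₀ K :=
  IntermediateField.adjoin k₀
    ((Set.range fun y : K => y ^ p) ∪ (Subtype.val '' {t : T | t ∉ F}))

lemma pow_mem_cof (T : Set K) (F : Finset T) (y : K) : y ^ p ∈ cof (k₀ := k₀) p T F :=
  IntermediateField.subset_adjoin _ _ (Or.inl ⟨y, rfl⟩)

lemma mem_cof_of_notMem (T : Set K) (F : Finset T) (t : T) (ht : t ∉ F) :
    (t : K) ∈ cof (k₀ := k₀) p T F :=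
  IntermediateField.subset_adjoin _ _ (Or.inr ⟨t, ht, rfl⟩)

theorem finite_cof (T : Set K) (hT : IsPGenerating p k₀ (Subtype.val : T → K)) (F : Finset T) :
    Module.Finite (cof (k₀ := k₀) p T F) K := by
  classical
  haveI : Algebra.IsIntegral (cof (k₀ := k₀) p T F) K := ⟨fun y =>
    IsIntegral.of_pow hp.out.pos (by
      have : y ^ p = algebraMap (cof (k₀ := k₀) p T F) K ⟨y ^ p, pow_mem_cof p T F y⟩ := rfl
      rw [this]; exact isIntegral_algebraMap)⟩
  haveI : Algebra.FiniteType (cof (k₀ := k₀) p T F) K := by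
    refine ⟨⟨F.image Subtype.val, ?_⟩⟩
    rw [eq_top_iff]
    rw [isPGenerating_iff_adjoin, Subtype.range_coe] at hT
    intro y _
    have hy : y ∈ Algebra.adjoin (pPowerSubalgebra p k₀ K) T := hT ▸ Algebra.mem_top
    have hle : pPowerSubalgebra p k₀ K ≤ (cof (k₀ := k₀) p T F).toSubalgebra := by
      unfold pPowerSubalgebra
      rw [Algebra.adjoin_le_iff]
      rintro _ ⟨z, rfl⟩
      exact pow_mem_cof p T F z
    refine Algebra.adjoin_induction ?_ ?_ ?_ ?_ hy
    · intro t ht
      by_cases htF : (⟨t, ht⟩ : T) ∈ F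
      · apply Algebra.subset_adjoin
        rw [Finset.coe_image]
        exact ⟨⟨t, ht⟩, htF, rfl⟩
      · have := mem_cof_of_notMem (k₀ := k₀) p T F ⟨t, ht⟩ htF
        exact Subalgebra.algebraMap_mem _ (⟨t, this⟩ : cof (k₀ := k₀) p T F)
    · intro c
      exact Subalgebra.algebraMap_mem _ (⟨(c : K), hle c.2⟩ : cof (k₀ := k₀) p T F)
    · intro x y _ _ hx hy
      exact add_mem hx hy
    · intro x y _ _ hx hy
      exact mul_mem hx hy
  exact Algebra.IsIntegral.finite

theorem isPIndependent_cof (T : Set K) (hT : IsPIndependent p k₀ (Subtype.val : T → K))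
    (F : Finset T) :
    IsPIndependent p (cof (k₀ := k₀) p T F) (fun t : F => ((t : T) : K)) := by
  rw [isPIndependent_iff_notMem]
  intro a hmem
  have h1 := (isPIndependent_iff_notMem (p := p) (k := k₀) (Subtype.val : T → K)).mp hT (a : T)
  apply h1
  have h2 : ((a : T) : K) ∈ (IntermediateField.adjoin (IntermediateField.adjoin k₀
      ((Set.range fun y : K => y ^ p) ∪ (Subtype.val '' {t : T | t ∉ F})))
      ((Set.range fun y : K => y ^ p) ∪
        (fun t : F => ((t : T) : K)) '' {b | b ≠ a})).restrictScalars k₀ := hmem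
  rw [IntermediateField.adjoin_adjoin_left] at h2
  refine IntermediateField.adjoin.mono k₀ _ _ ?_ h2
  rintro y ((⟨z, rfl⟩ | ⟨t, ht, rfl⟩) | (⟨z, rfl⟩ | ⟨t, ht, rfl⟩))
  · exact Or.inl ⟨z, rfl⟩
  · refine Or.inr ⟨t, fun h => ht ?_, rfl⟩
    rw [h]; exact a.2
  · exact Or.inl ⟨z, rfl⟩
  · exact Or.inr ⟨(t : T), fun h => ht (Subtype.ext h), rfl⟩

end Groth.Agent.Helper9.AdmCofinite
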