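import Mathlib
import Groth.Prelude.Def_EGA41
import Groth.Agent.Lib.Helper9.AdmCofinite

/-!
# Existence of admissible cofinite subfields (EGA 0_IV 21.8.?)
-/

set_option autoImplicit false
universe u

namespace Groth.Agent.Helper9.AdmCofinite

open EGA41 TensorProduct KaehlerDifferential Groth.Agent.Helper9.PBasis

theorem main (p : ℕ) [Fact p.Prime] {k₀ K L : Type u} [Field k₀] [Field K] [Field L]
    [Algebra k₀ K] [Algebra K L] [Algebra k₀ L] [IsScalarTower k₀ K L] [CharP K p]
    [Module.Finite L (EGA41.imperfection k₀ K L)] :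
    ∃ k : IntermediateField k₀ K, (∀ y : K, y ^ p ∈ k) ∧ Module.Finite k K ∧
      ∀ ω ∈ EGA41.imperfection k₀ K L,
        ((KaehlerDifferential.map k₀ k K K).restrictScalars K).baseChange L ω = 0 → ω = 0 := by
  classical
  obtain ⟨T, hT⟩ := exists_pBasis p k₀ K
  have hLI : LinearIndependent K (fun t : T => D k₀ K (t : K)) :=
    ((pBasis_criteria (p := p) (k := k₀) (Subtype.val : T → K)).1).mp hT.1
  have hsp : Submodule.span K (Set.range fun t : T => D k₀ K (t : K)) = ⊤ :=
    ((pBasis_criteria (p := p) (k := k₀) (Subtype.val : T → K)).2.1).mp hT.2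
  let b : Module.Basis T K Ω[K⁄k₀] := Module.Basis.mk hLI (by rw [hsp])
  have hb : ∀ t, b t = D k₀ K (t : K) := fun t => by
    simp only [b, Module.Basis.mk_apply]
  let B : Module.Basis T L (L ⊗[K] Ω[K⁄k₀]) := b.baseChange L
  have hB : ∀ t, B t = (1 : L) ⊗ₜ[K] D k₀ K (t : K) := fun t => by
    simp only [B, Module.Basis.baseChange_apply, hb]
  obtain ⟨S, hS⟩ : (⊤ : Submodule L (EGA41.imperfection k₀ K L)).FG := Module.Finite.fg_top
  let F : Finset T := S.biUnion (fun ω => (B.repr (ω : L ⊗[K] Ω[K⁄k₀])).support)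
  refine ⟨cof p T F, pow_mem_cof p T F, finite_cof p T hT.2 F, ?_⟩
  intro ω hω h0
  -- coordinates outside `F` vanish on the imperfection module
  have hout : ∀ t, t ∉ F → B.repr ω t = 0 := by
    intro t ht
    let φ : EGA41.imperfection k₀ K L →ₗ[L] L :=
      (B.coord t) ∘ₗ (EGA41.imperfection k₀ K L).subtype
    have hφ : φ = 0 := by
      apply LinearMap.ext_on hS
      intro s hs
      change B.repr (s : L ⊗[K] Ω[K⁄k₀]) t = 0
      by_contra hne
      exact ht (Finset.mem_biUnion.mpr ⟨s, hs, Finsupp.mem_support_iff.mpr hne⟩)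
    have := LinearMap.congr_fun hφ ⟨ω, hω⟩
    exact this
  -- expand `ω` on the basis
  have hω' : ω = ∑ t ∈ F, B.repr ω t • B t := by
    conv_lhs => rw [← B.linearCombination_repr ω, Finsupp.linearCombination_apply]
    refine Finset.sum_subset ?_ ?_
    · intro t ht
      by_contra htF
      exact (Finsupp.mem_support_iff.mp ht) (hout t htF)
    · intro t _ ht
      change B.repr ω t • B t = 0
      rw [Finsupp.notMem_support_iff.mp ht, zero_smul]
  -- the family `1 ⊗ d x_t`, `t ∈ F`, is linearly independent over `L`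
  have hLI' : LinearIndependent L (fun t : F =>
      (1 : L) ⊗ₜ[K] D (cof (k₀ := k₀) p T F) K ((t : T) : K)) :=
    Module.Flat.linearIndependent_one_tmul
      (linearIndependent_D_of_isPIndependent (isPIndependent_cof p T hT.1 F))
  have hΦ : ∀ t : T, ((KaehlerDifferential.map k₀ (cof (k₀ := k₀) p T F) K K).restrictScalars
      K).baseChange L (B t) = (1 : L) ⊗ₜ[K] D (cof (k₀ := k₀) p T F) K (t : K) := by
    intro t
    rw [hB, LinearMap.baseChange_tmul]
    congr 1
    exact KaehlerDifferential.map_D k₀ (cof (k₀ := k₀) p T F) K K (t : K)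
  rw [hω', map_sum] at h0
  simp only [map_smul, hΦ] at h0
  rw [← Finset.sum_attach] at h0
  have hzero := (linearIndependent_iff'.mp hLI') Finset.univ (fun t : F => B.repr ω (t : T))
    (by rw [← h0]; rfl)
  have hrepr : B.repr ω = 0 := by
    ext t
    by_cases ht : t ∈ F
    · exact hzero ⟨t, ht⟩ (Finset.mem_univ _)
    · exact hout t ht
  exact B.repr.map_eq_zero_iff.mp hrepr

end Groth.Agent.Helper9.AdmCofinite
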