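import Mathlib
import Groth.Prelude.Def_Mor2

/-!
# A uniform bound on the number of affine opens covering `W ×_Y Spec B` (helper9)

For `j : W ⟶ Y` quasi-compact with `Y` quasi-compact, the fibre products `W ×_Y Spec B` are covered
by a number of affine opens which does not depend on `B` or on the morphism `Spec B ⟶ Y`:
a "partition of unity" on `Spec B` subordinate to the preimages of a finite affine cover of `Y`.
-/

set_option autoImplicit false
universe u
open CategoryTheory CategoryTheory.Limits AlgebraicGeometry TopologicalSpace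

namespace Groth.Agent.Helper9.AffCoverBound

/-- in a fibre product, the intersection of the preimages of affine opens lying over a common affine
open of the base is affine (same proof as helper28's `BoxAmple.isAffineOpen_pullback_inf`). -/
theorem isAffineOpen_pullback_inf {X Y Z : Scheme.{u}} {f : X ⟶ Z} {g : Y ⟶ Z}
    {U : X.Opens} (hU : IsAffineOpen U) {V : Y.Opens} (hV : IsAffineOpen V)
    {W : Z.Opens} (hW : IsAffineOpen W) (hUW : U ≤ f ⁻¹ᵁ W) (hVW : V ≤ g ⁻¹ᵁ W) :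
    IsAffineOpen (pullback.fst f g ⁻¹ᵁ U ⊓ pullback.snd f g ⁻¹ᵁ V) := by
  have : IsAffine U.toScheme := hU
  have : IsAffine V.toScheme := hV
  have : IsAffine W.toScheme := hW
  let f' : U.toScheme ⟶ W := f.resLE _ _ hUW
  let g' : V.toScheme ⟶ W := g.resLE _ _ hVW
  let p : pullback f' g' ⟶ pullback f g :=
    pullback.map _ _ _ _ U.ι V.ι W.ι (by simp [f']) (by simp [g'])
  have hp := isAffineOpen_opensRange p
  convert hp using 1
  apply TopologicalSpace.Opens.ext
  simp [p, Scheme.Pullback.range_map]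

/-- partition of unity on `Spec B` subordinate to a finite open cover given by preimages. -/
theorem exists_partition {Y : Scheme.{u}} {ι : Type*} [Finite ι] (V : ι → Y.Opens)
    (hV : ∀ y : Y, ∃ i, y ∈ V i) (B : CommRingCat.{u}) (g : Spec B ⟶ Y) :
    ∃ b : ι → B, (∀ q : PrimeSpectrum B, ∃ i, b i ∉ q.asIdeal) ∧
      ∀ (i : ι) (q : PrimeSpectrum B), b i ∉ q.asIdeal → g q ∈ V i := by
  classical
  haveI : Fintype ι := Fintype.ofFinite ι
  let IK : ι → Ideal B := fun i =>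
    PrimeSpectrum.vanishingIdeal {q : PrimeSpectrum B | g q ∉ V i}
  have hcl : ∀ i, IsClosed {q : PrimeSpectrum B | g q ∉ V i} := fun i =>
    ((V i).isOpen.preimage g.continuous).isClosed_compl
  have hIK : (⨆ i, IK i) = ⊤ := by
    rw [← PrimeSpectrum.zeroLocus_empty_iff_eq_top, PrimeSpectrum.zeroLocus_iSup,
      Set.eq_empty_iff_forall_notMem]
    intro q hq
    rw [Set.mem_iInter] at hq
    obtain ⟨i, hi⟩ := hV (g q)
    have h3 := hq i
    simp only [IK] at h3
    rw [PrimeSpectrum.zeroLocus_vanishingIdeal_eq_closure, (hcl i).closure_eq] at h3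
    exact h3 hi
  have h1 : (1 : B) ∈ ⨆ i ∈ (Finset.univ : Finset ι), IK i := by
    simp only [Finset.mem_univ, iSup_pos]
    rw [hIK]
    trivial
  obtain ⟨μ, hμ⟩ := (Submodule.mem_iSup_finset_iff_exists_sum IK 1).mp h1
  refine ⟨fun i => (μ i : B), fun q => ?_, fun i q hq => ?_⟩
  · by_contra hcon
    push_neg at hcon
    have : (1 : B) ∈ q.asIdeal := by
      rw [← hμ]
      exact Ideal.sum_mem _ (fun i _ => hcon i)
    exact q.2.ne_top ((Ideal.eq_top_iff_one _).mpr this)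
  · by_contra hcon
    have h4 := (PrimeSpectrum.mem_vanishingIdeal _ _).mp (μ i).2 q hcon
    exact hq h4

/-- **uniform affine cover bound** for the fibre products `W ×_Y Spec B`. -/
theorem main {W Y : Scheme.{u}} (j : W ⟶ Y) [CompactSpace Y] [QuasiCompact j] :
    ∃ m : ℕ, ∀ (B : CommRingCat.{u}) (g : Spec B ⟶ Y),
      ∃ U : Fin m → (Limits.pullback j g).Opens, (∀ k, IsAffineOpen (U k)) ∧ ⨆ k, U k = ⊤ := by
  classical
  obtain ⟨I, hI, eI⟩ := isCompact_iff_finite_and_eq_biUnion_affineOpens.mp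
    (show IsCompact (X := Y) ((⊤ : Y.Opens) : Set Y) from by
      rw [TopologicalSpace.Opens.coe_top]; exact isCompact_univ)
  haveI : Finite I := hI.to_subtype
  have h2 : ∀ V : I, ∃ J : Set W.affineOpens, J.Finite ∧
      (j ⁻¹ᵁ (V.1 : Y.Opens)) = ⨆ i ∈ J, (i : W.Opens) := fun V =>
    isCompact_iff_finite_and_eq_biUnion_affineOpens.mp (j.isCompact_preimage V.1.2.isCompact)
  choose J hJ eJ using h2
  haveI : ∀ V : I, Finite (J V) := fun V => (hJ V).to_subtype
  obtain ⟨m, ⟨e⟩⟩ := Finite.exists_equiv_fin (Σ V : I, J V)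
  refine ⟨m, fun B g => ?_⟩
  have hcov : ∀ y : Y, ∃ V : I, y ∈ (V.1 : Y.Opens) := by
    intro y
    have hy : y ∈ (⊤ : Y.Opens) := trivial
    rw [eI] at hy
    obtain ⟨V, hy⟩ := TopologicalSpace.Opens.mem_iSup.mp hy
    obtain ⟨hV, hy⟩ := TopologicalSpace.Opens.mem_iSup.mp hy
    exact ⟨⟨V, hV⟩, hy⟩
  obtain ⟨b, hb1, hb2⟩ := exists_partition (fun V : I => (V.1 : Y.Opens)) hcov B g
  let D : I → (Spec B).Opens := fun V => PrimeSpectrum.basicOpen (b V)
  have hDaff : ∀ V, IsAffineOpen (D V) := fun V => by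
    have h := (isAffineOpen_top (Spec B)).basicOpen ((Scheme.ΓSpecIso B).inv (b V))
    rw [basicOpen_eq_of_affine] at h
    exact h
  have hDle : ∀ V : I, D V ≤ g ⁻¹ᵁ (V.1 : Y.Opens) := fun V q hq => hb2 V q hq
  have hJle : ∀ (V : I) (i : J V), ((i.1 : W.affineOpens) : W.Opens) ≤ j ⁻¹ᵁ (V.1 : Y.Opens) := by
    intro V i
    rw [eJ V]
    exact le_iSup₂ (f := fun (k : W.affineOpens) (_ : k ∈ J V) => (k : W.Opens)) i.1 i.2
  refine ⟨fun k => pullback.fst j g ⁻¹ᵁ (((e.symm k).2.1 : W.affineOpens) : W.Opens) ⊓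
      pullback.snd j g ⁻¹ᵁ D (e.symm k).1, fun k => ?_, ?_⟩
  · exact isAffineOpen_pullback_inf (e.symm k).2.1.2 (hDaff _) (e.symm k).1.1.2
      (hJle _ _) (hDle _)
  · rw [eq_top_iff]
    intro p _
    obtain ⟨V, hV⟩ := hb1 (pullback.snd j g p)
    have hgV : g (pullback.snd j g p) ∈ (V.1 : Y.Opens) := hb2 V _ hV
    have hcond : j (pullback.fst j g p) = g (pullback.snd j g p) := by
      rw [← Scheme.Hom.comp_apply, ← Scheme.Hom.comp_apply, pullback.condition]
    have hfst : pullback.fst j g p ∈ j ⁻¹ᵁ (V.1 : Y.Opens) := by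
      change j (pullback.fst j g p) ∈ (V.1 : Y.Opens)
      rw [hcond]; exact hgV
    rw [eJ V] at hfst
    obtain ⟨i, hfst⟩ := TopologicalSpace.Opens.mem_iSup.mp hfst
    obtain ⟨hi, hfst⟩ := TopologicalSpace.Opens.mem_iSup.mp hfst
    refine TopologicalSpace.Opens.mem_iSup.mpr ⟨e ⟨V, ⟨i, hi⟩⟩, ?_⟩
    have hk : e.symm (e ⟨V, ⟨i, hi⟩⟩) = ⟨V, ⟨i, hi⟩⟩ := e.symm_apply_apply _
    show p ∈ pullback.fst j g ⁻¹ᵁ (((e.symm (e ⟨V, ⟨i, hi⟩⟩)).2.1 : W.affineOpens) : W.Opens) ⊓
      pullback.snd j g ⁻¹ᵁ D (e.symm (e ⟨V, ⟨i, hi⟩⟩)).1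
    rw [hk]
    exact ⟨hfst, hV⟩

end Groth.Agent.Helper9.AffCoverBound
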