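import Mathlib
import Groth.Prelude.Def_EGA4Misc
import Groth.Agent.Lib.Helper14.RadAt
import Groth.Agent.Lib.Helper2.GenericPtsTop

/-!
# Birational morphisms (in the pointwise form of the prelude) and flat base change (helper9)
-/

set_option autoImplicit false
universe u

namespace Groth.Agent.Helper9.Birat
open AlgebraicGeometry CategoryTheory Limits Topology
open Groth.Agent.Helper14.RadAt (fiberι_mem bijective_residueFieldMap)
open Groth.Agent.Helper2.GenericPtsTop (mem_genericPoints_iff)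

theorem bij_iff_of_square {F E K F' : Type*} [Semiring F] [Semiring E] [Semiring K] [Semiring F']
    (a : F →+* E) (b : E →+* K) (c : F →+* F')
    (d : F' →+* K) (hsq : b.comp a = d.comp c) (hb : Function.Bijective b)
    (hc : Function.Bijective c) : Function.Bijective a ↔ Function.Bijective d := by
  have h1 : Function.Bijective (b ∘ a) ↔ Function.Bijective a :=
    Function.Bijective.of_comp_iff' hb a
  have h2 : Function.Bijective (d ∘ c) ↔ Function.Bijective d :=
    Function.Bijective.of_comp_iff d hc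
  have h3 : (b ∘ a : F → K) = d ∘ c := by
    funext t
    exact congrArg (fun φ : F →+* K => φ t) hsq
  rw [← h1, h3, h2]

theorem bij_fiber_iff {X Y : Scheme.{u}} (f : X ⟶ Y) (y : Y) (z : f.fiber y) :
    Function.Bijective (f.residueFieldMap (f.fiberι y z)).hom ↔
      Function.Bijective ((f.fiberToSpecResidueField y).residueFieldMap z).hom := by
  have e := Scheme.Hom.residueFieldMap_congr (f.fiber_fac y) z
  rw [Scheme.residueFieldMap_comp, Scheme.residueFieldMap_comp] at e
  refine bij_iff_of_square (f.residueFieldMap (f.fiberι y z)).hom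
    ((f.fiberι y).residueFieldMap z).hom
    (((Y.fromSpecResidueField y).residueFieldMap (f.fiberToSpecResidueField y z)).hom.comp
      (Y.residueFieldCongr (by
        rw [← Scheme.Hom.comp_apply, ← Scheme.Hom.comp_apply, f.fiber_fac y])).hom.hom)
    ((f.fiberToSpecResidueField y).residueFieldMap z).hom ?_ ?_ ?_
  · have := congrArg CommRingCat.Hom.hom e
    simpa [RingHom.comp_assoc] using this
  · exact bijective_residueFieldMap _ _
  · refine (bijective_residueFieldMap _ _).comp ?_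
    exact ConcreteCategory.bijective_of_isIso (Y.residueFieldCongr _).hom

/-- a point with trivial residue field extension gives a section of the fibre. -/
theorem exists_section {X Y : Scheme.{u}} (f : X ⟶ Y) (y : Y) (x : X) (hx : f x = y)
    (hbij : Function.Bijective (f.residueFieldMap x).hom) :
    ∃ σ : Spec (Y.residueField y) ⟶ f.fiber y, σ ≫ f.fiberToSpecResidueField y = 𝟙 _ ∧
      ∀ z : f.fiber y, f.fiberι y z = x → z ∈ Set.range σ := by
  subst hx
  haveI : IsIso (f.residueFieldMap x) := (ConcreteCategory.isIso_iff_bijective _).mpr hbij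
  refine ⟨Spec.map (inv (f.residueFieldMap x)) ≫ f.asFiberHom x, ?_, ?_⟩
  · rw [Category.assoc, f.asFiberHom_fiberToSpecResidueField, ← Spec.map_comp,
      IsIso.hom_inv_id, Spec.map_id]
  · intro z hz
    have hz' : z = f.asFiber x :=
      (f.fiberι _).isEmbedding.injective (by rw [hz, f.fiberι_asFiber])
    subst hz'
    refine ⟨(IsLocalRing.closedPoint (Y.residueField (f x)) : PrimeSpectrum _), ?_⟩
    rw [Scheme.Hom.comp_apply, f.asFiberHom_apply]

/-- base change of a surjective section. -/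
theorem exists_section_bc {F F' T T' : Scheme.{u}} {m : F' ⟶ F} {φ' : F' ⟶ T'} {φ : F ⟶ T}
    {ψ : T' ⟶ T} (hsq : IsPullback m φ' φ ψ) (σ : T ⟶ F) (hσ : σ ≫ φ = 𝟙 T)
    (hsurj : Function.Surjective σ) :
    ∃ σ' : T' ⟶ F', σ' ≫ φ' = 𝟙 T' ∧ Function.Surjective σ' := by
  have hw : (ψ ≫ σ) ≫ φ = 𝟙 T' ≫ ψ := by
    rw [Category.assoc, hσ, Category.comp_id, Category.id_comp]
  have h1 : hsq.lift (ψ ≫ σ) (𝟙 T') hw ≫ m = ψ ≫ σ := hsq.lift_fst _ _ _
  have h2 : hsq.lift (ψ ≫ σ) (𝟙 T') hw ≫ φ' = 𝟙 T' := hsq.lift_snd _ _ _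
  refine ⟨hsq.lift (ψ ≫ σ) (𝟙 T') hw, h2, ?_⟩
  have houter : IsPullback (hsq.lift (ψ ≫ σ) (𝟙 T') hw ≫ φ') ψ ψ (σ ≫ φ) := by
    rw [h2, hσ]
    exact IsPullback.id_horiz ψ
  have hleft : IsPullback (hsq.lift (ψ ≫ σ) (𝟙 T') hw) ψ m σ :=
    IsPullback.of_right houter h1 hsq.flip
  haveI : Surjective σ := ⟨hsurj⟩
  have : Surjective (hsq.lift (ψ ≫ σ) (𝟙 T') hw) :=
    MorphismProperty.of_isPullback (P := @Surjective) hleft.flip inferInstance
  exact this.surj

set_option backward.isDefEq.respectTransparency false in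
/-- a fibre consisting of one point with trivial residue field extension stays so after any base
change. -/
theorem onePt_bc {X Y X' Y' : Scheme.{u}} {f : X ⟶ Y} {g : Y' ⟶ Y} {f' : X' ⟶ Y'} {g' : X' ⟶ X}
    (sq : IsPullback g' f' f g) (y' : Y') (x : X) (hx : f x = g y')
    (huniq : ∀ x₁ x₂ : X, f x₁ = g y' → f x₂ = g y' → x₁ = x₂)
    (hbij : Function.Bijective (f.residueFieldMap x).hom) :
    (∃ x' : X', f' x' = y') ∧ (∀ x₁ x₂ : X', f' x₁ = y' → f' x₂ = y' → x₁ = x₂) ∧
      ∀ x' : X', f' x' = y' → Function.Bijective (f'.residueFieldMap x').hom := by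
  obtain ⟨σ, hσ, hσr⟩ := exists_section f (g y') x hx hbij
  have hsurj : Function.Surjective σ := fun z => hσr z (huniq _ _ (fiberι_mem f _ z) hx)
  have hsq := isPullback_fiberToSpecResidueField_of_isPullback sq y'
  obtain ⟨σ', hσ', hσ's⟩ : ∃ σ' : Spec (Y'.residueField y') ⟶ f'.fiber y',
      σ' ≫ f'.fiberToSpecResidueField y' = 𝟙 _ ∧ Function.Surjective σ' :=
    exists_section_bc hsq σ hσ hsurj
  obtain ⟨t⟩ : Nonempty (Spec (Y'.residueField y')) :=
    ⟨(IsLocalRing.closedPoint (Y'.residueField y') : PrimeSpectrum _)⟩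
  have hall : ∀ z' : f'.fiber y', z' = σ' t := by
    intro z'
    obtain ⟨s, rfl⟩ := hσ's z'
    congr 1
    exact Subsingleton.elim (α := PrimeSpectrum _) _ _
  have hfib : ∀ x' : X', f' x' = y' → x' = f'.fiberι y' (σ' t) := by
    intro x' hx'
    have : x' ∈ Set.range (f'.fiberι y') := by rw [f'.range_fiberι]; exact hx'
    obtain ⟨z', rfl⟩ := this
    rw [hall z']
  refine ⟨⟨f'.fiberι y' (σ' t), fiberι_mem f' y' _⟩, ?_, ?_⟩
  · intro x₁ x₂ h₁ h₂
    rw [hfib x₁ h₁, hfib x₂ h₂]
  · intro x' hx'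
    obtain rfl := hfib x' hx'
    rw [bij_fiber_iff]
    have e := Scheme.Hom.residueFieldMap_congr hσ' t
    rw [Scheme.residueFieldMap_comp, Scheme.residueFieldMap_id] at e
    replace e := e.trans (Category.comp_id _)
    have hC : Function.Bijective
        (((f'.fiberToSpecResidueField y').residueFieldMap (σ' t)) ≫ σ'.residueFieldMap t).hom := by
      rw [e]
      exact ConcreteCategory.bijective_of_isIso _
    rw [CommRingCat.hom_comp, RingHom.coe_comp] at hC
    have hB : Function.Bijective (σ'.residueFieldMap t).hom :=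
      ⟨(σ'.residueFieldMap t).hom.injective, Function.Surjective.of_comp hC.2⟩
    exact (Function.Bijective.of_comp_iff' hB _).mp hC

theorem mem_genericPoints_of_generalizing {A B : Type*} [TopologicalSpace A] [TopologicalSpace B]
    [QuasiSober A] [QuasiSober B] {p : A → B} (hp : Continuous p) (hg : GeneralizingMap p) {a : A}
    (ha : a ∈ genericPoints A) : p a ∈ genericPoints B := by
  rw [mem_genericPoints_iff] at ha ⊢
  intro b' hb'
  obtain ⟨a', ha', rfl⟩ := hg hb'
  exact (ha a' ha').map hp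

theorem main {X Y X' Y' : Scheme.{u}} {f : X ⟶ Y} {g : Y' ⟶ Y} [Flat g] {f' : X' ⟶ Y'}
    {g' : X' ⟶ X} (sq : IsPullback g' f' f g) (hf : RadPt.IsBirational f) :
    RadPt.IsBirational f' := by
  obtain ⟨hbij, hfib⟩ := hf
  haveI : Flat g' := MorphismProperty.of_isPullback (P := @Flat) sq.flip inferInstance
  have hgen : ∀ {y' : Y'}, y' ∈ genericPoints Y' → g y' ∈ genericPoints Y := fun h =>
    mem_genericPoints_of_generalizing g.continuous (Flat.generalizingMap g) h
  have hgen' : ∀ {x' : X'}, x' ∈ genericPoints X' → g' x' ∈ genericPoints X := fun h =>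
    mem_genericPoints_of_generalizing g'.continuous (Flat.generalizingMap g') h
  have F3 : ∀ y' : Y', g y' ∈ genericPoints Y →
      (∃ x' : X', f' x' = y') ∧ (∀ x₁ x₂ : X', f' x₁ = y' → f' x₂ = y' → x₁ = x₂) ∧
      ∀ x' : X', f' x' = y' → Function.Bijective (f'.residueFieldMap x').hom := by
    intro y' hy
    obtain ⟨x, -, hx⟩ := hbij.surjOn hy
    obtain ⟨hu, hb⟩ := hfib (g y') hy
    exact onePt_bc sq y' x hx hu (hb x hx)
  have hw : ∀ x' : X', f (g' x') = g (f' x') := fun x' => by
    rw [← Scheme.Hom.comp_apply, ← Scheme.Hom.comp_apply, sq.w]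
  have M1 : ∀ x' ∈ genericPoints X', f' x' ∈ genericPoints Y' := by
    intro x' hx'
    have hx : g' x' ∈ genericPoints X := hgen' hx'
    have hy : g (f' x') ∈ genericPoints Y := by
      rw [← hw]
      exact hbij.mapsTo hx
    rw [mem_genericPoints_iff]
    intro y'' hy''
    have h1 : g y'' ⤳ g (f' x') := hy''.map g.continuous
    have h2 : g (f' x') ⤳ g y'' := (mem_genericPoints_iff _).mp hy _ h1
    have h3 : g y'' = g (f' x') := (h1.antisymm h2).eq
    obtain ⟨x, -, hx0⟩ := hbij.surjOn hy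
    obtain ⟨hu, hb⟩ := hfib (g (f' x')) hy
    obtain ⟨σ, hσ, -⟩ := exists_section f (g (f' x')) x hx0 (hb x hx0)
    obtain ⟨b, hb'⟩ : ∃ b : Spec (Y.residueField (g (f' x'))) ⟶ X,
        b ≫ f = Y.fromSpecResidueField (g (f' x')) := by
      refine ⟨σ ≫ f.fiberι _, ?_⟩
      rw [Category.assoc, f.fiber_fac, ← Category.assoc, hσ, Category.id_comp]
    have hcomm : (g.fiberToSpecResidueField (g (f' x')) ≫ b) ≫ f =
        g.fiberι (g (f' x')) ≫ g := by
      rw [Category.assoc, hb', g.fiber_fac]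
    obtain ⟨s, hs⟩ : ∃ s : g.fiber (g (f' x')) ⟶ X', s ≫ f' = g.fiberι (g (f' x')) :=
      ⟨sq.lift _ _ hcomm, sq.lift_snd _ _ _⟩
    have hy'mem : f' x' ∈ Set.range (g.fiberι (g (f' x'))) := by
      rw [g.range_fiberι]
      rfl
    have hy''mem : y'' ∈ Set.range (g.fiberι (g (f' x'))) := by
      rw [g.range_fiberι]
      exact h3
    obtain ⟨z', hz'⟩ := hy'mem
    obtain ⟨z'', hz''⟩ := hy''mem
    have hspec : z'' ⤳ z' := by
      rw [← (g.fiberι (g (f' x'))).isEmbedding.isInducing.specializes_iff, hz', hz'']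
      exact hy''
    have hsspec : s z'' ⤳ s z' := hspec.map s.continuous
    have hsz' : f' (s z') = f' x' := by rw [← Scheme.Hom.comp_apply, hs, hz']
    have hsz'' : f' (s z'') = y'' := by rw [← Scheme.Hom.comp_apply, hs, hz'']
    have hxeq : s z' = x' := (F3 (f' x') hy).2.1 _ _ hsz' rfl
    rw [hxeq] at hsspec
    have h4 : x' ⤳ s z'' := (mem_genericPoints_iff _).mp hx' _ hsspec
    have h5 := h4.map f'.continuous
    rw [hsz''] at h5
    exact h5
  refine ⟨⟨M1, ?_, ?_⟩, ?_⟩
  · intro x₁ h₁ x₂ h₂ h12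
    have hy' := M1 x₁ h₁
    exact (F3 (f' x₁) (hgen hy')).2.1 x₁ x₂ rfl h12.symm
  · intro y' hy'
    obtain ⟨⟨x', hx'⟩, hu, -⟩ := F3 y' (hgen hy')
    refine ⟨x', ?_, hx'⟩
    rw [mem_genericPoints_iff]
    intro x'' hx''
    have h1 : f' x'' ⤳ y' := by
      have := hx''.map f'.continuous
      rwa [hx'] at this
    have h2 : y' ⤳ f' x'' := (mem_genericPoints_iff _).mp hy' _ h1
    have h3 : f' x'' = y' := (h1.antisymm h2).eq
    rw [hu x'' x' h3 hx']
  · intro y' hy'
    obtain ⟨-, hu, hb⟩ := F3 y' (hgen hy')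
    exact ⟨hu, hb⟩

end Groth.Agent.Helper9.Birat
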