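import Mathlib
import Groth.Prelude.Def_ClSub2
import Groth.Agent.Lib.Helper13.AssMono2
import Groth.Agent.Lib.Helper13.LocLift
import Groth.Agent.Lib.Helper13.QCohFin
import Groth.Agent.Lib.Helper13.QCohKer
import Groth.Agent.Lib.Helper26.DevB

/-!
# The Chinese remainder exact sequence `0 → O → O/I₁ ⊕ O/I₂ → O/(I₁+I₂) → 0` (helper9)
-/

set_option autoImplicit false
set_option maxHeartbeats 800000
universe u
open CategoryTheory CategoryTheory.Limits AlgebraicGeometry Opposite TopologicalSpace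

namespace Groth.Agent.Helper9.CRT

variable {X : Scheme.{u}}

lemma biprod_sec_decomp {A B : X.Modules} (V : X.Opens) (z : Γ(A ⊞ B, V)) :
    (biprod.inl : A ⟶ A ⊞ B).app V ((biprod.fst : A ⊞ B ⟶ A).app V z) +
      (biprod.inr : B ⟶ A ⊞ B).app V ((biprod.snd : A ⊞ B ⟶ B).app V z) = z := by
  have h : ((biprod.fst ≫ biprod.inl + biprod.snd ≫ biprod.inr : A ⊞ B ⟶ A ⊞ B)).app V z =
      (𝟙 (A ⊞ B) : A ⊞ B ⟶ A ⊞ B).app V z := by rw [biprod.total]
  rw [Scheme.Modules.Hom.add_app] at h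
  exact h

/-- sections of a biproduct are determined by their two components -/
lemma biprod_sec_ext {A B : X.Modules} (V : X.Opens) (x y : Γ(A ⊞ B, V))
    (h1 : (biprod.fst : A ⊞ B ⟶ A).app V x = (biprod.fst : A ⊞ B ⟶ A).app V y)
    (h2 : (biprod.snd : A ⊞ B ⟶ B).app V x = (biprod.snd : A ⊞ B ⟶ B).app V y) : x = y := by
  rw [← biprod_sec_decomp V x, ← biprod_sec_decomp V y, h1, h2]

theorem main (X : Scheme.{u}) (I₁ I₂ : X.IdealSheafData) (h : I₁ ⊓ I₂ = ⊥)
    (q₁ : ClSub.quotMod I₁ ⟶ ClSub.quotMod (I₁ ⊔ I₂))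
    (q₂ : ClSub.quotMod I₂ ⟶ ClSub.quotMod (I₁ ⊔ I₂))
    (hq₁ : ClSub.toSubscheme I₁ ≫ q₁ = ClSub.toSubscheme (I₁ ⊔ I₂))
    (hq₂ : ClSub.toSubscheme I₂ ≫ q₂ = ClSub.toSubscheme (I₁ ⊔ I₂)) :
    Epi (biprod.desc q₁ (-q₂)) ∧
      ∃ w : biprod.lift (ClSub.toSubscheme I₁) (ClSub.toSubscheme I₂) ≫ biprod.desc q₁ (-q₂) = 0,
        Nonempty (IsLimit (KernelFork.ofι
          (biprod.lift (ClSub.toSubscheme I₁) (ClSub.toSubscheme I₂)) w)) := by
  haveI hp : Epi (ClSub.toSubscheme (I₁ ⊔ I₂)) := Groth.Agent.Helper26.DevB.epi_unitToPush _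
  haveI hq₁e : Epi q₁ := epi_of_epi_fac hq₁
  have hE : Epi (biprod.desc q₁ (-q₂)) := epi_of_epi_fac (biprod.inl_desc q₁ (-q₂))
  have w : biprod.lift (ClSub.toSubscheme I₁) (ClSub.toSubscheme I₂) ≫ biprod.desc q₁ (-q₂) = 0 := by
    rw [biprod.lift_desc, Preadditive.comp_neg, hq₁, hq₂, add_neg_cancel]
  refine ⟨hE, w, ?_⟩
  have hker : ∀ (I : X.IdealSheafData) (V : X.Opens) (hV : IsAffineOpen V) (a : Γ(X, V)),
      (ClSub.toSubscheme I).app V (Groth.Agent.Helper13.LocFree.toO V a) = 0 ↔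
        a ∈ I.ideal ⟨V, hV⟩ := by
    intro I V hV a
    rw [← Scheme.IdealSheafData.ker_subschemeι_app I ⟨V, hV⟩, RingHom.mem_ker]
    exact Iff.rfl
  have hsurj : ∀ (I : X.IdealSheafData) (V : X.Opens) (hV : IsAffineOpen V)
      (t : Γ(ClSub.quotMod I, V)),
      ∃ a : Γ(X, V), (ClSub.toSubscheme I).app V (Groth.Agent.Helper13.LocFree.toO V a) = t := by
    intro I V hV t
    obtain ⟨a, ha⟩ := Scheme.IdealSheafData.subschemeι_app_surjective I ⟨V, hV⟩
      (show Γ(I.subscheme, I.subschemeι ⁻¹ᵁ V) from t)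
    exact ⟨a, ha⟩
  have hmono : Mono (biprod.lift (ClSub.toSubscheme I₁) (ClSub.toSubscheme I₂)) := by
    apply Preadditive.mono_of_kernel_zero
    apply Groth.Agent.Helper13.AssMono.eq_zero_of_app_affine
    intro V hV s
    have h0 : (biprod.lift (ClSub.toSubscheme I₁) (ClSub.toSubscheme I₂)).app V
        ((kernel.ι (biprod.lift (ClSub.toSubscheme I₁) (ClSub.toSubscheme I₂))).app V s) = 0 := by
      have h' : (kernel.ι (biprod.lift (ClSub.toSubscheme I₁) (ClSub.toSubscheme I₂)) ≫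
          biprod.lift (ClSub.toSubscheme I₁) (ClSub.toSubscheme I₂)).app V s = 0 := by
        rw [kernel.condition]; rfl
      exact h'
    have h1 : (ClSub.toSubscheme I₁).app V
        ((kernel.ι (biprod.lift (ClSub.toSubscheme I₁) (ClSub.toSubscheme I₂))).app V s) = 0 := by
      have h' : (biprod.lift (ClSub.toSubscheme I₁) (ClSub.toSubscheme I₂) ≫ biprod.fst).app V
          ((kernel.ι (biprod.lift (ClSub.toSubscheme I₁) (ClSub.toSubscheme I₂))).app V s) =
          (biprod.fst : ClSub.quotMod I₁ ⊞ ClSub.quotMod I₂ ⟶ ClSub.quotMod I₁).app V 0 :=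
        congrArg _ h0
      rw [biprod.lift_fst, map_zero] at h'
      exact h'
    have h2 : (ClSub.toSubscheme I₂).app V
        ((kernel.ι (biprod.lift (ClSub.toSubscheme I₁) (ClSub.toSubscheme I₂))).app V s) = 0 := by
      have h' : (biprod.lift (ClSub.toSubscheme I₁) (ClSub.toSubscheme I₂) ≫ biprod.snd).app V
          ((kernel.ι (biprod.lift (ClSub.toSubscheme I₁) (ClSub.toSubscheme I₂))).app V s) =
          (biprod.snd : ClSub.quotMod I₁ ⊞ ClSub.quotMod I₂ ⟶ ClSub.quotMod I₂).app V 0 :=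
        congrArg _ h0
      rw [biprod.lift_snd, map_zero] at h'
      exact h'
    have m1 := (hker I₁ V hV (Groth.Agent.Helper13.LocFree.ofO V
      ((kernel.ι (biprod.lift (ClSub.toSubscheme I₁) (ClSub.toSubscheme I₂))).app V s))).1 h1
    have m2 := (hker I₂ V hV (Groth.Agent.Helper13.LocFree.ofO V
      ((kernel.ι (biprod.lift (ClSub.toSubscheme I₁) (ClSub.toSubscheme I₂))).app V s))).1 h2
    have m3 : Groth.Agent.Helper13.LocFree.ofO V
        ((kernel.ι (biprod.lift (ClSub.toSubscheme I₁) (ClSub.toSubscheme I₂))).app V s) ∈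
        (I₁ ⊓ I₂).ideal ⟨V, hV⟩ := ⟨m1, m2⟩
    rw [h] at m3
    exact m3
  haveI := hmono
  haveI hQ₁ : (ClSub.quotMod I₁).IsQuasicoherent :=
    Groth.Agent.Helper26.DevB.isQuasicoherent_push_unit _
  haveI hQ₂ : (ClSub.quotMod I₂).IsQuasicoherent :=
    Groth.Agent.Helper26.DevB.isQuasicoherent_push_unit _
  haveI hQ : (ClSub.quotMod (I₁ ⊔ I₂)).IsQuasicoherent :=
    Groth.Agent.Helper26.DevB.isQuasicoherent_push_unit _
  haveI hQQ : (ClSub.quotMod I₁ ⊞ ClSub.quotMod I₂).IsQuasicoherent :=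
    Groth.Agent.Helper13.QCohFin.isQuasicoherent_biprod _ _
  haveI hK : (kernel (biprod.desc q₁ (-q₂))).IsQuasicoherent :=
    Groth.Agent.Helper13.QCohLocal.isQuasicoherent_kernel _
  have hS : (ShortComplex.mk _ _ w).Exact := by
    rw [ShortComplex.exact_iff_epi_kernel_lift]
    apply Groth.Agent.Helper13.AssMono.epi_of_app_surjective
    intro V hV t
    obtain ⟨a, ha⟩ := hsurj I₁ V hV ((biprod.fst : ClSub.quotMod I₁ ⊞ ClSub.quotMod I₂ ⟶ _).app V
      ((kernel.ι (biprod.desc q₁ (-q₂))).app V t))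
    obtain ⟨b, hb⟩ := hsurj I₂ V hV ((biprod.snd : ClSub.quotMod I₁ ⊞ ClSub.quotMod I₂ ⟶ _).app V
      ((kernel.ι (biprod.desc q₁ (-q₂))).app V t))
    -- the kernel condition
    have hg : (biprod.desc q₁ (-q₂)).app V ((kernel.ι (biprod.desc q₁ (-q₂))).app V t) = 0 := by
      have h' : (kernel.ι (biprod.desc q₁ (-q₂)) ≫ biprod.desc q₁ (-q₂)).app V t = 0 := by
        rw [kernel.condition]; rfl
      exact h'
    have hq : q₁.app V ((biprod.fst : ClSub.quotMod I₁ ⊞ ClSub.quotMod I₂ ⟶ _).app V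
        ((kernel.ι (biprod.desc q₁ (-q₂))).app V t)) =
        q₂.app V ((biprod.snd : ClSub.quotMod I₁ ⊞ ClSub.quotMod I₂ ⟶ _).app V
        ((kernel.ι (biprod.desc q₁ (-q₂))).app V t)) := by
      have e : biprod.desc q₁ (-q₂) = biprod.fst ≫ q₁ + -(biprod.snd ≫ q₂) := by
        rw [biprod.desc_eq, Preadditive.comp_neg]
      have hg'' : (biprod.fst ≫ q₁ + -(biprod.snd ≫ q₂) :
          ClSub.quotMod I₁ ⊞ ClSub.quotMod I₂ ⟶ ClSub.quotMod (I₁ ⊔ I₂)).app V
          ((kernel.ι (biprod.desc q₁ (-q₂))).app V t) = 0 := by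
        rw [← e]; exact hg
      have hg' : q₁.app V ((biprod.fst : ClSub.quotMod I₁ ⊞ ClSub.quotMod I₂ ⟶ _).app V
          ((kernel.ι (biprod.desc q₁ (-q₂))).app V t)) +
          -(q₂.app V ((biprod.snd : ClSub.quotMod I₁ ⊞ ClSub.quotMod I₂ ⟶ _).app V
          ((kernel.ι (biprod.desc q₁ (-q₂))).app V t))) = 0 := hg''
      exact add_neg_eq_zero.1 hg'
    -- p(a) = p(b)
    have hpa : ∀ c : Γ(X, V), (ClSub.toSubscheme (I₁ ⊔ I₂)).app V
        (Groth.Agent.Helper13.LocFree.toO V c) =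
        q₁.app V ((ClSub.toSubscheme I₁).app V (Groth.Agent.Helper13.LocFree.toO V c)) := by
      intro c
      rw [← hq₁]; rfl
    have hpb : ∀ c : Γ(X, V), (ClSub.toSubscheme (I₁ ⊔ I₂)).app V
        (Groth.Agent.Helper13.LocFree.toO V c) =
        q₂.app V ((ClSub.toSubscheme I₂).app V (Groth.Agent.Helper13.LocFree.toO V c)) := by
      intro c
      rw [← hq₂]; rfl
    have hab : a - b ∈ (I₁ ⊔ I₂).ideal ⟨V, hV⟩ := by
      rw [← hker (I₁ ⊔ I₂) V hV (a - b)]
      have e1 : Groth.Agent.Helper13.LocFree.toO V (a - b) =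
        Groth.Agent.Helper13.LocFree.toO V a - Groth.Agent.Helper13.LocFree.toO V b := rfl
      rw [e1, map_sub, hpa a, hpb b, ha, hb, hq, sub_self]
    obtain ⟨c₁, hc₁, c₂, hc₂, hc⟩ := Submodule.mem_sup.1 hab
    have hc₁' := (hker I₁ V hV c₁).2 hc₁
    have hc₂' := (hker I₂ V hV c₂).2 hc₂
    refine ⟨Groth.Agent.Helper13.LocFree.toO V (a - c₁), ?_⟩
    apply Groth.Agent.Helper13.LocLift.app_injective_of_mono (kernel.ι (biprod.desc q₁ (-q₂))) V
    have hk : (kernel.ι (biprod.desc q₁ (-q₂))).app V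
        ((kernel.lift (biprod.desc q₁ (-q₂))
          (biprod.lift (ClSub.toSubscheme I₁) (ClSub.toSubscheme I₂)) w).app V
          (Groth.Agent.Helper13.LocFree.toO V (a - c₁))) =
        (biprod.lift (ClSub.toSubscheme I₁) (ClSub.toSubscheme I₂)).app V
          (Groth.Agent.Helper13.LocFree.toO V (a - c₁)) := by
      have h' : (kernel.lift (biprod.desc q₁ (-q₂))
          (biprod.lift (ClSub.toSubscheme I₁) (ClSub.toSubscheme I₂)) w ≫
          kernel.ι (biprod.desc q₁ (-q₂))).app V (Groth.Agent.Helper13.LocFree.toO V (a - c₁)) =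
          (biprod.lift (ClSub.toSubscheme I₁) (ClSub.toSubscheme I₂)).app V
          (Groth.Agent.Helper13.LocFree.toO V (a - c₁)) := by
        rw [kernel.lift_ι]
      exact h'
    refine hk.trans ?_
    apply biprod_sec_ext
    · have h' : (biprod.lift (ClSub.toSubscheme I₁) (ClSub.toSubscheme I₂) ≫ biprod.fst).app V
          (Groth.Agent.Helper13.LocFree.toO V (a - c₁)) =
          (ClSub.toSubscheme I₁).app V (Groth.Agent.Helper13.LocFree.toO V (a - c₁)) := by
        rw [biprod.lift_fst]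
      refine h'.trans ?_
      have e1 : Groth.Agent.Helper13.LocFree.toO V (a - c₁) =
        Groth.Agent.Helper13.LocFree.toO V a - Groth.Agent.Helper13.LocFree.toO V c₁ := rfl
      rw [e1, map_sub, hc₁', sub_zero, ha]
    · have h' : (biprod.lift (ClSub.toSubscheme I₁) (ClSub.toSubscheme I₂) ≫ biprod.snd).app V
          (Groth.Agent.Helper13.LocFree.toO V (a - c₁)) =
          (ClSub.toSubscheme I₂).app V (Groth.Agent.Helper13.LocFree.toO V (a - c₁)) := by
        rw [biprod.lift_snd]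
      refine h'.trans ?_
      have e2 : a - c₁ = b + c₂ := by
        have : a - b = c₁ + c₂ := hc.symm
        linear_combination this
      have e1 : Groth.Agent.Helper13.LocFree.toO V (b + c₂) =
        Groth.Agent.Helper13.LocFree.toO V b + Groth.Agent.Helper13.LocFree.toO V c₂ := rfl
      rw [e2, e1, map_add, hc₂', add_zero, hb]
  exact ⟨hS.fIsKernel⟩

end Groth.Agent.Helper9.CRT
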