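import Mathlib
import Groth.Agent.S6030
import Groth.Agent.Lib.Helper9.WayOutPlus
import Groth.Agent.Lib.Helper9.RGammaQC
import Groth.Agent.Lib.Helper24.ExtZ1
import Groth.Agent.Lib.Helper24.Supp7
import Groth.Agent.Lib.Helper24.GammaZInj
import Groth.Agent.Lib.Helper24.GSSGroth
import Groth.Agent.Lib.Helper24.GSSDelta
import Groth.Agent.Lib.Helper24.AffExt7
import Groth.Agent.Lib.Helper24.ResHom4
import Groth.Agent.Lib.Helper24.ExtTw2
import Groth.Agent.Lib.Helper24.ExtSS1
import Groth.Agent.Lib.Helper13.QCohExt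
import Groth.Agent.Lib.Helper13.QCohFin
import Groth.Agent.Lib.Helper13.ExtQCoh

/-!
# Quasi-coherence of the Ext sheaves with supports (helper9)

`ℰxt^i_Z(F, G)` is quasi-coherent for `F` coherent and `G` quasi-coherent on a locally Noetherian
scheme.  Ingredients: the site-level `Γ_Z` agrees with the scheme-level one (`sectOnIso`),
`Γ_Z ℋom(F, -) ≅ ℋom(F, Γ_Z -)` (helper24), `Γ_Z` preserves injectives (helper24), the
quasi-coherence of `ℋ^q_Z(G)` (S6030) and of `ℰxt^p(F, M)` (helper24), and the way-out dévissage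
`WayOutPlus.prop_HR`.
-/

set_option autoImplicit false
set_option maxHeartbeats 400000
set_option linter.style.haveILetI false
universe u
open CategoryTheory CategoryTheory.Limits AlgebraicGeometry Opposite TopologicalSpace

namespace Groth.Agent.Helper9.ExtZQc

attribute [local instance] HasDerivedCategory.standard

section Comm

open ModSite
open Groth.Agent.Helper24.FrMod Groth.Agent.Helper24.GSS Groth.Agent.Helper17.MT
  Groth.Agent.Helper24.CechH Groth.Agent.Helper24.Supp

/-- `Γ_Z ℋom(M, -) ≅ ℋom(M, Γ_Z -)` (first half of helper24's S12893, without the internal Hom of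
`M/M_U`) -/
theorem nonempty_comm_iso {C : Type u} [SmallCategory C] {J : GrothendieckTopology C}
    (O : Sheaf J CommRingCat.{u}) (U : C) (M : ModSite.Mod O)
    [ModSite.HasPushOver O U] [ModSite.HasSheafHom M] :
    Nonempty (ModSite.sheafHom M ⋙ ModSite.sectOn O U ≅
      ModSite.sectOn O U ⋙ ModSite.sheafHom M) := by
  let A := (ModSite.quotOn O U).obj (ModSite.unit O)
  let eq : ModSite.quotOn O U ≅ TR O A := (quotOnIso O U).symm ≪≫ TLIsoTR O A
  let adj1 : ModSite.quotOn O U ⋙ TR O M ⊣ ModSite.sheafHom M ⋙ ModSite.sectOn O U :=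
    (quotSectAdj O U).comp (ModSite.sheafHomAdj M)
  let adj2 : TR O M ⋙ ModSite.quotOn O U ⊣ ModSite.sectOn O U ⋙ ModSite.sheafHom M :=
    (ModSite.sheafHomAdj M).comp (quotSectAdj O U)
  let i13 : ModSite.quotOn O U ⋙ TR O M ≅ TR O ((ModSite.quotOn O U).obj M) :=
    Functor.isoWhiskerRight eq (TR O M) ≪≫ TRcompIso O A M ≪≫
      (ModSite.tensorBi O).flip.mapIso (thetaIso O U M)
  let i23 : TR O M ⋙ ModSite.quotOn O U ≅ TR O ((ModSite.quotOn O U).obj M) :=
    Functor.isoWhiskerLeft (TR O M) eq ≪≫ TRcompIso O M A ≪≫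
      (ModSite.tensorBi O).flip.mapIso ((TLIsoTR O M).app A) ≪≫
      (ModSite.tensorBi O).flip.mapIso (thetaIso O U M)
  exact ⟨((adj1.ofNatIsoLeft (i13 ≪≫ i23.symm)).rightAdjointUniq adj2)⟩

end Comm

section Abstract

variable {𝒜 : Type*} [Category 𝒜]

/-- two morphisms out of `N` killing the same morphisms into `N` have isomorphic kernels -/
theorem exists_kernel_iso [HasZeroMorphisms 𝒜] {N A₁ A₂ : 𝒜} (f₁ : N ⟶ A₁) (f₂ : N ⟶ A₂)
    [HasKernel f₁] [HasKernel f₂]
    (h : ∀ {W : 𝒜} (φ : W ⟶ N), φ ≫ f₁ = 0 ↔ φ ≫ f₂ = 0) :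
    ∃ e : kernel f₁ ≅ kernel f₂, e.hom ≫ kernel.ι f₂ = kernel.ι f₁ := by
  refine ⟨⟨kernel.lift f₂ (kernel.ι f₁) ((h _).1 (kernel.condition f₁)),
    kernel.lift f₁ (kernel.ι f₂) ((h _).2 (kernel.condition f₂)), ?_, ?_⟩, kernel.lift_ι _ _ _⟩
  · rw [← cancel_mono (kernel.ι f₁), Category.assoc, kernel.lift_ι, kernel.lift_ι,
      Category.id_comp]
  · rw [← cancel_mono (kernel.ι f₂), Category.assoc, kernel.lift_ι, kernel.lift_ι,
      Category.id_comp]

/-- two subfunctors of the identity which agree objectwise are isomorphic -/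
theorem nonempty_iso_of_sub (T₁ T₂ : 𝒜 ⥤ 𝒜) (ι₁ : T₁ ⟶ 𝟭 𝒜) (ι₂ : T₂ ⟶ 𝟭 𝒜)
    [∀ N, Mono (ι₂.app N)] (e : ∀ N, T₁.obj N ≅ T₂.obj N)
    (he : ∀ N, (e N).hom ≫ ι₂.app N = ι₁.app N) : Nonempty (T₁ ≅ T₂) :=
  ⟨NatIso.ofComponents e (by
    intro A B f
    rw [← cancel_mono (ι₂.app B), Category.assoc, Category.assoc, he, ι₂.naturality,
      ← Category.assoc, he, ι₁.naturality])⟩

end Abstract

variable {X : Scheme.{u}}

section Bridge

variable (U : X.Opens)

theorem app_eq_zero_iff {M N : X.Modules} (φ : M ⟶ N) (V : X.Opens) :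
    φ.app V = 0 ↔ φ.val.app (op V) = 0 := by
  constructor
  · intro h
    apply ModuleCat.hom_ext
    apply LinearMap.ext
    intro m
    exact ConcreteCategory.congr_hom h m
  · intro h
    show (forget₂ _ _).map (φ.val.app (op V)) = 0
    rw [h]
    rfl

/-- the site-level restriction of a morphism vanishes iff the scheme-level one does -/
theorem restr_map_eq_zero_iff {M N : X.Modules} (φ : M ⟶ N) :
    (ModSite.restr X.sheaf U).map φ = 0 ↔ (Scheme.Modules.restrictFunctor U.ι).map φ = 0 := by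
  rw [Groth.Agent.Helper24.GammaZInj.restrict_map_eq_zero_iff]
  constructor
  · intro h V hV
    have hVU : V ≤ U := by simpa using hV
    rw [app_eq_zero_iff]
    have h1 : ((ModSite.restr X.sheaf U).map φ).val.app (op (Over.mk (homOfLE hVU))) = 0 := by
      rw [h]; rfl
    apply ModuleCat.hom_ext
    apply LinearMap.ext
    intro m
    have h2 := congrArg (fun ψ => (ModuleCat.Hom.hom ψ) m) h1
    exact h2
  · intro h
    apply Groth.Agent.Helper24.ExtZ.restr_map_eq_zero_of_app
    intro V f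
    exact (app_eq_zero_iff φ V).1 (h V (by rw [Scheme.Opens.opensRange_ι]; exact f.le))

/-- the site-level `Γ_Z` as an endofunctor of `X.Modules` -/
noncomputable def Tz : X.Modules ⥤ X.Modules := ModSite.sectOn X.sheaf U

/-- the inclusion `Γ_Z ⟶ 𝟭` -/
noncomputable def Tι : Tz U ⟶ 𝟭 X.Modules := ModSite.sectOnι X.sheaf U

instance additive_Tz : (Tz U).Additive := ModSite.sectOn_additive X.sheaf U

theorem comp_unit_iff {M N : X.Modules} (φ : M ⟶ N) :
    φ ≫ ((ModSite.restrPushOverAdj X.sheaf U).unit.app N : N ⟶ _) = 0 ↔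
      φ ≫ (Scheme.Modules.restrictAdjunction U.ι).unit.app N = 0 :=
  (Groth.Agent.Helper24.Supp.comp_unit_eq_zero_iff X.sheaf U φ).trans
    ((restr_map_eq_zero_iff U φ).trans
      (Groth.Agent.Helper24.GammaZInj.comp_unit_eq_zero_iff U.ι φ).symm)

theorem exists_Tz_iso (N : X.Modules) :
    ∃ e : (Tz U).obj N ≅ (DCoh.gammaZ U.ι).obj N,
      e.hom ≫ (CxOX.gammaZι U.ι).app N = (Tι U).app N :=
  exists_kernel_iso ((ModSite.restrPushOverAdj X.sheaf U).unit.app N : N ⟶ _)
    ((Scheme.Modules.restrictAdjunction U.ι).unit.app N) (fun φ => comp_unit_iff U φ)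

instance mono_gammaZι' (N : X.Modules) : Mono ((CxOX.gammaZι U.ι).app N) :=
  inferInstanceAs (Mono (kernel.ι ((Scheme.Modules.restrictAdjunction U.ι).unit.app N)))

/-- the site-level and the scheme-level functors of sections with supports agree -/
theorem nonempty_Tz_iso : Nonempty (Tz U ≅ DCoh.gammaZ U.ι) :=
  nonempty_iso_of_sub (Tz U) (DCoh.gammaZ U.ι) (Tι U) (CxOX.gammaZι U.ι)
    (fun N => (exists_Tz_iso U N).choose) (fun N => (exists_Tz_iso U N).choose_spec)

/-- `Γ_Z` (site-level) preserves injectives -/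
theorem injective_Tz (Q : X.Modules) [Injective Q] : Injective ((Tz U).obj Q) :=
  Injective.of_iso (exists_Tz_iso U Q).choose.symm
    (Groth.Agent.Helper24.GammaZInj.main17641 U.ι Q)

/-- quasi-coherence of the site-level local cohomology sheaves -/
theorem isQCoh_rightDerived_Tz [IsLocallyNoetherian X] [HasInjectiveResolutions X.Modules]
    (G : X.Modules) (hG : Coh.IsQCoh G) (q : ℕ) :
    Coh.IsQCoh (((Tz U).rightDerived q).obj G) := by
  obtain ⟨e0⟩ := nonempty_Tz_iso U
  obtain ⟨e⟩ := Groth.Agent.Helper24.GSS.nonempty_rightDerived_iso_of_iso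
    (Tz U) (DCoh.gammaZ U.ι) e0 q
  have h : Coh.IsQCoh ((LocCohZ.HZshM U.ι q).obj G) := Groth.Agent.S6030.result U.ι G hG q
  haveI : ((LocCohZ.HZshM U.ι q).obj G).IsQuasicoherent := h
  exact Groth.Agent.Helper13.QCohLocal.isQuasicoherent_of_iso (e.app G).symm

end Bridge

section QC

open Groth.Agent.Helper13.QCohLocal
open ZeroObject

/-- quasi-coherent modules form a weak Serre subcategory -/
instance isWeakSerre_PC (Y : Scheme.{u}) :
    WSerre.IsWeakSerre (Groth.Agent.Helper9.RGammaQC.PC Y) where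
  exists_zero := ⟨0, isZero_zero _,
    Groth.Agent.Helper13.QCohFin.isQuasicoherent_of_isZero (isZero_zero _)⟩
  kernels_le := by
    rintro _ ⟨f, k, hk, ⟨hX, hY⟩⟩
    have key : ∀ {A B : Y.Modules} (g : A ⟶ B), A.IsQuasicoherent → B.IsQuasicoherent →
        (kernel g).IsQuasicoherent := fun g hA hB => by
      haveI := hA
      haveI := hB
      exact isQuasicoherent_kernel g
    haveI := key f hX hY
    let e : k.pt ≅ kernel f :=
      IsLimit.conePointUniqueUpToIso hk (limit.isLimit (parallelPair f 0))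
    exact isQuasicoherent_of_iso e.symm
  cokernels_le := by
    rintro _ ⟨f, k, hk, ⟨hX, hY⟩⟩
    have key : ∀ {A B : Y.Modules} (g : A ⟶ B), A.IsQuasicoherent → B.IsQuasicoherent →
        (cokernel g).IsQuasicoherent := fun g hA hB => by
      haveI := hA
      haveI := hB
      exact isQuasicoherent_cokernel g
    haveI := key f hX hY
    let e : k.pt ≅ cokernel f :=
      IsColimit.coconePointUniqueUpToIso hk (colimit.isColimit (parallelPair f 0))
    exact isQuasicoherent_of_iso e.symm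
  prop_X₂_of_shortExact := by
    intro S hS h₁ h₃
    exact Groth.Agent.Helper13.QCohExt.main S hS h₁ h₃

/-- `ℰxt^p(F, M)` is quasi-coherent for `F` coherent and `M` quasi-coherent on a locally
Noetherian scheme -/
theorem isQCoh_extSh [IsLocallyNoetherian X] (F : X.Modules) (hF : Coh.IsCoh F)
    (M : X.Modules) (hM : M.IsQuasicoherent)
    [ModSite.HasSheafHom (O := X.sheaf) F] [HasInjectiveResolutions (ModSite.Mod X.sheaf)]
    (p : ℕ) : ((ModSite.extSh (O := X.sheaf) F p).obj M).IsQuasicoherent := by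
  apply Groth.Agent.Helper13.Ext.isQuasicoherent_of_forall_exists_restrict
  intro x
  obtain ⟨_, ⟨V₀, hV, rfl⟩, hxV, -⟩ :=
    X.isBasis_affineOpens.exists_subset_of_mem_open (Set.mem_univ x) isOpen_univ
  let V : X.Opens := V₀
  refine ⟨V, hxV, ?_⟩
  haveI : IsAffine (↑V : Scheme.{u}) := hV
  haveI : IsLocallyNoetherian (↑V : Scheme.{u}) := isLocallyNoetherian_of_isOpenImmersion V.ι
  haveI : HasInjectiveResolutions (ModSite.Mod (↑V : Scheme.{u}).sheaf) :=
    inferInstanceAs (HasInjectiveResolutions (↑V : Scheme.{u}).Modules)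
  haveI := Groth.Agent.Helper24.RelExt.hasSheafHom' (F.restrict V.ι)
  obtain ⟨e⟩ := Groth.Agent.Helper24.ResHom.main11328 V F M p
  haveI := hM
  haveI : (M.restrict V.ι).IsQuasicoherent := inferInstance
  haveI : ((ModSite.extSh (O := (↑V : Scheme.{u}).sheaf) (F.restrict V.ι) p).obj
      (M.restrict V.ι)).IsQuasicoherent :=
    Groth.Agent.Helper24.AffExt.isQuasicoherent_rightDerived_SH (F.restrict V.ι) (M.restrict V.ι)
      (Groth.Agent.Helper24.CohExt.isCoh_restrict F hF V) p
  exact isQuasicoherent_of_iso e.symm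

end QC

open Groth.Agent.Helper24.GSS in
/-- **Quasi-coherence of the Ext sheaves with supports** -/
theorem main12879 (X : Scheme.{u}) [IsLocallyNoetherian X] (U : X.Opens)
    (F G : X.Modules) (hF : Coh.IsCoh F) (hG : Coh.IsQCoh G)
    [ModSite.HasSheafHom (O := X.sheaf) F] [HasInjectiveResolutions (ModSite.Mod X.sheaf)]
    (i : ℕ) : Coh.IsQCoh ((ModSite.extZSh (O := X.sheaf) U F i).obj G) := by
  haveI : HasInjectiveResolutions X.Modules := ‹HasInjectiveResolutions (ModSite.Mod X.sheaf)›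
  haveI : EnoughInjectives X.Modules :=
    Groth.Agent.Helper24.ExtSS.enoughInjectives_of_hasInjectiveResolutions _
  let T : X.Modules ⥤ X.Modules := Tz U
  let S : X.Modules ⥤ X.Modules := ModSite.sheafHom (O := X.sheaf) F
  haveI : T.Additive := additive_Tz U
  haveI : S.Additive := ModSite.sheafHom_additive (O := X.sheaf) F
  haveI : PreservesFiniteLimits S := Groth.Agent.Helper24.ExtTw.preservesFiniteLimits_sheafHom F
  -- swap the two functors
  obtain ⟨e0⟩ := nonempty_comm_iso X.sheaf U F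
  obtain ⟨e1⟩ := nonempty_rightDerived_iso_of_iso (S ⋙ T) (T ⋙ S) e0 i
  -- the complex `Γ_Z(I•)`
  let I := injectiveResolution G
  let X₀ : CochainComplex X.Modules ℤ := (T.mapHomologicalComplex (.up ℤ)).obj I.cochainComplex
  have hX₀ : X₀.IsStrictlyGE 0 := inferInstance
  let K : DerivedCategory.Plus X.Modules := DerivedCategory.Plus.Q.obj ⟨X₀, ⟨0, hX₀⟩⟩
  haveI hKGE : K.IsGE 0 := isGE_plus_Q_obj X₀ 0
  have hXacyc : ∀ n, Acyc.Acyc S (X₀.X n) := fun n => by
    haveI : Injective (I.cochainComplex.X n) := inferInstance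
    haveI : Injective (X₀.X n) := injective_Tz U (I.cochainComplex.X n)
    exact Acyc.acyc_of_injective S (X₀.X n)
  obtain ⟨e2a⟩ := nonempty_hyper_iso_of_acyc S X₀ 0 hXacyc (i : ℤ)
  have e2b : (S.mapHomologicalComplex (.up ℤ)).obj X₀ ≅
      ((T ⋙ S).mapHomologicalComplex (.up ℤ)).obj
        (I.cocomplex.extend ComplexShape.embeddingUpNat) := Iso.refl _
  have e2 : ((hyper S).shift (i : ℤ)).obj K ≅ ((T ⋙ S).rightDerived i).obj G :=
    e2a ≪≫ (HomologicalComplex.homologyFunctor X.Modules _ (i : ℤ)).mapIso e2b ≪≫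
      homologyExtendIso (T ⋙ S) I.cocomplex i ≪≫ (I.isoRightDerivedObj (T ⋙ S) i).symm
  obtain ⟨e3⟩ := Groth.Agent.Helper9.WayOutPlus.nonempty_HR_iso_hyper S K (i : ℤ)
  -- cohomology of `Γ_Z(I•)` is quasi-coherent
  have hK : ∀ q : ℤ, Groth.Agent.Helper9.RGammaQC.PC X
      ((DerivedCategory.homologyFunctor X.Modules q).obj K.obj) := by
    intro q
    by_cases hq : 0 ≤ q
    · obtain ⟨k, rfl⟩ := Int.eq_ofNat_of_zero_le hq
      have e : (DerivedCategory.Plus.homologyFunctor X.Modules (k : ℤ)).obj K ≅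
          (T.rightDerived k).obj G :=
        plusHomologyQIso ⟨X₀, ⟨0, hX₀⟩⟩ k ≪≫ homologyExtendIso T I.cocomplex k ≪≫
          (I.isoRightDerivedObj T k).symm
      have hq' : Coh.IsQCoh ((T.rightDerived k).obj G) := isQCoh_rightDerived_Tz U G hG k
      exact (Groth.Agent.Helper9.RGammaQC.PC X).prop_of_iso e.symm hq'
    · exact (Groth.Agent.Helper9.RGammaQC.PC X).prop_of_isZero
        (DerivedCategory.Plus.isZero_homology_of_isGE K 0 q (by lia))
  have hbase : ∀ M : X.Modules, Groth.Agent.Helper9.RGammaQC.PC X M → ∀ p : ℕ,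
      Groth.Agent.Helper9.RGammaQC.PC X ((S.rightDerived p).obj M) :=
    fun M hM p => isQCoh_extSh F hF M hM p
  have hP := Groth.Agent.Helper9.WayOutPlus.prop_HR S (Groth.Agent.Helper9.RGammaQC.PC X)
    (Groth.Agent.Helper9.RGammaQC.PC X) hbase K hK (i : ℤ)
  have hfin : Groth.Agent.Helper9.RGammaQC.PC X (((S ⋙ T).rightDerived i).obj G) :=
    (Groth.Agent.Helper9.RGammaQC.PC X).prop_of_iso (e3 ≪≫ e2 ≪≫ (e1.app G).symm) hP
  exact hfin

end Groth.Agent.Helper9.ExtZQc
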