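import Mathlib
import Groth.Agent.Lib.Helper9.ExtZQc
import Groth.Agent.Lib.Helper29.ClExt
import Groth.Agent.Lib.Helper26.DevH
import Groth.Agent.Lib.Helper24.CohExt3
import Groth.Agent.Lib.Helper24.RelExt10
import Groth.Agent.Lib.Helper13.PullbackLocal
import Groth.Agent.Lib.Helper13.PushFinite
import Groth.Agent.Lib.Helper13.FinTypeExt
import Groth.Agent.Lib.Helper13.TensorUnit
import Groth.Agent.Lib.Helper5.K0Coh
import Groth.Agent.S9514

/-!
# `R Hom(O_Z, -)` preserves quasi-coherent / coherent cohomology (helper9)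

For a closed immersion `i : Z ⟶ X` into a locally Noetherian scheme, the right derived functor of
the right adjoint `Hom(O_Z, -)` of `i_*` sends `D⁺_{qc}(O_X)` to `D⁺_{qc}(O_Z)` and
`D⁺_{coh}(O_X)` to `D⁺_{coh}(O_Z)`.  Ingredients: `i_* R^q Hom(O_Z, G) ≅ ℰxt^q(i_* O_Z, G)`
(helper29's `ClExt`), quasi-coherence / coherence of the `ℰxt` sheaves, and the way-out dévissage
`WayOutPlus.prop_HR`.
-/

set_option autoImplicit false
set_option maxHeartbeats 400000
set_option linter.style.haveILetI false
universe u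
open CategoryTheory CategoryTheory.Limits AlgebraicGeometry Opposite TopologicalSpace

namespace Groth.Agent.Helper9.RHomOQc

attribute [local instance] HasDerivedCategory.standard

section Unit

variable {X : Scheme.{u}}

open Groth.Agent.Helper13.Tensor Groth.Agent.Helper13.TensorFunctor Groth.Agent.Helper29.SHomA

/-- `- ⊗ O ≅ 𝟭` -/
noncomputable def tensorRightUnitIso : tensorRight (Coh.structureModule X) ≅ 𝟭 X.Modules :=
  NatIso.ofComponents (fun B => rid B) (fun {B B'} f => by
    show Groth.Agent.Helper13.Tensor.map f (𝟙 _) ≫ (rid B').hom = (rid B).hom ≫ f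
    apply Groth.Agent.Helper13.Tensor.hom_ext
    intro U m r
    rw [Scheme.Modules.Hom.comp_app, Scheme.Modules.Hom.comp_app, ConcreteCategory.comp_apply,
      ConcreteCategory.comp_apply, map_app_tmul, rid_hom_app_tmul, rid_hom_app_tmul,
      Scheme.Modules.Hom.app_smul]
    rfl)

/-- `𝓗om(O, -) ≅ 𝟭` -/
noncomputable def homFunUnitIso : homFun (Coh.structureModule X) ≅ 𝟭 X.Modules :=
  Adjunction.rightAdjointUniq ((adj (Coh.structureModule X)).ofNatIsoLeft tensorRightUnitIso)
    Adjunction.id

end Unit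

section Coherent

open ZeroObject

/-- coherent modules -/
def PCoh (Y : Scheme.{u}) : ObjectProperty Y.Modules := fun M => Coh.IsCoh M

instance (Y : Scheme.{u}) : (PCoh Y).IsClosedUnderIsomorphisms where
  of_iso e h := Groth.Agent.Helper5.K0Coh.isCoh_of_iso e h

instance (Y : Scheme.{u}) : (PCoh Y).ContainsZero where
  exists_zero := ⟨0, isZero_zero _, Groth.Agent.Helper5.K0Coh.isCoh_of_isZero (isZero_zero _)⟩

/-- coherent modules on a locally Noetherian scheme form a weak Serre subcategory -/
instance isWeakSerre_PCoh (Y : Scheme.{u}) [IsLocallyNoetherian Y] :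
    WSerre.IsWeakSerre (PCoh Y) where
  exists_zero := ⟨0, isZero_zero _, Groth.Agent.Helper5.K0Coh.isCoh_of_isZero (isZero_zero _)⟩
  kernels_le := by
    rintro _ ⟨f, k, hk, ⟨hX, hY⟩⟩
    let e : k.pt ≅ kernel f :=
      IsLimit.conePointUniqueUpToIso hk (limit.isLimit (parallelPair f 0))
    exact Groth.Agent.Helper5.K0Coh.isCoh_of_iso e.symm (Groth.Agent.S9514.result Y hX hY f).1
  cokernels_le := by
    rintro _ ⟨f, k, hk, ⟨hX, hY⟩⟩
    let e : k.pt ≅ cokernel f :=
      IsColimit.coconePointUniqueUpToIso hk (colimit.isColimit (parallelPair f 0))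
    exact Groth.Agent.Helper5.K0Coh.isCoh_of_iso e.symm (Groth.Agent.S9514.result Y hX hY f).2
  prop_X₂_of_shortExact := by
    intro S hS h₁ h₃
    have h₁' : Coh.IsCoh S.X₁ := h₁
    have h₃' : Coh.IsCoh S.X₃ := h₃
    obtain ⟨a₁, b₁⟩ := h₁'
    obtain ⟨a₃, b₃⟩ := h₃'
    haveI := b₁
    haveI := b₃
    exact ⟨Groth.Agent.Helper13.QCohExt.main S hS a₁ a₃,
      Groth.Agent.Helper13.FinType.isFiniteType_of_shortExact S hS⟩

end Coherent

section Main

variable {Z X : Scheme.{u}} (i : Z ⟶ X) [IsClosedImmersion i]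

open Groth.Agent.Helper29.ClExt Groth.Agent.Helper29.SHomA Groth.Agent.Helper24.Supp
  Groth.Agent.Helper24.GSS

/-- `Hom(O_Z, -)` agrees with helper29's `T i O_Z = 𝓗om(O_Z, i^♭ -)` -/
noncomputable def homOIso [Dual3.HasHomO i] : Dual3.homO i ≅ T i (Coh.structureModule Z) :=
  (Functor.rightUnitor _).symm ≪≫ Functor.isoWhiskerLeft (iFlat i) homFunUnitIso.symm

/-- `i_* R^q Hom(O_Z, G) ≅ ℰxt^q(i_* O_Z, G)` -/
theorem nonempty_push_rightDerived_homO_iso [Dual3.HasHomO i] [EnoughInjectives X.Modules]
    (G : X.Modules)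
    [ModSite.HasSheafHom (O := X.sheaf)
      ((Scheme.Modules.pushforward i).obj (Coh.structureModule Z))]
    [HasInjectiveResolutions (ModSite.Mod X.sheaf)] (q : ℕ) :
    Nonempty ((Scheme.Modules.pushforward i).obj (((Dual3.homO i).rightDerived q).obj G) ≅
      (ModSite.extSh (O := X.sheaf)
        ((Scheme.Modules.pushforward i).obj (Coh.structureModule Z)) q).obj G) := by
  haveI : PreservesFiniteLimits (Scheme.Modules.pushforward i) :=
    Groth.Agent.Helper5.CI.preservesFiniteLimits_pushforward i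
  haveI : PreservesFiniteColimits (Scheme.Modules.pushforward i) :=
    Groth.Agent.Helper5.CI.preservesFiniteColimits_pushforward i
  obtain ⟨e0⟩ := nonempty_rightDerived_iso_of_iso (Dual3.homO i) (T i (Coh.structureModule Z))
    (homOIso i) q
  obtain ⟨e1⟩ := nonempty_rightDerived_comp_exact_iso (T i (Coh.structureModule Z))
    (Scheme.Modules.pushforward i) q
  let S : X.Modules ⥤ X.Modules :=
    ModSite.sheafHom (O := X.sheaf) ((Scheme.Modules.pushforward i).obj (Coh.structureModule Z))
  haveI : S.Additive := inferInstanceAs (ModSite.sheafHom (O := X.sheaf)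
    ((Scheme.Modules.pushforward i).obj (Coh.structureModule Z))).Additive
  let Φ : T i (Coh.structureModule Z) ⋙ Scheme.Modules.pushforward i ≅ S :=
    Θ i (Coh.structureModule Z) ≪≫
      (sheafHomIso ((Scheme.Modules.pushforward i).obj (Coh.structureModule Z))).symm
  obtain ⟨e2⟩ := nonempty_rightDerived_iso_of_iso _ _ Φ q
  exact ⟨(Scheme.Modules.pushforward i).mapIso (e0.app G) ≪≫ e1.app G ≪≫ e2.app G⟩

/-- `R^q Hom(O_Z, G)` is quasi-coherent for `G` quasi-coherent -/
theorem isQCoh_rightDerived_homO [IsLocallyNoetherian X] [Dual3.HasHomO i]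
    [EnoughInjectives X.Modules] (G : X.Modules) (hG : Coh.IsQCoh G) (q : ℕ) :
    Coh.IsQCoh (((Dual3.homO i).rightDerived q).obj G) := by
  haveI := Groth.Agent.Helper24.RelExt.hasSheafHom'
    ((Scheme.Modules.pushforward i).obj (Coh.structureModule Z))
  haveI : HasInjectiveResolutions (ModSite.Mod X.sheaf) :=
    inferInstanceAs (HasInjectiveResolutions X.Modules)
  obtain ⟨e⟩ := nonempty_push_rightDerived_homO_iso i G q
  have hE : Coh.IsCoh ((Scheme.Modules.pushforward i).obj (Coh.structureModule Z)) :=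
    Groth.Agent.Helper26.DevH.isCoh_push_unit i
  haveI h1 : ((ModSite.extSh (O := X.sheaf)
      ((Scheme.Modules.pushforward i).obj (Coh.structureModule Z)) q).obj G).IsQuasicoherent :=
    Groth.Agent.Helper9.ExtZQc.isQCoh_extSh _ hE G hG q
  haveI h2 : ((Scheme.Modules.pushforward i).obj
      (((Dual3.homO i).rightDerived q).obj G)).IsQuasicoherent :=
    Groth.Agent.Helper13.QCohLocal.isQuasicoherent_of_iso e.symm
  haveI : IsIso ((Scheme.Modules.pullbackPushforwardAdjunction i).counit.app
      (((Dual3.homO i).rightDerived q).obj G)) :=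
    Groth.Agent.Helper5.CI.isIso_counit i _
  haveI h3 : ((Scheme.Modules.pullback i).obj ((Scheme.Modules.pushforward i).obj
      (((Dual3.homO i).rightDerived q).obj G))).IsQuasicoherent := inferInstance
  let ec : (Scheme.Modules.pullback i).obj ((Scheme.Modules.pushforward i).obj
      (((Dual3.homO i).rightDerived q).obj G)) ≅ ((Dual3.homO i).rightDerived q).obj G :=
    asIso ((Scheme.Modules.pullbackPushforwardAdjunction i).counit.app
      (((Dual3.homO i).rightDerived q).obj G))
  exact Groth.Agent.Helper13.QCohLocal.isQuasicoherent_of_iso ec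

/-- `R^q Hom(O_Z, G)` is coherent for `G` coherent -/
theorem isCoh_rightDerived_homO [IsLocallyNoetherian X] [Dual3.HasHomO i]
    [EnoughInjectives X.Modules] (G : X.Modules) (hG : Coh.IsCoh G) (q : ℕ) :
    Coh.IsCoh (((Dual3.homO i).rightDerived q).obj G) := by
  haveI := Groth.Agent.Helper24.RelExt.hasSheafHom'
    ((Scheme.Modules.pushforward i).obj (Coh.structureModule Z))
  haveI : HasInjectiveResolutions (ModSite.Mod X.sheaf) :=
    inferInstanceAs (HasInjectiveResolutions X.Modules)
  obtain ⟨e⟩ := nonempty_push_rightDerived_homO_iso i G q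
  have hE : Coh.IsCoh ((Scheme.Modules.pushforward i).obj (Coh.structureModule Z)) :=
    Groth.Agent.Helper26.DevH.isCoh_push_unit i
  have h1 : Coh.IsCoh ((ModSite.extSh (O := X.sheaf)
      ((Scheme.Modules.pushforward i).obj (Coh.structureModule Z)) q).obj G) :=
    Groth.Agent.Helper24.CohExt.main10943 X _ G hE hG q
  have h2 : Coh.IsCoh ((Scheme.Modules.pushforward i).obj
      (((Dual3.homO i).rightDerived q).obj G)) :=
    Groth.Agent.Helper5.K0Coh.isCoh_of_iso e.symm h1
  have hNq : (((Dual3.homO i).rightDerived q).obj G).IsQuasicoherent :=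
    isQCoh_rightDerived_homO i G hG.1 q
  haveI := hNq
  exact ⟨hNq, (Groth.Agent.Helper13.PushFinite.isFiniteType_pushforward_iff i
    (((Dual3.homO i).rightDerived q).obj G)).2 h2.2⟩

end Main

/-- **`R Hom(O_Z, -)` preserves quasi-coherence of cohomology sheaves** -/
theorem main3632 (Z X : Scheme.{u}) [IsLocallyNoetherian X] (i : Z ⟶ X) [IsClosedImmersion i]
    [Dual3.HasHomO i] [EnoughInjectives X.Modules] (K : DerivedCategory.Plus X.Modules)
    (hK : DCoh.IsQCohD K.obj) : DCoh.IsQCohD ((Dual3.RHomOPlus i).obj K).obj := by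
  intro n
  exact Groth.Agent.Helper9.WayOutPlus.prop_HR (Dual3.homO i)
    (Groth.Agent.Helper9.RGammaQC.PC Z) (Groth.Agent.Helper9.RGammaQC.PC X)
    (fun M hM p => isQCoh_rightDerived_homO i M hM p) K hK n

/-- **`R Hom(O_Z, -)` preserves coherence of cohomology sheaves** -/
theorem main3633 (Z X : Scheme.{u}) [IsLocallyNoetherian X] (i : Z ⟶ X) [IsClosedImmersion i]
    [Dual3.HasHomO i] [EnoughInjectives X.Modules] (K : DerivedCategory.Plus X.Modules)
    (hK : DCoh.IsCohD K.obj) : DCoh.IsCohD ((Dual3.RHomOPlus i).obj K).obj := by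
  haveI : IsLocallyNoetherian Z := LocallyOfFiniteType.isLocallyNoetherian i
  intro n
  exact Groth.Agent.Helper9.WayOutPlus.prop_HR (Dual3.homO i) (PCoh Z) (PCoh X)
    (fun M hM p => isCoh_rightDerived_homO i M hM p) K hK n

end Groth.Agent.Helper9.RHomOQc
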