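import Mathlib
import Groth.Agent.Lib.Helper9.RHomOQc
import Groth.Agent.Lib.Helper24.CartExt3
import Groth.Agent.Lib.Helper29.ClProj
import Groth.Agent.Lib.Helper26.DevB

/-!
# `R Hom(O_D, O_X)` for an effective Cartier divisor (helper9)

For an invertible ideal `I` with inverse `L` and closed subscheme `i : D ⟶ X`, the complex
`R Hom(O_D, O_X)` is concentrated in degree `1`, where it is `i^* L`.  Ingredients:
`i_* R^q Hom(O_D, G) ≅ ℰxt^q(i_* O_D, G)` (`RHomOQc`), the computation of `ℰxt^q(O_X / I, -)` from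
`0 ⟶ I ⟶ O_X ⟶ O_X / I ⟶ 0` (helper24's `CartExt3`, `RelExt`), and the projection formula for a
closed immersion (helper29's `ClProj`).
-/

set_option autoImplicit false
set_option maxHeartbeats 400000
set_option linter.style.haveILetI false
set_option linter.unusedSectionVars false
universe w w' v v' u u'
open CategoryTheory CategoryTheory.Limits AlgebraicGeometry Opposite TopologicalSpace

namespace Groth.Agent.Helper9.CartRHom

attribute [local instance] HasDerivedCategory.standard

section Single

open DerivedCategory Groth.Agent.Helper24.GSS Groth.Agent.Helper9.WayOutPlus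

variable {C : Type u} [Category.{v} C] [Abelian C] [EnoughInjectives C] [HasDerivedCategory.{w} C]
variable {D : Type u'} [Category.{v'} D] [Abelian D] [HasDerivedCategory.{w'} D]
variable (F : C ⥤ D) [F.Additive]

/-- a bounded below object isomorphic to a single object in degree `0` -/
noncomputable def plusSingleIso (K : DerivedCategory.Plus C) (M : C)
    (e : K.obj ≅ (DerivedCategory.singleFunctor C 0).obj M) :
    K ≅ (DerivedCategory.Plus.singleFunctor C 0).obj M :=
  DerivedCategory.Plus.ι.preimageIso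
    (e : DerivedCategory.Plus.ι.obj K ≅
      DerivedCategory.Plus.ι.obj ((DerivedCategory.Plus.singleFunctor C 0).obj M))

/-- the cohomology of `RF⁺` of a single object is given by the right derived functors -/
theorem nonempty_HR_single_iso (K : DerivedCategory.Plus C) (M : C)
    (e : K.obj ≅ (DerivedCategory.singleFunctor C 0).obj M) (p : ℕ) (j : ℤ)
    (hj : j = (p : ℤ) + 0) : Nonempty (HR F K j ≅ (F.rightDerived p).obj M) := by
  subst hj
  obtain ⟨e1⟩ := nonempty_HR_iso_hyper F ((DerivedCategory.Plus.singleFunctor C 0).obj M)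
    ((p : ℤ) + 0)
  exact ⟨HRIso F (plusSingleIso K M e) _ ≪≫ e1 ≪≫ hyperSingleIso F M p 0⟩

/-- the cohomology of `RF⁺` of a single object vanishes in negative degrees -/
theorem isZero_HR_single_of_neg (K : DerivedCategory.Plus C) (M : C)
    (e : K.obj ≅ (DerivedCategory.singleFunctor C 0).obj M) (j : ℤ) (hj : j < 0) :
    IsZero (HR F K j) := by
  haveI : (F.rightDerivedFunctorPlus.obj
      ((DerivedCategory.Plus.singleFunctor C 0).obj M)).IsGE 0 :=
    Groth.Agent.S6620.result F _ 0
  have hz : IsZero (HR F ((DerivedCategory.Plus.singleFunctor C 0).obj M) j) :=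
    (DerivedCategory.Plus.ι.obj (F.rightDerivedFunctorPlus.obj
      ((DerivedCategory.Plus.singleFunctor C 0).obj M))).isZero_of_isGE 0 j hj
  exact IsZero.of_iso hz (HRIso F (plusSingleIso K M e) j)

end Single

section Ext

variable {X : Scheme.{u}}

open Groth.Agent.Helper13.Tensor Groth.Agent.Helper13.TensorFunctor
open Groth.Agent.Helper17.MT (TL TR)
open Groth.Agent.Helper24.RelExt Groth.Agent.Helper24.CartExt

attribute [local instance] hasSheafHom'

/-- `D ⊗ -` for the ringed-site tensor, on morphisms -/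
lemma modSite_tensorBi_obj_map (D : X.Modules) {B B' : X.Modules} (f : B ⟶ B') :
    ((ModSite.tensorBi X.sheaf).obj (D : ModSite.Mod X.sheaf)).map
      (show (B : ModSite.Mod X.sheaf) ⟶ B' from f) =
      Groth.Agent.Helper13.Tensor.map (𝟙 D) f := by
  unfold Groth.Agent.Helper13.Tensor.map Groth.Agent.Helper13.Tensor.preMap
  erw [MonoidalCategory.id_tensorHom]
  rfl

/-- naturality of the left unitor -/
lemma lid_naturality {B B' : X.Modules} (f : B ⟶ B') :
    Groth.Agent.Helper13.Tensor.map (𝟙 (Coh.structureModule X)) f ≫ (lid B').hom =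
      (lid B).hom ≫ f := by
  apply Groth.Agent.Helper13.Tensor.hom_ext
  intro U r m
  show ((Groth.Agent.Helper13.Tensor.map (𝟙 (Coh.structureModule X)) f ≫ lidHom B').app U)
      (tmul _ B r m) = ((lidHom B ≫ f).app U) (tmul _ B r m)
  rw [Scheme.Modules.Hom.comp_app, Scheme.Modules.Hom.comp_app, ConcreteCategory.comp_apply,
    ConcreteCategory.comp_apply, map_app_tmul, lidHom_app_tmul, lidHom_app_tmul,
    Scheme.Modules.Hom.app_smul]
  rfl

variable (L I : X.Modules) (ε : CohB1.tensorMod L I ≅ Coh.structureModule X)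
variable [HasInjectiveResolutions X.Modules]

include ε in
/-- `ℋom(ι, O_X)` is a monomorphism for the inclusion `ι` of an invertible ideal -/
theorem mono_SHmap_app (ι : I ⟶ Coh.structureModule X) [Mono ι] :
    Mono ((SHmap ι).app (Coh.structureModule X)) := by
  haveI hEI : (TR X.sheaf I).IsEquivalence := isEquivalence_TR L I ε
  haveI hEO : (TR X.sheaf (Coh.structureModule X)).IsEquivalence := isEquivalence_TR_unit
  let ω : X.Modules := Coh.structureModule X
  let adjI := ModSite.sheafHomAdj (O := X.sheaf) I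
  let adjO := ModSite.sheafHomAdj (O := X.sheaf) (Coh.structureModule X)
  haveI hcI : IsIso adjI.counit := inferInstance
  haveI hcO : IsIso adjO.counit := inferInstance
  haveI hcI' : IsIso (adjI.counit.app ω) := NatIso.isIso_app_of_isIso adjI.counit ω
  haveI hcO' : IsIso (adjO.counit.app ω) := NatIso.isIso_app_of_isIso adjO.counit ω
  let W : X.Modules := (SH (Coh.structureModule X)).obj ω
  let u : W ⟶ (SH I).obj ω := (SHmap ι).app ω
  have hcu := conjugateEquiv_counit adjO adjI ((ModSite.tensorBi X.sheaf).flip.map ι) ω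
  let v : (TR X.sheaf I).obj W ⟶ (TR X.sheaf (Coh.structureModule X)).obj W :=
    ((ModSite.tensorBi X.sheaf).flip.map ι).app W
  have hcu' : (TR X.sheaf I).map u ≫ adjI.counit.app ω = v ≫ adjO.counit.app ω := hcu
  let cO : (TR X.sheaf (Coh.structureModule X)).obj W ≅ ω :=
    @asIso _ _ _ _ (adjO.counit.app ω) hcO'
  let e6 : W ≅ ω := (rid W).symm ≪≫ cO
  have nat : (TR X.sheaf I).map e6.hom ≫ ((ModSite.tensorBi X.sheaf).flip.map ι).app ω =
      v ≫ (TR X.sheaf (Coh.structureModule X)).map e6.hom :=
    ((ModSite.tensorBi X.sheaf).flip.map ι).naturality e6.hom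
  have h1 : ((ModSite.tensorBi X.sheaf).flip.map ι).app ω =
      Groth.Agent.Helper13.Tensor.map (𝟙 (Coh.structureModule X)) ι :=
    modSite_tensorBi_obj_map (Coh.structureModule X) ι
  haveI h2 : Mono (Groth.Agent.Helper13.Tensor.map (𝟙 (Coh.structureModule X)) ι) :=
    mono_of_mono_fac (lid_naturality ι)
  haveI h0 : Mono (((ModSite.tensorBi X.sheaf).flip.map ι).app ω) := by
    rw [h1]
    exact h2
  haveI h3 : Mono ((TR X.sheaf I).map e6.hom ≫
      ((ModSite.tensorBi X.sheaf).flip.map ι).app ω) := mono_comp _ _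
  haveI hv : Mono v := mono_of_mono_fac nat.symm
  let cI : (TR X.sheaf I).obj ((SH I).obj ω) ≅ ω := @asIso _ _ _ _ (adjI.counit.app ω) hcI'
  have hcu'' : (TR X.sheaf I).map u ≫ cI.hom = v ≫ cO.hom := hcu
  haveI h4 : Mono (v ≫ cO.hom) := mono_comp' hv inferInstance
  haveI h5 : Mono ((TR X.sheaf I).map u) := mono_of_mono_fac hcu''
  exact (TR X.sheaf I).mono_of_mono_map h5

include ε in
/-- `ℋom(O_X / I, O_X) = 0` for an invertible ideal `I` -/
theorem isZero_SH_quot (ι : I ⟶ Coh.structureModule X) (Q : X.Modules)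
    (π : Coh.structureModule X ⟶ Q) (w : ι ≫ π = 0)
    (hS : (ShortComplex.mk ι π w).ShortExact) :
    IsZero ((SH Q).obj (Coh.structureModule X)) := by
  haveI : Mono ι := hS.mono_f
  haveI : Epi π := hS.epi_g
  haveI : Mono ((SHmap ι).app (Coh.structureModule X)) := mono_SHmap_app L I ε ι
  have hw : (SHmap π).app (Coh.structureModule X) ≫ (SHmap ι).app (Coh.structureModule X) = 0 :=
    (famSH X).w ι π w (Coh.structureModule X)
  have h0 : (SHmap π).app (Coh.structureModule X) = 0 := zero_of_comp_mono _ hw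
  haveI : Mono ((SHmap π).app (Coh.structureModule X)) :=
    (famSH X).mono π inferInstance (Coh.structureModule X)
  exact IsZero.of_mono_eq_zero _ h0

include ε in
/-- `ℰxt^q(O_X / I, ω) = 0` for `q ≥ 2` and an invertible ideal `I` -/
theorem isZero_rightDerived_SH_quot (ι : I ⟶ Coh.structureModule X) (Q : X.Modules)
    (π : Coh.structureModule X ⟶ Q) (w : ι ≫ π = 0)
    (hS : (ShortComplex.mk ι π w).ShortExact) (ω : X.Modules) (p : ℕ) :
    IsZero (((SH Q).rightDerived (p + 1 + 1)).obj ω) := by
  haveI hEI : (TR X.sheaf I).IsEquivalence := isEquivalence_TR L I ε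
  haveI hEO : (TR X.sheaf (Coh.structureModule X)).IsEquivalence := isEquivalence_TR_unit
  let adjI := ModSite.sheafHomAdj (O := X.sheaf) I
  let adjO := ModSite.sheafHomAdj (O := X.sheaf) (Coh.structureModule X)
  haveI : (SH (Coh.structureModule X)).IsEquivalence :=
    adjO.isEquivalence_right_of_isEquivalence_left
  haveI : (SH I).IsEquivalence := adjI.isEquivalence_right_of_isEquivalence_left
  have hO : ∀ n, IsZero (((SH (Coh.structureModule X)).rightDerived (n + 1)).obj ω) := fun n =>
    Groth.Agent.Helper9.ClosedEmb.isZero_rightDerived_of_exact (SH (Coh.structureModule X)) n ω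
  have hI : ∀ n, IsZero (((SH I).rightDerived (n + 1)).obj ω) := fun n =>
    Groth.Agent.Helper9.ClosedEmb.isZero_rightDerived_of_exact (SH I) n ω
  obtain ⟨e⟩ := nonempty_shift_iso (SHmap π) (SHmap ι)
    (fun Q' _ => (famSH X).w ι π w Q')
    (fun Q' hQ' => (famSH X).shortExact (ShortComplex.mk ι π w) hS Q' hQ') ω p (hO p)
    (hO (p + 1))
  exact IsZero.of_iso (hI p) e.symm

end Ext

section Main

variable {X : Scheme.{u}}

open Groth.Agent.Helper13.Tensor Groth.Agent.Helper24.RelExt
open Groth.Agent.Helper9.WayOutPlus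

attribute [local instance] hasSheafHom'

/-- `i_*` reflects zero objects for a closed immersion `i` -/
theorem isZero_of_isZero_push {Z : Scheme.{u}} (i : Z ⟶ X) [IsClosedImmersion i] (N : Z.Modules)
    (h : IsZero ((Scheme.Modules.pushforward i).obj N)) : IsZero N := by
  rw [IsZero.iff_id_eq_zero]
  apply (Groth.Agent.Helper5.CI.fullyFaithfulPushforward i).map_injective
  exact h.eq_of_src _ _

/-- `(i_* O_Z) ⊗ L ≅ i_* i^* L` -/
theorem nonempty_quot_tensor_iso {Z : Scheme.{u}} (i : Z ⟶ X) [IsClosedImmersion i]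
    (L : X.Modules) :
    Nonempty (CohB1.tensorMod ((Scheme.Modules.pushforward i).obj (Coh.structureModule Z)) L ≅
      (Scheme.Modules.pushforward i).obj ((Scheme.Modules.pullback i).obj L)) :=
  ⟨(Groth.Agent.Helper29.ClProj.projIso i (Coh.structureModule Z)).app L ≪≫
    (Scheme.Modules.pushforward i).mapIso (lid ((Scheme.Modules.pullback i).obj L))⟩

/-- **`R Hom(O_D, O_X)` for an effective Cartier divisor** -/
theorem main3639 (X : Scheme.{u}) (I : X.IdealSheafData) [Dual3.HasHomO I.subschemeι]
    [EnoughInjectives X.Modules] (L : X.Modules)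
    (hL : ClSub.IsInverseOf L (ClSub.idealMod I)) (O : DerivedCategory.Plus X.Modules)
    (hO : Nonempty (O.obj ≅ DCoh.inD X (Coh.structureModule X))) :
    (∀ j : ℤ, j ≠ 1 → IsZero (DCoh.HD ((Dual3.RHomOPlus I.subschemeι).obj O).obj j)) ∧
      Nonempty (DCoh.HD ((Dual3.RHomOPlus I.subschemeι).obj O).obj 1 ≅
        (Scheme.Modules.pullback I.subschemeι).obj L) := by
  obtain ⟨e⟩ := hO
  obtain ⟨ε⟩ := hL
  haveI : HasInjectiveResolutions (ModSite.Mod X.sheaf) :=
    inferInstanceAs (HasInjectiveResolutions X.Modules)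
  have hS : (ShortComplex.mk (ClSub.idealModι I) (ClSub.toSubscheme I)
      (kernel.condition (ClSub.toSubscheme I))).ShortExact :=
    ShortComplex.ShortExact.mk' (ShortComplex.kernelSequence_exact (ClSub.toSubscheme I))
      (inferInstanceAs (Mono (kernel.ι (ClSub.toSubscheme I))))
      (Groth.Agent.Helper26.DevB.epi_unitToPush I.subschemeι)
  -- the derived functors of `Hom(O_D, -)` at `O_X`
  have key0 : IsZero (((Dual3.homO I.subschemeι).rightDerived 0).obj (Coh.structureModule X)) := by
    apply isZero_of_isZero_push I.subschemeι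
    obtain ⟨e1⟩ := Groth.Agent.Helper9.RHomOQc.nonempty_push_rightDerived_homO_iso I.subschemeι
      (Coh.structureModule X) 0
    have hz : IsZero ((SH (ClSub.quotMod I)).obj (Coh.structureModule X)) :=
      isZero_SH_quot L (ClSub.idealMod I) ε (ClSub.idealModι I) (ClSub.quotMod I)
        (ClSub.toSubscheme I) _ hS
    have e2 : ((SH (ClSub.quotMod I)).rightDerived 0).obj (Coh.structureModule X) ≅
        (SH (ClSub.quotMod I)).obj (Coh.structureModule X) :=
      (SH (ClSub.quotMod I)).rightDerivedZeroIsoSelf.app (Coh.structureModule X)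
    exact IsZero.of_iso hz (e1 ≪≫ e2)
  have key2 : ∀ p : ℕ, IsZero (((Dual3.homO I.subschemeι).rightDerived (p + 1 + 1)).obj
      (Coh.structureModule X)) := by
    intro p
    apply isZero_of_isZero_push I.subschemeι
    obtain ⟨e1⟩ := Groth.Agent.Helper9.RHomOQc.nonempty_push_rightDerived_homO_iso I.subschemeι
      (Coh.structureModule X) (p + 1 + 1)
    have hz : IsZero (((SH (ClSub.quotMod I)).rightDerived (p + 1 + 1)).obj
        (Coh.structureModule X)) :=
      isZero_rightDerived_SH_quot L (ClSub.idealMod I) ε (ClSub.idealModι I) (ClSub.quotMod I)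
        (ClSub.toSubscheme I) _ hS (Coh.structureModule X) p
    exact IsZero.of_iso hz e1
  obtain ⟨key1⟩ : Nonempty (((Dual3.homO I.subschemeι).rightDerived 1).obj
      (Coh.structureModule X) ≅ (Scheme.Modules.pullback I.subschemeι).obj L) := by
    obtain ⟨e1⟩ := Groth.Agent.Helper9.RHomOQc.nonempty_push_rightDerived_homO_iso I.subschemeι
      (Coh.structureModule X) 1
    obtain ⟨e2⟩ := Groth.Agent.Helper24.CartExt.main L (ClSub.idealMod I) ε (ClSub.idealModι I)
      (ClSub.quotMod I) (ClSub.toSubscheme I) _ hS (Coh.structureModule X)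
    obtain ⟨e3⟩ := nonempty_quot_tensor_iso I.subschemeι L
    let e4 : CohB1.tensorMod (ClSub.quotMod I) (CohB1.tensorMod L (Coh.structureModule X)) ≅
        CohB1.tensorMod (ClSub.quotMod I) L := mapIso (Iso.refl _) (rid L)
    exact ⟨(Groth.Agent.Helper5.CI.fullyFaithfulPushforward I.subschemeι).preimageIso
      (e1 ≪≫ e2 ≪≫ e4 ≪≫ e3)⟩
  refine ⟨fun j hj => ?_, ?_⟩
  · by_cases hneg : j < 0
    · exact isZero_HR_single_of_neg (Dual3.homO I.subschemeι) O (Coh.structureModule X) e j hneg
    · obtain ⟨p, rfl⟩ : ∃ p : ℕ, j = (p : ℤ) + 0 := ⟨j.toNat, by omega⟩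
      rcases p with _ | _ | p
      · obtain ⟨e1⟩ := nonempty_HR_single_iso (Dual3.homO I.subschemeι) O
          (Coh.structureModule X) e 0 _ rfl
        exact IsZero.of_iso key0 e1
      · exact absurd (by norm_num) hj
      · obtain ⟨e1⟩ := nonempty_HR_single_iso (Dual3.homO I.subschemeι) O
          (Coh.structureModule X) e (p + 1 + 1) _ rfl
        exact IsZero.of_iso (key2 p) e1
  · obtain ⟨e1⟩ := nonempty_HR_single_iso (Dual3.homO I.subschemeι) O
      (Coh.structureModule X) e 1 1 (by norm_num)
    exact ⟨e1 ≪≫ key1⟩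

end Main

end Groth.Agent.Helper9.CartRHom
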