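import Mathlib
import Groth.Prelude.Def_EGA41
import Groth.Agent.Lib.Helper9.Cartier7

/-!
# Cartier's inequality for `Ω_{L/k}` and `Ω_{K/k}`
-/

set_option autoImplicit false
set_option linter.unusedSectionVars false
set_option linter.style.haveILetI false

universe u

open TensorProduct KaehlerDifferential

namespace Groth.Agent.Helper9.Cartier

section Coker'

variable (a : Type*) (K L : Type*) [CommRing a] [CommRing K] [CommRing L] [Algebra a K]
  [Algebra a L] [Algebra K L] [IsScalarTower a K L]

/-- The cokernel of `L ⊗_K Ω_{K/a} → Ω_{L/a}` is `Ω_{L/K}` (general universes). -/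
noncomputable def cokerEquiv' :
    (Ω[L⁄a] ⧸ LinearMap.range (mapBaseChange a K L)) ≃ₗ[L] Ω[L⁄K] :=
  (Submodule.quotEquivOfEq _ _
    (KaehlerDifferential.exact_mapBaseChange_map a K L).linearMap_ker_eq.symm).trans
    ((KaehlerDifferential.map a K L L).quotKerEquivOfSurjective
      (KaehlerDifferential.map_surjective a K L))

end Coker'

section Ineq2

variable {k K L : Type u} [Field k] [Field K] [Field L]
    [Algebra k K] [Algebra K L] [Algebra k L] [IsScalarTower k K L] [Algebra.EssFiniteType k L]

theorem ineq2_of_essFiniteType :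
    Module.Finite L (Ω[L⁄k]) ∧ Module.Finite K (Ω[K⁄k]) ∧
      (Cardinal.toNat (Algebra.trdeg K L) : ℤ) ≤
        (Module.finrank L (Ω[L⁄k]) : ℤ) - Module.finrank K (Ω[K⁄k]) := by
  haveI : Algebra.EssFiniteType K L := Algebra.EssFiniteType.of_comp k K L
  obtain ⟨h1, h2, h3⟩ := ineq_of_essFiniteType (k := k) (K := K) (L := L)
  have hφ : LinearMap.ker (mapBaseChange k K L) = EGA41.imperfection k K L := rfl
  haveI : Module.Finite L (LinearMap.ker (mapBaseChange k K L)) := h2
  haveI : Module.Finite L (LinearMap.range (mapBaseChange k K L)) :=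
    Module.Finite.of_injective (LinearMap.range (mapBaseChange k K L)).subtype
      (Submodule.injective_subtype _)
  haveI hA : Module.Finite L (L ⊗[K] Ω[K⁄k]) := by
    rw [← Module.rank_lt_aleph0_iff, ← LinearMap.rank_range_add_rank_ker (mapBaseChange k K L)]
    exact Cardinal.add_lt_aleph0 (Module.rank_lt_aleph0 L _) (Module.rank_lt_aleph0 L _)
  have e1 := LinearMap.finrank_range_add_finrank_ker (mapBaseChange k K L)
  have e2 := Submodule.finrank_quotient_add_finrank (LinearMap.range (mapBaseChange k K L))
  have e3 : Module.finrank L (Ω[L⁄k] ⧸ LinearMap.range (mapBaseChange k K L)) =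
      Module.finrank L (Ω[L⁄K]) := (cokerEquiv' k K L).finrank_eq
  have e4 : Module.finrank L (L ⊗[K] Ω[K⁄k]) = Module.finrank K (Ω[K⁄k]) :=
    Module.finrank_baseChange
  have hK : Module.Finite K (Ω[K⁄k]) := by
    rw [← Module.rank_lt_aleph0_iff, ← Cardinal.lift_lt_aleph0.{u, u},
      ← Module.rank_baseChange (R := L)]
    exact Module.rank_lt_aleph0 L _
  refine ⟨inferInstance, hK, ?_⟩
  have e5 : Module.finrank L (LinearMap.ker (mapBaseChange k K L)) =
      Module.finrank L (EGA41.imperfection k K L) := rfl
  rw [e3] at e2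
  rw [e5, e4] at e1
  have e1' : (Module.finrank L (LinearMap.range (mapBaseChange k K L)) : ℤ) +
      Module.finrank L (EGA41.imperfection k K L) = Module.finrank K (Ω[K⁄k]) := by
    exact_mod_cast e1
  have e2' : (Module.finrank L (Ω[L⁄K]) : ℤ) +
      Module.finrank L (LinearMap.range (mapBaseChange k K L)) = Module.finrank L (Ω[L⁄k]) := by
    exact_mod_cast e2
  linarith

end Ineq2

end Groth.Agent.Helper9.Cartier
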