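import Mathlib
import Groth.Agent.Lib.Helper9.AffStrat
import Groth.Agent.Lib.Helper28.ClUnit
import Groth.Agent.Lib.Helper28.UnitClosed
import Groth.Agent.Lib.Helper18.BasisCrit
import Groth.Agent.Lib.Helper13.QCohPush
import Groth.Agent.S0009
import Groth.Agent.S0007

/-!
# A scheme covered by finitely many closed affine subschemes is affine (helper9)

`isAffine_of_closed_cover`: if finitely many closed immersions `Z k ⟶ X` from affine schemes
cover `X`, then `X` is affine.  Proof: reduce to `X` reduced (thickenings of affines are affine),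
then `H¹(X, F) = 0` for all quasi-coherent `F` by induction on the number of pieces (the kernel of
`F ⟶ i_* i^* F` is killed by the ideal of the union of the other pieces), and Serre's criterion.
-/

set_option autoImplicit false
set_option linter.unusedSectionVars false
set_option maxRecDepth 8000
universe u
open CategoryTheory CategoryTheory.Limits AlgebraicGeometry Opposite TopologicalSpace TensorProduct
open Groth.Agent.Helper13 Groth.Agent.Helper13.QCoh Groth.Agent.Helper13.Pullback
  Groth.Agent.Helper18.PbCompat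

namespace Groth.Agent.Helper9.ClosedCover

section Alg

variable {A B M : Type u} [CommRing A] [CommRing B] [Algebra A B] [AddCommGroup M] [Module A M]

/-- For a surjective `A → B`: if `1 ⊗ m = 0` in `B ⊗[A] M` and `a` kills the kernel of `A → B`,
then `a • m = 0`. -/
theorem smul_eq_zero_of_one_tmul_eq_zero (hs : Function.Surjective (algebraMap A B)) (a : A)
    (ha : ∀ b : A, algebraMap A B b = 0 → a * b = 0) (m : M) (hm : (1 : B) ⊗ₜ[A] m = 0) :
    a • m = 0 := by
  let f : A →ₗ[A] (M →ₗ[A] M) := a • LinearMap.lsmul A M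
  have hf : ∀ (b : A) (m : M), f b m = a • b • m := fun b m => by
    simp only [f, LinearMap.smul_apply, LinearMap.lsmul_apply]
  have hle : LinearMap.ker (Algebra.linearMap A B) ≤ LinearMap.ker f := by
    intro b hb
    rw [LinearMap.mem_ker] at hb ⊢
    rw [Algebra.linearMap_apply] at hb
    refine LinearMap.ext fun m => ?_
    rw [hf, smul_smul, ha b hb, zero_smul]
    rfl
  have hs' : Function.Surjective (Algebra.linearMap A B) := hs
  let ψ : B →ₗ[A] (M →ₗ[A] M) :=
    (Submodule.liftQ _ f hle) ∘ₗ
      (LinearMap.quotKerEquivOfSurjective (Algebra.linearMap A B) hs').symm.toLinearMap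
  have hψ : ∀ m : M, ψ 1 m = a • m := by
    intro m
    have h1 : (LinearMap.quotKerEquivOfSurjective (Algebra.linearMap A B) hs').symm 1 =
        Submodule.Quotient.mk 1 := by
      have h2 := LinearMap.quotKerEquivOfSurjective_symm_apply (f := Algebra.linearMap A B) hs' 1
      rwa [Algebra.linearMap_apply, map_one] at h2
    change Submodule.liftQ _ f hle
      ((LinearMap.quotKerEquivOfSurjective (Algebra.linearMap A B) hs').symm 1) m = a • m
    rw [h1, Submodule.liftQ_apply, hf, one_smul]
  let r : B ⊗[A] M →ₗ[A] M := TensorProduct.lift ψ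
  have h3 := congrArg r hm
  rw [map_zero] at h3
  change r ((1 : B) ⊗ₜ[A] m) = 0 at h3
  rwa [TensorProduct.lift.tmul, hψ] at h3

end Alg

section Unit

variable {Z X : Scheme.{u}} (i : Z ⟶ X) [IsClosedImmersion i] (G : X.Modules) [G.IsQuasicoherent]

/-- For a closed immersion `i` and quasi-coherent `G`: a section `t` of `G` over an affine open
killed by the unit `G ⟶ i_* i^* G` is killed by every function `a` annihilating the ideal of `i`. -/
theorem smul_eq_zero_of_unit_app_eq_zero {U : X.Opens} (hU : IsAffineOpen U) (t : Γ(G, U))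
    (ht : ((Scheme.Modules.pullbackPushforwardAdjunction i).unit.app G).app U t = 0)
    (a : Γ(X, U)) (ha : ∀ b : Γ(X, U), b ∈ i.ker.ideal ⟨U, hU⟩ → a * b = 0) : a • t = 0 := by
  have hU' : IsAffineOpen (i ⁻¹ᵁ U) := hU.preimage i
  letI alg : Algebra Γ(X, U) Γ(Z, i ⁻¹ᵁ U) := (i.appLE U (i ⁻¹ᵁ U) le_rfl).hom.toAlgebra
  have hs : Function.Surjective (algebraMap Γ(X, U) Γ(Z, i ⁻¹ᵁ U)) := by
    change Function.Surjective (i.appLE U (i ⁻¹ᵁ U) le_rfl).hom
    rw [← Scheme.Hom.app_eq_appLE]
    exact i.app_surjective U hU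
  let E := sectionsPullbackEquiv i G hU' hU le_rfl
  have hE : E (OmegaSh.pullSect i G U t) = (1 : Γ(Z, i ⁻¹ᵁ U)) ⊗ₜ[Γ(X, U)] t := by
    have h1 := Groth.Agent.Helper18.Rec.sectionsPullbackEquiv_pullRes i G hU' hU le_rfl t
    rw [Groth.Agent.Helper18.Rec.pullRes_refl] at h1
    exact h1
  have hz : OmegaSh.pullSect i G U t = 0 := ht
  rw [hz, map_zero] at hE
  refine smul_eq_zero_of_one_tmul_eq_zero hs a (fun b hb => ha b ?_) t hE.symm
  rw [Scheme.Hom.ker_apply, RingHom.mem_ker]
  have hb' : (i.appLE U (i ⁻¹ᵁ U) le_rfl).hom b = 0 := hb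
  rwa [← Scheme.Hom.app_eq_appLE] at hb'

end Unit

/-- The reduced induced closed subscheme structure is reduced. -/
theorem isReduced_vanishingIdeal_subscheme' {X : Scheme.{u}} (Z : TopologicalSpace.Closeds X) :
    IsReduced (Scheme.IdealSheafData.vanishingIdeal Z).subscheme := by
  set I := Scheme.IdealSheafData.vanishingIdeal Z
  rw [IsReduced.iff_of_openCover (X := I.subscheme) I.subschemeCover.openCover]
  intro (U : X.affineOpens)
  have h3 : (I.ideal U).IsRadical := by
    rw [Scheme.IdealSheafData.vanishingIdeal_ideal]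
    exact PrimeSpectrum.isRadical_vanishingIdeal _
  have h2 : _root_.IsReduced (Γ(X, U) ⧸ I.ideal U) := (Ideal.isRadical_iff_quotient_reduced _).mp h3
  exact (affine_isReduced_iff (.of (Γ(X, U) ⧸ I.ideal U))).mpr h2

/-- Pull a closed cover by affines back along a closed immersion. -/
theorem pieces_pullback {n : ℕ} {X Y : Scheme.{u}} (Z : Fin n → Scheme.{u}) (ι : ∀ k, Z k ⟶ X)
    (hci : ∀ k, IsClosedImmersion (ι k)) (haff : ∀ k, IsAffine (Z k)) (j : Y ⟶ X)
    [IsClosedImmersion j] (hcov : ∀ y : Y, ∃ k, j.base y ∈ Set.range (ι k).base) :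
    (∀ k, IsClosedImmersion (pullback.snd (ι k) j)) ∧ (∀ k, IsAffine (pullback (ι k) j)) ∧
      (∀ y : Y, ∃ k, y ∈ Set.range (pullback.snd (ι k) j).base) := by
  refine ⟨fun k => ?_, fun k => ?_, fun y => ?_⟩
  · exact MorphismProperty.pullback_snd (P := @IsClosedImmersion) _ _ (hci k)
  · haveI := haff k
    haveI : IsClosedImmersion (pullback.fst (ι k) j) :=
      MorphismProperty.pullback_fst (P := @IsClosedImmersion) _ _ inferInstance
    exact isAffine_of_isAffineHom (pullback.fst (ι k) j)
  · obtain ⟨k, z, hz⟩ := hcov y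
    obtain ⟨w, -, hw⟩ := Scheme.Pullback.exists_preimage_pullback (f := ι k) (g := j) z y hz
    exact ⟨k, w, hw⟩

theorem compactSpace_of_cover {n : ℕ} {Y : Scheme.{u}} (W : Fin n → Scheme.{u})
    (j : ∀ k, W k ⟶ Y) (haff : ∀ k, IsAffine (W k))
    (hcov : ∀ y : Y, ∃ k, y ∈ Set.range (j k).base) : CompactSpace Y := by
  rw [← isCompact_univ_iff]
  have h : (Set.univ : Set Y) = ⋃ k, Set.range (j k).base := by
    ext y
    simp only [Set.mem_univ, Set.mem_iUnion, true_iff]
    exact hcov y
  rw [h]
  refine isCompact_iUnion fun k => ?_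
  haveI := haff k
  exact isCompact_range (Scheme.Hom.continuous (j k))

/-- `H¹` vanishing for quasi-coherent modules on a reduced scheme with a closed cover by `n + 1`
affines, assuming affineness for closed covers by `n` affines. -/
theorem HH_subsingleton_of_cover_reduced (n : ℕ)
    (IH : ∀ (Y : Scheme.{u}) (W : Fin n → Scheme.{u}) (j : ∀ k, W k ⟶ Y),
      (∀ k, IsClosedImmersion (j k)) → (∀ k, IsAffine (W k)) →
      (∀ y : Y, ∃ k, y ∈ Set.range (j k).base) → IsAffine Y)
    (X : Scheme.{u}) [IsReduced X] (Z : Fin (n + 1) → Scheme.{u}) (ι : ∀ k, Z k ⟶ X)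
    (hci : ∀ k, IsClosedImmersion (ι k)) (haff : ∀ k, IsAffine (Z k))
    (hcov : ∀ x : X, ∃ k, x ∈ Set.range (ι k).base)
    (F : X.Modules) [F.IsQuasicoherent] : Subsingleton (Coh.HH X F 1) := by
  haveI := hci 0
  haveI := haff 0
  have hTcl : IsClosed (⋃ k : Fin n, Set.range (ι k.succ).base) :=
    isClosed_iUnion_of_finite fun k => by
      haveI := hci k.succ
      exact (ι k.succ).isClosedEmbedding.isClosed_range
  obtain ⟨IT, hIT⟩ : ∃ IT : X.IdealSheafData,
      IT = Scheme.IdealSheafData.vanishingIdeal ⟨_, hTcl⟩ := ⟨_, rfl⟩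
  have hITs : (IT.support : Set X) = ⋃ k : Fin n, Set.range (ι k.succ).base := by
    rw [hIT]
    exact Scheme.IdealSheafData.coe_support_vanishingIdeal _
  -- the union of the other pieces is affine
  haveI hTaff : IsAffine IT.subscheme := by
    obtain ⟨h1, h2, h3⟩ := pieces_pullback (fun k => Z k.succ) (fun k => ι k.succ)
      (fun k => hci k.succ) (fun k => haff k.succ) IT.subschemeι (by
        intro y
        have hy : IT.subschemeι.base y ∈ (IT.support : Set X) := by
          rw [← Scheme.IdealSheafData.range_subschemeι]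
          exact ⟨y, rfl⟩
        rw [hITs] at hy
        exact Set.mem_iUnion.1 hy)
    exact IH IT.subscheme _ _ h1 h2 h3
  -- the product of the two ideals vanishes
  have hprod : (ι 0).ker * IT = ⊥ := by
    rw [← Scheme.IdealSheafData.support_eq_top_iff]
    have h0 : ((ι 0).ker.support : Set X) = Set.range (ι 0).base := by
      rw [Scheme.Hom.support_ker]
      exact (ι 0).isClosedEmbedding.isClosed_range.closure_eq
    apply TopologicalSpace.Closeds.ext
    rw [Scheme.IdealSheafData.support_mul, TopologicalSpace.Closeds.coe_sup, h0, hITs,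
      TopologicalSpace.Closeds.coe_top]
    apply Set.eq_univ_of_forall
    intro x
    obtain ⟨k, hk⟩ := hcov x
    rcases Fin.eq_zero_or_eq_succ k with rfl | ⟨k', rfl⟩
    · exact Or.inl hk
    · exact Or.inr (Set.mem_iUnion.2 ⟨k', hk⟩)
  have hab : ∀ (U : X.affineOpens) (a b : Γ(X, U.1)), a ∈ IT.ideal U →
      b ∈ (ι 0).ker.ideal U → a * b = 0 := by
    intro U a b ha hb
    have h1 : b * a ∈ ((ι 0).ker * IT).ideal U := by
      rw [Scheme.IdealSheafData.ideal_mul]
      exact Ideal.mul_mem_mul hb ha
    rw [hprod] at h1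
    rw [mul_comm]
    exact Ideal.mem_bot.mp h1
  -- the unit of the first piece
  obtain ⟨η, hη⟩ : ∃ η : F ⟶ (Scheme.Modules.pushforward (ι 0)).obj
      ((Scheme.Modules.pullback (ι 0)).obj F),
      η = (Scheme.Modules.pullbackPushforwardAdjunction (ι 0)).unit.app F := ⟨_, rfl⟩
  haveI hP : ((Scheme.Modules.pullback (ι 0)).obj F).IsQuasicoherent := inferInstance
  haveI hQ : ((Scheme.Modules.pushforward (ι 0)).obj
      ((Scheme.Modules.pullback (ι 0)).obj F)).IsQuasicoherent :=
    Groth.Agent.Helper13.QCohPush.isQuasicoherent_pushforward (ι 0) _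
  haveI hepi : Epi η := by
    rw [hη]
    apply Groth.Agent.Helper18.BasisCrit.epi_of_basis _ X.isBasis_affineOpens
    intro V hV
    exact Groth.Agent.Helper28.UnitClosed.ηsec_surjective (ι 0) F hV
  haveI hK : (kernel η).IsQuasicoherent := QCohLocal.isQuasicoherent_kernel η
  have hS : (ShortComplex.mk (kernel.ι η) η (kernel.condition η)).ShortExact := by
    haveI : Mono (ShortComplex.mk (kernel.ι η) η (kernel.condition η)).f :=
      (inferInstance : Mono (kernel.ι η))
    haveI : Epi (ShortComplex.mk (kernel.ι η) η (kernel.condition η)).g := hepi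
    exact ShortComplex.ShortExact.mk
      (ShortComplex.exact_of_f_is_kernel _ (kernelIsKernel η))
  -- cohomology of the third term
  have hQ1 : Subsingleton (Coh.HH X ((Scheme.Modules.pushforward (ι 0)).obj
      ((Scheme.Modules.pullback (ι 0)).obj F)) 1) := by
    haveI : Coh.IsQCoh ((Scheme.Modules.pullback (ι 0)).obj F) := hP
    exact Groth.Agent.Helper9.AffStrat.HH_subsingleton_pushforward (ι 0)
      ((Scheme.Modules.pullback (ι 0)).obj F) 1
      (Groth.Agent.S0007.result (Z 0) _ 1 Nat.one_pos)
  -- cohomology of the kernel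
  have hK1 : Subsingleton (Coh.HH X (kernel η) 1) := by
    haveI hiso : IsIso ((Scheme.Modules.pullbackPushforwardAdjunction IT.subschemeι).unit.app
        (kernel η)) := by
      refine (Groth.Agent.Helper28.ClUnit.main IT.subschemeι (kernel η) hK).2 ?_
      intro U a ha s
      rw [Scheme.IdealSheafData.ker_subschemeι] at ha
      have hinj : Function.Injective ((kernel.ι η).app U.1) :=
        (Groth.Agent.Helper13.QCoh.mono_iff_app_injective (kernel.ι η)).1 inferInstance U.1
      apply hinj
      rw [map_zero, Scheme.Modules.Hom.app_smul]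
      refine smul_eq_zero_of_unit_app_eq_zero (ι 0) F U.2 _ ?_ a (fun b hb => hab U a b ha hb)
      have h0 : (kernel.ι η ≫ η).app U.1 s = 0 := by
        rw [kernel.condition]
        rfl
      have h1 : η.app U.1 ((kernel.ι η).app U.1 s) = 0 := h0
      have h2 : ∀ (η' : F ⟶ (Scheme.Modules.pushforward (ι 0)).obj
          ((Scheme.Modules.pullback (ι 0)).obj F)),
          η' = (Scheme.Modules.pullbackPushforwardAdjunction (ι 0)).unit.app F →
          ∀ t : Γ(F, U.1), η'.app U.1 t = 0 →
            ((Scheme.Modules.pullbackPushforwardAdjunction (ι 0)).unit.app F).app U.1 t = 0 := by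
        intro η' h t ht
        rw [← h]
        exact ht
      exact h2 η hη _ h1
    haveI hP' : ((Scheme.Modules.pullback IT.subschemeι).obj (kernel η)).IsQuasicoherent :=
      inferInstance
    haveI : Coh.IsQCoh ((Scheme.Modules.pullback IT.subschemeι).obj (kernel η)) := hP'
    exact Groth.Agent.Helper9.AffStrat.HH_subsingleton_of_iso
      (asIso ((Scheme.Modules.pullbackPushforwardAdjunction IT.subschemeι).unit.app (kernel η))) 1
      (Groth.Agent.Helper9.AffStrat.HH_subsingleton_pushforward IT.subschemeι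
        ((Scheme.Modules.pullback IT.subschemeι).obj (kernel η)) 1
        (Groth.Agent.S0007.result IT.subscheme _ 1 Nat.one_pos))
  exact AcycEmbed.HH_subsingleton_of_shortExact _ hS 1 hK1 hQ1

/-- A scheme covered by finitely many closed affine subschemes is affine. -/
theorem isAffine_of_closed_cover : ∀ (n : ℕ) (X : Scheme.{u}) (Z : Fin n → Scheme.{u})
    (ι : ∀ k, Z k ⟶ X), (∀ k, IsClosedImmersion (ι k)) → (∀ k, IsAffine (Z k)) →
    (∀ x : X, ∃ k, x ∈ Set.range (ι k).base) → IsAffine X := by
  intro n
  induction n with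
  | zero =>
    intro X Z ι _ _ hcov
    haveI : IsEmpty X := ⟨fun x => by obtain ⟨k, -⟩ := hcov x; exact k.elim0⟩
    infer_instance
  | succ n ih =>
    intro X Z ι hci haff hcov
    obtain ⟨I, hI⟩ : ∃ I : X.IdealSheafData,
        I = Scheme.IdealSheafData.vanishingIdeal (⊤ : TopologicalSpace.Closeds X) := ⟨_, rfl⟩
    haveI hred : IsReduced I.subscheme := by
      rw [hI]
      exact isReduced_vanishingIdeal_subscheme' ⊤
    have hsurj : Function.Surjective I.subschemeι.base := by
      intro x
      have hx : x ∈ (I.support : Set X) := by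
        rw [hI, Scheme.IdealSheafData.coe_support_vanishingIdeal]
        trivial
      rw [← Scheme.IdealSheafData.range_subschemeι] at hx
      exact hx
    obtain ⟨h1, h2, h3⟩ := pieces_pullback Z ι hci haff I.subschemeι (fun y => hcov _)
    haveI : IsAffine I.subscheme := by
      haveI : CompactSpace I.subscheme := compactSpace_of_cover _ _ h2 h3
      apply Groth.Agent.S0009.result
      intro J i _ hJ
      haveI : J.IsQuasicoherent := hJ
      exact HH_subsingleton_of_cover_reduced n ih I.subscheme _ _ h1 h2 h3 J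
    exact Groth.Agent.Helper6.ThickAff.isAffine_of_isClosedImmersion_of_surjective
      I.subschemeι hsurj

end Groth.Agent.Helper9.ClosedCover
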