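import Mathlib
import Groth.Agent.Lib.Helper9.AffStrat
import Groth.Agent.Lib.Helper9.ClosedCover
import Groth.Agent.Lib.Helper12.SuppIdeal

/-!
# Cohomology of modules supported on a closed subscheme of bounded cohomological dimension (helper9)

Let `ι : Z ⟶ X` be a closed immersion into a Noetherian scheme such that `H^q(Z, G) = 0` for all
quasi-coherent `G` and `q > k`.

* `HH_subsingleton_of_pow_kills`: a quasi-coherent module on `X` killed by a power of the ideal of
  `Z` has no cohomology in degrees `> k`.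
* `HH_subsingleton_of_zeroOn`: the same for quasi-coherent modules vanishing off `Z`.
* `HH_equiv_of_isIso_restrict`: a map of quasi-coherent modules which is an isomorphism off `Z`
  induces isomorphisms on `H^i` for `i ≥ k + 2`.
-/

set_option autoImplicit false
set_option linter.unusedSectionVars false
set_option maxRecDepth 8000
universe u
open CategoryTheory CategoryTheory.Limits AlgebraicGeometry Opposite TopologicalSpace TensorProduct
open Groth.Agent.Helper13 Groth.Agent.Helper13.QCoh Groth.Agent.Helper13.Pullback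
  Groth.Agent.Helper18.PbCompat

namespace Groth.Agent.Helper9.CdIso

section Alg

variable {A B M : Type u} [CommRing A] [CommRing B] [Algebra A B] [AddCommGroup M] [Module A M]

/-- For a surjective `A → B`: if `1 ⊗ m = 0` in `B ⊗[A] M` and `a * b` kills `M` for every `b` in
the kernel of `A → B`, then `a • m = 0`. -/
theorem smul_eq_zero_of_one_tmul_eq_zero' (hs : Function.Surjective (algebraMap A B)) (a : A)
    (ha : ∀ b : A, algebraMap A B b = 0 → ∀ m : M, (a * b) • m = 0) (m : M)
    (hm : (1 : B) ⊗ₜ[A] m = 0) : a • m = 0 := by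
  let f : A →ₗ[A] (M →ₗ[A] M) := a • LinearMap.lsmul A M
  have hf : ∀ (b : A) (m : M), f b m = a • b • m := fun b m => by
    simp only [f, LinearMap.smul_apply, LinearMap.lsmul_apply]
  have hle : LinearMap.ker (Algebra.linearMap A B) ≤ LinearMap.ker f := by
    intro b hb
    rw [LinearMap.mem_ker] at hb ⊢
    rw [Algebra.linearMap_apply] at hb
    refine LinearMap.ext fun m => ?_
    rw [hf, smul_smul, ha b hb m]
    rfl
  have hs' : Function.Surjective (Algebra.linearMap A B) := hs
  let ψ : B →ₗ[A] (M →ₗ[A] M) :=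
    (Submodule.liftQ _ f hle) ∘ₗ
      (LinearMap.quotKerEquivOfSurjective (Algebra.linearMap A B) hs').symm.toLinearMap
  have hψ : ∀ m : M, ψ 1 m = a • m := by
    intro m
    have h1 : (LinearMap.quotKerEquivOfSurjective (Algebra.linearMap A B) hs').symm 1 =
        Submodule.Quotient.mk 1 := by
      have h2 := LinearMap.quotKerEquivOfSurjective_symm_apply (f := Algebra.linearMap A B) hs' 1
      rwa [Algebra.linearMap_apply, map_one] at h2
    change Submodule.liftQ _ f hle
      ((LinearMap.quotKerEquivOfSurjective (Algebra.linearMap A B) hs').symm 1) m = a • m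
    rw [h1, Submodule.liftQ_apply, hf, one_smul]
  let r : B ⊗[A] M →ₗ[A] M := TensorProduct.lift ψ
  have h3 := congrArg r hm
  rw [map_zero] at h3
  change r ((1 : B) ⊗ₜ[A] m) = 0 at h3
  rwa [TensorProduct.lift.tmul, hψ] at h3

end Alg

section Unit

variable {Z X : Scheme.{u}} (i : Z ⟶ X) [IsClosedImmersion i] (G : X.Modules) [G.IsQuasicoherent]

/-- For a closed immersion `i` and quasi-coherent `G`: a section `t` of `G` over an affine open
killed by the unit `G ⟶ i_* i^* G` is killed by every function `a` such that `a * b` kills `G` for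
all `b` in the ideal of `i`. -/
theorem smul_eq_zero_of_unit_app_eq_zero' {U : X.Opens} (hU : IsAffineOpen U) (t : Γ(G, U))
    (ht : ((Scheme.Modules.pullbackPushforwardAdjunction i).unit.app G).app U t = 0)
    (a : Γ(X, U))
    (ha : ∀ b : Γ(X, U), b ∈ i.ker.ideal ⟨U, hU⟩ → ∀ s : Γ(G, U), (a * b) • s = 0) :
    a • t = 0 := by
  have hU' : IsAffineOpen (i ⁻¹ᵁ U) := hU.preimage i
  letI alg : Algebra Γ(X, U) Γ(Z, i ⁻¹ᵁ U) := (i.appLE U (i ⁻¹ᵁ U) le_rfl).hom.toAlgebra
  have hs : Function.Surjective (algebraMap Γ(X, U) Γ(Z, i ⁻¹ᵁ U)) := by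
    change Function.Surjective (i.appLE U (i ⁻¹ᵁ U) le_rfl).hom
    rw [← Scheme.Hom.app_eq_appLE]
    exact i.app_surjective U hU
  let E := sectionsPullbackEquiv i G hU' hU le_rfl
  have hE : E (OmegaSh.pullSect i G U t) = (1 : Γ(Z, i ⁻¹ᵁ U)) ⊗ₜ[Γ(X, U)] t := by
    have h1 := Groth.Agent.Helper18.Rec.sectionsPullbackEquiv_pullRes i G hU' hU le_rfl t
    rw [Groth.Agent.Helper18.Rec.pullRes_refl] at h1
    exact h1
  have hz : OmegaSh.pullSect i G U t = 0 := ht
  rw [hz, map_zero] at hE
  refine smul_eq_zero_of_one_tmul_eq_zero' hs a (fun b hb => ha b ?_) t hE.symm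
  rw [Scheme.Hom.ker_apply, RingHom.mem_ker]
  have hb' : (i.appLE U (i ⁻¹ᵁ U) le_rfl).hom b = 0 := hb
  rwa [← Scheme.Hom.app_eq_appLE] at hb'

end Unit

/-- A quasi-coherent module killed by a power of the ideal of a closed subscheme `Z` has no
cohomology above the cohomological dimension of `Z`. -/
theorem HH_subsingleton_of_pow_kills {Z X : Scheme.{u}} (ι : Z ⟶ X) [IsClosedImmersion ι] (k : ℕ)
    (hcd : ∀ G : Z.Modules, G.IsQuasicoherent → ∀ q : ℕ, k < q → Subsingleton (Coh.HH Z G q)) :
    ∀ (m : ℕ) (M : X.Modules), M.IsQuasicoherent →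
      (∀ (V : X.affineOpens) (a : Γ(X, V.1)), a ∈ (ι.ker ^ (m + 1)).ideal V →
        ∀ s : Γ(M, V.1), a • s = 0) →
      ∀ q : ℕ, k < q → Subsingleton (Coh.HH X M q) := by
  intro m
  induction m with
  | zero =>
    intro M hM hkill q hq
    haveI := hM
    haveI hiso : IsIso ((Scheme.Modules.pullbackPushforwardAdjunction ι).unit.app M) := by
      refine (Groth.Agent.Helper28.ClUnit.main ι M hM).2 ?_
      intro V a ha s
      have ha' : a ∈ (ι.ker.ideal V) ^ (0 + 1) := by
        rw [zero_add, pow_one]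
        exact ha
      exact hkill V a ha' s
    haveI hP : ((Scheme.Modules.pullback ι).obj M).IsQuasicoherent := inferInstance
    exact Groth.Agent.Helper9.AffStrat.HH_subsingleton_of_iso
      (asIso ((Scheme.Modules.pullbackPushforwardAdjunction ι).unit.app M)) q
      (Groth.Agent.Helper9.AffStrat.HH_subsingleton_pushforward ι
        ((Scheme.Modules.pullback ι).obj M) q (hcd _ hP q hq))
  | succ m ih =>
    intro M hM hkill q hq
    haveI := hM
    obtain ⟨η, hη⟩ : ∃ η : M ⟶ (Scheme.Modules.pushforward ι).obj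
        ((Scheme.Modules.pullback ι).obj M),
        η = (Scheme.Modules.pullbackPushforwardAdjunction ι).unit.app M := ⟨_, rfl⟩
    haveI hP : ((Scheme.Modules.pullback ι).obj M).IsQuasicoherent := inferInstance
    haveI hQ : ((Scheme.Modules.pushforward ι).obj
        ((Scheme.Modules.pullback ι).obj M)).IsQuasicoherent :=
      Groth.Agent.Helper13.QCohPush.isQuasicoherent_pushforward ι _
    haveI hepi : Epi η := by
      rw [hη]
      apply Groth.Agent.Helper18.BasisCrit.epi_of_basis _ X.isBasis_affineOpens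
      intro V hV
      exact Groth.Agent.Helper28.UnitClosed.ηsec_surjective ι M hV
    haveI hK : (kernel η).IsQuasicoherent := QCohLocal.isQuasicoherent_kernel η
    have hS : (ShortComplex.mk (kernel.ι η) η (kernel.condition η)).ShortExact := by
      haveI : Mono (ShortComplex.mk (kernel.ι η) η (kernel.condition η)).f :=
        (inferInstance : Mono (kernel.ι η))
      haveI : Epi (ShortComplex.mk (kernel.ι η) η (kernel.condition η)).g := hepi
      exact ShortComplex.ShortExact.mk
        (ShortComplex.exact_of_f_is_kernel _ (kernelIsKernel η))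
    have hQ1 : Subsingleton (Coh.HH X ((Scheme.Modules.pushforward ι).obj
        ((Scheme.Modules.pullback ι).obj M)) q) :=
      Groth.Agent.Helper9.AffStrat.HH_subsingleton_pushforward ι
        ((Scheme.Modules.pullback ι).obj M) q (hcd _ hP q hq)
    have hK1 : Subsingleton (Coh.HH X (kernel η) q) := by
      refine ih (kernel η) hK ?_ q hq
      intro V a ha s
      have hinj : Function.Injective ((kernel.ι η).app V.1) :=
        (Groth.Agent.Helper13.QCoh.mono_iff_app_injective (kernel.ι η)).1 inferInstance V.1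
      apply hinj
      rw [map_zero, Scheme.Modules.Hom.app_smul]
      refine smul_eq_zero_of_unit_app_eq_zero' ι M V.2 _ ?_ a (fun b hb t => ?_)
      · have h0 : (kernel.ι η ≫ η).app V.1 s = 0 := by
          rw [kernel.condition]
          rfl
        have h1 : η.app V.1 ((kernel.ι η).app V.1 s) = 0 := h0
        have h2 : ∀ (η' : M ⟶ (Scheme.Modules.pushforward ι).obj
            ((Scheme.Modules.pullback ι).obj M)),
            η' = (Scheme.Modules.pullbackPushforwardAdjunction ι).unit.app M →
            ∀ t : Γ(M, V.1), η'.app V.1 t = 0 →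
              ((Scheme.Modules.pullbackPushforwardAdjunction ι).unit.app M).app V.1 t = 0 := by
          intro η' h t ht
          rw [← h]
          exact ht
        exact h2 η hη _ h1
      · have ha' : a ∈ (ι.ker.ideal V) ^ (m + 1) := ha
        have hb' : b ∈ ι.ker.ideal V := hb
        have hab : a * b ∈ (ι.ker.ideal V) ^ (m + 1 + 1) := by
          rw [pow_succ]
          exact Ideal.mul_mem_mul ha' hb'
        exact hkill V (a * b) hab t
    exact AcycEmbed.HH_subsingleton_of_shortExact _ hS q hK1 hQ1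

/-- On a Noetherian scheme, a finite type quasi-coherent module supported in `V(I₀)` is killed by
a power of `I₀`. -/
theorem exists_pow_kills (X : Scheme.{u}) [IsNoetherian X] (I₀ : X.IdealSheafData)
    (F : X.Modules) [F.IsQuasicoherent] (hF : CohB1.IsFT F)
    (hsupp : CohB1.support F ⊆ (I₀.support : Set X)) :
    ∃ m : ℕ, ∀ (V : X.affineOpens) (a : Γ(X, V.1)), a ∈ (I₀ ^ (m + 1)).ideal V →
      ∀ s : Γ(F, V.1), a • s = 0 := by
  have hI₀ : ∀ V : X.affineOpens, (I₀.ideal V).FG := fun V => by
    haveI : IsNoetherianRing Γ(X, V.1) := IsLocallyNoetherian.component_noetherian V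
    exact IsNoetherian.noetherian _
  have hex : ∀ x : X, ∃ U : X.affineOpens, x ∈ U.1 := fun x => by
    obtain ⟨_, ⟨U, hU, rfl⟩, hxU, -⟩ :=
      X.isBasis_affineOpens.exists_subset_of_mem_open (Set.mem_univ x) isOpen_univ
    exact ⟨⟨U, hU⟩, hxU⟩
  choose U hU using hex
  have hN : ∀ x : X, ∃ N : ℕ, ∀ a ∈ (I₀.ideal (U x)) ^ N, ∀ m : Γ(F, (U x).1), a • m = 0 :=
    fun x => Groth.Agent.Helper12.SuppIdeal.exists_pow_annihilates F I₀ hsupp hF (U x) (hI₀ (U x))
  choose N hN using hN
  obtain ⟨t, ht⟩ := isCompact_univ.elim_finite_subcover (fun x : X => ((U x).1 : Set X))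
    (fun x => (U x).1.2) (fun x _ => Set.mem_iUnion.mpr ⟨x, hU x⟩)
  have hcov : ∀ x : X, ∃ i : t, x ∈ (U i.1).1 := by
    intro x
    have := ht (Set.mem_univ x)
    simp only [Set.mem_iUnion] at this
    obtain ⟨i, hi, hx⟩ := this
    exact ⟨⟨i, hi⟩, hx⟩
  have hkill : ∀ i : t, ∀ a ∈ (I₀.ideal (U i.1)) ^ (t.sup N + 1),
      ∀ m : Γ(F, (U i.1).1), a • m = 0 := by
    intro i a ha m
    refine hN i.1 a (Ideal.pow_le_pow_right ?_ ha) m
    exact (Finset.le_sup i.2).trans (Nat.le_succ _)
  refine ⟨t.sup N, fun V a ha s => ?_⟩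
  have ha' : a ∈ (I₀.ideal V) ^ (t.sup N + 1) := ha
  exact Groth.Agent.Helper12.SuppIdeal.annihilates_of_cover F I₀ (fun i : t => U i.1) hcov
    (t.sup N + 1) hkill V a ha' s

/-- Quasi-coherent modules vanishing off a closed subscheme `Z` of a Noetherian scheme have no
cohomology above the cohomological dimension of `Z`. -/
theorem HH_subsingleton_of_zeroOn {X : Scheme.{u}} [IsNoetherian X] {Z : Scheme.{u}} (ι : Z ⟶ X)
    [IsClosedImmersion ι] (k : ℕ)
    (hcd : ∀ G : Z.Modules, G.IsQuasicoherent → ∀ q : ℕ, k < q → Subsingleton (Coh.HH Z G q))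
    (U : X.Opens) (hU : (U : Set X) = (Set.range ι.base)ᶜ)
    (M : X.Modules) [M.IsQuasicoherent] (hM : IsZero (M.restrict U.ι)) (q : ℕ) (hq : k < q) :
    Subsingleton (Coh.HH X M q) := by
  haveI : QuasiSeparatedSpace X := inferInstance
  apply Groth.Agent.Helper9.AffStrat.HH_subsingleton_of_sub M q
  intro j
  haveI hjq := FTColim.sub_isQuasicoherent M j
  haveI hjf := FTColim.sub_isFiniteType M j
  have hz : IsZero ((FTColim.sub M j).restrict U.ι) := by
    haveI : Mono ((Scheme.Modules.restrictFunctor U.ι).map (FTColim.subι M j)) := inferInstance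
    exact IsZero.of_mono ((Scheme.Modules.restrictFunctor U.ι).map (FTColim.subι M j)) hM
  have h0 : (ι.ker.support : Set X) = Set.range ι.base := by
    rw [Scheme.Hom.support_ker]
    exact ι.isClosedEmbedding.isClosed_range.closure_eq
  have hsupp : CohB1.support (FTColim.sub M j) ⊆ (ι.ker.support : Set X) := by
    intro x hx
    rw [h0]
    by_contra hx'
    have hxU : x ∈ (U : Set X) := by
      rw [hU]
      exact hx'
    exact hx (Groth.Agent.Helper9.AffStrat.stalk_subsingleton_of_isZero_restrict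
      (FTColim.sub M j) U hz x hxU)
  obtain ⟨m, hm⟩ := exists_pow_kills X ι.ker (FTColim.sub M j) hjf hsupp
  exact HH_subsingleton_of_pow_kills ι k hcd m (FTColim.sub M j) hjq hm q hq

/-! ### long exact sequence isomorphisms -/

open Abelian ToAbExact in
theorem HH_bijective_g {X : Scheme.{u}} (S : ShortComplex X.Modules) (hS : S.ShortExact) (p : ℕ)
    (h1 : Subsingleton (Coh.HH X S.X₁ p)) (h1' : Subsingleton (Coh.HH X S.X₁ (p + 1))) :
    Function.Bijective (Sheaf.H.map ((toAbF X).map S.g) p) := by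
  have hS' := toAb_shortExact S hS
  constructor
  · refine (injective_iff_map_eq_zero _).2 fun x₂ hx₂ => ?_
    obtain ⟨x₁, hx₁⟩ := Ext.covariant_sequence_exact₂ _ hS' x₂ hx₂
    have h0 : x₁ = 0 := Subsingleton.elim (α := Coh.HH X S.X₁ p) x₁ 0
    subst h0
    exact hx₁.symm.trans (Ext.zero_comp _ _ _ _ _)
  · intro x₃
    obtain ⟨x₂, hx₂⟩ := Ext.covariant_sequence_exact₃ _ hS' x₃ (n₁ := p + 1) rfl
      (Subsingleton.elim (α := Coh.HH X S.X₁ (p + 1)) _ _)
    exact ⟨x₂, hx₂⟩

open Abelian ToAbExact in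
theorem HH_bijective_f {X : Scheme.{u}} (S : ShortComplex X.Modules) (hS : S.ShortExact) (p : ℕ)
    (h3 : Subsingleton (Coh.HH X S.X₃ p)) (h3' : Subsingleton (Coh.HH X S.X₃ (p + 1))) :
    Function.Bijective (Sheaf.H.map ((toAbF X).map S.f) (p + 1)) := by
  have hS' := toAb_shortExact S hS
  constructor
  · refine (injective_iff_map_eq_zero _).2 fun x₁ hx₁ => ?_
    obtain ⟨x₃, hx₃⟩ := Ext.covariant_sequence_exact₁ _ hS' x₁ hx₁ (n₀ := p) rfl
    have h0 : x₃ = 0 := Subsingleton.elim (α := Coh.HH X S.X₃ p) x₃ 0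
    subst h0
    exact hx₃.symm.trans (Ext.zero_comp _ _ _ _ _)
  · intro x₂
    obtain ⟨x₁, hx₁⟩ := Ext.covariant_sequence_exact₂ _ hS' x₂
      (Subsingleton.elim (α := Coh.HH X S.X₃ (p + 1)) _ _)
    exact ⟨x₁, hx₁⟩

open ToAbExact in
/-- A map of quasi-coherent modules which is an isomorphism over `U`, where modules vanishing on
`U` have no cohomology in degrees `> k`, induces isomorphisms on `H^i` for `i ≥ k + 2`. -/
theorem HH_equiv_of_isIso_restrict {X : Scheme.{u}} (U : X.Opens) (k : ℕ)
    (hv : ∀ M : X.Modules, M.IsQuasicoherent → IsZero (M.restrict U.ι) →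
      ∀ q : ℕ, k < q → Subsingleton (Coh.HH X M q))
    {G F : X.Modules} [G.IsQuasicoherent] [F.IsQuasicoherent] (η : G ⟶ F)
    [IsIso ((Scheme.Modules.restrictFunctor U.ι).map η)] (i : ℕ) (hi : k + 2 ≤ i) :
    Nonempty (Coh.HH X G i ≃+ Coh.HH X F i) := by
  haveI hqK : (kernel η).IsQuasicoherent := QCohLocal.isQuasicoherent_kernel η
  haveI hqQ : (cokernel η).IsQuasicoherent := QCohLocal.isQuasicoherent_cokernel η
  haveI hqI : (kernel (cokernel.π η)).IsQuasicoherent :=
    QCohLocal.isQuasicoherent_kernel (cokernel.π η)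
  have hK0 : IsZero ((kernel η).restrict U.ι) :=
    (isZero_kernel_of_mono ((Scheme.Modules.restrictFunctor U.ι).map η)).of_iso
      (PreservesKernel.iso (Scheme.Modules.restrictFunctor U.ι) η)
  have hQ0 : IsZero ((cokernel η).restrict U.ι) :=
    (isZero_cokernel_of_epi ((Scheme.Modules.restrictFunctor U.ι).map η)).of_iso
      (PreservesCokernel.iso (Scheme.Modules.restrictFunctor U.ι) η)
  obtain ⟨q, rfl⟩ : ∃ q, i = q + 1 := ⟨i - 1, by omega⟩
  have vK : Subsingleton (Coh.HH X (kernel η) (q + 1)) := hv _ hqK hK0 (q + 1) (by omega)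
  have vK' : Subsingleton (Coh.HH X (kernel η) (q + 1 + 1)) :=
    hv _ hqK hK0 (q + 1 + 1) (by omega)
  have vQ : Subsingleton (Coh.HH X (cokernel η) q) := hv _ hqQ hQ0 q (by omega)
  have vQ' : Subsingleton (Coh.HH X (cokernel η) (q + 1)) := hv _ hqQ hQ0 (q + 1) (by omega)
  have hS₂ : (ShortComplex.mk (kernel.ι (cokernel.π η)) (cokernel.π η)
      (kernel.condition _)).ShortExact :=
    { exact := ShortComplex.exact_of_f_is_kernel _ (kernelIsKernel _)
      mono_f := inferInstanceAs (Mono (kernel.ι (cokernel.π η)))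
      epi_g := inferInstanceAs (Epi (cokernel.π η)) }
  have hz : kernel.ι η ≫ Abelian.factorThruImage η = 0 := by
    rw [← cancel_mono (Abelian.image.ι η), Category.assoc, Abelian.image.fac, kernel.condition,
      zero_comp]
  have hS₁ : (ShortComplex.mk (kernel.ι η) (Abelian.factorThruImage η) hz).ShortExact :=
    { exact := ShortComplex.exact_of_f_is_kernel _
        (isKernelOfComp (Abelian.image.ι η) η (kernelIsKernel η) hz (Abelian.image.fac η))
      mono_f := inferInstanceAs (Mono (kernel.ι η))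
      epi_g := inferInstanceAs (Epi (Abelian.factorThruImage η)) }
  have b₁ := HH_bijective_g _ hS₁ (q + 1) vK vK'
  have b₂ := HH_bijective_f _ hS₂ q vQ vQ'
  have e₁ : Coh.HH X G (q + 1) ≃+ Coh.HH X (kernel (cokernel.π η)) (q + 1) :=
    AddEquiv.ofBijective (Sheaf.H.map ((toAbF X).map (Abelian.factorThruImage η)) (q + 1)) b₁
  have e₂ : Coh.HH X (kernel (cokernel.π η)) (q + 1) ≃+ Coh.HH X F (q + 1) :=
    AddEquiv.ofBijective (Sheaf.H.map ((toAbF X).map (kernel.ι (cokernel.π η))) (q + 1)) b₂
  exact ⟨e₁.trans e₂⟩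

end Groth.Agent.Helper9.CdIso
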