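import Mathlib
import Groth.Prelude.Def_Exal
import Groth.Prelude.Def_Exal2
import Groth.Prelude.Def_Exal3

set_option autoImplicit false
set_option linter.unusedSectionVars false
set_option linter.style.haveILetI false

universe u v

open TensorProduct KaehlerDifferential

namespace Groth.Agent.Helper9.CharHom

variable (A : Type u) {B C L : Type v} [CommRing A] [CommRing B] [CommRing C] [Algebra A B]
  [Algebra B C] [Algebra A C] [IsScalarTower A B C] [AddCommGroup L] [Module C L]
  (X : Exal.Ext B C L)

lemma proj_incl (l : L) : X.proj (X.incl l) = 0 := (X.isExtension.exact _).2 ⟨l, rfl⟩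

lemma incl_mul_incl (l l' : L) : X.incl l * X.incl l' = 0 := by
  rw [X.isExtension.mul_incl, proj_incl, zero_smul, map_zero]

lemma surj : Function.Surjective (algebraMap (X.CharCarrier A) C) :=
  X.isExtension.proj_surjective

lemma mem_ker_incl (l : L) : X.inclC A l ∈ RingHom.ker (algebraMap (X.CharCarrier A) C) :=
  proj_incl X l

lemma ker_sq : (RingHom.ker (algebraMap (X.CharCarrier A) C)) ^ 2 = ⊥ := by
  rw [pow_two, eq_bot_iff, Ideal.mul_le]
  intro x hx y hy
  rw [RingHom.mem_ker] at hx hy
  obtain ⟨z, rfl⟩ := (X.isExtension.exact y).1 hy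
  rw [Ideal.mem_bot]
  have h1 := X.isExtension.mul_incl x z
  have h2 : X.proj x = 0 := hx
  rw [h2, zero_smul, map_zero] at h1
  exact h1

lemma deltaL_eq (l : L) :
    X.deltaL A l = kerToTensor A (X.CharCarrier A) C ⟨X.inclC A l, mem_ker_incl A X l⟩ := rfl

/-- `deltaL` is `C`-linear. -/
lemma deltaL_smul (c : C) (l : L) : X.deltaL A (c • l) = c • X.deltaL A l := by
  obtain ⟨e, rfl⟩ := surj A X c
  have h1 : (⟨X.inclC A (algebraMap (X.CharCarrier A) C e • l), mem_ker_incl A X _⟩ :
      RingHom.ker (algebraMap (X.CharCarrier A) C)) = e • ⟨X.inclC A l, mem_ker_incl A X l⟩ := by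
    apply Subtype.ext
    exact (X.isExtension.mul_incl e l).symm
  rw [deltaL_eq, deltaL_eq, h1, map_smul, algebraMap_smul]

/-- Functoriality: the composite `C ⊗_B Ω_{B/A} → C ⊗_E Ω_{E/A} → Ω_{C/A}` is `mapBaseChange`. -/
lemma mapBaseChange_baseChangeToMiddle (z : C ⊗[B] Ω[B⁄A]) :
    mapBaseChange A (X.CharCarrier A) C (X.baseChangeToMiddle A z) = mapBaseChange A B C z := by
  induction z using TensorProduct.induction_on with
  | zero => simp
  | add x y hx hy => rw [map_add, map_add, map_add, hx, hy]
  | tmul c ω =>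
    change mapBaseChange A (X.CharCarrier A) C
      (c ⊗ₜ[X.CharCarrier A] KaehlerDifferential.map A A B (X.CharCarrier A) ω) = _
    rw [mapBaseChange_tmul, mapBaseChange_tmul]
    congr 1
    have hspan := KaehlerDifferential.span_range_derivation A B
    have hω : ω ∈ Submodule.span B (Set.range (KaehlerDifferential.D A B)) := by
      rw [hspan]; trivial
    induction hω using Submodule.span_induction with
    | mem x hx =>
      obtain ⟨b, rfl⟩ := hx
      rw [KaehlerDifferential.map_D, KaehlerDifferential.map_D, KaehlerDifferential.map_D,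
        ← IsScalarTower.algebraMap_apply]
    | zero => simp
    | add x y _ _ hx hy => rw [map_add, map_add, map_add, hx, hy]
    | smul b x _ hx =>
      have e1 : KaehlerDifferential.map A A B (X.CharCarrier A) (b • x) =
          (algebraMap B (X.CharCarrier A) b) •
            KaehlerDifferential.map A A B (X.CharCarrier A) x := by
        rw [map_smul, algebraMap_smul]
      rw [e1, map_smul, hx, map_smul, algebraMap_smul]

/-- `baseChangeToMiddle` is `C`-linear. -/
lemma baseChangeToMiddle_smul (c : C) (z : C ⊗[B] Ω[B⁄A]) :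
    X.baseChangeToMiddle A (c • z) = c • X.baseChangeToMiddle A z := by
  induction z using TensorProduct.induction_on with
  | zero => simp
  | add x y hx hy => rw [smul_add, map_add, map_add, smul_add, hx, hy]
  | tmul c' ω =>
    rw [TensorProduct.smul_tmul']
    change (c • c') ⊗ₜ[X.CharCarrier A] _ = c • (c' ⊗ₜ[X.CharCarrier A] _)
    rw [TensorProduct.smul_tmul']

/-- Exactness: an element of `C ⊗_E Ω_{E/A}` killed by `mapBaseChange` comes from `L`. -/
lemma exists_deltaL_eq (w : C ⊗[X.CharCarrier A] Ω[X.CharCarrier A⁄A])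
    (hw : mapBaseChange A (X.CharCarrier A) C w = 0) : ∃ l : L, X.deltaL A l = w := by
  have hex := exact_kerCotangentToTensor_mapBaseChange A (X.CharCarrier A) C (surj A X)
  obtain ⟨k, hk⟩ := (hex w).1 hw
  obtain ⟨⟨e, he⟩, rfl⟩ := Ideal.toCotangent_surjective _ k
  rw [kerCotangentToTensor_toCotangent] at hk
  obtain ⟨l, hl⟩ := (X.isExtension.exact e).1 he
  refine ⟨l, ?_⟩
  rw [← hk]
  change (1 : C) ⊗ₜ[X.CharCarrier A] D A (X.CharCarrier A) (X.incl l) = _
  rw [hl]

/-- The section of the middle ring over `A` given by triviality over `A`. -/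
lemma exists_section (hX : X.IsTrivialOver A) :
    ∃ g : C →ₐ[A] X.CharCarrier A,
      (IsScalarTower.toAlgHom A (X.CharCarrier A) C).comp g = AlgHom.id A C := by
  obtain ⟨s, hs⟩ := hX
  let g : C →ₐ[A] X.CharCarrier A :=
    { toFun := fun c => s c
      map_one' := map_one s
      map_mul' := map_mul s
      map_zero' := map_zero s
      map_add' := map_add s
      commutes' := fun a => s.commutes a }
  refine ⟨g, ?_⟩
  ext c
  exact hs c

lemma deltaL_injective (hX : X.IsTrivialOver A) : Function.Injective (X.deltaL A) := by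
  obtain ⟨g, hg⟩ := exists_section A X hX
  have hret := retractionOfSectionOfKerSqZero_comp_kerToTensor g (ker_sq A X) hg
  intro l l' hll
  rw [deltaL_eq, deltaL_eq] at hll
  have h1 := congrArg (retractionOfSectionOfKerSqZero g (ker_sq A X) hg) hll
  have h2 : ∀ x, retractionOfSectionOfKerSqZero g (ker_sq A X) hg
      (kerToTensor A (X.CharCarrier A) C x) = x := fun x => LinearMap.congr_fun hret x
  rw [h2, h2] at h1
  exact X.isExtension.incl_injective (congrArg Subtype.val h1)

theorem existsUnique_isCharHom (hX : X.IsTrivialOver A) :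
    ∃! χ : ↥(EGA41.imperfection A B C) →ₗ[C] L, X.IsCharHom A χ := by
  have hinj := deltaL_injective A X hX
  have hex : ∀ z : ↥(EGA41.imperfection A B C),
      ∃ l : L, X.deltaL A l = X.baseChangeToMiddle A (z : C ⊗[B] Ω[B⁄A]) := by
    intro z
    apply exists_deltaL_eq
    rw [mapBaseChange_baseChangeToMiddle]
    exact z.2
  choose χ0 hχ0 using hex
  let χ : ↥(EGA41.imperfection A B C) →ₗ[C] L :=
    { toFun := χ0
      map_add' := fun z z' => by
        apply hinj
        rw [map_add, hχ0, hχ0, hχ0, Submodule.coe_add, map_add]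
      map_smul' := fun c z => by
        apply hinj
        rw [RingHom.id_apply, deltaL_smul, hχ0, hχ0, Submodule.coe_smul,
          baseChangeToMiddle_smul] }
  refine ⟨χ, hχ0, ?_⟩
  intro χ' hχ'
  ext z
  apply hinj
  rw [hχ' z]
  exact (hχ0 z).symm

end Groth.Agent.Helper9.CharHom
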