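import Mathlib
import Groth.Prelude.Def_Exal
import Groth.Prelude.Def_Exal2
import Groth.Prelude.Def_Exal3
import Groth.Agent.Lib.Helper9.CharHom

set_option autoImplicit false
set_option linter.unusedSectionVars false
set_option linter.style.haveILetI false

universe u v

open TensorProduct KaehlerDifferential

namespace Groth.Agent.Helper9.CharHom

section Infinitesimal

variable (A : Type u) {B : Type v} [CommRing A] [CommRing B] [Algebra A B] (K : Ideal B)

lemma tmul_D_mem_imperfection (k : B) (hk : k ∈ K) :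
    ((1 : B ⧸ K) ⊗ₜ[B] D A B k) ∈ EGA41.imperfection A B (B ⧸ K) := by
  change mapBaseChange A B (B ⧸ K) _ = 0
  rw [mapBaseChange_tmul, one_smul, KaehlerDifferential.map_D]
  have : algebraMap B (B ⧸ K) k = 0 := by
    rw [Ideal.Quotient.algebraMap_eq, Ideal.Quotient.eq_zero_iff_mem]; exact hk
  rw [this, map_zero]

lemma charHom_infinitesimal_apply (hK : (Exal.Ext.infinitesimal K).IsTrivialOver A)
    (χ : ↥(EGA41.imperfection A B (B ⧸ K)) →ₗ[B ⧸ K] K.Cotangent)
    (hχ : (Exal.Ext.infinitesimal K).IsCharHom A χ) (k : B) (hk : k ∈ K) :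
    χ ⟨_, tmul_D_mem_imperfection A K k hk⟩ = K.toCotangent ⟨k, hk⟩ := by
  apply deltaL_injective A _ hK
  rw [hχ]
  change (1 : B ⧸ K) ⊗ₜ[(Exal.Ext.infinitesimal K).CharCarrier A]
      KaehlerDifferential.map A A B ((Exal.Ext.infinitesimal K).CharCarrier A) (D A B k) =
    (1 : B ⧸ K) ⊗ₜ[(Exal.Ext.infinitesimal K).CharCarrier A]
      D A ((Exal.Ext.infinitesimal K).CharCarrier A)
        ((Exal.Ext.infinitesimal K).incl (K.toCotangent ⟨k, hk⟩))
  rw [KaehlerDifferential.map_D]
  congr 2

theorem charHom_infinitesimal_bijective (hK : (Exal.Ext.infinitesimal K).IsTrivialOver A)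
    (χ : ↥(EGA41.imperfection A B (B ⧸ K)) →ₗ[B ⧸ K] K.Cotangent)
    (hχ : (Exal.Ext.infinitesimal K).IsCharHom A χ) : Function.Bijective χ := by
  constructor
  · rw [injective_iff_map_eq_zero]
    intro z hz
    have hsurj : Function.Surjective (algebraMap B (B ⧸ K)) := Ideal.Quotient.mk_surjective
    have hex := exact_kerCotangentToTensor_mapBaseChange A B (B ⧸ K) hsurj
    obtain ⟨c, hc⟩ := (hex z.1).1 z.2
    obtain ⟨⟨k, hk'⟩, rfl⟩ := Ideal.toCotangent_surjective _ c
    have hk : k ∈ K := by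
      rw [RingHom.mem_ker, Ideal.Quotient.algebraMap_eq, Ideal.Quotient.eq_zero_iff_mem] at hk'
      exact hk'
    rw [kerCotangentToTensor_toCotangent] at hc
    have hz' : z = ⟨_, tmul_D_mem_imperfection A K k hk⟩ := Subtype.ext hc.symm
    rw [hz', charHom_infinitesimal_apply A K hK χ hχ k hk, Ideal.toCotangent_eq_zero] at hz
    -- k ∈ K ^ 2, so the class of k in the cotangent space of the kernel vanishes
    have hker : RingHom.ker (algebraMap B (B ⧸ K)) = K := by
      rw [Ideal.Quotient.algebraMap_eq, Ideal.mk_ker]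
    have h0 : Ideal.toCotangent (RingHom.ker (algebraMap B (B ⧸ K))) ⟨k, hk'⟩ = 0 := by
      rw [Ideal.toCotangent_eq_zero]
      change k ∈ (RingHom.ker (algebraMap B (B ⧸ K))) ^ 2
      rw [hker]
      exact hz
    apply Subtype.ext
    rw [← hc, ← kerCotangentToTensor_toCotangent, h0, map_zero]
    rfl
  · intro y
    obtain ⟨⟨k, hk⟩, rfl⟩ := K.toCotangent_surjective y
    exact ⟨_, charHom_infinitesimal_apply A K hK χ hχ k hk⟩

end Infinitesimal

end Groth.Agent.Helper9.CharHom
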