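import Mathlib
import Groth.Prelude.Def_Exal2
import Groth.Prelude.Def_FSRel

set_option autoImplicit false

universe u v

namespace Groth.Agent.Helper9.ExalLib

open Exal

attribute [local instance] Exal.opModule Exal.isCentralScalar_opModule

section Der

variable {A : Type u} {B C L : Type v} [CommRing A] [CommRing B] [CommRing C]
    [Algebra A B] [Algebra B C] [Algebra A C] [IsScalarTower A B C]
    [AddCommGroup L] [Module C L] [Module B L] [IsScalarTower B C L] [Module A L] [IsScalarTower A B L]
    [IsScalarTower A C L]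

theorem ofDerivation_isTrivial_iff (D : Derivation A B L) :
    (Exal.Ext.ofDerivation (C := C) D).IsTrivial ↔
      ∃ D' : Derivation A C L, D'.compAlgebraMap B = D := by
  constructor
  · rintro ⟨s, hs⟩
    let sf : C → TrivSqZeroExt C L := fun c => s c
    have sf_add : ∀ c c', sf (c + c') = sf c + sf c' := fun c c' => map_add s c c'
    have sf_mul : ∀ c c', sf (c * c') = sf c * sf c' := fun c c' => map_mul s c c'
    have sf_fst : ∀ c, (sf c).fst = c := hs
    have sf_alg : ∀ b : B, sf (algebraMap B C b) =
        TrivSqZeroExt.inl (algebraMap B C b) + TrivSqZeroExt.inr (D b) := fun b => s.commutes b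
    let D' : Derivation A C L := Derivation.mk'
      { toFun := fun c => (sf c).snd
        map_add' := fun c c' => by rw [sf_add, TrivSqZeroExt.snd_add]
        map_smul' := fun a c => by
          simp only [RingHom.id_apply]
          rw [← IsScalarTower.algebraMap_smul B a c, Algebra.smul_def, sf_mul, sf_alg,
            Derivation.map_algebraMap, TrivSqZeroExt.inr_zero, add_zero, TrivSqZeroExt.snd_mul,
            TrivSqZeroExt.fst_inl, TrivSqZeroExt.snd_inl, smul_zero, add_zero,
            ← IsScalarTower.algebraMap_apply A B C, algebraMap_smul] }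
      (fun c c' => by
        change (sf (c * c')).snd = c • (sf c').snd + c' • (sf c).snd
        rw [sf_mul, TrivSqZeroExt.snd_mul, sf_fst, sf_fst, op_smul_eq_smul])
    refine ⟨D', ?_⟩
    ext b
    change (sf (algebraMap B C b)).snd = D b
    rw [sf_alg, TrivSqZeroExt.snd_add, TrivSqZeroExt.snd_inl, TrivSqZeroExt.snd_inr, zero_add]
  · rintro ⟨D', hD'⟩
    let t : C →+* TrivSqZeroExt C L := Exal.Ext.derivationHom (C := C) D'
    have ht : ∀ c, t c = TrivSqZeroExt.inl c + TrivSqZeroExt.inr (D' c) := fun c => rfl
    let s : C →ₐ[B] (Exal.Ext.ofDerivation (C := C) D).E :=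
      { toRingHom := t
        commutes' := fun b => by
          change t (algebraMap B C b) =
            TrivSqZeroExt.inl (algebraMap B C b) + TrivSqZeroExt.inr (D b)
          rw [ht, ← hD']
          rfl }
    refine ⟨s, fun c => ?_⟩
    change (t c).fst = c
    rw [ht, TrivSqZeroExt.fst_add, TrivSqZeroExt.fst_inl, TrivSqZeroExt.fst_inr, add_zero]

theorem isTrivialOver_iff (X : Exal.Ext B C L) :
    X.IsTrivialOver A ↔
      ∃ D : Derivation A B L, Nonempty (X.Equiv (Exal.Ext.ofDerivation (C := C) D)) := by
  have hpi : ∀ z : L, X.proj (X.incl z) = 0 := fun z => (X.isExtension.exact _).2 ⟨z, rfl⟩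
  have hii : ∀ z z' : L, X.incl z * X.incl z' = 0 := fun z z' => by
    rw [X.isExtension.mul_incl, hpi, zero_smul, map_zero]
  have hinj := X.isExtension.incl_injective
  constructor
  · rintro ⟨s, hs⟩
    let sf : C →+* X.E := s.toRingHom
    have hsf : ∀ c, X.proj (sf c) = c := hs
    have sf_alg : ∀ a : A, sf (algebraMap A C a) = algebraMap B X.E (algebraMap A B a) :=
      fun a => s.commutes a
    have hker : ∀ x : X.E, X.proj (x - sf (X.proj x)) = 0 := fun x => by
      rw [map_sub, hsf, sub_self]
    let K : X.E → L := fun x => X.kerLift (x - sf (X.proj x)) (hker x)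
    have hK : ∀ x, X.incl (K x) = x - sf (X.proj x) := fun x => X.incl_kerLift _ _
    have K_add : ∀ x y, K (x + y) = K x + K y := by
      intro x y
      apply hinj
      rw [map_add, hK, hK, hK, map_add, map_add]
      abel
    have K_mul : ∀ x y, K (x * y) = X.proj x • K y + X.proj y • K x := by
      intro x y
      apply hinj
      rw [map_add, ← X.isExtension.mul_incl, ← X.isExtension.mul_incl, hK, hK, hK, map_mul,
        map_mul]
      have h2 := hii (K x) (K y)
      rw [hK, hK] at h2
      linear_combination (-1 : X.E) * h2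
    have K_incl : ∀ z, K (X.incl z) = z := by
      intro z
      apply hinj
      rw [hK, hpi, map_zero, sub_zero]
    have K_algA : ∀ a : A, K (algebraMap B X.E (algebraMap A B a)) = 0 := by
      intro a
      apply hinj
      rw [hK, AlgHom.commutes, ← IsScalarTower.algebraMap_apply A B C, sf_alg, sub_self, map_zero]
    let D : Derivation A B L := Derivation.mk'
      { toFun := fun b => K (algebraMap B X.E b)
        map_add' := fun b b' => by rw [map_add, K_add]
        map_smul' := fun a b => by
          simp only [RingHom.id_apply]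
          rw [Algebra.smul_def, map_mul, K_mul, K_algA, smul_zero, add_zero, AlgHom.commutes,
            ← IsScalarTower.algebraMap_apply A B C, algebraMap_smul] }
      (fun b b' => by
        change K (algebraMap B X.E (b * b')) = b • K (algebraMap B X.E b') + b' • K (algebraMap B X.E b)
        rw [map_mul, K_mul, AlgHom.commutes, AlgHom.commutes, algebraMap_smul, algebraMap_smul])
    have hD : ∀ b, D b = K (algebraMap B X.E b) := fun _ => rfl
    let f0 : X.E → TrivSqZeroExt C L := fun x => TrivSqZeroExt.inl (X.proj x) + TrivSqZeroExt.inr (K x)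
    have f0_fst : ∀ x, (f0 x).fst = X.proj x := fun x => by
      simp only [f0, TrivSqZeroExt.fst_add, TrivSqZeroExt.fst_inl, TrivSqZeroExt.fst_inr, add_zero]
    have f0_snd : ∀ x, (f0 x).snd = K x := fun x => by
      simp only [f0, TrivSqZeroExt.snd_add, TrivSqZeroExt.snd_inl, TrivSqZeroExt.snd_inr, zero_add]
    have K_one : K 1 = 0 := by
      apply hinj
      rw [hK, map_one, map_one, sub_self, map_zero]
    have K_zero : K 0 = 0 := by
      apply hinj
      rw [hK, map_zero, map_zero, sub_self, map_zero]
    let f : X.E →ₐ[B] (Exal.Ext.ofDerivation (C := C) D).E :=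
      { toFun := f0
        map_one' := by
          apply TrivSqZeroExt.ext
          · rw [f0_fst, map_one]; rfl
          · rw [f0_snd, K_one]; rfl
        map_mul' := fun x y => by
          apply TrivSqZeroExt.ext
          · rw [f0_fst, map_mul]
            change _ = (f0 x * f0 y).fst
            rw [TrivSqZeroExt.fst_mul, f0_fst, f0_fst]
          · rw [f0_snd, K_mul]
            change _ = (f0 x * f0 y).snd
            rw [TrivSqZeroExt.snd_mul, f0_fst, f0_fst, f0_snd, f0_snd, op_smul_eq_smul]
        map_zero' := by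
          apply TrivSqZeroExt.ext
          · rw [f0_fst, map_zero]; rfl
          · rw [f0_snd, K_zero]; rfl
        map_add' := fun x y => by
          apply TrivSqZeroExt.ext
          · rw [f0_fst, map_add]
            change _ = (f0 x + f0 y).fst
            rw [TrivSqZeroExt.fst_add, f0_fst, f0_fst]
          · rw [f0_snd, K_add]
            change _ = (f0 x + f0 y).snd
            rw [TrivSqZeroExt.snd_add, f0_snd, f0_snd]
        commutes' := fun b => by
          change f0 (algebraMap B X.E b) =
            TrivSqZeroExt.inl (algebraMap B C b) + TrivSqZeroExt.inr (D b)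
          simp only [f0, AlgHom.commutes, hD] }
    have hfbij : Function.Bijective f := by
      constructor
      · rw [injective_iff_map_eq_zero]
        intro x hx
        have h1 : X.proj x = 0 := by
          rw [← f0_fst]
          exact congrArg TrivSqZeroExt.fst hx
        have h2 : K x = 0 := by
          rw [← f0_snd]
          exact congrArg TrivSqZeroExt.snd hx
        have := hK x
        rw [h1, h2, map_zero, map_zero, sub_zero] at this
        exact this.symm
      · intro y
        refine ⟨sf (TrivSqZeroExt.fst (y : TrivSqZeroExt C L)) +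
          X.incl (TrivSqZeroExt.snd (y : TrivSqZeroExt C L)), ?_⟩
        have hp : X.proj (sf (TrivSqZeroExt.fst (y : TrivSqZeroExt C L)) +
            X.incl (TrivSqZeroExt.snd (y : TrivSqZeroExt C L))) = TrivSqZeroExt.fst (y : TrivSqZeroExt C L) := by
          rw [map_add, hsf, hpi, add_zero]
        apply TrivSqZeroExt.ext
        · change (f0 _).fst = _
          rw [f0_fst, hp]
        · change (f0 _).snd = _
          rw [f0_snd]
          apply hinj
          rw [hK, hp]
          abel
    refine ⟨D, ⟨⟨AlgEquiv.ofBijective f hfbij, fun x => ?_, fun z => ?_⟩⟩⟩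
    · change (f0 x).fst = X.proj x
      exact f0_fst x
    · change f0 (X.incl z) = TrivSqZeroExt.inr z
      apply TrivSqZeroExt.ext
      · rw [f0_fst, hpi]; rfl
      · rw [f0_snd, K_incl]; rfl
  · rintro ⟨D, ⟨e⟩⟩
    let g : (Exal.Ext.ofDerivation (C := C) D).E →+* X.E := e.toAlgEquiv.symm.toAlgHom.toRingHom
    let inl' : C →+* (Exal.Ext.ofDerivation (C := C) D).E := TrivSqZeroExt.inlHom C L
    let s : C →ₐ[A] (X.restrictBase A).E :=
      { toRingHom := g.comp inl'
        commutes' := fun a => by
          change e.toAlgEquiv.symm (TrivSqZeroExt.inl (algebraMap A C a)) =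
            algebraMap B X.E (algebraMap A B a)
          rw [← e.toAlgEquiv.symm.commutes]
          congr 1
          change _ = TrivSqZeroExt.inl (algebraMap B C (algebraMap A B a)) +
            TrivSqZeroExt.inr (D (algebraMap A B a))
          rw [Derivation.map_algebraMap, TrivSqZeroExt.inr_zero, add_zero,
            ← IsScalarTower.algebraMap_apply A B C] }
    refine ⟨s, fun c => ?_⟩
    change X.proj (e.toAlgEquiv.symm (TrivSqZeroExt.inl c)) = c
    exact e.symm.proj_apply _

end Der

section Pull

variable {A : Type u} {B C L : Type v} [CommRing A]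
    [CommRing B] [CommRing C] [Algebra A B] [Algebra B C] [Algebra A C] [IsScalarTower A B C]
    [AddCommGroup L] [Module C L] [Module B L] [IsScalarTower B C L]

theorem pullback_isTrivial_iff (Y : Exal.Ext A C L) :
    (Y.pullback B).IsTrivial ↔
      ∃ X : Exal.Ext B C L, Nonempty ((X.restrictBase A).Equiv Y) := by
  constructor
  · rintro ⟨s, hs⟩
    let s' : B →ₐ[A] ↥(Y.fiberProd B) := s
    let t : B →ₐ[A] Y.E := (AlgHom.fst A Y.E B).comp ((Y.fiberProd B).val.comp s')
    have ht : ∀ b, Y.proj (t b) = algebraMap B C b := by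
      intro b
      have h1 : Y.proj ((s' b : Y.E × B)).1 = algebraMap B C ((s' b : Y.E × B)).2 := (s' b).2
      have h2 : ((s' b : Y.E × B)).2 = b := hs b
      rw [h2] at h1
      exact h1
    letI algBE : Algebra B Y.E := t.toRingHom.toAlgebra
    let X : Exal.Ext B C L :=
      { E := Y.E
        proj :=
          { toRingHom := Y.proj.toRingHom
            commutes' := fun b => ht b }
        incl := Y.incl
        isExtension :=
          { proj_surjective := Y.isExtension.proj_surjective
            incl_injective := Y.isExtension.incl_injective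
            exact := Y.isExtension.exact
            mul_incl := Y.isExtension.mul_incl } }
    refine ⟨X, ⟨⟨AlgEquiv.ofRingEquiv (f := RingEquiv.refl Y.E) (fun a => t.commutes a),
      fun x => rfl, fun z => rfl⟩⟩⟩
  · rintro ⟨X, ⟨e⟩⟩
    let φ : B →ₐ[A] (X.restrictBase A).E :=
      { toRingHom := algebraMap B X.E
        commutes' := fun a => rfl }
    let u : B →ₐ[A] Y.E := e.toAlgEquiv.toAlgHom.comp φ
    have hu : ∀ b, Y.proj (u b) = algebraMap B C b := by
      intro b
      change Y.proj (e.toAlgEquiv (algebraMap B X.E b)) = _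
      rw [e.proj_apply]
      exact X.proj.commutes b
    let s : B →ₐ[A] (Y.pullback B).E :=
      AlgHom.codRestrict (AlgHom.prod u (AlgHom.id A B)) (Y.fiberProd B) (fun b => by
        simp only [Exal.Ext.fiberProd, AlgHom.mem_equalizer, AlgHom.comp_apply, AlgHom.fst_apply,
          AlgHom.snd_apply, IsScalarTower.coe_toAlgHom', AlgHom.prod_apply, AlgHom.id_apply]
        exact hu b)
    exact ⟨s, fun b => rfl⟩

end Pull

section Conormal

variable {B : Type u} [CommRing B] (J : Ideal B)
    {M : Type u} [AddCommGroup M] [Module (B ⧸ J) M] [Module B M] [IsScalarTower B (B ⧸ J) M]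

omit [Module B M] [IsScalarTower B (B ⧸ J) M] in
lemma proj_algebraMap (Z : Exal.Ext B (B ⧸ J) M) (b : B) :
    Z.proj (algebraMap B Z.E b) = Ideal.Quotient.mk J b := by
  rw [AlgHom.commutes]
  rfl

omit [Module B M] [IsScalarTower B (B ⧸ J) M] in
lemma proj_incl (Z : Exal.Ext B (B ⧸ J) M) (z : M) : Z.proj (Z.incl z) = 0 :=
  (Z.isExtension.exact _).2 ⟨z, rfl⟩

lemma algebraMap_eq_incl_conormal (Z : Exal.Ext B (B ⧸ J) M) (j : J) :
    algebraMap B Z.E (j : B) = Z.incl (Z.conormalMap J (J.toCotangent j)) := by
  change _ = Z.incl (Z.idealToKer J j)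
  exact (Z.incl_kerLift (algebraMap B Z.E j) (Z.proj_algebraMap_eq_zero J j)).symm

omit [Module B M] [IsScalarTower B (B ⧸ J) M] in
lemma decomp (Z : Exal.Ext B (B ⧸ J) M) (x : Z.E) :
    ∃ (b : B) (m : M), x = algebraMap B Z.E b + Z.incl m := by
  obtain ⟨b, hb⟩ := Ideal.Quotient.mk_surjective (Z.proj x)
  have h0 : Z.proj (x - algebraMap B Z.E b) = 0 := by
    rw [map_sub, proj_algebraMap, hb, sub_self]
  obtain ⟨m, hm⟩ := (Z.isExtension.exact _).1 h0
  exact ⟨b, m, by rw [hm]; ring⟩

omit [Module B M] [IsScalarTower B (B ⧸ J) M] in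
lemma mul_formula (Z : Exal.Ext B (B ⧸ J) M) (b b' : B) (m m' : M) :
    (algebraMap B Z.E b + Z.incl m) * (algebraMap B Z.E b' + Z.incl m') =
      algebraMap B Z.E (b * b') +
        Z.incl (Ideal.Quotient.mk J b • m' + Ideal.Quotient.mk J b' • m) := by
  have hii : Z.incl m * Z.incl m' = 0 := by
    rw [Z.isExtension.mul_incl, proj_incl, zero_smul, map_zero]
  rw [map_mul, map_add, ← proj_algebraMap J Z b, ← proj_algebraMap J Z b',
    ← Z.isExtension.mul_incl, ← Z.isExtension.mul_incl]
  linear_combination hii

lemma exists_hom (X Y : Exal.Ext B (B ⧸ J) M) (h : X.conormalMap J = Y.conormalMap J) :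
    ∃ f : X.E →ₐ[B] Y.E, ∀ (b : B) (m : M),
      f (algebraMap B X.E b + X.incl m) = algebraMap B Y.E b + Y.incl m := by
  classical
  choose bf mf hdec using decomp J X
  let f0 : X.E → Y.E := fun x => algebraMap B Y.E (bf x) + Y.incl (mf x)
  have key : ∀ b m, f0 (algebraMap B X.E b + X.incl m) = algebraMap B Y.E b + Y.incl m := by
    intro b m
    obtain ⟨b', m', hb', hm', h1⟩ : ∃ b' m', bf (algebraMap B X.E b + X.incl m) = b' ∧
        mf (algebraMap B X.E b + X.incl m) = m' ∧
        algebraMap B X.E b + X.incl m = algebraMap B X.E b' + X.incl m' :=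
      ⟨_, _, rfl, rfl, hdec _⟩
    change algebraMap B Y.E (bf _) + Y.incl (mf _) = _
    rw [hb', hm']
    have h2 : Ideal.Quotient.mk J b = Ideal.Quotient.mk J b' := by
      have := congrArg X.proj h1
      rw [map_add, map_add, proj_algebraMap, proj_algebraMap, proj_incl, proj_incl, add_zero,
        add_zero] at this
      exact this
    have hj : b - b' ∈ J := Ideal.Quotient.eq.mp h2
    have h3 := algebraMap_eq_incl_conormal J X ⟨b - b', hj⟩
    have h4 := algebraMap_eq_incl_conormal J Y ⟨b - b', hj⟩
    rw [← h] at h4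
    have h5 : m' = X.conormalMap J (J.toCotangent ⟨b - b', hj⟩) + m := by
      apply X.isExtension.incl_injective
      rw [map_add, ← h3]
      change X.incl m' = algebraMap B X.E (b - b') + X.incl m
      rw [map_sub]
      linear_combination (-1 : X.E) * h1
    rw [h5, map_add, ← h4]
    change _ + (algebraMap B Y.E (b - b') + Y.incl m) = _
    rw [map_sub]
    ring
  refine ⟨
    { toFun := f0
      map_one' := by
        have : (1 : X.E) = algebraMap B X.E 1 + X.incl 0 := by rw [map_one, map_zero, add_zero]
        rw [this, key, map_one, map_zero, add_zero]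
      map_mul' := fun x y => by
        obtain ⟨b, m, rfl⟩ := decomp J X x
        obtain ⟨b', m', rfl⟩ := decomp J X y
        rw [mul_formula, key, key, key, mul_formula]
      map_zero' := by
        have : (0 : X.E) = algebraMap B X.E 0 + X.incl 0 := by rw [map_zero, map_zero, add_zero]
        rw [this, key, map_zero, map_zero, add_zero]
      map_add' := fun x y => by
        obtain ⟨b, m, rfl⟩ := decomp J X x
        obtain ⟨b', m', rfl⟩ := decomp J X y
        have e1 : algebraMap B X.E b + X.incl m + (algebraMap B X.E b' + X.incl m') =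
            algebraMap B X.E (b + b') + X.incl (m + m') := by
          rw [map_add, map_add]; ring
        rw [e1, key, key, key, map_add, map_add]
        ring
      commutes' := fun b => by
        have : algebraMap B X.E b = algebraMap B X.E b + X.incl 0 := by rw [map_zero, add_zero]
        change f0 (algebraMap B X.E b) = _
        rw [this, key, map_zero, add_zero] }, key⟩

theorem nonempty_equiv_of_conormalMap_eq (X Y : Exal.Ext B (B ⧸ J) M)
    (h : X.conormalMap J = Y.conormalMap J) : Nonempty (X.Equiv Y) := by
  obtain ⟨f, hf⟩ := exists_hom J X Y h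
  obtain ⟨g, hg⟩ := exists_hom J Y X h.symm
  have hgf : g.comp f = AlgHom.id B X.E := by
    ext x
    obtain ⟨b, m, rfl⟩ := decomp J X x
    rw [AlgHom.comp_apply, hf, hg, AlgHom.id_apply]
  have hfg : f.comp g = AlgHom.id B Y.E := by
    ext x
    obtain ⟨b, m, rfl⟩ := decomp J Y x
    rw [AlgHom.comp_apply, hg, hf, AlgHom.id_apply]
  refine ⟨⟨AlgEquiv.ofAlgHom f g hfg hgf, fun x => ?_, fun z => ?_⟩⟩
  · obtain ⟨b, m, rfl⟩ := decomp J X x
    change Y.proj (f _) = _
    rw [hf, map_add, map_add, proj_algebraMap, proj_algebraMap, proj_incl, proj_incl]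
  · change f (X.incl z) = _
    have : X.incl z = algebraMap B X.E 0 + X.incl z := by rw [map_zero, zero_add]
    rw [this, hf, map_zero, zero_add]

theorem exists_ext_conormalMap_eq (w : J.Cotangent →ₗ[B] M) :
    ∃ X : Exal.Ext B (B ⧸ J) M, X.conormalMap J = w := by
  classical
  have hJM : ∀ (j : B), j ∈ J → ∀ m : M, j • m = 0 := by
    intro j hj m
    rw [← IsScalarTower.algebraMap_smul (B ⧸ J) j m, Ideal.Quotient.algebraMap_eq,
      Ideal.Quotient.eq_zero_iff_mem.2 hj, zero_smul]
  let ψ : J → TrivSqZeroExt B M := fun j =>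
    TrivSqZeroExt.inl (j : B) - TrivSqZeroExt.inr (w (J.toCotangent j))
  have ψ_fst : ∀ j, (ψ j).fst = (j : B) := fun j => by
    simp only [ψ, TrivSqZeroExt.fst_sub, TrivSqZeroExt.fst_inl, TrivSqZeroExt.fst_inr, sub_zero]
  have ψ_snd : ∀ j, (ψ j).snd = - w (J.toCotangent j) := fun j => by
    simp only [ψ, TrivSqZeroExt.snd_sub, TrivSqZeroExt.snd_inl, TrivSqZeroExt.snd_inr, zero_sub]
  have ψ_add : ∀ a b, ψ (a + b) = ψ a + ψ b := fun a b => by
    apply TrivSqZeroExt.ext
    · rw [TrivSqZeroExt.fst_add, ψ_fst, ψ_fst, ψ_fst]; rfl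
    · rw [TrivSqZeroExt.snd_add, ψ_snd, ψ_snd, ψ_snd, map_add, map_add, neg_add]
  have ψ_zero : ψ 0 = 0 := by
    apply TrivSqZeroExt.ext
    · rw [ψ_fst]; rfl
    · rw [ψ_snd, map_zero, map_zero, neg_zero]; rfl
  have mul_ψ : ∀ (t : TrivSqZeroExt B M) (j : J), t * ψ j = ψ (t.fst • j) := fun t j => by
    apply TrivSqZeroExt.ext
    · rw [TrivSqZeroExt.fst_mul, ψ_fst, ψ_fst]; rfl
    · rw [TrivSqZeroExt.snd_mul, ψ_fst, ψ_snd, ψ_snd, op_smul_eq_smul, hJM _ j.2, add_zero,
        map_smul, map_smul, smul_neg]
  let K : Ideal (TrivSqZeroExt B M) :=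
    { carrier := Set.range ψ
      add_mem' := by
        rintro _ _ ⟨a, rfl⟩ ⟨b, rfl⟩
        exact ⟨a + b, ψ_add a b⟩
      zero_mem' := ⟨0, ψ_zero⟩
      smul_mem' := by
        rintro t _ ⟨j, rfl⟩
        exact ⟨t.fst • j, (mul_ψ t j).symm⟩ }
  have hK : ∀ t, t ∈ K ↔ ∃ j, ψ j = t := fun t => Iff.rfl
  letI algT : Algebra B (TrivSqZeroExt B M) := (TrivSqZeroExt.inlHom B M).toAlgebra
  let fstR : TrivSqZeroExt B M →+* B :=
    { toFun := TrivSqZeroExt.fst
      map_one' := TrivSqZeroExt.fst_one
      map_mul' := TrivSqZeroExt.fst_mul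
      map_zero' := TrivSqZeroExt.fst_zero
      map_add' := TrivSqZeroExt.fst_add }
  let projR : (TrivSqZeroExt B M ⧸ K) →+* B ⧸ J :=
    Ideal.Quotient.lift K ((Ideal.Quotient.mk J).comp fstR) (fun t ht => by
      obtain ⟨j, rfl⟩ := (hK t).1 ht
      change Ideal.Quotient.mk J (ψ j).fst = 0
      rw [ψ_fst]
      exact Ideal.Quotient.eq_zero_iff_mem.2 j.2)
  have projR_mk : ∀ t, projR (Ideal.Quotient.mk K t) = Ideal.Quotient.mk J t.fst := fun t => rfl
  let incl : M →+ (TrivSqZeroExt B M ⧸ K) :=
    (Ideal.Quotient.mk K).toAddMonoidHom.comp (TrivSqZeroExt.inrHom B M).toAddMonoidHom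
  have incl_apply : ∀ z, incl z = Ideal.Quotient.mk K (TrivSqZeroExt.inr z) := fun z => rfl
  let X : Exal.Ext B (B ⧸ J) M :=
    { E := TrivSqZeroExt B M ⧸ K
      proj :=
        { toRingHom := projR
          commutes' := fun b => rfl }
      incl := incl
      isExtension :=
        { proj_surjective := fun c => by
            obtain ⟨b, rfl⟩ := Ideal.Quotient.mk_surjective c
            exact ⟨Ideal.Quotient.mk K (TrivSqZeroExt.inl b), rfl⟩
          incl_injective := by
            rw [injective_iff_map_eq_zero]
            intro m hm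
            rw [incl_apply, Ideal.Quotient.eq_zero_iff_mem, hK] at hm
            obtain ⟨j, hj⟩ := hm
            have h1 : (j : B) = 0 := by
              rw [← ψ_fst, hj, TrivSqZeroExt.fst_inr]
            have h2 : j = 0 := Subtype.ext h1
            rw [h2, ψ_zero] at hj
            have h3 : (TrivSqZeroExt.inr m : TrivSqZeroExt B M) = TrivSqZeroExt.inr 0 := by
              rw [← hj, TrivSqZeroExt.inr_zero]
            exact TrivSqZeroExt.inr_injective h3
          exact := fun x => by
            obtain ⟨t, rfl⟩ := Ideal.Quotient.mk_surjective x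
            change projR (Ideal.Quotient.mk K t) = 0 ↔ _
            rw [projR_mk, Ideal.Quotient.eq_zero_iff_mem]
            constructor
            · intro ht
              refine ⟨t.snd + w (J.toCotangent ⟨t.fst, ht⟩), ?_⟩
              rw [incl_apply]
              symm
              rw [Ideal.Quotient.eq, hK]
              refine ⟨⟨t.fst, ht⟩, ?_⟩
              apply TrivSqZeroExt.ext
              · rw [ψ_fst, TrivSqZeroExt.fst_sub, TrivSqZeroExt.fst_inr, sub_zero]
              · rw [ψ_snd, TrivSqZeroExt.snd_sub, TrivSqZeroExt.snd_inr]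
                abel
            · rintro ⟨z, hz⟩
              have := congrArg projR hz
              rw [incl_apply, projR_mk, projR_mk, TrivSqZeroExt.fst_inr, map_zero] at this
              rw [← Ideal.Quotient.eq_zero_iff_mem]
              exact this.symm
          mul_incl := fun x z => by
            obtain ⟨t, rfl⟩ := Ideal.Quotient.mk_surjective x
            change Ideal.Quotient.mk K t * incl z = incl (projR (Ideal.Quotient.mk K t) • z)
            rw [incl_apply, incl_apply, projR_mk, ← map_mul, ← Ideal.Quotient.algebraMap_eq J,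
              algebraMap_smul]
            congr 1
            apply TrivSqZeroExt.ext
            · rw [TrivSqZeroExt.fst_mul, TrivSqZeroExt.fst_inr, TrivSqZeroExt.fst_inr, mul_zero]
            · rw [TrivSqZeroExt.snd_mul, TrivSqZeroExt.fst_inr, TrivSqZeroExt.snd_inr,
                TrivSqZeroExt.snd_inr, MulOpposite.op_zero, zero_smul, add_zero] } }
  refine ⟨X, ?_⟩
  apply LinearMap.ext
  intro c
  obtain ⟨j, rfl⟩ := J.toCotangent_surjective c
  apply X.isExtension.incl_injective
  rw [← algebraMap_eq_incl_conormal J X j]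
  change Ideal.Quotient.mk K (TrivSqZeroExt.inl (j : B)) =
    Ideal.Quotient.mk K (TrivSqZeroExt.inr (w (J.toCotangent j)))
  rw [Ideal.Quotient.eq, hK]
  exact ⟨j, rfl⟩

end Conormal

section SqZero

variable {A B C : Type u} [CommRing A] [CommRing B] [CommRing C] [Algebra A B] [Algebra A C]
  (J : Ideal C) (u₀ : B →ₐ[A] C ⧸ J)

/-- The fibre product `C ×_{C/J} B`. -/
def sqCarrier : Subalgebra A (C × B) :=
  AlgHom.equalizer ((Ideal.Quotient.mkₐ A J).comp (AlgHom.fst A C B)) (u₀.comp (AlgHom.snd A C B))

lemma mem_sqCarrier (x : C × B) :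
    x ∈ sqCarrier J u₀ ↔ Ideal.Quotient.mk J x.1 = u₀ x.2 := Iff.rfl

variable [Module B J]
  (hsmul : ∀ (b : B) (c : C) (z : J), Ideal.Quotient.mk J c = u₀ b → ((b • z : J) : C) = c * z)

/-- The extension of `B` by `J` given by the fibre product. -/
noncomputable def sqZeroExt : Exal.Ext A B J where
  E := sqCarrier J u₀
  proj := (AlgHom.snd A C B).comp (sqCarrier J u₀).val
  incl :=
    { toFun := fun z => ⟨((z : C), 0), by
        rw [mem_sqCarrier]
        change Ideal.Quotient.mk J (z : C) = u₀ 0
        rw [map_zero, Ideal.Quotient.eq_zero_iff_mem]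
        exact z.2⟩
      map_zero' := Subtype.ext (Prod.ext rfl rfl)
      map_add' := fun z z' => Subtype.ext (Prod.ext rfl (add_zero (0 : B)).symm) }
  isExtension :=
    { proj_surjective := fun b => by
        obtain ⟨c, hc⟩ := Ideal.Quotient.mk_surjective (u₀ b)
        exact ⟨⟨(c, b), hc⟩, rfl⟩
      incl_injective := fun z z' h =>
        Subtype.ext (congrArg (fun e : sqCarrier J u₀ => e.1.1) h)
      exact := fun x => by
        obtain ⟨⟨c, b⟩, hx⟩ := x
        have hx' : Ideal.Quotient.mk J c = u₀ b := hx
        constructor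
        · intro hb
          change b = 0 at hb
          subst hb
          rw [map_zero, Ideal.Quotient.eq_zero_iff_mem] at hx'
          exact ⟨⟨c, hx'⟩, rfl⟩
        · rintro ⟨z, hz⟩
          exact (congrArg (fun e : sqCarrier J u₀ => e.1.2) hz).symm
      mul_incl := fun x z => by
        obtain ⟨⟨c, b⟩, hx⟩ := x
        have hx' : Ideal.Quotient.mk J c = u₀ b := hx
        apply Subtype.ext
        apply Prod.ext
        · change c * (z : C) = ((b • z : J) : C)
          exact (hsmul b c z hx').symm
        · change b * 0 = 0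
          exact mul_zero b }

lemma exists_lift_of_section (s : B →ₐ[A] (sqZeroExt J u₀ hsmul).E)
    (hs : ∀ b, (sqZeroExt J u₀ hsmul).proj (s b) = b) :
    ∃ v : B →ₐ[A] C, (Ideal.Quotient.mkₐ A J).comp v = u₀ := by
  let s' : B →ₐ[A] ↥(sqCarrier J u₀) := s
  refine ⟨(AlgHom.fst A C B).comp ((sqCarrier J u₀).val.comp s'), ?_⟩
  ext b
  have h1 : Ideal.Quotient.mk J ((s' b : C × B)).1 = u₀ ((s' b : C × B)).2 := (s' b).2
  have h2 : ((s' b : C × B)).2 = b := hs b
  rw [h2] at h1
  exact h1

end SqZero

section Smooth

theorem formallySmooth_iff (A B : Type u) [CommRing A] [CommRing B] [Algebra A B] :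
    Algebra.FormallySmooth A B ↔
      ∀ (L : Type u) [AddCommGroup L] [Module B L] (X : Exal.Ext A B L), X.IsTrivial := by
  constructor
  · intro hfs L _ _ X
    have hsq : (RingHom.ker (X.proj : X.E →+* B)) ^ 2 = ⊥ := by
      rw [pow_two, eq_bot_iff, Ideal.mul_le]
      intro x hx y hy
      rw [RingHom.mem_ker] at hx hy
      obtain ⟨z, rfl⟩ := (X.isExtension.exact y).1 hy
      rw [Ideal.mem_bot, X.isExtension.mul_incl]
      have : X.proj x = 0 := hx
      rw [this, zero_smul, map_zero]
    have hnil : IsNilpotent (RingHom.ker (X.proj : X.E →+* B)) := ⟨2, hsq⟩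
    refine ⟨Algebra.FormallySmooth.liftOfSurjective (AlgHom.id A B) X.proj
      X.isExtension.proj_surjective hnil, fun b => ?_⟩
    exact Algebra.FormallySmooth.liftOfSurjective_apply (AlgHom.id A B) X.proj
      X.isExtension.proj_surjective hnil b
  · intro h
    apply Algebra.FormallySmooth.of_comp_surjective
    intro C _ _ I hI u₀
    let σ : B → C := fun b => Function.surjInv Ideal.Quotient.mk_surjective (u₀ b)
    have hσ : ∀ b, Ideal.Quotient.mk I (σ b) = u₀ b := fun b => Function.surjInv_eq _ _
    have hkill : ∀ (c : C), c ∈ I → ∀ z : I, c * (z : C) = 0 := by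
      intro c hc z
      have : c * (z : C) ∈ I ^ 2 := by
        rw [pow_two]
        exact Ideal.mul_mem_mul hc z.2
      rw [hI] at this
      exact this
    have hkey : ∀ (b : B) (c : C) (z : I), Ideal.Quotient.mk I c = u₀ b →
        c * (z : C) = σ b * z := by
      intro b c z hc
      have h1 : c - σ b ∈ I := Ideal.Quotient.eq.mp (hc.trans (hσ b).symm)
      have h2 := hkill _ h1 z
      linear_combination h2
    letI modBI : Module B I :=
      { smul := fun b z => ⟨σ b * z, I.mul_mem_left _ z.2⟩
        one_smul := fun z => Subtype.ext (by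
          change σ 1 * (z : C) = z
          rw [← hkey 1 1 z (by rw [map_one, map_one]), one_mul])
        mul_smul := fun b b' z => Subtype.ext (by
          change σ (b * b') * (z : C) = σ b * (σ b' * z)
          rw [← hkey (b * b') (σ b * σ b') z (by rw [map_mul, map_mul, hσ, hσ]), mul_assoc])
        smul_zero := fun b => Subtype.ext (mul_zero _)
        smul_add := fun b z z' => Subtype.ext (mul_add _ _ _)
        add_smul := fun b b' z => Subtype.ext (by
          change σ (b + b') * (z : C) = σ b * z + σ b' * z
          rw [← hkey (b + b') (σ b + σ b') z (by rw [map_add, map_add, hσ, hσ]), add_mul])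
        zero_smul := fun z => Subtype.ext (by
          change σ 0 * (z : C) = 0
          rw [← hkey 0 0 z (by rw [map_zero, map_zero]), zero_mul]) }
    have hsmul : ∀ (b : B) (c : C) (z : I), Ideal.Quotient.mk I c = u₀ b →
        ((b • z : I) : C) = c * z := fun b c z hc => (hkey b c z hc).symm
    obtain ⟨s, hs⟩ := h I (sqZeroExt I u₀ hsmul)
    exact exists_lift_of_section I u₀ hsmul s hs

theorem isFormallySmoothRel_iff (Λ A B : Type u) [CommRing Λ]
    [CommRing A] [CommRing B] [Algebra Λ A] [Algebra Λ B] [Algebra A B] [IsScalarTower Λ A B] :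
    EGA41.IsFormallySmoothRel Λ A B ↔
      ∀ (L : Type u) [AddCommGroup L] [Module B L] (X : Exal.Ext A B L),
        X.IsTrivialOver Λ → X.IsTrivial := by
  constructor
  · intro hrel L _ _ X hX
    obtain ⟨s₀, hs₀⟩ := hX
    letI algΛ : Algebra Λ X.E := ((algebraMap A X.E).comp (algebraMap Λ A)).toAlgebra
    haveI : IsScalarTower Λ A X.E := IsScalarTower.of_algebraMap_eq (fun _ => rfl)
    let s₁ : B →ₐ[Λ] X.E := s₀
    have hs₁ : ∀ b, X.proj (s₁ b) = b := hs₀
    have hsurj : Function.Surjective X.proj := X.isExtension.proj_surjective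
    let J : Ideal X.E := RingHom.ker X.proj
    have hsq : J ^ 2 = ⊥ := by
      rw [pow_two, eq_bot_iff, Ideal.mul_le]
      intro x hx y hy
      rw [RingHom.mem_ker] at hx hy
      obtain ⟨z, rfl⟩ := (X.isExtension.exact y).1 hy
      rw [Ideal.mem_bot, X.isExtension.mul_incl, hx, zero_smul, map_zero]
    let e : (X.E ⧸ J) ≃ₐ[A] B := Ideal.quotientKerAlgEquivOfSurjective hsurj
    obtain ⟨v, hv⟩ := hrel X.E J hsq e.symm.toAlgHom ⟨s₁, by
      ext b
      change Ideal.Quotient.mk J (s₁ b) = e.symm b
      apply e.injective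
      rw [AlgEquiv.apply_symm_apply]
      exact hs₁ b⟩
    refine ⟨v, fun b => ?_⟩
    have h1 : Ideal.Quotient.mk J (v b) = e.symm b := AlgHom.congr_fun hv b
    have h2 := congrArg e h1
    rw [AlgEquiv.apply_symm_apply] at h2
    exact h2
  · intro htriv C _ _ _ _ J hJ u₀ hu
    obtain ⟨u, hu⟩ := hu
    have hu' : ∀ b, Ideal.Quotient.mk J (u b) = u₀ b := fun b => AlgHom.congr_fun hu b
    letI modBJ : Module B J := Module.compHom J (u : B →+* C)
    have hkill : ∀ (c : C), c ∈ J → ∀ z : J, c * (z : C) = 0 := by
      intro c hc z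
      have : c * (z : C) ∈ J ^ 2 := by
        rw [pow_two]
        exact Ideal.mul_mem_mul hc z.2
      rw [hJ] at this
      exact this
    have hsmul : ∀ (b : B) (c : C) (z : J), Ideal.Quotient.mk J c = u₀ b →
        ((b • z : J) : C) = c * z := by
      intro b c z hc
      change u b * (z : C) = c * z
      have h1 : c - u b ∈ J := Ideal.Quotient.eq.mp (hc.trans (hu' b).symm)
      have h2 := hkill _ h1 z
      linear_combination (-1 : C) * h2
    let X : Exal.Ext A B J := sqZeroExt J u₀ hsmul
    have hmem : ∀ b, ((u b, b) : C × B) ∈ sqCarrier J u₀ := fun b => hu' b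
    let s : B →ₐ[Λ] (X.restrictBase Λ).E :=
      { toFun := fun b => (⟨(u b, b), hmem b⟩ : sqCarrier J u₀)
        map_one' := Subtype.ext (Prod.ext (map_one u) rfl)
        map_mul' := fun b b' => Subtype.ext (Prod.ext (map_mul u b b') rfl)
        map_zero' := Subtype.ext (Prod.ext (map_zero u) rfl)
        map_add' := fun b b' => Subtype.ext (Prod.ext (map_add u b b') rfl)
        commutes' := fun l => Subtype.ext (Prod.ext
          ((u.commutes l).trans (IsScalarTower.algebraMap_apply Λ A C l))
          (IsScalarTower.algebraMap_apply Λ A B l)) }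
    obtain ⟨v₀, hv₀⟩ := htriv J X ⟨s, fun b => rfl⟩
    exact exists_lift_of_section J u₀ hsmul v₀ hv₀

end Smooth

section Surj

theorem exists_isTrivialOver_pullback_equiv {Λ : Type*} {A : Type*} {B C L : Type v}
    [CommRing Λ] [CommRing A] [CommRing B] [CommRing C] [Algebra Λ A] [Algebra Λ B] [Algebra Λ C]
    [Algebra A B] [Algebra B C] [Algebra A C] [IsScalarTower Λ A B] [IsScalarTower Λ A C]
    [IsScalarTower A B C]
    [AddCommGroup L] [Module C L] [Module B L] [IsScalarTower B C L]
    (Y : Exal.Ext A B L) (hY : Y.IsTrivialOver Λ) :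
    ∃ X : Exal.Ext A C L, X.IsTrivialOver Λ ∧ Nonempty ((X.pullback B).Equiv Y) := by
  obtain ⟨s, hs⟩ := hY
  have hpi : ∀ z : L, Y.proj (Y.incl z) = 0 := fun z => (Y.isExtension.exact _).2 ⟨z, rfl⟩
  have hii : ∀ z z' : L, Y.incl z * Y.incl z' = 0 := fun z z' => by
    rw [Y.isExtension.mul_incl, hpi, zero_smul, map_zero]
  have hinj := Y.isExtension.incl_injective
  let φ : A →+* Y.E := algebraMap A Y.E
  have hφ : ∀ a, Y.proj (φ a) = algebraMap A B a := fun a => Y.proj.commutes a
  let sf : B →+* Y.E := s.toRingHom
  have hsf : ∀ b, Y.proj (sf b) = b := hs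
  have sf_alg : ∀ l : Λ, sf (algebraMap Λ B l) = φ (algebraMap Λ A l) := fun l => s.commutes l
  have hker : ∀ x : Y.E, Y.proj (x - sf (Y.proj x)) = 0 := fun x => by
    rw [map_sub, hsf, sub_self]
  let K : Y.E → L := fun x => Y.kerLift (x - sf (Y.proj x)) (hker x)
  have hK : ∀ x, Y.incl (K x) = x - sf (Y.proj x) := fun x => Y.incl_kerLift _ _
  have K_add : ∀ x y, K (x + y) = K x + K y := by
    intro x y
    apply hinj
    rw [map_add, hK, hK, hK, map_add, map_add]
    abel
  have K_mul : ∀ x y, K (x * y) = Y.proj x • K y + Y.proj y • K x := by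
    intro x y
    apply hinj
    rw [map_add, ← Y.isExtension.mul_incl, ← Y.isExtension.mul_incl, hK, hK, hK, map_mul,
      map_mul]
    have h2 := hii (K x) (K y)
    rw [hK, hK] at h2
    linear_combination (-1 : Y.E) * h2
  have K_incl : ∀ z, K (Y.incl z) = z := by
    intro z
    apply hinj
    rw [hK, hpi, map_zero, sub_zero]
  have K_one : K 1 = 0 := by
    apply hinj
    rw [hK, map_one, map_one, sub_self, map_zero]
  have K_zero : K 0 = 0 := by
    apply hinj
    rw [hK, map_zero, map_zero, sub_self, map_zero]
  have K_algΛ : ∀ l : Λ, K (φ (algebraMap Λ A l)) = 0 := by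
    intro l
    apply hinj
    rw [hK, hφ, ← IsScalarTower.algebraMap_apply Λ A B, sf_alg, sub_self, map_zero]
  let d : A → L := fun a => K (φ a)
  have d_add : ∀ a a', d (a + a') = d a + d a' := fun a a' => by
    change K (φ (a + a')) = _
    rw [map_add, K_add]
  have d_mul : ∀ a a', d (a * a') = algebraMap A B a • d a' + algebraMap A B a' • d a :=
    fun a a' => by
      change K (φ (a * a')) = _
      rw [map_mul, K_mul, hφ, hφ]
  have hAC : ∀ (a : A) (z : L), algebraMap A C a • z = algebraMap A B a • z := fun a z => by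
    rw [IsScalarTower.algebraMap_apply A B C, algebraMap_smul]
  let ρ : A →+* TrivSqZeroExt C L :=
    { toFun := fun a => TrivSqZeroExt.inl (algebraMap A C a) + TrivSqZeroExt.inr (d a)
      map_one' := by
        change TrivSqZeroExt.inl (algebraMap A C 1) + TrivSqZeroExt.inr (K (φ 1)) = 1
        rw [map_one, map_one, K_one, TrivSqZeroExt.inr_zero, add_zero, TrivSqZeroExt.inl_one]
      map_mul' := fun a a' => by
        apply TrivSqZeroExt.ext
        · simp only [TrivSqZeroExt.fst_add, TrivSqZeroExt.fst_inl, TrivSqZeroExt.fst_inr, add_zero,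
            TrivSqZeroExt.fst_mul, map_mul]
        · simp only [TrivSqZeroExt.snd_add, TrivSqZeroExt.snd_inl, TrivSqZeroExt.snd_inr, zero_add,
            TrivSqZeroExt.snd_mul, TrivSqZeroExt.fst_add, TrivSqZeroExt.fst_inl,
            TrivSqZeroExt.fst_inr, add_zero, op_smul_eq_smul]
          rw [d_mul, hAC, hAC]
      map_zero' := by
        change TrivSqZeroExt.inl (algebraMap A C 0) + TrivSqZeroExt.inr (K (φ 0)) = 0
        rw [map_zero, map_zero, K_zero, TrivSqZeroExt.inr_zero, add_zero, TrivSqZeroExt.inl_zero]
      map_add' := fun a a' => by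
        rw [map_add, d_add, TrivSqZeroExt.inl_add, TrivSqZeroExt.inr_add]
        abel }
  have hρ : ∀ a, ρ a = TrivSqZeroExt.inl (algebraMap A C a) + TrivSqZeroExt.inr (d a) :=
    fun _ => rfl
  letI algT : Algebra A (TrivSqZeroExt C L) := ρ.toAlgebra
  let X : Exal.Ext A C L :=
    { E := TrivSqZeroExt C L
      proj :=
        { toFun := fun x => TrivSqZeroExt.fst x
          map_one' := TrivSqZeroExt.fst_one
          map_mul' := TrivSqZeroExt.fst_mul
          map_zero' := TrivSqZeroExt.fst_zero
          map_add' := TrivSqZeroExt.fst_add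
          commutes' := fun a => by
            change TrivSqZeroExt.fst (ρ a) = _
            rw [hρ, TrivSqZeroExt.fst_add, TrivSqZeroExt.fst_inl, TrivSqZeroExt.fst_inr, add_zero] }
      incl := (TrivSqZeroExt.inrHom C L).toAddMonoidHom
      isExtension :=
        { proj_surjective := fun c => ⟨TrivSqZeroExt.inl c, rfl⟩
          incl_injective := TrivSqZeroExt.inr_injective
          exact := fun x => by
            constructor
            · intro hx
              exact ⟨TrivSqZeroExt.snd x, TrivSqZeroExt.ext hx.symm rfl⟩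
            · rintro ⟨z, rfl⟩
              rfl
          mul_incl := fun x z => by
            refine TrivSqZeroExt.ext ?_ ?_
            · change TrivSqZeroExt.fst x * 0 = 0
              exact mul_zero _
            · change TrivSqZeroExt.fst x • z + MulOpposite.op (0 : C) • TrivSqZeroExt.snd x =
                TrivSqZeroExt.fst x • z
              rw [MulOpposite.op_zero, zero_smul, add_zero] } }
  refine ⟨X, ?_, ?_⟩
  · let inl' : C →+* TrivSqZeroExt C L := TrivSqZeroExt.inlHom C L
    let s' : C →ₐ[Λ] (X.restrictBase Λ).E :=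
      { toRingHom := inl'
        commutes' := fun l => by
          change TrivSqZeroExt.inl (algebraMap Λ C l) = ρ (algebraMap Λ A l)
          rw [hρ]
          change _ = _ + TrivSqZeroExt.inr (K (φ (algebraMap Λ A l)))
          rw [K_algΛ, TrivSqZeroExt.inr_zero, add_zero, ← IsScalarTower.algebraMap_apply Λ A C] }
    exact ⟨s', fun c => rfl⟩
  · let fp : Subalgebra A (X.E × B) := X.fiberProd B
    let g0 : Y.E → TrivSqZeroExt C L := fun y =>
      TrivSqZeroExt.inl (algebraMap B C (Y.proj y)) + TrivSqZeroExt.inr (K y)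
    have g0_fst : ∀ y, (g0 y).fst = algebraMap B C (Y.proj y) := fun y => by
      simp only [g0, TrivSqZeroExt.fst_add, TrivSqZeroExt.fst_inl, TrivSqZeroExt.fst_inr, add_zero]
    have g0_snd : ∀ y, (g0 y).snd = K y := fun y => by
      simp only [g0, TrivSqZeroExt.snd_add, TrivSqZeroExt.snd_inl, TrivSqZeroExt.snd_inr, zero_add]
    have hmem : ∀ y, ((g0 y, Y.proj y) : X.E × B) ∈ fp := fun y => g0_fst y
    have g0_one : g0 1 = 1 := by
      apply TrivSqZeroExt.ext
      · rw [g0_fst, map_one, map_one]; rfl
      · rw [g0_snd, K_one]; rfl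
    have g0_zero : g0 0 = 0 := by
      apply TrivSqZeroExt.ext
      · rw [g0_fst, map_zero, map_zero]; rfl
      · rw [g0_snd, K_zero]; rfl
    have g0_mul : ∀ x y, g0 (x * y) = g0 x * g0 y := fun x y => by
      apply TrivSqZeroExt.ext
      · rw [g0_fst, map_mul, map_mul, TrivSqZeroExt.fst_mul, g0_fst, g0_fst]
      · rw [g0_snd, K_mul, TrivSqZeroExt.snd_mul, g0_fst, g0_fst, g0_snd, g0_snd, op_smul_eq_smul,
          algebraMap_smul, algebraMap_smul]
    have g0_add : ∀ x y, g0 (x + y) = g0 x + g0 y := fun x y => by
      apply TrivSqZeroExt.ext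
      · rw [g0_fst, map_add, map_add, TrivSqZeroExt.fst_add, g0_fst, g0_fst]
      · rw [g0_snd, K_add, TrivSqZeroExt.snd_add, g0_snd, g0_snd]
    let g : Y.E →ₐ[A] fp :=
      { toFun := fun y => ⟨(g0 y, Y.proj y), hmem y⟩
        map_one' := Subtype.ext (Prod.ext g0_one (map_one Y.proj))
        map_mul' := fun x y => Subtype.ext (Prod.ext (g0_mul x y) (map_mul Y.proj x y))
        map_zero' := Subtype.ext (Prod.ext g0_zero (map_zero Y.proj))
        map_add' := fun x y => Subtype.ext (Prod.ext (g0_add x y) (map_add Y.proj x y))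
        commutes' := fun a => by
          apply Subtype.ext
          apply Prod.ext
          · change g0 (φ a) = ρ a
            rw [hρ]
            simp only [g0, hφ, d, ← IsScalarTower.algebraMap_apply A B C]
          · exact hφ a }
    have hbij : Function.Bijective g := by
      constructor
      · rw [injective_iff_map_eq_zero]
        intro y hy
        have h1 : Y.proj y = 0 := congrArg (fun e : fp => (e : X.E × B).2) hy
        have h2 : g0 y = 0 := congrArg (fun e : fp => (e : X.E × B).1) hy
        have h3 : K y = 0 := by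
          rw [← g0_snd, h2]; rfl
        have := hK y
        rw [h1, h3, map_zero, map_zero, sub_zero] at this
        exact this.symm
      · rintro ⟨⟨t, b⟩, htb⟩
        have htb' : TrivSqZeroExt.fst (t : TrivSqZeroExt C L) = algebraMap B C b := htb
        have hp : Y.proj (sf b + Y.incl (TrivSqZeroExt.snd (t : TrivSqZeroExt C L))) = b := by
          rw [map_add, hsf, hpi, add_zero]
        refine ⟨sf b + Y.incl (TrivSqZeroExt.snd (t : TrivSqZeroExt C L)), ?_⟩
        apply Subtype.ext
        apply Prod.ext
        · change g0 _ = t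
          apply TrivSqZeroExt.ext
          · rw [g0_fst, hp, htb']
          · rw [g0_snd]
            apply hinj
            rw [hK, hp]
            abel
        · exact hp
    let e : Y.Equiv (X.pullback B) :=
      { toAlgEquiv := AlgEquiv.ofBijective g hbij
        proj_apply := fun y => rfl
        apply_incl := fun z => by
          apply Subtype.ext
          apply Prod.ext
          · change g0 (Y.incl z) = TrivSqZeroExt.inr z
            apply TrivSqZeroExt.ext
            · rw [g0_fst, hpi, map_zero]; rfl
            · rw [g0_snd, K_incl]; rfl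
          · exact hpi z }
    exact ⟨e.symm⟩

end Surj

end Groth.Agent.Helper9.ExalLib
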