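import Mathlib
import Groth.Prelude.Def_Exal
import Groth.Prelude.Def_Exal2
import Groth.Prelude.Def_Exal3
import Groth.Agent.Lib.Helper9.CharHom
import Groth.Agent.Lib.Helper9.Exal

set_option autoImplicit false
set_option linter.unusedSectionVars false
set_option linter.style.haveILetI false

universe u v

open TensorProduct KaehlerDifferential

namespace Groth.Agent.Helper9.CharHom

section Ext

variable (A : Type u) {B C : Type v} [CommRing A] [CommRing B] [CommRing C] [Algebra A B]
  [Algebra B C] [Algebra A C] [IsScalarTower A B C]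

/-- Additive maps out of `C ⊗_B Ω_{B/A}` are determined by their values on `c ⊗ db`. -/
lemma addHom_ext_tmul_D {G : Type*} [AddCommGroup G] (f f' : C ⊗[B] Ω[B⁄A] →+ G)
    (h : ∀ (c : C) (b : B), f (c ⊗ₜ[B] D A B b) = f' (c ⊗ₜ[B] D A B b)) : f = f' := by
  ext z
  induction z using TensorProduct.induction_on with
  | zero => simp
  | add x y hx hy => rw [map_add, map_add, hx, hy]
  | tmul c ω =>
    have hω : ω ∈ Submodule.span B (Set.range (KaehlerDifferential.D A B)) := by
      rw [KaehlerDifferential.span_range_derivation A B]; trivial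
    induction hω using Submodule.span_induction generalizing c with
    | mem x hx =>
      obtain ⟨b, rfl⟩ := hx
      exact h c b
    | zero => simp
    | add x y _ _ hx hy => rw [TensorProduct.tmul_add, map_add, map_add, hx, hy]
    | smul b x _ hx => rw [← TensorProduct.smul_tmul, hx]

end Ext

section Phi

variable (A : Type u) {B C L : Type v} [CommRing A] [CommRing B] [CommRing C] [Algebra A B]
  [Algebra B C] [Algebra A C] [IsScalarTower A B C] [AddCommGroup L] [Module C L]
  (X : Exal.Ext B C L)
  (g : C →ₐ[A] X.CharCarrier A)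
  (hg : (IsScalarTower.toAlgHom A (X.CharCarrier A) C).comp g = AlgHom.id A C)

/-- The retraction applied to the base change map, as an additive map into the middle ring. -/
noncomputable def Phi : C ⊗[B] Ω[B⁄A] →+ X.CharCarrier A where
  toFun z := ((retractionOfSectionOfKerSqZero g (ker_sq A X) hg (X.baseChangeToMiddle A z) :
    RingHom.ker (algebraMap (X.CharCarrier A) C)) : X.CharCarrier A)
  map_zero' := by rw [map_zero, map_zero]; rfl
  map_add' z z' := by rw [map_add, map_add]; rfl

lemma Phi_tmul_D (c : C) (b : B) :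
    Phi A X g hg (c ⊗ₜ[B] D A B b) =
      g c * (algebraMap B (X.CharCarrier A) b - g (algebraMap B C b)) := by
  change ((retractionOfSectionOfKerSqZero g (ker_sq A X) hg
    (c ⊗ₜ[X.CharCarrier A] KaehlerDifferential.map A A B (X.CharCarrier A) (D A B b)) :
    RingHom.ker (algebraMap (X.CharCarrier A) C)) : X.CharCarrier A) = _
  rw [KaehlerDifferential.map_D, retractionOfSectionOfKerSqZero_tmul_D,
    ← IsScalarTower.algebraMap_apply, mul_sub]

lemma isCharHom_iff_Phi (χ : ↥(EGA41.imperfection A B C) →ₗ[C] L) :
    X.IsCharHom A χ ↔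
      ∀ z : ↥(EGA41.imperfection A B C), Phi A X g hg (z : C ⊗[B] Ω[B⁄A]) = X.incl (χ z) := by
  have hret : ∀ l : L, ((retractionOfSectionOfKerSqZero g (ker_sq A X) hg (X.deltaL A l) :
      RingHom.ker (algebraMap (X.CharCarrier A) C)) : X.CharCarrier A) = X.incl l := by
    intro l
    rw [deltaL_eq]
    have h := LinearMap.congr_fun
      (retractionOfSectionOfKerSqZero_comp_kerToTensor g (ker_sq A X) hg)
      ⟨X.inclC A l, mem_ker_incl A X l⟩
    exact congrArg Subtype.val h
  constructor
  · intro hχ z
    change ((retractionOfSectionOfKerSqZero g (ker_sq A X) hg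
      (X.baseChangeToMiddle A (z : C ⊗[B] Ω[B⁄A])) :
      RingHom.ker (algebraMap (X.CharCarrier A) C)) : X.CharCarrier A) = _
    rw [← hχ z, hret]
  · intro h z
    obtain ⟨l, hl⟩ := exists_deltaL_eq A X (X.baseChangeToMiddle A (z : C ⊗[B] Ω[B⁄A])) (by
      rw [mapBaseChange_baseChangeToMiddle]; exact z.2)
    have h1 := h z
    change ((retractionOfSectionOfKerSqZero g (ker_sq A X) hg
      (X.baseChangeToMiddle A (z : C ⊗[B] Ω[B⁄A])) :
      RingHom.ker (algebraMap (X.CharCarrier A) C)) : X.CharCarrier A) = _ at h1
    rw [← hl, hret] at h1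
    have h2 : l = χ z := X.isExtension.incl_injective h1
    rw [← h2, hl]

end Phi

end Groth.Agent.Helper9.CharHom
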