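import Mathlib
import Groth.Prelude.Def_Exal
import Groth.Prelude.Def_Exal2
import Groth.Prelude.Def_Exal3
import Groth.Agent.Lib.Helper9.CharHom3

set_option autoImplicit false
set_option linter.unusedSectionVars false
set_option linter.style.haveILetI false

universe u v

open TensorProduct KaehlerDifferential

namespace Groth.Agent.Helper9.CharHom

attribute [local instance] Exal.opModule Exal.isCentralScalar_opModule

section OfDer

variable (A : Type u) {B C L : Type v} [CommRing A] [CommRing B] [CommRing C] [Algebra A B]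
  [Algebra B C] [Algebra A C] [IsScalarTower A B C] [AddCommGroup L] [Module C L]
  [Module B L] [IsScalarTower B C L] [Module A L] [IsScalarTower A B L] [IsScalarTower A C L]
  (D : Derivation A B L)

lemma algebraMap_charCarrier_ofDerivation (b : B) :
    (algebraMap B ((Exal.Ext.ofDerivation (C := C) D).CharCarrier A) b : TrivSqZeroExt C L) =
      TrivSqZeroExt.inl (algebraMap B C b) + TrivSqZeroExt.inr (D b) := rfl

/-- The section `c ↦ (c, 0)` of the extension attached to a derivation. -/
noncomputable def inlSection : C →ₐ[A] (Exal.Ext.ofDerivation (C := C) D).CharCarrier A :=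
  { toFun := fun c => (TrivSqZeroExt.inl c : TrivSqZeroExt C L)
    map_one' := TrivSqZeroExt.inl_one L
    map_mul' := fun c c' => TrivSqZeroExt.inl_mul L c c'
    map_zero' := TrivSqZeroExt.inl_zero L
    map_add' := fun c c' => TrivSqZeroExt.inl_add L c c'
    commutes' := fun a => by
      change (TrivSqZeroExt.inl (algebraMap A C a) : TrivSqZeroExt C L) =
        TrivSqZeroExt.inl (algebraMap B C (algebraMap A B a)) +
          TrivSqZeroExt.inr (D (algebraMap A B a))
      rw [Derivation.map_algebraMap, TrivSqZeroExt.inr_zero, add_zero,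
        ← IsScalarTower.algebraMap_apply] }

lemma inlSection_comp :
    (IsScalarTower.toAlgHom A ((Exal.Ext.ofDerivation (C := C) D).CharCarrier A) C).comp
      (inlSection A D) = AlgHom.id A C := by
  ext c
  rfl

theorem isCharHom_ofDerivation_iff (χhat : C ⊗[B] Ω[B⁄A] →ₗ[C] L)
    (hχhat : ∀ b : B, χhat ((1 : C) ⊗ₜ[B] KaehlerDifferential.D A B b) = D b)
    (χ : ↥(EGA41.imperfection A B C) →ₗ[C] L) :
    (Exal.Ext.ofDerivation (C := C) D).IsCharHom A χ ↔
      ∀ z : ↥(EGA41.imperfection A B C), χ z = χhat (z : C ⊗[B] Ω[B⁄A]) := by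
  rw [isCharHom_iff_Phi A _ (inlSection A D) (inlSection_comp A D)]
  have hPhi : Phi A (Exal.Ext.ofDerivation (C := C) D) (inlSection A D) (inlSection_comp A D) =
      ((Exal.Ext.ofDerivation (C := C) D).incl).comp χhat.toAddMonoidHom := by
    apply addHom_ext_tmul_D
    intro c b
    rw [Phi_tmul_D]
    change (TrivSqZeroExt.inl c : TrivSqZeroExt C L) *
      ((TrivSqZeroExt.inl (algebraMap B C b) + TrivSqZeroExt.inr (D b)) -
        TrivSqZeroExt.inl (algebraMap B C b)) =
      TrivSqZeroExt.inr (χhat (c ⊗ₜ[B] KaehlerDifferential.D A B b))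
    rw [add_sub_cancel_left, TrivSqZeroExt.inl_mul_inr, ← hχhat, ← map_smul,
      TrivSqZeroExt.inr_injective.eq_iff, TensorProduct.smul_tmul', smul_eq_mul, mul_one]
  refine forall_congr' fun z => ?_
  rw [hPhi]
  change (Exal.Ext.ofDerivation (C := C) D).incl (χhat (z : C ⊗[B] Ω[B⁄A])) =
    (Exal.Ext.ofDerivation (C := C) D).incl (χ z) ↔ _
  rw [(Exal.Ext.ofDerivation (C := C) D).isExtension.incl_injective.eq_iff, eq_comm]

end OfDer

section Surj

variable (A : Type u) {B C L : Type v} [CommRing A] [CommRing B] [CommRing C] [Algebra A B]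
  [Algebra B C] [Algebra A C] [IsScalarTower A B C] [AddCommGroup L] [Module C L]

theorem exists_ext_isCharHom_of_extension (χhat : C ⊗[B] Ω[B⁄A] →ₗ[C] L)
    (χ : ↥(EGA41.imperfection A B C) →ₗ[C] L)
    (hχ : ∀ z : ↥(EGA41.imperfection A B C), χ z = χhat (z : C ⊗[B] Ω[B⁄A])) :
    ∃ X : Exal.Ext B C L, X.IsTrivialOver A ∧ X.IsCharHom A χ := by
  letI : Module B L := Module.compHom L (algebraMap B C)
  haveI : IsScalarTower B C L := ⟨fun b c l => by
    change (b • c) • l = (algebraMap B C b) • (c • l)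
    rw [Algebra.smul_def, mul_smul]⟩
  letI : Module A L := Module.compHom L (algebraMap A C)
  haveI : IsScalarTower A C L := ⟨fun a c l => by
    change (a • c) • l = (algebraMap A C a) • (c • l)
    rw [Algebra.smul_def, mul_smul]⟩
  haveI : IsScalarTower A B L := ⟨fun a b l => by
    change (algebraMap B C (a • b)) • l = (algebraMap A C a) • ((algebraMap B C b) • l)
    rw [Algebra.smul_def, map_mul, ← IsScalarTower.algebraMap_apply, mul_smul]⟩
  let f : Ω[B⁄A] →ₗ[B] L := (χhat.restrictScalars B) ∘ₗ (TensorProduct.mk B C Ω[B⁄A] 1)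
  let D : Derivation A B L := f.compDer (KaehlerDifferential.D A B)
  refine ⟨Exal.Ext.ofDerivation (C := C) D, ?_, ?_⟩
  · exact (Groth.Agent.Helper9.ExalLib.isTrivialOver_iff (A := A) _).2
      ⟨D, ⟨Exal.Ext.Equiv.refl _⟩⟩
  · rw [isCharHom_ofDerivation_iff A D χhat (fun b => rfl)]
    exact hχ

theorem exists_ext_isCharHom
    (h : Module.Injective C L ∨
      ((∃ r : C ⊗[B] Ω[B⁄A] →ₗ[C] ↥(EGA41.imperfection A B C),
          ∀ z : ↥(EGA41.imperfection A B C), r z = z) ∧
        ∃ s : Ω[C⁄B] →ₗ[C] Ω[C⁄A], ∀ ω : Ω[C⁄B], KaehlerDifferential.map A B C C (s ω) = ω))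
    (χ : ↥(EGA41.imperfection A B C) →ₗ[C] L) :
    ∃ X : Exal.Ext B C L, X.IsTrivialOver A ∧ X.IsCharHom A χ := by
  rcases h with hinj | ⟨⟨r, hr⟩, -⟩
  · obtain ⟨χhat, hχhat⟩ := Module.Injective.extension_property C L
      ↥(EGA41.imperfection A B C) (C ⊗[B] Ω[B⁄A])
      (EGA41.imperfection A B C).subtype (Submodule.injective_subtype _) χ
    exact exists_ext_isCharHom_of_extension A χhat χ
      (fun z => (LinearMap.congr_fun hχhat z).symm)
  · exact exists_ext_isCharHom_of_extension A (χ ∘ₗ r) χ (fun z => by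
      rw [LinearMap.comp_apply, hr])

end Surj

end Groth.Agent.Helper9.CharHom
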