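import Mathlib
import Groth.Prelude.Def_Exal
import Groth.Prelude.Def_Exal2
import Groth.Prelude.Def_Exal3
import Groth.Agent.Lib.Helper9.CharHom4

set_option autoImplicit false
set_option linter.unusedSectionVars false
set_option linter.style.haveILetI false

universe u v

open TensorProduct KaehlerDifferential

namespace Groth.Agent.Helper9.CharHom

attribute [local instance] Exal.opModule Exal.isCentralScalar_opModule

section Transport

variable (A : Type u) {B C L : Type v} [CommRing A] [CommRing B] [CommRing C] [Algebra A B]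
  [Algebra B C] [Algebra A C] [IsScalarTower A B C] [AddCommGroup L] [Module C L]
  {X Y : Exal.Ext B C L}

/-- Transport of an `A`-section along an equivalence of extensions. -/
noncomputable def transportSection (e : X.Equiv Y) (g : C →ₐ[A] X.CharCarrier A) :
    C →ₐ[A] Y.CharCarrier A :=
  { toFun := fun c => e.toAlgEquiv (g c)
    map_one' := by
      rw [map_one]; exact map_one e.toAlgEquiv
    map_mul' := fun c c' => by
      rw [map_mul]; exact map_mul e.toAlgEquiv _ _
    map_zero' := by
      rw [map_zero]; exact map_zero e.toAlgEquiv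
    map_add' := fun c c' => by
      rw [map_add]; exact map_add e.toAlgEquiv _ _
    commutes' := fun a => by
      rw [AlgHom.commutes]
      exact e.toAlgEquiv.commutes (algebraMap A B a) }

lemma transportSection_apply (e : X.Equiv Y) (g : C →ₐ[A] X.CharCarrier A) (c : C) :
    transportSection A e g c = e.toAlgEquiv (g c) := rfl

lemma transportSection_comp (e : X.Equiv Y) (g : C →ₐ[A] X.CharCarrier A)
    (hg : (IsScalarTower.toAlgHom A (X.CharCarrier A) C).comp g = AlgHom.id A C) :
    (IsScalarTower.toAlgHom A (Y.CharCarrier A) C).comp (transportSection A e g) =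
      AlgHom.id A C := by
  ext c
  have h1 : X.proj (g c) = c := AlgHom.congr_fun hg c
  change Y.proj (e.toAlgEquiv (g c)) = c
  rw [e.proj_apply, h1]

theorem isCharHom_of_equiv (e : X.Equiv Y) (hX : X.IsTrivialOver A)
    (χ : ↥(EGA41.imperfection A B C) →ₗ[C] L) (hχ : X.IsCharHom A χ) : Y.IsCharHom A χ := by
  obtain ⟨g, hg⟩ := exists_section A X hX
  rw [isCharHom_iff_Phi A X g hg] at hχ
  rw [isCharHom_iff_Phi A Y (transportSection A e g) (transportSection_comp A e g hg)]
  let eR : X.CharCarrier A →+* Y.CharCarrier A := (e.toAlgEquiv : X.E →+* Y.E)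
  have heR_alg : ∀ b : B, eR (algebraMap B (X.CharCarrier A) b) =
      algebraMap B (Y.CharCarrier A) b := fun b => e.toAlgEquiv.commutes b
  have heR_g : ∀ c : C, transportSection A e g c = eR (g c) := fun c => rfl
  have heR_incl : ∀ l : L, eR (X.incl l) = Y.incl l := fun l => e.apply_incl l
  have hPhi : Phi A Y (transportSection A e g) (transportSection_comp A e g hg) =
      eR.toAddMonoidHom.comp (Phi A X g hg) := by
    apply addHom_ext_tmul_D
    intro c b
    rw [Phi_tmul_D, AddMonoidHom.comp_apply, Phi_tmul_D, heR_g, heR_g]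
    change _ = eR (g c * (algebraMap B (X.CharCarrier A) b - g (algebraMap B C b)))
    rw [map_mul, map_sub, heR_alg]
  intro z
  rw [hPhi, AddMonoidHom.comp_apply, hχ z]
  exact heR_incl (χ z)

end Transport

section Shear

variable {C L : Type v} [CommRing C] [AddCommGroup L] [Module C L]

/-- The shear automorphism `(c, l) ↦ (c, l - d c)` of the trivial square zero extension attached
to an additive map satisfying the Leibniz rule. -/
noncomputable def shear (d : C →+ L) (hd : ∀ c c' : C, d (c * c') = c • d c' + c' • d c) :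
    TrivSqZeroExt C L ≃+* TrivSqZeroExt C L where
  toFun x := x - TrivSqZeroExt.inr (d x.fst)
  invFun x := x + TrivSqZeroExt.inr (d x.fst)
  left_inv x := by
    apply TrivSqZeroExt.ext <;> simp
  right_inv x := by
    apply TrivSqZeroExt.ext <;> simp
  map_add' x y := by
    apply TrivSqZeroExt.ext
    · simp
    · simp only [TrivSqZeroExt.snd_sub, TrivSqZeroExt.snd_add, TrivSqZeroExt.snd_inr,
        TrivSqZeroExt.fst_add, map_add]
      abel
  map_mul' x y := by
    apply TrivSqZeroExt.ext
    · simp
    · simp only [TrivSqZeroExt.snd_sub, TrivSqZeroExt.snd_mul, TrivSqZeroExt.snd_inr,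
        TrivSqZeroExt.fst_sub, TrivSqZeroExt.fst_inr, sub_zero, TrivSqZeroExt.fst_mul, hd,
        op_smul_eq_smul, smul_sub]
      abel

lemma shear_apply (d : C →+ L) (hd : ∀ c c' : C, d (c * c') = c • d c' + c' • d c)
    (x : TrivSqZeroExt C L) : shear d hd x = x - TrivSqZeroExt.inr (d x.fst) := rfl

end Shear

section OfDerEquiv

variable (A : Type u) {B C L : Type v} [CommRing A] [CommRing B] [CommRing C] [Algebra A B]
  [Algebra B C] [Algebra A C] [IsScalarTower A B C] [AddCommGroup L] [Module C L]
  [Module B L] [IsScalarTower B C L] [Module A L] [IsScalarTower A B L] [IsScalarTower A C L]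

/-- The shear automorphism attached to a derivation. -/
noncomputable def shearDer (d : Derivation A C L) : TrivSqZeroExt C L ≃+* TrivSqZeroExt C L :=
  shear (d : C →+ L) (fun c c' => by
    change d (c * c') = c • d c' + c' • d c
    exact d.leibniz c c')

lemma shearDer_apply (d : Derivation A C L) (x : TrivSqZeroExt C L) :
    shearDer A d x = x - TrivSqZeroExt.inr (d x.fst) := rfl

/-- Two derivations differing by (the restriction of) a derivation of `C` define equivalent
extensions. -/
noncomputable def ofDerivationEquiv (D D' : Derivation A B L) (d : Derivation A C L)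
    (h : ∀ b : B, D b = D' b + d (algebraMap B C b)) :
    (Exal.Ext.ofDerivation (C := C) D).Equiv (Exal.Ext.ofDerivation (C := C) D') where
  toAlgEquiv :=
    { (shearDer A d : TrivSqZeroExt C L ≃+* TrivSqZeroExt C L) with
      commutes' := fun b => by
        change shearDer A d
          (TrivSqZeroExt.inl (algebraMap B C b) + TrivSqZeroExt.inr (D b)) =
          (TrivSqZeroExt.inl (algebraMap B C b) + TrivSqZeroExt.inr (D' b) : TrivSqZeroExt C L)
        rw [shearDer_apply, h b]
        apply TrivSqZeroExt.ext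
        · simp
        · simp only [TrivSqZeroExt.snd_sub, TrivSqZeroExt.snd_add, TrivSqZeroExt.snd_inl,
            TrivSqZeroExt.snd_inr, TrivSqZeroExt.fst_add, TrivSqZeroExt.fst_inl,
            TrivSqZeroExt.fst_inr, add_zero, zero_add]
          abel }
  proj_apply x := by
    change TrivSqZeroExt.fst (shearDer A d x) = TrivSqZeroExt.fst x
    rw [shearDer_apply]
    simp
  apply_incl z := by
    change shearDer A d (TrivSqZeroExt.inr z) = (TrivSqZeroExt.inr z : TrivSqZeroExt C L)
    rw [shearDer_apply]
    apply TrivSqZeroExt.ext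
    · simp
    · simp

end OfDerEquiv

section Inj

variable (A : Type u) {B C L : Type v} [CommRing A] [CommRing B] [CommRing C] [Algebra A B]
  [Algebra B C] [Algebra A C] [IsScalarTower A B C] [AddCommGroup L] [Module C L]

/-- A linear form on `C ⊗_B Ω_{B/A}` vanishing on the imperfection module extends (through
`mapBaseChange`) to `Ω_{C/A}`, when `L` is injective or `Ω_{C/A} → Ω_{C/B}` splits. -/
lemma exists_extension_of_vanish
    (h : Module.Injective C L ∨
      ∃ s : Ω[C⁄B] →ₗ[C] Ω[C⁄A], ∀ ω : Ω[C⁄B], KaehlerDifferential.map A B C C (s ω) = ω)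
    (δ : C ⊗[B] Ω[B⁄A] →ₗ[C] L)
    (hδ : ∀ z : ↥(EGA41.imperfection A B C), δ (z : C ⊗[B] Ω[B⁄A]) = 0) :
    ∃ ψ : Ω[C⁄A] →ₗ[C] L, ∀ z, ψ (mapBaseChange A B C z) = δ z := by
  set m := mapBaseChange A B C with hm
  have hker : LinearMap.ker m ≤ LinearMap.ker δ := by
    intro z hz
    exact hδ ⟨z, hz⟩
  let ψ0 : LinearMap.range m →ₗ[C] L :=
    ((LinearMap.ker m).liftQ δ hker) ∘ₗ (m.quotKerEquivRange.symm : _ →ₗ[C] _)
  have hψ0 : ∀ z, ψ0 ⟨m z, LinearMap.mem_range_self m z⟩ = δ z := by
    intro z
    change (LinearMap.ker m).liftQ δ hker (m.quotKerEquivRange.symm ⟨m z, _⟩) = δ z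
    rw [LinearMap.quotKerEquivRange_symm_apply_image]
    exact Submodule.liftQ_apply _ _ _
  rcases h with hinj | ⟨s, hs⟩
  · obtain ⟨ψ, hψ⟩ := Module.Injective.extension_property C L (LinearMap.range m) Ω[C⁄A]
      (LinearMap.range m).subtype (Submodule.injective_subtype _) ψ0
    refine ⟨ψ, fun z => ?_⟩
    rw [← hψ0 z, ← hψ]
    rfl
  · have hex := KaehlerDifferential.exact_mapBaseChange_map A B C
    let π : Ω[C⁄A] →ₗ[C] Ω[C⁄A] := LinearMap.id - s ∘ₗ (KaehlerDifferential.map A B C C)
    have hπ_apply : ∀ x, π x = x - s (KaehlerDifferential.map A B C C x) := fun x => rfl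
    have hπ : ∀ x, π x ∈ LinearMap.range m := by
      intro x
      refine (hex (π x)).1 ?_
      rw [hπ_apply, map_sub, hs, sub_self]
    refine ⟨ψ0 ∘ₗ (π.codRestrict (LinearMap.range m) hπ), fun z => ?_⟩
    rw [← hψ0 z, LinearMap.comp_apply]
    congr 1
    apply Subtype.ext
    change π (m z) = m z
    rw [hπ_apply, (hex (m z)).2 ⟨z, rfl⟩, map_zero, sub_zero]

theorem nonempty_equiv_of_isCharHom_eq
    (h : Module.Injective C L ∨
      ∃ s : Ω[C⁄B] →ₗ[C] Ω[C⁄A], ∀ ω : Ω[C⁄B], KaehlerDifferential.map A B C C (s ω) = ω)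
    (X Y : Exal.Ext B C L) (hX : X.IsTrivialOver A) (hY : Y.IsTrivialOver A)
    (χ : ↥(EGA41.imperfection A B C) →ₗ[C] L) (hXχ : X.IsCharHom A χ) (hYχ : Y.IsCharHom A χ) :
    Nonempty (X.Equiv Y) := by
  letI : Module B L := Module.compHom L (algebraMap B C)
  haveI : IsScalarTower B C L := ⟨fun b c l => by
    change (b • c) • l = (algebraMap B C b) • (c • l)
    rw [Algebra.smul_def, mul_smul]⟩
  letI : Module A L := Module.compHom L (algebraMap A C)
  haveI : IsScalarTower A C L := ⟨fun a c l => by
    change (a • c) • l = (algebraMap A C a) • (c • l)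
    rw [Algebra.smul_def, mul_smul]⟩
  haveI : IsScalarTower A B L := ⟨fun a b l => by
    change (algebraMap B C (a • b)) • l = (algebraMap A C a) • ((algebraMap B C b) • l)
    rw [Algebra.smul_def, map_mul, ← IsScalarTower.algebraMap_apply, mul_smul]⟩
  obtain ⟨DX, ⟨eX⟩⟩ := (Groth.Agent.Helper9.ExalLib.isTrivialOver_iff (A := A) X).1 hX
  obtain ⟨DY, ⟨eY⟩⟩ := (Groth.Agent.Helper9.ExalLib.isTrivialOver_iff (A := A) Y).1 hY
  have hX' := isCharHom_of_equiv A eX hX χ hXχ
  have hY' := isCharHom_of_equiv A eY hY χ hYχ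
  let χX : C ⊗[B] Ω[B⁄A] →ₗ[C] L := DX.liftKaehlerDifferential.liftBaseChange C
  let χY : C ⊗[B] Ω[B⁄A] →ₗ[C] L := DY.liftKaehlerDifferential.liftBaseChange C
  have hχX : ∀ b : B, χX ((1 : C) ⊗ₜ[B] KaehlerDifferential.D A B b) = DX b := fun b => by
    change (1 : C) • DX.liftKaehlerDifferential (KaehlerDifferential.D A B b) = DX b
    rw [one_smul, Derivation.liftKaehlerDifferential_comp_D]
  have hχY : ∀ b : B, χY ((1 : C) ⊗ₜ[B] KaehlerDifferential.D A B b) = DY b := fun b => by
    change (1 : C) • DY.liftKaehlerDifferential (KaehlerDifferential.D A B b) = DY b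
    rw [one_smul, Derivation.liftKaehlerDifferential_comp_D]
  rw [isCharHom_ofDerivation_iff A DX χX hχX] at hX'
  rw [isCharHom_ofDerivation_iff A DY χY hχY] at hY'
  obtain ⟨ψ, hψ⟩ := exists_extension_of_vanish A h (χX - χY) (fun z => by
    rw [LinearMap.sub_apply, ← hX' z, ← hY' z, sub_self])
  let d : Derivation A C L := ψ.compDer (KaehlerDifferential.D A C)
  have hd : ∀ b : B, DX b = DY b + d (algebraMap B C b) := by
    intro b
    have h1 : d (algebraMap B C b) = ψ (mapBaseChange A B C ((1 : C) ⊗ₜ[B] D A B b)) := by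
      rw [mapBaseChange_tmul, one_smul, KaehlerDifferential.map_D]
      rfl
    rw [h1, hψ, LinearMap.sub_apply, hχX, hχY]
    abel
  exact ⟨eX.trans ((ofDerivationEquiv A DX DY d hd).trans eY.symm)⟩

end Inj

end Groth.Agent.Helper9.CharHom
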