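import Mathlib
import Groth.Prelude.Def_Exal
import Groth.Prelude.Def_Exal2
import Groth.Prelude.Def_Exal3
import Groth.Agent.Lib.Helper9.CharHom5

set_option autoImplicit false
set_option linter.unusedSectionVars false
set_option linter.style.haveILetI false

universe u v

open TensorProduct KaehlerDifferential

namespace Groth.Agent.Helper9.CharHom

section Smooth

variable (A : Type u) {B C L : Type v} [CommRing A] [CommRing B] [CommRing C] [Algebra A B]
  [Algebra B C] [Algebra A C] [IsScalarTower A B C] [AddCommGroup L] [Module C L]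

/-- If `C` is formally smooth over `A`, every `B`-extension of `C` is `A`-trivial. -/
lemma isTrivialOver_of_formallySmooth [Algebra.FormallySmooth A C] (X : Exal.Ext B C L) :
    X.IsTrivialOver A := by
  have hnil : IsNilpotent (RingHom.ker
      ((IsScalarTower.toAlgHom A (X.CharCarrier A) C : X.CharCarrier A →ₐ[A] C) :
        X.CharCarrier A →+* C)) := ⟨2, ker_sq A X⟩
  let g : C →ₐ[A] X.CharCarrier A := Algebra.FormallySmooth.liftOfSurjective (AlgHom.id A C)
    (IsScalarTower.toAlgHom A (X.CharCarrier A) C) (surj A X) hnil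
  have hg : ∀ c : C, X.proj (g c) = c := fun c =>
    Algebra.FormallySmooth.liftOfSurjective_apply (AlgHom.id A C)
      (IsScalarTower.toAlgHom A (X.CharCarrier A) C) (surj A X) hnil c
  refine ⟨{ toFun := fun c => g c
            map_one' := map_one g
            map_mul' := map_mul g
            map_zero' := map_zero g
            map_add' := map_add g
            commutes' := fun a => g.commutes a }, fun c => hg c⟩

/-- If `Ω_{C/B}` is projective, `Ω_{C/A} → Ω_{C/B}` has a right inverse. -/
lemma exists_section_map [Module.Projective C Ω[C⁄B]] :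
    ∃ s : Ω[C⁄B] →ₗ[C] Ω[C⁄A], ∀ ω : Ω[C⁄B], KaehlerDifferential.map A B C C (s ω) = ω := by
  obtain ⟨s, hs⟩ := Module.projective_lifting_property (KaehlerDifferential.map A B C C)
    (LinearMap.id : Ω[C⁄B] →ₗ[C] Ω[C⁄B]) (KaehlerDifferential.map_surjective A B C)
  exact ⟨s, fun ω => LinearMap.congr_fun hs ω⟩

/-- If `Ω_{C/A}` is projective and `Ω_{C/A} → Ω_{C/B}` splits, the imperfection module is a direct
summand of `C ⊗_B Ω_{B/A}`. -/
lemma exists_retraction_imperfection [Module.Projective C Ω[C⁄A]]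
    (s : Ω[C⁄B] →ₗ[C] Ω[C⁄A]) (hs : ∀ ω : Ω[C⁄B], KaehlerDifferential.map A B C C (s ω) = ω) :
    ∃ r : C ⊗[B] Ω[B⁄A] →ₗ[C] ↥(EGA41.imperfection A B C),
      ∀ z : ↥(EGA41.imperfection A B C), r z = z := by
  set m := mapBaseChange A B C with hm
  have hex := KaehlerDifferential.exact_mapBaseChange_map A B C
  let π : Ω[C⁄A] →ₗ[C] Ω[C⁄A] := LinearMap.id - s ∘ₗ (KaehlerDifferential.map A B C C)
  have hπ_apply : ∀ x, π x = x - s (KaehlerDifferential.map A B C C x) := fun x => rfl
  have hπ : ∀ x, π x ∈ LinearMap.range m := by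
    intro x
    refine (hex (π x)).1 ?_
    rw [hπ_apply, map_sub, hs, sub_self]
  have hπm : ∀ x ∈ LinearMap.range m, π x = x := by
    rintro _ ⟨z, rfl⟩
    rw [hπ_apply, (hex (m z)).2 ⟨z, rfl⟩, map_zero, sub_zero]
  haveI : Module.Projective C (LinearMap.range m) :=
    Module.Projective.of_split (LinearMap.range m).subtype
      (π.codRestrict (LinearMap.range m) hπ) (by
        ext x
        exact hπm x.1 x.2)
  obtain ⟨t, ht⟩ := Module.projective_lifting_property m.rangeRestrict
    (LinearMap.id : LinearMap.range m →ₗ[C] LinearMap.range m) m.surjective_rangeRestrict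
  have ht' : ∀ y : LinearMap.range m, m (t y) = y := fun y =>
    congrArg Subtype.val (LinearMap.congr_fun ht y)
  let ρ : C ⊗[B] Ω[B⁄A] →ₗ[C] C ⊗[B] Ω[B⁄A] := LinearMap.id - t ∘ₗ m.rangeRestrict
  have hρ_apply : ∀ z, ρ z = z - t (m.rangeRestrict z) := fun z => rfl
  have hρ : ∀ z, ρ z ∈ EGA41.imperfection A B C := by
    intro z
    change m (ρ z) = 0
    rw [hρ_apply, map_sub, ht']
    exact sub_self _
  refine ⟨ρ.codRestrict (EGA41.imperfection A B C) hρ, fun z => ?_⟩
  apply Subtype.ext
  change ρ z = z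
  have hz : m.rangeRestrict (z : C ⊗[B] Ω[B⁄A]) = 0 := Subtype.ext z.2
  rw [hρ_apply, hz, map_zero, sub_zero]

theorem bijective_charHom_of_formallySmooth [Algebra.FormallySmooth A C]
    [Module.Projective C Ω[C⁄B]] :
    (∀ (X Y : Exal.Ext B C L) (χ : ↥(EGA41.imperfection A B C) →ₗ[C] L),
        X.IsCharHom A χ → Y.IsCharHom A χ → Nonempty (X.Equiv Y)) ∧
      ∀ χ : ↥(EGA41.imperfection A B C) →ₗ[C] L, ∃ X : Exal.Ext B C L, X.IsCharHom A χ := by
  obtain ⟨s, hs⟩ := exists_section_map A (B := B) (C := C)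
  obtain ⟨r, hr⟩ := exists_retraction_imperfection A s hs
  refine ⟨fun X Y χ hX hY => ?_, fun χ => ?_⟩
  · exact nonempty_equiv_of_isCharHom_eq A (Or.inr ⟨s, hs⟩) X Y
      (isTrivialOver_of_formallySmooth A X) (isTrivialOver_of_formallySmooth A Y) χ hX hY
  · obtain ⟨X, -, hX⟩ := exists_ext_isCharHom_of_extension A (χ ∘ₗ r) χ (fun z => by
      rw [LinearMap.comp_apply, hr])
    exact ⟨X, hX⟩

end Smooth

end Groth.Agent.Helper9.CharHom
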