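import Mathlib
import Groth.Prelude.Def_Exal
import Groth.Prelude.Def_Exal2
import Groth.Prelude.Def_Exal3
import Groth.Agent.Lib.Helper9.CharHom6

set_option autoImplicit false
set_option linter.unusedSectionVars false
set_option linter.style.haveILetI false

universe u v

open TensorProduct KaehlerDifferential

namespace Groth.Agent.Helper9.CharHom

section Infinitesimal

variable (Λ : Type u) {A B : Type v} [CommRing Λ] [CommRing A] [CommRing B] [Algebra Λ A]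
  [Algebra Λ B] [Algebra A B] [IsScalarTower Λ A B] (K : Ideal B)

/-- The canonical map `C ⊗_A Ω_{A/Λ} → C ⊗_B Ω_{B/Λ}` for `C = B/K`. -/
noncomputable def iotaMap : (B ⧸ K) ⊗[A] Ω[A⁄Λ] →ₗ[B ⧸ K] (B ⧸ K) ⊗[B] Ω[B⁄Λ] :=
  ((KaehlerDifferential.mapBaseChange Λ A B).baseChange (B ⧸ K)) ∘ₗ
    (TensorProduct.AlgebraTensorModule.cancelBaseChange A B (B ⧸ K) (B ⧸ K)
      Ω[A⁄Λ]).symm.toLinearMap

lemma iotaMap_apply (z : (B ⧸ K) ⊗[A] Ω[A⁄Λ]) :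
    iotaMap Λ K z = ((KaehlerDifferential.mapBaseChange Λ A B).baseChange (B ⧸ K))
      ((TensorProduct.AlgebraTensorModule.cancelBaseChange A B (B ⧸ K) (B ⧸ K) Ω[A⁄Λ]).symm z) :=
  rfl

lemma iotaMap_tmul_D (c : B ⧸ K) (a : A) :
    iotaMap Λ K (c ⊗ₜ[A] D Λ A a) = c ⊗ₜ[B] D Λ B (algebraMap A B a) := by
  rw [iotaMap_apply, TensorProduct.AlgebraTensorModule.cancelBaseChange_symm_tmul,
    LinearMap.baseChange_tmul, mapBaseChange_tmul, one_smul, KaehlerDifferential.map_D]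

/-- Compatibility of `iotaMap` with the maps to `Ω_{C/Λ}`. -/
lemma mapBaseChange_iotaMap (z : (B ⧸ K) ⊗[A] Ω[A⁄Λ]) :
    mapBaseChange Λ B (B ⧸ K) (iotaMap Λ K z) = mapBaseChange Λ A (B ⧸ K) z := by
  have h : ((mapBaseChange Λ B (B ⧸ K)).toAddMonoidHom.comp (iotaMap Λ (A := A) K).toAddMonoidHom) =
      (mapBaseChange Λ A (B ⧸ K)).toAddMonoidHom := by
    apply addHom_ext_tmul_D
    intro c a
    change mapBaseChange Λ B (B ⧸ K) (iotaMap Λ K (c ⊗ₜ[A] D Λ A a)) =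
      mapBaseChange Λ A (B ⧸ K) (c ⊗ₜ[A] D Λ A a)
    rw [iotaMap_tmul_D, mapBaseChange_tmul, mapBaseChange_tmul, KaehlerDifferential.map_D,
      KaehlerDifferential.map_D, ← IsScalarTower.algebraMap_apply]
  exact DFunLike.congr_fun h z

/-- `C ⊗_B Ω_{B/Λ} → C ⊗_B Ω_{B/A}`. -/
noncomputable def quoMap : (B ⧸ K) ⊗[B] Ω[B⁄Λ] →ₗ[B ⧸ K] (B ⧸ K) ⊗[B] Ω[B⁄A] :=
  (KaehlerDifferential.map Λ A B B).baseChange (B ⧸ K)

lemma quoMap_tmul_D (c : B ⧸ K) (b : B) :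
    quoMap Λ (A := A) K (c ⊗ₜ[B] D Λ B b) = c ⊗ₜ[B] D A B b := by
  change ((KaehlerDifferential.map Λ A B B).baseChange (B ⧸ K)) (c ⊗ₜ[B] D Λ B b) = _
  rw [LinearMap.baseChange_tmul, KaehlerDifferential.map_D]
  rfl

lemma quoMap_iotaMap (z : (B ⧸ K) ⊗[A] Ω[A⁄Λ]) : quoMap Λ (A := A) K (iotaMap Λ K z) = 0 := by
  have h : ((quoMap Λ (A := A) K).toAddMonoidHom.comp (iotaMap Λ (A := A) K).toAddMonoidHom) = 0 := by
    apply addHom_ext_tmul_D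
    intro c a
    change quoMap Λ (A := A) K (iotaMap Λ K (c ⊗ₜ[A] D Λ A a)) = 0
    rw [iotaMap_tmul_D, quoMap_tmul_D, Derivation.map_algebraMap, TensorProduct.tmul_zero]
  exact DFunLike.congr_fun h z

/-- Right exactness: the kernel of `quoMap` is the image of `iotaMap`. -/
lemma exists_iotaMap_eq (w : (B ⧸ K) ⊗[B] Ω[B⁄Λ]) (hw : quoMap Λ (A := A) K w = 0) :
    ∃ z : (B ⧸ K) ⊗[A] Ω[A⁄Λ], iotaMap Λ K z = w := by
  have hex := lTensor_exact (B ⧸ K) (KaehlerDifferential.exact_mapBaseChange_map Λ A B)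
    (KaehlerDifferential.map_surjective Λ A B)
  obtain ⟨y, hy⟩ := (hex w).1 hw
  refine ⟨TensorProduct.AlgebraTensorModule.cancelBaseChange A B (B ⧸ K) (B ⧸ K) Ω[A⁄Λ] y, ?_⟩
  rw [iotaMap_apply, LinearEquiv.symm_apply_apply]
  exact hy

end Infinitesimal

section Main

variable (Λ : Type u) {A B : Type v} [CommRing Λ] [CommRing A] [CommRing B] [Algebra Λ A]
  [Algebra Λ B] [Algebra A B] [IsScalarTower Λ A B] (K : Ideal B)

lemma one_tmul_D_eq_zero_of_mem_sq (x : B) (hx : x ∈ K ^ 2) :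
    (1 : B ⧸ K) ⊗ₜ[B] D Λ B x = 0 := by
  rw [pow_two] at hx
  have h0 : ∀ r ∈ K, ∀ ω : Ω[B⁄Λ], (1 : B ⧸ K) ⊗ₜ[B] (r • ω) = 0 := by
    intro r hr ω
    rw [← TensorProduct.smul_tmul, Algebra.smul_def, mul_one, Ideal.Quotient.algebraMap_eq,
      Ideal.Quotient.eq_zero_iff_mem.2 hr, TensorProduct.zero_tmul]
  refine Submodule.mul_induction_on hx (fun m hm n hn => ?_) (fun x y hx hy => ?_)
  · rw [Derivation.leibniz, TensorProduct.tmul_add, h0 m hm, h0 n hn, add_zero]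
  · rw [map_add, TensorProduct.tmul_add, hx, hy, add_zero]

lemma exists_one_tmul_D_eq (w : (B ⧸ K) ⊗[B] Ω[B⁄Λ])
    (hw : mapBaseChange Λ B (B ⧸ K) w = 0) :
    ∃ x ∈ K, (1 : B ⧸ K) ⊗ₜ[B] D Λ B x = w := by
  have hex := exact_kerCotangentToTensor_mapBaseChange Λ B (B ⧸ K) Ideal.Quotient.mk_surjective
  obtain ⟨k, hk⟩ := (hex w).1 hw
  obtain ⟨⟨e, he⟩, rfl⟩ := Ideal.toCotangent_surjective _ k
  rw [kerCotangentToTensor_toCotangent] at hk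
  refine ⟨e, ?_, hk⟩
  rwa [RingHom.mem_ker, Ideal.Quotient.algebraMap_eq, Ideal.Quotient.eq_zero_iff_mem] at he

/-- Transfer of a `Λ`-section from the `A`-extension `B/K²` to the `B`-extension `B/K²`. -/
noncomputable def sectionZ
    (g : (B ⧸ K) →ₐ[Λ] ((Exal.Ext.infinitesimal K).restrictBase A).CharCarrier Λ) :
    (B ⧸ K) →ₐ[Λ] (Exal.Ext.infinitesimal K).CharCarrier Λ :=
  { toFun := fun c => g c
    map_one' := map_one g
    map_mul' := map_mul g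
    map_zero' := map_zero g
    map_add' := map_add g
    commutes' := fun l => by
      refine (g.commutes l).trans ?_
      change algebraMap B (B ⧸ K ^ 2) (algebraMap A B (algebraMap Λ A l)) =
        algebraMap B (B ⧸ K ^ 2) (algebraMap Λ B l)
      rw [← IsScalarTower.algebraMap_apply Λ A B] }

lemma sectionZ_comp
    (g : (B ⧸ K) →ₐ[Λ] ((Exal.Ext.infinitesimal K).restrictBase A).CharCarrier Λ)
    (hg : (IsScalarTower.toAlgHom Λ
      (((Exal.Ext.infinitesimal K).restrictBase A).CharCarrier Λ) (B ⧸ K)).comp g =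
        AlgHom.id Λ (B ⧸ K)) :
    (IsScalarTower.toAlgHom Λ ((Exal.Ext.infinitesimal K).CharCarrier Λ) (B ⧸ K)).comp
      (sectionZ Λ K g) = AlgHom.id Λ (B ⧸ K) := by
  ext c
  exact AlgHom.congr_fun hg c

lemma Phi_one_tmul_D (gZ : (B ⧸ K) →ₐ[Λ] (Exal.Ext.infinitesimal K).CharCarrier Λ)
    (hgZ : (IsScalarTower.toAlgHom Λ ((Exal.Ext.infinitesimal K).CharCarrier Λ) (B ⧸ K)).comp
      gZ = AlgHom.id Λ (B ⧸ K)) (x : B) (hx : x ∈ K) :
    (Phi Λ (Exal.Ext.infinitesimal K) gZ hgZ ((1 : B ⧸ K) ⊗ₜ[B] D Λ B x) : B ⧸ K ^ 2) =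
      Ideal.Quotient.mk (K ^ 2) x := by
  rw [Phi_tmul_D, map_one, one_mul]
  have h0 : algebraMap B (B ⧸ K) x = 0 := by
    rw [Ideal.Quotient.algebraMap_eq]
    exact Ideal.Quotient.eq_zero_iff_mem.2 hx
  rw [h0, map_zero, sub_zero]
  rfl

lemma Phi_injOn_ker (gZ : (B ⧸ K) →ₐ[Λ] (Exal.Ext.infinitesimal K).CharCarrier Λ)
    (hgZ : (IsScalarTower.toAlgHom Λ ((Exal.Ext.infinitesimal K).CharCarrier Λ) (B ⧸ K)).comp
      gZ = AlgHom.id Λ (B ⧸ K)) (w : (B ⧸ K) ⊗[B] Ω[B⁄Λ])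
    (hw : mapBaseChange Λ B (B ⧸ K) w = 0)
    (h0 : (Phi Λ (Exal.Ext.infinitesimal K) gZ hgZ w : B ⧸ K ^ 2) = 0) : w = 0 := by
  obtain ⟨x, hx, rfl⟩ := exists_one_tmul_D_eq Λ K w hw
  rw [Phi_one_tmul_D Λ K gZ hgZ x hx] at h0
  exact one_tmul_D_eq_zero_of_mem_sq Λ K x (Ideal.Quotient.eq_zero_iff_mem.1 h0)

lemma Phi_iotaMap
    (g : (B ⧸ K) →ₐ[Λ] ((Exal.Ext.infinitesimal K).restrictBase A).CharCarrier Λ)
    (hg : (IsScalarTower.toAlgHom Λ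
      (((Exal.Ext.infinitesimal K).restrictBase A).CharCarrier Λ) (B ⧸ K)).comp g =
        AlgHom.id Λ (B ⧸ K)) (z : (B ⧸ K) ⊗[A] Ω[A⁄Λ]) :
    (Phi Λ (Exal.Ext.infinitesimal K) (sectionZ Λ K g) (sectionZ_comp Λ K g hg)
      (iotaMap Λ K z) : B ⧸ K ^ 2) =
      (Phi Λ ((Exal.Ext.infinitesimal K).restrictBase A) g hg z : B ⧸ K ^ 2) := by
  have h : ((Phi Λ (Exal.Ext.infinitesimal K) (sectionZ Λ K g) (sectionZ_comp Λ K g hg)).comp
      (iotaMap Λ (A := A) K).toAddMonoidHom : (B ⧸ K) ⊗[A] Ω[A⁄Λ] →+ B ⧸ K ^ 2) =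
      (Phi Λ ((Exal.Ext.infinitesimal K).restrictBase A) g hg :
        (B ⧸ K) ⊗[A] Ω[A⁄Λ] →+ B ⧸ K ^ 2) := by
    apply addHom_ext_tmul_D
    intro c a
    change (Phi Λ (Exal.Ext.infinitesimal K) (sectionZ Λ K g) (sectionZ_comp Λ K g hg)
      (iotaMap Λ K (c ⊗ₜ[A] D Λ A a)) : B ⧸ K ^ 2) =
      (Phi Λ ((Exal.Ext.infinitesimal K).restrictBase A) g hg (c ⊗ₜ[A] D Λ A a) : B ⧸ K ^ 2)
    rw [iotaMap_tmul_D, Phi_tmul_D, Phi_tmul_D, ← IsScalarTower.algebraMap_apply A B (B ⧸ K)]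
    rfl
  exact DFunLike.congr_fun h z

theorem ker_range_charHom
    (htriv : ((Exal.Ext.infinitesimal K).restrictBase A).IsTrivialOver Λ)
    (χ : ↥(EGA41.imperfection Λ A (B ⧸ K)) →ₗ[B ⧸ K] K.Cotangent)
    (hχ : ((Exal.Ext.infinitesimal K).restrictBase A).IsCharHom Λ χ) :
    (∀ z : ↥(EGA41.imperfection Λ A (B ⧸ K)),
        χ z = 0 ↔ iotaMap Λ K (z : (B ⧸ K) ⊗[A] Ω[A⁄Λ]) = 0) ∧
      ∀ (x : B) (hx : x ∈ K),
        K.toCotangent ⟨x, hx⟩ ∈ LinearMap.range χ ↔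
          (1 : B ⧸ K) ⊗ₜ[B] KaehlerDifferential.D A B x = (0 : (B ⧸ K) ⊗[B] Ω[B⁄A]) := by
  obtain ⟨g, hg⟩ := exists_section Λ _ htriv
  have hχ' := (isCharHom_iff_Phi Λ _ g hg χ).1 hχ
  have hincl : ∀ (x : B) (hx : x ∈ K),
      (((Exal.Ext.infinitesimal K).restrictBase A).incl (K.toCotangent ⟨x, hx⟩) : B ⧸ K ^ 2) =
        Ideal.Quotient.mk (K ^ 2) x := fun x hx => rfl
  have hinj := ((Exal.Ext.infinitesimal K).restrictBase A).isExtension.incl_injective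
  have hmk0 : ∀ x ∈ K, algebraMap B (B ⧸ K) x = 0 := fun x hx => by
    rw [Ideal.Quotient.algebraMap_eq]
    exact Ideal.Quotient.eq_zero_iff_mem.2 hx
  have hmbc : ∀ x ∈ K, mapBaseChange Λ B (B ⧸ K) ((1 : B ⧸ K) ⊗ₜ[B] D Λ B x) = 0 := by
    intro x hx
    rw [mapBaseChange_tmul, one_smul, KaehlerDifferential.map_D, hmk0 x hx, map_zero]
  have key : ∀ z : (B ⧸ K) ⊗[A] Ω[A⁄Λ], mapBaseChange Λ A (B ⧸ K) z = 0 →
      ((Phi Λ ((Exal.Ext.infinitesimal K).restrictBase A) g hg z : B ⧸ K ^ 2) = 0 ↔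
        iotaMap Λ K z = 0) := by
    intro z hz
    rw [← Phi_iotaMap Λ K g hg z]
    constructor
    · intro h0
      exact Phi_injOn_ker Λ K _ _ _ (by rw [mapBaseChange_iotaMap]; exact hz) h0
    · intro h0
      rw [h0, map_zero]
      rfl
  refine ⟨fun z => ?_, fun x hx => ?_⟩
  · rw [← key z z.2, hχ' z]
    constructor
    · intro h
      rw [h, map_zero]
      rfl
    · intro h
      exact hinj (h.trans (map_zero _).symm)
  · constructor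
    · rintro ⟨z, hz⟩
      have h1 : iotaMap Λ K (z : (B ⧸ K) ⊗[A] Ω[A⁄Λ]) - (1 : B ⧸ K) ⊗ₜ[B] D Λ B x = 0 := by
        apply Phi_injOn_ker Λ K (sectionZ Λ K g) (sectionZ_comp Λ K g hg)
        · rw [map_sub, mapBaseChange_iotaMap, hmbc x hx, sub_zero]
          exact z.2
        · rw [map_sub, Phi_iotaMap Λ K g hg, hχ' z, hz, Phi_one_tmul_D Λ K _ _ x hx, hincl, sub_self]
      have h2 := congrArg (quoMap Λ (A := A) K) (sub_eq_zero.1 h1)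
      rw [quoMap_iotaMap, quoMap_tmul_D] at h2
      exact h2.symm
    · intro h0
      obtain ⟨z, hz⟩ := exists_iotaMap_eq Λ (A := A) K ((1 : B ⧸ K) ⊗ₜ[B] D Λ B x) (by
        rw [quoMap_tmul_D]; exact h0)
      have hzΥ : z ∈ EGA41.imperfection Λ A (B ⧸ K) := by
        change mapBaseChange Λ A (B ⧸ K) z = 0
        rw [← mapBaseChange_iotaMap, hz, hmbc x hx]
      refine ⟨⟨z, hzΥ⟩, hinj ?_⟩
      rw [← hχ' ⟨z, hzΥ⟩]
      change (Phi Λ ((Exal.Ext.infinitesimal K).restrictBase A) g hg z : B ⧸ K ^ 2) = _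
      rw [← Phi_iotaMap Λ K g hg z, hz, Phi_one_tmul_D Λ K _ _ x hx, hincl]

end Main

end Groth.Agent.Helper9.CharHom
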