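import Mathlib
import Groth.Prelude.Def_Exal
import Groth.Prelude.Def_Exal2
import Groth.Prelude.Def_Exal3
import Groth.Agent.Lib.Helper9.CharHom7

set_option autoImplicit false
set_option linter.unusedSectionVars false
set_option linter.style.haveILetI false

universe u v

open TensorProduct KaehlerDifferential

namespace Groth.Agent.Helper9.CharHom

section Retraction

variable (Λ : Type u) {A B : Type v} [CommRing Λ] [CommRing A] [CommRing B] [Algebra Λ A]
  [Algebra Λ B] [Algebra A B] [IsScalarTower Λ A B]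

/-- If `B` is formally smooth over `A`, then `B ⊗_A Ω_{A/Λ} → Ω_{B/Λ}` has a `B`-linear
retraction. -/
lemma exists_retraction_mapBaseChange [Algebra.FormallySmooth A B] :
    ∃ ρ : Ω[B⁄Λ] →ₗ[B] B ⊗[A] Ω[A⁄Λ], ∀ n, ρ (mapBaseChange Λ A B n) = n := by
  let D₀ : Derivation Λ A (B ⊗[A] Ω[A⁄Λ]) := (TensorProduct.mk A B Ω[A⁄Λ] 1).compDer (D Λ A)
  have htriv := (Groth.Agent.Helper9.ExalLib.formallySmooth_iff A B).1 inferInstance
    (B ⊗[A] Ω[A⁄Λ]) (Exal.Ext.ofDerivation (C := B) D₀)
  obtain ⟨D', hD'⟩ := (Groth.Agent.Helper9.ExalLib.ofDerivation_isTrivial_iff D₀).1 htriv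
  refine ⟨D'.liftKaehlerDifferential, ?_⟩
  have h : (D'.liftKaehlerDifferential.toAddMonoidHom.comp
      (mapBaseChange Λ A B).toAddMonoidHom) = AddMonoidHom.id _ := by
    apply addHom_ext_tmul_D
    intro b a
    change D'.liftKaehlerDifferential (mapBaseChange Λ A B (b ⊗ₜ[A] D Λ A a)) = b ⊗ₜ[A] D Λ A a
    have h1 : D' (algebraMap A B a) = (1 : B) ⊗ₜ[A] D Λ A a := Derivation.congr_fun hD' a
    rw [mapBaseChange_tmul, map_smul, KaehlerDifferential.map_D,
      Derivation.liftKaehlerDifferential_comp_D, h1, TensorProduct.smul_tmul', smul_eq_mul,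
      mul_one]
  exact fun n => DFunLike.congr_fun h n

lemma iotaMap_injective [Algebra.FormallySmooth A B] (K : Ideal B) :
    Function.Injective (iotaMap Λ (A := A) K) := by
  obtain ⟨ρ, hρ⟩ := exists_retraction_mapBaseChange Λ (A := A) (B := B)
  have hcomp : (ρ.baseChange (B ⧸ K)) ∘ₗ ((mapBaseChange Λ A B).baseChange (B ⧸ K)) =
      LinearMap.id := by
    rw [← LinearMap.baseChange_comp]
    have : ρ ∘ₗ mapBaseChange Λ A B = LinearMap.id := LinearMap.ext hρ
    rw [this, LinearMap.baseChange_id]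
  intro z z' hzz
  rw [iotaMap_apply, iotaMap_apply] at hzz
  have h1 := congrArg (ρ.baseChange (B ⧸ K)) hzz
  rw [← LinearMap.comp_apply, ← LinearMap.comp_apply, hcomp, LinearMap.id_apply,
    LinearMap.id_apply] at h1
  exact (TensorProduct.AlgebraTensorModule.cancelBaseChange A B (B ⧸ K) (B ⧸ K)
    Ω[A⁄Λ]).symm.injective h1

theorem charHom_injective_of_formallySmooth [Algebra.FormallySmooth A B] (K : Ideal B)
    (htriv : ((Exal.Ext.infinitesimal K).restrictBase A).IsTrivialOver Λ)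
    (χ : ↥(EGA41.imperfection Λ A (B ⧸ K)) →ₗ[B ⧸ K] K.Cotangent)
    (hχ : ((Exal.Ext.infinitesimal K).restrictBase A).IsCharHom Λ χ) :
    Function.Injective χ := by
  rw [injective_iff_map_eq_zero]
  intro z hz
  have h1 := ((ker_range_charHom Λ K htriv χ hχ).1 z).1 hz
  have h2 : (z : (B ⧸ K) ⊗[A] Ω[A⁄Λ]) = 0 :=
    iotaMap_injective Λ K (h1.trans (map_zero _).symm)
  exact Subtype.ext h2

end Retraction

end Groth.Agent.Helper9.CharHom
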