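import Mathlib
import Groth.Agent.Lib.Helper9.StalkPull

/-!
# The map `(f_*G)_{f x} ⟶ G_x`, the counit of `f⁻¹ ⊣ f_*` on stalks (helper9)
-/

universe u
open CategoryTheory CategoryTheory.Limits Opposite TopologicalSpace
namespace Groth.Agent.Helper9.StalkPull
variable {X Y : TopCat.{u}} (f : X ⟶ Y)

noncomputable abbrev adj1 (x : X) : CohTop.pull f ⋙ stalkF x ⊣ sky x ⋙ CohTop.push f :=
  (pullAdj f).comp (stalkAdj x)

noncomputable abbrev adj2 (x : X) : stalkF (f x) ⊣ sky x ⋙ CohTop.push f :=
  (stalkAdj (f x)).ofNatIsoRight (skyPushIso f x).symm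

lemma pullStalkIso_eq (x : X) : pullStalkIso f x = (adj1 f x).leftAdjointUniq (adj2 f x) := rfl

/-- the canonical map `(f_*G)_{f x} ⟶ G_x`. -/
noncomputable def pushStalk (x : X) (G : CohTop.Ab X) :
    (stalkF (f x)).obj ((CohTop.push f).obj G) ⟶ (stalkF x).obj G :=
  ((adj2 f x).homEquiv _ _).symm ((CohTop.push f).map ((stalkAdj x).unit.app G))

lemma pushStalk_eq (x : X) (G : CohTop.Ab X) :
    pushStalk f x G = (pullStalkIso f x).inv.app ((CohTop.push f).obj G) ≫
      (stalkF x).map ((pullAdj f).counit.app G) := by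
  apply ((adj2 f x).homEquiv _ _).injective
  rw [pushStalk, Equiv.apply_symm_apply, Adjunction.homEquiv_naturality_right]
  have h1 : (adj2 f x).homEquiv _ _ ((pullStalkIso f x).inv.app ((CohTop.push f).obj G)) =
      (adj1 f x).unit.app ((CohTop.push f).obj G) :=
    Adjunction.homEquiv_leftAdjointUniq_hom_app (adj2 f x) (adj1 f x) ((CohTop.push f).obj G)
  have h3 : (adj1 f x).unit.app ((CohTop.push f).obj G) =
      (pullAdj f).unit.app ((CohTop.push f).obj G) ≫ (CohTop.push f).map
        ((stalkAdj x).unit.app ((CohTop.pull f).obj ((CohTop.push f).obj G))) :=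
    Adjunction.comp_unit_app _ _ _
  rw [h1, h3, Functor.comp_map, Category.assoc, ← Functor.map_comp]
  have h2 : (stalkAdj x).unit.app ((CohTop.pull f).obj ((CohTop.push f).obj G)) ≫ (sky x).map ((stalkF x).map ((pullAdj f).counit.app G)) =
      (pullAdj f).counit.app G ≫ (stalkAdj x).unit.app G :=
    ((stalkAdj x).unit.naturality _).symm
  rw [h2, Functor.map_comp, ← Category.assoc, Adjunction.right_triangle_components,
    Category.id_comp]

lemma toSky_app_eqToHom {X : TopCat.{u}} (p₀ : X) [∀ U : Opens X, Decidable (p₀ ∈ U)]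
    {𝓕 : TopCat.Presheaf AddCommGrpCat.{u} X} {c : AddCommGrpCat.{u}} (g : 𝓕.stalk p₀ ⟶ c)
    (U : Opens X) (h : p₀ ∈ U) :
    (StalkSkyscraperPresheafAdjunctionAuxs.toSkyscraperPresheaf p₀ g).app (op U) ≫
      eqToHom (if_pos h) = 𝓕.germ U p₀ h ≫ g := by
  refine (StalkSkyscraperPresheafAdjunctionAuxs.germ_fromStalk p₀
    (StalkSkyscraperPresheafAdjunctionAuxs.toSkyscraperPresheaf p₀ g) U h).symm.trans ?_
  rw [StalkSkyscraperPresheafAdjunctionAuxs.fromStalk_to_skyscraper]

open Classical in
lemma germ_pushStalk (x : X) (G : CohTop.Ab X) (W : Opens Y) (hx : f x ∈ W) :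
    TopCat.Presheaf.germ ((CohTop.push f).obj G).obj W (f x) hx ≫ pushStalk f x G =
      TopCat.Presheaf.germ G.obj ((Opens.map f).obj W) x hx := by
  rw [pushStalk, Adjunction.homEquiv_ofNatIsoRight_symm_apply, Adjunction.homEquiv_counit]
  have h1 := TopCat.Presheaf.stalkFunctor_map_germ W (f x) hx
    ((CohTop.push f).map ((stalkAdj x).unit.app G) ≫
      (skyPushIso f x).symm.inv.app ((stalkF x).obj G)).hom
  have h2 : (stalkAdj (f x)).counit.app ((stalkF x).obj G) =
      (skyscraperPresheafStalkOfSpecializes (f x) ((stalkF x).obj G) specializes_rfl).hom := rfl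
  rw [h2]
  refine (Category.assoc _ _ _).symm.trans ?_
  refine (congrArg (fun m => m ≫ (skyscraperPresheafStalkOfSpecializes (f x)
    ((stalkF x).obj G) specializes_rfl).hom) h1).trans ?_
  refine (Category.assoc _ _ _).trans ?_
  refine (congrArg (fun m => ((CohTop.push f).map ((stalkAdj x).unit.app G) ≫
    (skyPushIso f x).symm.inv.app ((stalkF x).obj G)).hom.app (op W) ≫ m)
    (germ_skyscraperPresheafStalkOfSpecializes_hom (f x) ((stalkF x).obj G) specializes_rfl W hx)).trans ?_
  change ((StalkSkyscraperPresheafAdjunctionAuxs.toSkyscraperPresheaf x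
    (𝟙 (TopCat.Presheaf.stalk G.obj x))).app (op ((Opens.map f).obj W)) ≫ 𝟙 _) ≫ eqToHom _ = _
  refine (congrArg (fun m => m ≫ eqToHom _) (Category.comp_id _)).trans ?_
  exact (toSky_app_eqToHom x (𝟙 (TopCat.Presheaf.stalk G.obj x)) ((Opens.map f).obj W) hx).trans
    (Category.comp_id _)

lemma pushStalk_eq_stalkPushforward (x : X) (G : CohTop.Ab X) :
    pushStalk f x G = TopCat.Presheaf.stalkPushforward AddCommGrpCat.{u} f G.obj x := by
  refine TopCat.Presheaf.stalk_hom_ext _ (fun W hW => ?_)
  exact (germ_pushStalk f x G W hW).trans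
    (TopCat.Presheaf.stalkPushforward_germ AddCommGrpCat.{u} f G.obj W x hW).symm

lemma isIso_pushStalk (hf : Topology.IsInducing f) (x : X) (G : CohTop.Ab X) :
    IsIso (pushStalk f x G) := by
  rw [pushStalk_eq_stalkPushforward]
  exact TopCat.Presheaf.stalkPushforward.stalkPushforward_iso_of_isInducing AddCommGrpCat.{u}
    hf G.obj x

lemma stalk_counit (x : X) (G : CohTop.Ab X) :
    (stalkF x).map ((pullAdj f).counit.app G) =
      (pullStalkIso f x).hom.app ((CohTop.push f).obj G) ≫ pushStalk f x G := by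
  rw [pushStalk_eq, Iso.hom_inv_id_app_assoc]

lemma homEquiv_pushStalk (x : X) (G : CohTop.Ab X) :
    (adj2 f x).homEquiv _ _ (pushStalk f x G) = (CohTop.push f).map ((stalkAdj x).unit.app G) :=
  Equiv.apply_symm_apply _ _

lemma unit_pushStalk (x : X) (F : CohTop.Ab Y) :
    (stalkF (f x)).map ((pullAdj f).unit.app F) ≫ pushStalk f x ((CohTop.pull f).obj F) ≫
      (pullStalkIso f x).hom.app F = 𝟙 _ := by
  apply ((adj2 f x).homEquiv _ _).injective
  rw [Adjunction.homEquiv_naturality_left, Adjunction.homEquiv_naturality_right]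
  refine Eq.trans ?_ (Adjunction.homEquiv_id (adj2 f x) F).symm
  refine (congrArg (fun m => (pullAdj f).unit.app F ≫ m ≫
    (sky x ⋙ CohTop.push f).map ((pullStalkIso f x).hom.app F))
    (homEquiv_pushStalk f x ((CohTop.pull f).obj F))).trans ?_
  rw [← Category.assoc]
  have h3 : (pullAdj f).unit.app F ≫ (CohTop.push f).map
      ((stalkAdj x).unit.app ((CohTop.pull f).obj F)) = (adj1 f x).unit.app F :=
    (Adjunction.comp_unit_app _ _ _).symm
  rw [h3]
  exact Adjunction.unit_leftAdjointUniq_hom_app (adj1 f x) (adj2 f x) F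

/-- for an inducing map `f` the counit `f⁻¹ f_* G ⟶ G` is an isomorphism. -/
theorem isIso_counit_app (hf : Topology.IsInducing f) (G : CohTop.Ab X) :
    IsIso ((pullAdj f).counit.app G) := by
  refine (TopCat.Presheaf.isIso_iff_stalkFunctor_map_iso ((pullAdj f).counit.app G)).2 ?_
  intro x
  have h := stalk_counit f x G
  haveI := isIso_pushStalk f hf x G
  change IsIso ((stalkF x).map ((pullAdj f).counit.app G))
  rw [h]
  infer_instance

theorem isIso_counit (hf : Topology.IsInducing f) : IsIso (pullAdj f).counit := by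
  haveI : ∀ G, IsIso ((pullAdj f).counit.app G) := isIso_counit_app f hf
  exact NatIso.isIso_of_isIso_app _

/-- if `f` is inducing then `stalk (η_F)` at `f x` is an isomorphism. -/
lemma isIso_stalk_unit (hf : Topology.IsInducing f) (x : X) (F : CohTop.Ab Y) :
    IsIso ((stalkF (f x)).map ((pullAdj f).unit.app F)) := by
  haveI := isIso_pushStalk f hf x ((CohTop.pull f).obj F)
  have h := unit_pushStalk f x F
  have h2 : (stalkF (f x)).map ((pullAdj f).unit.app F) =
      inv (pushStalk f x ((CohTop.pull f).obj F) ≫ (pullStalkIso f x).hom.app F) := by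
    rw [← cancel_mono (pushStalk f x ((CohTop.pull f).obj F) ≫ (pullStalkIso f x).hom.app F), h,
      IsIso.inv_hom_id]
  rw [h2]
  infer_instance

end Groth.Agent.Helper9.StalkPull
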