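import Mathlib
import Groth.Agent.Lib.Helper9.ClosedEmb
import Groth.Agent.Lib.Helper9.StalkPull2

/-!
# Direct image along a closed embedding: fully faithful, essential image (helper9)
-/

universe u
open CategoryTheory CategoryTheory.Limits Opposite TopologicalSpace

namespace Groth.Agent.Helper9.ClosedEmb

variable {Z X : TopCat.{u}} (i : Z ⟶ X)

/-- the stalk of `i_* G` at a point outside the closed range of `i` is zero. -/
lemma isZero_stalk_push (hi : Topology.IsClosedEmbedding i) (G : CohTop.Ab Z) (x : X)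
    (hx : x ∉ Set.range i) : IsZero (CohTop.stalk ((CohTop.push i).obj G) x) := by
  haveI : Subsingleton (CohTop.stalk ((CohTop.push i).obj G) x) := by
    refine subsingleton_of_forall_eq 0 (fun t => ?_)
    obtain ⟨W, hxW, s, rfl⟩ := TopCat.Presheaf.germ_exist ((CohTop.push i).obj G).obj (x := x) t
    let W₀ : Opens X := ⟨(Set.range i)ᶜ, hi.isClosed_range.isOpen_compl⟩
    have hbot : (Opens.map i).obj (W ⊓ W₀) = ⊥ := by
      ext z
      simp only [Opens.coe_bot, Set.mem_empty_iff_false, iff_false]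
      rintro ⟨-, hz⟩
      exact hz ⟨z, rfl⟩
    have hsub : Subsingleton (G.obj.obj (op ((Opens.map i).obj (W ⊓ W₀)))) :=
      AddCommGrpCat.subsingleton_of_isZero ((TopCat.Sheaf.isTerminalOfEqEmpty G hbot).isZero)
    have h1 := TopCat.Presheaf.germ_res_apply ((CohTop.push i).obj G).obj
      (homOfLE (inf_le_left : W ⊓ W₀ ≤ W)) x ⟨hxW, hx⟩ s
    rw [← h1]
    have h2 : ((CohTop.push i).obj G).obj.map (homOfLE (inf_le_left : W ⊓ W₀ ≤ W)).op s = 0 :=
      Subsingleton.elim (α := G.obj.obj (op ((Opens.map i).obj (W ⊓ W₀)))) _ _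
    rw [h2, map_zero]
  exact AddCommGrpCat.isZero_of_subsingleton _

theorem essImage_iff (hi : Topology.IsClosedEmbedding i) (F : CohTop.Ab X) :
    (CohTop.push i).essImage F ↔
      ∀ x : X, x ∉ Set.range i → IsZero (CohTop.stalk F x) := by
  constructor
  · rintro ⟨G, ⟨e⟩⟩ x hx
    exact (isZero_stalk_push i hi G x hx).of_iso ((StalkPull.stalkF x).mapIso e.symm)
  · intro h
    have hη : IsIso ((StalkPull.pullAdj i).unit.app F) := by
      refine (TopCat.Presheaf.isIso_iff_stalkFunctor_map_iso _).2 ?_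
      intro y
      by_cases hy : y ∈ Set.range i
      · obtain ⟨z, rfl⟩ := hy
        exact StalkPull.isIso_stalk_unit i hi.isInducing z F
      · have h1 : IsZero (CohTop.stalk F y) := h y hy
        have h2 := isZero_stalk_push i hi ((CohTop.pull i).obj F) y hy
        exact ⟨⟨0, h1.eq_of_src _ _, h2.eq_of_src _ _⟩⟩
    exact ⟨(CohTop.pull i).obj F, ⟨(asIso ((StalkPull.pullAdj i).unit.app F)).symm⟩⟩

theorem closedEmb_main (hi : Topology.IsClosedEmbedding i) :
    PreservesFiniteColimits (CohTop.push i) ∧ (CohTop.push i).Full ∧ (CohTop.push i).Faithful ∧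
      (∀ F : CohTop.Ab X, (CohTop.push i).essImage F ↔
        ∀ x : X, x ∉ Set.range i → IsZero (CohTop.stalk F x)) ∧
      Nonempty (CohTop.push i ⋙ CohTop.pull i ≅ 𝟭 (CohTop.Ab Z)) := by
  haveI := StalkPull.isIso_counit i hi.isInducing
  have ff := (StalkPull.pullAdj i).fullyFaithfulROfIsIsoCounit
  exact ⟨preservesFiniteColimits_push i hi, ff.full, ff.faithful, essImage_iff i hi,
    ⟨asIso (StalkPull.pullAdj i).counit⟩⟩

end Groth.Agent.Helper9.ClosedEmb
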