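import Mathlib

/-!
# A right adjoint for a fully faithful right adjoint with coreflective image (helper9)

Let `L ⊣ R` with invertible counit (so `R` is fully faithful), `Γ` an endofunctor of the target of `R` with
`ι : Γ ⟶ 𝟭` such that the unit is invertible on the objects `Γ F` and every map `R G ⟶ F` factors uniquely
through `ι F`. Then `R ⊣ Γ ⋙ L`.
-/

universe v₁ v₂ u₁ u₂
open CategoryTheory

namespace Groth.Agent.Helper9.CoreflAdj

variable {C : Type u₁} [Category.{v₁} C] {D : Type u₂} [Category.{v₂} D]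
  {L : D ⥤ C} {R : C ⥤ D} (adj : L ⊣ R) (Γ : D ⥤ D) (ι : Γ ⟶ 𝟭 D)

section

variable (h2 : ∀ (G : C) (F : D) (ψ : R.obj G ⟶ F), ∃! ψ' : R.obj G ⟶ Γ.obj F, ψ' ≫ ι.app F = ψ)

/-- the unique lift through `ι`. -/
noncomputable def lift {G : C} {F : D} (ψ : R.obj G ⟶ F) : R.obj G ⟶ Γ.obj F :=
  (h2 G F ψ).exists.choose

lemma lift_ι {G : C} {F : D} (ψ : R.obj G ⟶ F) : lift Γ ι h2 ψ ≫ ι.app F = ψ :=
  (h2 G F ψ).exists.choose_spec

lemma lift_unique {G : C} {F : D} (ψ : R.obj G ⟶ F) (m : R.obj G ⟶ Γ.obj F)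
    (hm : m ≫ ι.app F = ψ) : m = lift Γ ι h2 ψ :=
  (h2 G F ψ).unique hm (lift_ι Γ ι h2 ψ)

end

lemma map_inv_counit [IsIso adj.counit] (G : C) :
    R.map (inv (adj.counit.app G)) = adj.unit.app (R.obj G) := by
  rw [Functor.map_inv, IsIso.inv_eq_of_inv_hom_id]
  exact adj.right_triangle_components G

lemma map_inv_unit (F : D) [IsIso (adj.unit.app F)] :
    L.map (inv (adj.unit.app F)) = adj.counit.app (L.obj F) := by
  rw [Functor.map_inv, IsIso.inv_eq_of_hom_inv_id]
  exact adj.left_triangle_components F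

theorem nonempty_adj [IsIso adj.counit]
    (h1 : ∀ F : D, IsIso (adj.unit.app (Γ.obj F)))
    (h2 : ∀ (G : C) (F : D) (ψ : R.obj G ⟶ F),
      ∃! ψ' : R.obj G ⟶ Γ.obj F, ψ' ≫ ι.app F = ψ) :
    Nonempty (R ⊣ Γ ⋙ L) := by
  haveI := h1
  refine ⟨Adjunction.mkOfHomEquiv
    { homEquiv := fun G F =>
        { toFun := fun ψ => inv (adj.counit.app G) ≫ L.map (lift Γ ι h2 ψ)
          invFun := fun φ => R.map φ ≫ inv (adj.unit.app (Γ.obj F)) ≫ ι.app F
          left_inv := fun ψ => by
            dsimp only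
            rw [Functor.map_comp, map_inv_counit]
            simp only [Category.assoc]
            have hn : adj.unit.app (R.obj G) ≫ R.map (L.map (lift Γ ι h2 ψ)) =
                lift Γ ι h2 ψ ≫ adj.unit.app (Γ.obj F) := (adj.unit.naturality _).symm
            rw [← Category.assoc, hn, Category.assoc, IsIso.hom_inv_id_assoc]
            exact lift_ι Γ ι h2 ψ
          right_inv := fun φ => by
            dsimp only
            have hl : lift Γ ι h2 (R.map φ ≫ inv (adj.unit.app (Γ.obj F)) ≫ ι.app F) =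
                R.map φ ≫ inv (adj.unit.app (Γ.obj F)) :=
              (lift_unique Γ ι h2 _ _ (Category.assoc _ _ _)).symm
            rw [hl, Functor.map_comp, map_inv_unit]
            have hn : L.map (R.map φ) ≫ adj.counit.app (L.obj (Γ.obj F)) =
                adj.counit.app G ≫ φ := adj.counit.naturality φ
            rw [hn, IsIso.inv_hom_id_assoc] }
      homEquiv_naturality_left_symm := fun {G' G F} g φ => by
        change R.map (g ≫ φ) ≫ _ = R.map g ≫ R.map φ ≫ _
        rw [Functor.map_comp, Category.assoc]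
      homEquiv_naturality_right := fun {G F F'} ψ k => by
        change inv (adj.counit.app G) ≫ L.map (lift Γ ι h2 (ψ ≫ k)) =
          (inv (adj.counit.app G) ≫ L.map (lift Γ ι h2 ψ)) ≫ L.map (Γ.map k)
        have hl : lift Γ ι h2 (ψ ≫ k) = lift Γ ι h2 ψ ≫ Γ.map k := by
          refine (lift_unique Γ ι h2 _ _ ?_).symm
          have hk : Γ.map k ≫ ι.app F' = ι.app F ≫ k := ι.naturality k
          rw [Category.assoc, hk, ← Category.assoc, lift_ι]
        rw [hl, Functor.map_comp, Category.assoc] }⟩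

end Groth.Agent.Helper9.CoreflAdj
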