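import Mathlib
import Groth.Agent.Lib.Helper9.ClosedEmb2
import Groth.Agent.Lib.Helper9.CoreflAdj
import Groth.Agent.Lib.Helper9.OpenRes4
import Groth.Agent.Lib.Helper9.Excision

/-!
# `i_*` is left adjoint to `i⁻¹ Γ_Z` for the closed complement of an open (helper9)
-/

universe u
open CategoryTheory CategoryTheory.Limits Opposite TopologicalSpace

namespace Groth.Agent.Helper9.ClosedEmb

open Groth.Agent.Helper9.Excision (map_map_apply map_self_apply)

/-- the unit `F ⟶ i_* i⁻¹ F` is an isomorphism when the stalks of `F` vanish outside the closed image of `i`. -/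
theorem isIso_unit_of_stalks {Z X : TopCat.{u}} (i : Z ⟶ X) (hi : Topology.IsClosedEmbedding i)
    (F : CohTop.Ab X) (h : ∀ x : X, x ∉ Set.range i → IsZero (CohTop.stalk F x)) :
    IsIso ((StalkPull.pullAdj i).unit.app F) := by
  refine (TopCat.Presheaf.isIso_iff_stalkFunctor_map_iso _).2 ?_
  intro y
  by_cases hy : y ∈ Set.range i
  · obtain ⟨z, rfl⟩ := hy
    exact StalkPull.isIso_stalk_unit i hi.isInducing z F
  · have h1 : IsZero (CohTop.stalk F y) := h y hy
    have h2 := isZero_stalk_push i hi ((CohTop.pull i).obj F) y hy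
    exact ⟨⟨0, h1.eq_of_src _ _, h2.eq_of_src _ _⟩⟩

lemma preservesMono_push {Z X : TopCat.{u}} (i : Z ⟶ X) :
    (CohTop.push i).PreservesMonomorphisms := inferInstance

variable {X : TopCat.{u}} (U : Opens X)

lemma isClosedEmbedding_inclCompl : Topology.IsClosedEmbedding (CohCx.inclCompl U) :=
  (U.isOpen.isClosed_compl).isClosedEmbedding_subtypeVal

lemma range_inclCompl : Set.range (CohCx.inclCompl U) = ((U : Set X)ᶜ : Set X) :=
  Subtype.range_coe

/-- the stalks of `Γ_Z(F)` vanish on `U`. -/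
lemma isZero_stalk_sectSupp (F : CohTop.Ab X) (x : X) (hx : x ∈ U) :
    IsZero (CohTop.stalk ((LocCohZ.sectSuppF U).obj F) x) := by
  haveI : Subsingleton (CohTop.stalk ((LocCohZ.sectSuppF U).obj F) x) := by
    refine subsingleton_of_forall_eq 0 (fun t => ?_)
    obtain ⟨W, hxW, s, rfl⟩ :=
      TopCat.Presheaf.germ_exist ((LocCohZ.sectSuppF U).obj F).obj (x := x) t
    have h1 := TopCat.Presheaf.germ_res_apply ((LocCohZ.sectSuppF U).obj F).obj
      (homOfLE (inf_le_left : W ⊓ U ≤ W)) x ⟨hxW, hx⟩ s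
    rw [← h1]
    have h2 : ((LocCohZ.sectSuppF U).obj F).obj.map (homOfLE (inf_le_left : W ⊓ U ≤ W)).op s =
        0 := by
      have hinj := OpenRes.ι_app_injective U F (W ⊓ U)
      have h3 := OpenRes.res_ι' U F (W ⊓ U)
        (((LocCohZ.sectSuppF U).obj F).obj.map (homOfLE (inf_le_left : W ⊓ U ≤ W)).op s)
      have h4 : W ⊓ U ≤ (W ⊓ U) ⊓ U := le_inf le_rfl inf_le_right
      have h5 := congrArg (F.obj.map (homOfLE h4).op) h3
      rw [map_map_apply, map_self_apply, map_zero] at h5
      exact hinj (h5.trans (map_zero ((OpenRes.ι U F).hom.app (op (W ⊓ U))).hom).symm)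
    rw [h2, map_zero]
  exact AddCommGrpCat.isZero_of_subsingleton _

lemma unit_push_eq_zero (G : CohTop.Ab (TopCat.of ((U : Set X)ᶜ : Set X))) :
    (OpenRes.restrAdj U).unit.app ((CohTop.push (CohCx.inclCompl U)).obj G) = 0 := by
  apply Sheaf.hom_ext
  apply NatTrans.ext
  funext V
  apply ConcreteCategory.hom_ext
  intro s
  have hbot : (Opens.map (CohCx.inclCompl U)).obj (OpenRes.cap U V.unop) = ⊥ := by
    ext z
    simp only [Opens.coe_bot, Set.mem_empty_iff_false, iff_false]
    intro hz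
    have h1 : (z : X) ∈ OpenRes.cap U V.unop := hz
    rw [OpenRes.cap_eq] at h1
    exact z.2 h1.2
  have hsub : Subsingleton (G.obj.obj (op ((Opens.map (CohCx.inclCompl U)).obj
      (OpenRes.cap U V.unop)))) :=
    AddCommGrpCat.subsingleton_of_isZero ((TopCat.Sheaf.isTerminalOfEqEmpty G hbot).isZero)
  exact Subsingleton.elim (α := G.obj.obj (op ((Opens.map (CohCx.inclCompl U)).obj
      (OpenRes.cap U V.unop)))) _ _

theorem exists_unique_lift (G : CohTop.Ab (TopCat.of ((U : Set X)ᶜ : Set X))) (F : CohTop.Ab X)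
    (ψ : (CohTop.push (CohCx.inclCompl U)).obj G ⟶ F) :
    ∃! ψ' : (CohTop.push (CohCx.inclCompl U)).obj G ⟶ (LocCohZ.sectSuppF U).obj F,
      ψ' ≫ (OpenRes.αnat U).app F = ψ := by
  have hψ : ψ ≫ (OpenRes.restrAdj U).unit.app F = 0 := by
    have h1 := (OpenRes.restrAdj U).unit.naturality ψ
    rw [Functor.id_map] at h1
    rw [h1, unit_push_eq_zero, zero_comp]
  obtain ⟨m, hm⟩ := OpenRes.ιF_lift U ψ hψ
  refine ⟨m, hm, fun m' hm' => ?_⟩
  exact (cancel_mono (OpenRes.ιF U F)).1 (hm'.trans hm.symm)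

/-- `i_* ⊣ i⁻¹ Γ_Z` for the inclusion `i` of the closed complement of `U`. -/
theorem adj_push_inclCompl :
    Nonempty (CohTop.push (CohCx.inclCompl U) ⊣
      LocCohZ.sectSuppF U ⋙ CohTop.pull (CohCx.inclCompl U)) := by
  have hi := isClosedEmbedding_inclCompl U
  haveI := StalkPull.isIso_counit (CohCx.inclCompl U) hi.isInducing
  exact CoreflAdj.nonempty_adj (StalkPull.pullAdj (CohCx.inclCompl U)) (LocCohZ.sectSuppF U)
    (OpenRes.αnat U)
    (fun F => isIso_unit_of_stalks _ hi _ (fun x hx => isZero_stalk_sectSupp U F x (by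
      rw [range_inclCompl] at hx
      exact not_not.1 hx)))
    (exists_unique_lift U)

/-- `H_Z(I)` is injective for `I` injective. -/
theorem injective_HZ (I : CohTop.Ab X) [Injective I] : Injective (CohCx.HZ U I) := by
  obtain ⟨adj⟩ := adj_push_inclCompl U
  haveI : (CohTop.push (CohCx.inclCompl U)).PreservesMonomorphisms :=
    preservesMono_push (CohCx.inclCompl U)
  exact Injective.injective_of_adjoint adj I

end Groth.Agent.Helper9.ClosedEmb
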