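import Mathlib

/-!
# Jacobian criterion for adic formal smoothness of quotients (EGA 0_IV 22.6.1/22.6.2), part 1

`CondQ A J 𝔔`: the conormal map `J/J² → Ω_{B/A}` has a left inverse modulo `𝔔`, phrased as a
`B`-linear map `ρ : Ω[B⁄A] → (J/J²)/𝔔(J/J²)` with `ρ (d x) = x̄` for `x ∈ J`.
-/

set_option autoImplicit false
universe u

namespace Groth.Agent.Helper9.JacCrit

open TensorProduct KaehlerDifferential

variable (A : Type u) {B : Type u} [CommRing A] [CommRing B] [Algebra A B]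

/-- the conormal map of `J` has a left inverse modulo `𝔔`. -/
def CondQ (J 𝔔 : Ideal B) : Prop :=
  ∃ ρ : Ω[B⁄A] →ₗ[B] J.Cotangent ⧸ (𝔔 • ⊤ : Submodule B J.Cotangent),
    ∀ x : J, ρ (D A B (x : B)) = Submodule.Quotient.mk (J.toCotangent x)

variable {A}

theorem CondQ.mono {J 𝔔' 𝔔 : Ideal B} (h : 𝔔' ≤ 𝔔) (hc : CondQ A J 𝔔') : CondQ A J 𝔔 := by
  obtain ⟨ρ, hρ⟩ := hc
  have hle : (𝔔' • ⊤ : Submodule B J.Cotangent) ≤ (𝔔 • ⊤ : Submodule B J.Cotangent).comap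
      LinearMap.id := by
    rw [Submodule.comap_id]
    exact Submodule.smul_mono_left h
  refine ⟨(Submodule.mapQ _ _ LinearMap.id hle) ∘ₗ ρ, fun x => ?_⟩
  rw [LinearMap.comp_apply, hρ x, Submodule.mapQ_apply]
  rfl

theorem CondQ.congr_left {J J' 𝔔 : Ideal B} (h : J = J') : CondQ A J 𝔔 ↔ CondQ A J' 𝔔 := by
  subst h; rfl

/-- Lifting through a surjection of modules killed by `𝔄`, when `(B/𝔄) ⊗ P` is projective. -/
theorem exists_lift_of_projective (𝔄 : Ideal B) {P M' M : Type u} [AddCommGroup P] [Module B P]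
    [AddCommGroup M'] [Module B M'] [AddCommGroup M] [Module B M]
    (hP : Module.Projective (B ⧸ 𝔄) ((B ⧸ 𝔄) ⊗[B] P))
    (hM' : ∀ q ∈ 𝔄, ∀ m : M', q • m = 0) (p : M' →ₗ[B] M) (hp : Function.Surjective p)
    (ρ : P →ₗ[B] M) : ∃ ρ₁ : P →ₗ[B] M', p ∘ₗ ρ₁ = ρ := by
  have hM : ∀ q ∈ 𝔄, ∀ m : M, q • m = 0 := by
    intro q hq m
    obtain ⟨m', rfl⟩ := hp m
    rw [← map_smul, hM' q hq, map_zero]
  have tM' : Module.IsTorsionBySet B M' 𝔄 := fun m q => hM' q.1 q.2 m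
  have tM : Module.IsTorsionBySet B M 𝔄 := fun m q => hM q.1 q.2 m
  letI : Module (B ⧸ 𝔄) M' := tM'.module
  letI : Module (B ⧸ 𝔄) M := tM.module
  haveI : IsScalarTower B (B ⧸ 𝔄) M' := Module.IsTorsionBySet.isScalarTower tM'
  haveI : IsScalarTower B (B ⧸ 𝔄) M := Module.IsTorsionBySet.isScalarTower tM
  let p' : M' →ₗ[B ⧸ 𝔄] M :=
    { toFun := p
      map_add' := p.map_add
      map_smul' := by
        intro c m
        obtain ⟨b, rfl⟩ := Ideal.Quotient.mk_surjective c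
        change p (b • m) = b • p m
        exact p.map_smul b m }
  have hp' : Function.Surjective p' := hp
  let ρ' : (B ⧸ 𝔄) ⊗[B] P →ₗ[B ⧸ 𝔄] M := LinearMap.liftBaseChange (B ⧸ 𝔄) ρ
  obtain ⟨h, hh⟩ := Module.projective_lifting_property p' ρ' hp'
  refine ⟨(h.restrictScalars B) ∘ₗ (TensorProduct.mk B (B ⧸ 𝔄) P 1), ?_⟩
  ext x
  have := LinearMap.congr_fun hh ((1 : B ⧸ 𝔄) ⊗ₜ[B] x)
  change p (h ((1 : B ⧸ 𝔄) ⊗ₜ[B] x)) = ρ x
  change p (h ((1 : B ⧸ 𝔄) ⊗ₜ[B] x)) = ρ' ((1 : B ⧸ 𝔄) ⊗ₜ[B] x) at this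
  rw [this]
  change LinearMap.liftBaseChange (B ⧸ 𝔄) ρ ((1 : B ⧸ 𝔄) ⊗ₜ[B] x) = ρ x
  rw [LinearMap.liftBaseChange_tmul, one_smul]

theorem mem_smul_top_of_mem {N N' : Type*} [AddCommGroup N] [Module B N] [AddCommGroup N']
    [Module B N'] (f : N →ₗ[B] N') (𝔞 : Ideal B) {n : N}
    (hn : n ∈ (𝔞 • ⊤ : Submodule B N)) : f n ∈ (𝔞 • ⊤ : Submodule B N') := by
  have := Submodule.mem_map_of_mem (f := f) hn
  rw [Submodule.map_smul''] at this
  exact Submodule.smul_mono le_rfl le_top this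

theorem pow_apply_mem_smul_top {N : Type*} [AddCommGroup N] [Module B N] (ν : Module.End B N)
    (𝔞 : Ideal B) (hν : ∀ m, ν m ∈ (𝔞 • ⊤ : Submodule B N)) (i : ℕ) (m : N) :
    (ν ^ i) m ∈ (𝔞 ^ i • ⊤ : Submodule B N) := by
  induction i generalizing m with
  | zero => simp
  | succ i ih =>
    have e1 : (ν ^ (i + 1)) m = ν ((ν ^ i) m) := by
      rw [pow_succ', Module.End.mul_apply]
    rw [e1]
    have h1 := ih m
    refine Submodule.smul_induction_on h1 ?_ ?_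
    · intro r hr n _
      rw [map_smul, pow_succ, Submodule.mul_smul]
      exact Submodule.smul_mem_smul hr (hν n)
    · intro x y hx hy
      rw [map_add]
      exact add_mem hx hy

theorem CondQ.up {J 𝔔' 𝔔 : Ideal B} (hJ : J ≤ 𝔔') (h : 𝔔' ≤ 𝔔) (N : ℕ) (hN : 𝔔 ^ N ≤ 𝔔')
    (hproj : Module.Projective (B ⧸ 𝔔') ((B ⧸ 𝔔') ⊗[B] Ω[B⁄A]))
    (hc : CondQ A J 𝔔) : CondQ A J 𝔔' := by
  obtain ⟨ρ, hρ⟩ := hc
  have hle : (𝔔' • ⊤ : Submodule B J.Cotangent) ≤ (𝔔 • ⊤ : Submodule B J.Cotangent).comap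
      LinearMap.id := by
    rw [Submodule.comap_id]
    exact Submodule.smul_mono_left h
  let p := Submodule.mapQ _ _ LinearMap.id hle
  have hp : Function.Surjective p := by
    intro m
    obtain ⟨n, rfl⟩ := Submodule.Quotient.mk_surjective _ m
    exact ⟨Submodule.Quotient.mk n, rfl⟩
  have hM' : ∀ q ∈ 𝔔', ∀ m : J.Cotangent ⧸ (𝔔' • ⊤ : Submodule B J.Cotangent), q • m = 0 := by
    intro q hq m
    obtain ⟨n, rfl⟩ := Submodule.Quotient.mk_surjective _ m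
    rw [← Submodule.Quotient.mk_smul, Submodule.Quotient.mk_eq_zero]
    exact Submodule.smul_mem_smul hq Submodule.mem_top
  obtain ⟨ρ₁, hρ₁⟩ := exists_lift_of_projective 𝔔' hproj hM' p hp ρ
  let ε₀ : J →ₗ[B] (J.Cotangent ⧸ (𝔔' • ⊤ : Submodule B J.Cotangent)) :=
    { toFun := fun x => ρ₁ (D A B (x : B))
      map_add' := fun x y => by
        change ρ₁ (D A B ((x : B) + (y : B))) = _
        rw [map_add, map_add]
      map_smul' := fun b x => by
        change ρ₁ (D A B (b * (x : B))) = b • ρ₁ (D A B (x : B))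
        rw [Derivation.leibniz, map_add, map_smul, map_smul, hM' _ (hJ x.2), add_zero] }
  have h1 : (J • ⊤ : Submodule B J) ≤ LinearMap.ker ε₀ := by
    rw [Submodule.smul_le]
    intro r hr n _
    rw [LinearMap.mem_ker, map_smul, hM' r (hJ hr)]
  let ε₁ : J.Cotangent →ₗ[B] (J.Cotangent ⧸ (𝔔' • ⊤ : Submodule B J.Cotangent)) :=
    Submodule.liftQ _ ε₀ h1
  have h2 : (𝔔' • ⊤ : Submodule B J.Cotangent) ≤ LinearMap.ker ε₁ := by
    rw [Submodule.smul_le]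
    intro r hr n _
    rw [LinearMap.mem_ker, map_smul, hM' r hr]
  let ε : Module.End B (J.Cotangent ⧸ (𝔔' • ⊤ : Submodule B J.Cotangent)) :=
    Submodule.liftQ _ ε₁ h2
  have hε : ∀ x : J, ε (Submodule.Quotient.mk (J.toCotangent x)) = ρ₁ (D A B (x : B)) :=
    fun x => rfl
  have hν : ∀ m, (ε - 1) m ∈ (𝔔 • ⊤ : Submodule B (J.Cotangent ⧸ (𝔔' • ⊤ : Submodule B J.Cotangent))) := by
    intro m
    obtain ⟨n, rfl⟩ := Submodule.Quotient.mk_surjective _ m
    obtain ⟨x, rfl⟩ := J.toCotangent_surjective n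
    have hp0 : p ((ε - 1) (Submodule.Quotient.mk (J.toCotangent x))) = 0 := by
      rw [LinearMap.sub_apply, map_sub, hε, Module.End.one_apply]
      have := LinearMap.congr_fun hρ₁ (D A B (x : B))
      rw [LinearMap.comp_apply] at this
      rw [this, hρ x, Submodule.mapQ_apply]
      exact sub_self _
    obtain ⟨y, hy⟩ := Submodule.Quotient.mk_surjective _
      ((ε - 1) (Submodule.Quotient.mk (J.toCotangent x)))
    rw [← hy] at hp0 ⊢
    rw [Submodule.mapQ_apply, LinearMap.id_apply, Submodule.Quotient.mk_eq_zero] at hp0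
    exact mem_smul_top_of_mem (Submodule.mkQ _) 𝔔 hp0
  have hnil : IsNilpotent (ε - 1) := by
    refine ⟨N, LinearMap.ext fun m => ?_⟩
    have h3 := pow_apply_mem_smul_top (ε - 1) 𝔔 hν N m
    have h4 : (𝔔 ^ N • ⊤ : Submodule B (J.Cotangent ⧸ (𝔔' • ⊤ : Submodule B J.Cotangent))) ≤ ⊥ := by
      rw [Submodule.smul_le]
      intro r hr n _
      rw [hM' r (hN hr)]
      exact Submodule.zero_mem _
    exact (Submodule.mem_bot B).mp (h4 h3)
  have hu : IsUnit ε := by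
    have := hnil.isUnit_one_add
    rwa [add_sub_cancel] at this
  obtain ⟨u, hu⟩ := hu
  refine ⟨(↑u⁻¹ : Module.End B _) ∘ₗ ρ₁, fun x => ?_⟩
  rw [LinearMap.comp_apply, ← hε x, ← hu, ← Module.End.mul_apply, Units.inv_mul,
    Module.End.one_apply]

end Groth.Agent.Helper9.JacCrit
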