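import Mathlib
import Groth.Prelude.Def_CAlgX
import Groth.Agent.Lib.Helper9.JacCrit

/-!
# Jacobian criterion for adic formal smoothness of quotients, part 4:
the tensor-product form of the left-inverse condition.
-/

set_option autoImplicit false
universe u

namespace Groth.Agent.Helper9.JacCrit

open TensorProduct KaehlerDifferential

variable {A B : Type u} [CommRing A] [CommRing B] [Algebra A B]

theorem CondQ.congr_right {J 𝔔 𝔔' : Ideal B} (h : 𝔔 = 𝔔') : CondQ A J 𝔔 ↔ CondQ A J 𝔔' := by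
  subst h; rfl

section

variable {R' : Type u} [CommRing R'] [Algebra B R']

/-- `R' ⊗[B] N ≃ N/𝔔N` when `B → R'` is surjective with kernel `𝔔`. -/
noncomputable def tensorEquivQuot (hsurj : Function.Surjective (Algebra.ofId B R'))
    (N : Type u) [AddCommGroup N] [Module B N] :
    R' ⊗[B] N ≃ₗ[B] N ⧸ (RingHom.ker (Algebra.ofId B R') • ⊤ : Submodule B N) :=
  (TensorProduct.congr (Ideal.quotientKerAlgEquivOfSurjective hsurj).symm.toLinearEquiv
    (LinearEquiv.refl B N)) ≪≫ₗ
    TensorProduct.quotTensorEquivQuotSMul N (RingHom.ker (Algebra.ofId B R'))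

theorem tensorEquivQuot_one_tmul (hsurj : Function.Surjective (Algebra.ofId B R'))
    (N : Type u) [AddCommGroup N] [Module B N] (n : N) :
    tensorEquivQuot hsurj N ((1 : R') ⊗ₜ[B] n) = Submodule.Quotient.mk n := by
  unfold tensorEquivQuot
  rw [LinearEquiv.trans_apply, TensorProduct.congr_tmul]
  have : (Ideal.quotientKerAlgEquivOfSurjective hsurj).symm.toLinearEquiv (1 : R') = 1 :=
    map_one (Ideal.quotientKerAlgEquivOfSurjective hsurj).symm
  rw [this, LinearEquiv.refl_apply, TensorProduct.quotTensorEquivQuotSMul_mk_one_tmul]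

variable {C : Type u} [CommRing C] [Algebra B C] [Algebra C R'] [IsScalarTower B C R']

theorem exists_leftInverse_iff_condQ (hsurj : Function.Surjective (Algebra.ofId B R')) :
    (∃ g : R' ⊗[B] (C ⊗[B] Ω[B⁄A]) →ₗ[R'] R' ⊗[B] (RingHom.ker (algebraMap B C)).Cotangent,
      g ∘ₗ LinearMap.baseChange R' (KaehlerDifferential.kerCotangentToTensor A B C) =
        LinearMap.id) ↔
    CondQ A (RingHom.ker (algebraMap B C)) (RingHom.ker (Algebra.ofId B R')) := by
  constructor
  · rintro ⟨g, hg⟩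
    refine ⟨(tensorEquivQuot hsurj _).toLinearMap ∘ₗ (g.restrictScalars B) ∘ₗ
      (TensorProduct.mk B R' (C ⊗[B] Ω[B⁄A]) 1) ∘ₗ (TensorProduct.mk B C Ω[B⁄A] 1), fun x => ?_⟩
    change tensorEquivQuot hsurj _ (g ((1 : R') ⊗ₜ[B] ((1 : C) ⊗ₜ[B] D A B (x : B)))) = _
    have h1 : (1 : R') ⊗ₜ[B] ((1 : C) ⊗ₜ[B] D A B (x : B)) =
        LinearMap.baseChange R' (KaehlerDifferential.kerCotangentToTensor A B C)
          ((1 : R') ⊗ₜ[B] (RingHom.ker (algebraMap B C)).toCotangent x) := by
      rw [LinearMap.baseChange_tmul, KaehlerDifferential.kerCotangentToTensor_toCotangent]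
    rw [h1, ← LinearMap.comp_apply, hg, LinearMap.id_apply, tensorEquivQuot_one_tmul]
  · rintro ⟨ρ, hρ⟩
    let f : Ω[B⁄A] →ₗ[B] R' ⊗[B] (RingHom.ker (algebraMap B C)).Cotangent :=
      (tensorEquivQuot hsurj _).symm.toLinearMap ∘ₗ ρ
    have hf : ∀ x : RingHom.ker (algebraMap B C), f (D A B (x : B)) =
        (1 : R') ⊗ₜ[B] (RingHom.ker (algebraMap B C)).toCotangent x := by
      intro x
      change (tensorEquivQuot hsurj _).symm (ρ (D A B (x : B))) = _
      rw [hρ x, LinearEquiv.symm_apply_eq, tensorEquivQuot_one_tmul]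
    let g₀ : C ⊗[B] Ω[B⁄A] →ₗ[C] R' ⊗[B] (RingHom.ker (algebraMap B C)).Cotangent :=
      LinearMap.liftBaseChange C f
    refine ⟨LinearMap.liftBaseChange R' (g₀.restrictScalars B), ?_⟩
    apply TensorProduct.AlgebraTensorModule.ext
    intro r n
    obtain ⟨x, rfl⟩ := (RingHom.ker (algebraMap B C)).toCotangent_surjective n
    rw [LinearMap.comp_apply, LinearMap.baseChange_tmul,
      KaehlerDifferential.kerCotangentToTensor_toCotangent, LinearMap.liftBaseChange_tmul,
      LinearMap.id_apply]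
    change r • LinearMap.liftBaseChange C f ((1 : C) ⊗ₜ[B] D A B (x : B)) = _
    rw [LinearMap.liftBaseChange_tmul, one_smul, hf x, TensorProduct.smul_tmul', smul_eq_mul,
      mul_one]

end

end Groth.Agent.Helper9.JacCrit
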