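import Mathlib
import Groth.Agent.Lib.Helper9.JacCrit4

/-!
# Kernel of the conormal map in characteristic `p` (EGA 0_IV 20.6.? / 22.2)
If `C = A/𝔎` has characteristic `p` and is formally smooth over `Λ/pΛ`, then the kernel of
`𝔎/𝔎² → Ω_{A/Λ} ⊗ C` is generated by the class of `p`.
-/

set_option autoImplicit false
universe u

namespace Groth.Agent.Helper9.ConormalP

open TensorProduct KaehlerDifferential

theorem mem_sq_sup_span_of_tmul_D_eq_zero {Λ A C : Type u} [CommRing Λ] [CommRing A]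
    [CommRing C] [Algebra Λ A] [Algebra A C] [Algebra Λ C] [IsScalarTower Λ A C]
    (hsurj : Function.Surjective (algebraMap A C)) (p : ℕ)
    [Algebra (Λ ⧸ Ideal.span {(p : Λ)}) C] [IsScalarTower Λ (Λ ⧸ Ideal.span {(p : Λ)}) C]
    [Algebra.FormallySmooth (Λ ⧸ Ideal.span {(p : Λ)}) C]
    (hp : (p : A) ∈ RingHom.ker (algebraMap A C)) (y : A)
    (hy : y ∈ RingHom.ker (algebraMap A C))
    (h0 : (1 : C) ⊗ₜ[A] D Λ A y = 0) :
    y ∈ RingHom.ker (algebraMap A C) ^ 2 ⊔ Ideal.span {(p : A)} := by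
  obtain ⟨𝔎, h𝔎⟩ : ∃ 𝔎 : Ideal A, 𝔎 = RingHom.ker (algebraMap A C) := ⟨_, rfl⟩
  rw [← h𝔎] at hp hy ⊢
  have hmem𝔎 : ∀ a, a ∈ 𝔎 ↔ algebraMap A C a = 0 := fun a => by rw [h𝔎, RingHom.mem_ker]
  obtain ⟨𝔗, h𝔗⟩ : ∃ 𝔗 : Ideal A, 𝔗 = 𝔎 ^ 2 ⊔ Ideal.span {(p : A)} := ⟨_, rfl⟩
  rw [← h𝔗]
  have h𝔗𝔎 : 𝔗 ≤ 𝔎 := by
    rw [h𝔗]
    exact sup_le (Ideal.pow_le_self two_ne_zero) ((Ideal.span_singleton_le_iff_mem _).mpr hp)
  have hp𝔗 : (p : A) ∈ 𝔗 := by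
    rw [h𝔗]; exact Ideal.mem_sup_right (Ideal.subset_span rfl)
  have hsq𝔗 : 𝔎 ^ 2 ≤ 𝔗 := by rw [h𝔗]; exact le_sup_left
  have hpΛ : ∀ l ∈ Ideal.span {(p : Λ)}, algebraMap Λ (A ⧸ 𝔗) l = 0 := by
    intro l hl
    obtain ⟨c, rfl⟩ := Ideal.mem_span_singleton'.mp hl
    have : ((p : ℕ) : A ⧸ 𝔗) = 0 := by
      rw [← map_natCast (Ideal.Quotient.mk 𝔗)]
      exact Ideal.Quotient.eq_zero_iff_mem.mpr hp𝔗
    rw [map_mul, map_natCast, this, mul_zero]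
  letI algA' : Algebra (Λ ⧸ Ideal.span {(p : Λ)}) (A ⧸ 𝔗) :=
    (Ideal.Quotient.lift _ (algebraMap Λ (A ⧸ 𝔗)) hpΛ).toAlgebra
  haveI : IsScalarTower Λ (Λ ⧸ Ideal.span {(p : Λ)}) (A ⧸ 𝔗) :=
    IsScalarTower.of_algebraMap_eq (fun _ => rfl)
  let g₀ : A ⧸ 𝔗 →+* C := Ideal.Quotient.lift 𝔗 (algebraMap A C)
    (fun a ha => (hmem𝔎 a).mp (h𝔗𝔎 ha))
  have hg₀ : ∀ a, g₀ (Ideal.Quotient.mk 𝔗 a) = algebraMap A C a := fun a => rfl
  let g : A ⧸ 𝔗 →ₐ[Λ ⧸ Ideal.span {(p : Λ)}] C :=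
    { g₀ with
      commutes' := by
        intro r
        obtain ⟨l, rfl⟩ := Ideal.Quotient.mk_surjective r
        change g₀ (Ideal.Quotient.mk 𝔗 (algebraMap Λ A l)) =
          algebraMap (Λ ⧸ Ideal.span {(p : Λ)}) C (algebraMap Λ (Λ ⧸ Ideal.span {(p : Λ)}) l)
        rw [hg₀, ← IsScalarTower.algebraMap_apply, ← IsScalarTower.algebraMap_apply] }
  have hg : ∀ a, g (Ideal.Quotient.mk 𝔗 a) = algebraMap A C a := fun a => rfl
  have hgsurj : Function.Surjective g := by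
    intro c
    obtain ⟨a, rfl⟩ := hsurj c
    exact ⟨Ideal.Quotient.mk 𝔗 a, rfl⟩
  have hI : RingHom.ker (g : A ⧸ 𝔗 →+* C) ^ 2 = ⊥ := by
    have h1 : RingHom.ker (g : A ⧸ 𝔗 →+* C) ≤ 𝔎.map (Ideal.Quotient.mk 𝔗) := by
      intro x hx
      obtain ⟨a, rfl⟩ := Ideal.Quotient.mk_surjective x
      rw [RingHom.mem_ker] at hx
      exact Ideal.mem_map_of_mem _ ((hmem𝔎 a).mpr hx)
    rw [eq_bot_iff]
    refine le_trans (Ideal.pow_right_mono h1 2) ?_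
    rw [← Ideal.map_pow, Ideal.map_le_iff_le_comap]
    intro a ha
    rw [Ideal.mem_comap, Ideal.mem_bot]
    exact Ideal.Quotient.eq_zero_iff_mem.mpr (hsq𝔗 ha)
  let s : C →ₐ[Λ ⧸ Ideal.span {(p : Λ)}] A ⧸ 𝔗 :=
    Algebra.FormallySmooth.liftOfSurjective (AlgHom.id _ C) g hgsurj ⟨2, hI⟩
  have hs : ∀ c, g (s c) = c := fun c =>
    Algebra.FormallySmooth.liftOfSurjective_apply (AlgHom.id _ C) g hgsurj ⟨2, hI⟩ c
  let f : A →ₐ[Λ] A ⧸ 𝔗 := (s.restrictScalars Λ).comp (IsScalarTower.toAlgHom Λ A C)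
  have hf : ∀ a, f a = s (algebraMap A C a) := fun a => rfl
  have e : (Ideal.Quotient.mkₐ Λ (RingHom.ker (g : A ⧸ 𝔗 →+* C))).comp f =
      IsScalarTower.toAlgHom Λ A ((A ⧸ 𝔗) ⧸ RingHom.ker (g : A ⧸ 𝔗 →+* C)) := by
    ext a
    change Ideal.Quotient.mk _ (f a) = Ideal.Quotient.mk _ (Ideal.Quotient.mk 𝔗 a)
    rw [Ideal.Quotient.eq, RingHom.mem_ker, map_sub]
    change g (f a) - g (Ideal.Quotient.mk 𝔗 a) = 0
    rw [hf, hs, hg, sub_self]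
  let D₁ : Derivation Λ A (RingHom.ker (g : A ⧸ 𝔗 →+* C)) :=
    derivationToSquareZeroOfLift _ hI f e
  have hD₁ : ∀ a, ((D₁ a : RingHom.ker (g : A ⧸ 𝔗 →+* C)) : A ⧸ 𝔗) =
      f a - Ideal.Quotient.mk 𝔗 a := fun a => rfl
  have hsurj' : Function.Surjective (Algebra.ofId A C) := hsurj
  have h1 : D Λ A y ∈ (RingHom.ker (Algebra.ofId A C) • ⊤ : Submodule A Ω[A⁄Λ]) := by
    have := Groth.Agent.Helper9.JacCrit.tensorEquivQuot_one_tmul hsurj' Ω[A⁄Λ] (D Λ A y)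
    rw [h0, map_zero] at this
    exact (Submodule.Quotient.mk_eq_zero _).mp this.symm
  have h2 := Groth.Agent.Helper9.JacCrit.mem_smul_top_of_mem D₁.liftKaehlerDifferential _ h1
  rw [Derivation.liftKaehlerDifferential_comp_D] at h2
  have h3 : (RingHom.ker (Algebra.ofId A C) • ⊤ :
      Submodule A (RingHom.ker (g : A ⧸ 𝔗 →+* C))) ≤ ⊥ := by
    rw [Submodule.smul_le]
    intro a ha i _
    rw [Submodule.mem_bot]
    apply Subtype.ext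
    change a • (i : A ⧸ 𝔗) = 0
    have hai : Ideal.Quotient.mk 𝔗 a * (i : A ⧸ 𝔗) ∈ RingHom.ker (g : A ⧸ 𝔗 →+* C) ^ 2 := by
      rw [sq]
      refine Ideal.mul_mem_mul ?_ i.2
      rw [RingHom.mem_ker]
      exact ha
    rw [hI] at hai
    rw [Algebra.smul_def]
    exact hai
  have h4 : D₁ y = 0 := (Submodule.mem_bot A).mp (h3 h2)
  have h5 := hD₁ y
  rw [h4, hf, (hmem𝔎 y).mp hy, map_zero, zero_sub] at h5
  have h6 : Ideal.Quotient.mk 𝔗 y = 0 := by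
    have := congrArg Neg.neg h5
    rw [neg_neg] at this
    rw [← this]
    simp
  exact Ideal.Quotient.eq_zero_iff_mem.mp h6

end Groth.Agent.Helper9.ConormalP
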