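import Mathlib
import Groth.Prelude.Def_CAlg
import Groth.Agent.Lib.Helper9.Depth4

set_option autoImplicit false
set_option linter.style.haveILetI false
set_option linter.unusedSectionVars false

universe u

namespace Groth.Agent.Helper9.Depth

open RingTheory.Sequence IsLocalRing

variable {A : Type u} [CommRing A] [IsLocalRing A] [IsNoetherianRing A]

theorem isCM_of_forall_unmixed (d : ℕ) :
    ∀ (M : Type u) [AddCommGroup M] [Module A M] [Module.Finite A M] [Nontrivial M],
      Module.supportDim A M = d →
      (∀ xs : List A, (∀ x ∈ xs, x ∈ maximalIdeal A) →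
        Module.supportDim A (M ⧸ (Ideal.ofList xs • (⊤ : Submodule A M))) + xs.length =
            Module.supportDim A M →
          ∀ p ∈ associatedPrimes A (M ⧸ (Ideal.ofList xs • (⊤ : Submodule A M))),
            ringKrullDim (A ⧸ p) =
              Module.supportDim A (M ⧸ (Ideal.ofList xs • (⊤ : Submodule A M)))) →
      LocCoh.IsCohenMacaulayModule A M := by
  induction d with
  | zero =>
    intro M _ _ _ _ hd _
    obtain ⟨e, he⟩ := exists_depth_eq_nat (A := A) (M := M)
    have h1 := depth_le_supportDim (A := A) (M := M)
    unfold LocCoh.IsCohenMacaulayModule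
    rw [hd, he] at h1 ⊢
    have : e ≤ 0 := by exact_mod_cast h1
    have : e = 0 := by omega
    rw [this]; rfl
  | succ k ih =>
    intro M _ _ _ _ hd h
    -- the equivalence M ≃ M / ([] M)
    have hbot : Ideal.ofList ([] : List A) • (⊤ : Submodule A M) = ⊥ := by
      rw [Ideal.ofList_nil, Submodule.bot_smul]
    let e0 : (M ⧸ (Ideal.ofList ([] : List A) • (⊤ : Submodule A M))) ≃ₗ[A] M :=
      Submodule.quotEquivOfEqBot _ hbot
    have h0 := h [] (by simp) (by simpa using Module.supportDim_eq_of_equiv e0)
    -- depth ≠ 0
    have hdepth : LocCoh.depth A M ≠ 0 := by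
      intro h00
      rw [depth_eq_zero_iff_mem_associatedPrimes] at h00
      rw [← LinearEquiv.AssociatedPrimes.eq e0] at h00
      have h1 := h0 _ h00
      rw [Module.supportDim_eq_of_equiv e0, hd,
        ringKrullDim_eq_zero_of_isField
          ((Ideal.Quotient.maximal_ideal_iff_isField_quotient _).1 (maximalIdeal.isMaximal A))] at h1
      have : (0 : ℕ) = k + 1 := by exact_mod_cast h1
      omega
    obtain ⟨n, hn⟩ := exists_depth_eq_nat (A := A) (M := M)
    have hn1 : 1 ≤ n := by
      rcases Nat.eq_zero_or_pos n with h | h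
      · exact absurd (by rw [hn, h]; rfl) hdepth
      · exact h
    obtain ⟨rs, hlen, hreg, hmem⟩ := exists_of_le_depth (M := M) 1 (by
      rw [hn]; exact_mod_cast hn1)
    obtain ⟨x, rfl⟩ := List.length_eq_one_iff.mp hlen
    have hxreg : IsSMulRegular M x := (isWeaklyRegular_singleton_iff M x).mp hreg
    have hxm : x ∈ maximalIdeal A := hmem x (by simp)
    haveI : Nontrivial (QuotSMulTop x M) := nontrivial_quotSMulTop_of_mem_maximalIdeal M hxm
    have hdq := depth_quotSMulTop_succ hxm hxreg
    have hsq := Module.supportDim_quotSMulTop_succ_eq_supportDim hxreg hxm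
    obtain ⟨b, hb⟩ := exists_supportDim_eq_nat (A := A) (QuotSMulTop x M)
    have hbk : b = k := by
      rw [hb, hd] at hsq
      have : b + 1 = k + 1 := by exact_mod_cast hsq
      omega
    have hQ : LocCoh.IsCohenMacaulayModule A (QuotSMulTop x M) := by
      refine ih (QuotSMulTop x M) (by rw [hb, hbk]) ?_
      intro ys hys hdim p hp
      let e := Submodule.quotOfListConsSMulTopEquivQuotSMulTopInner M x ys
      have hmem' : ∀ y ∈ x :: ys, y ∈ maximalIdeal A := by
        intro y hy
        rcases List.mem_cons.1 hy with rfl | hy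
        · exact hxm
        · exact hys y hy
      have hdim' : Module.supportDim A (M ⧸ (Ideal.ofList (x :: ys) • (⊤ : Submodule A M))) +
          (x :: ys).length = Module.supportDim A M := by
        rw [Module.supportDim_eq_of_equiv e, ← hsq, ← hdim, List.length_cons]
        push_cast
        rw [add_assoc]
      have h2 := h (x :: ys) hmem' hdim' p (by rw [LinearEquiv.AssociatedPrimes.eq e]; exact hp)
      rw [h2, Module.supportDim_eq_of_equiv e]
    unfold LocCoh.IsCohenMacaulayModule at hQ ⊢
    rw [← hsq, ← hdq, hQ]
    rfl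

end Groth.Agent.Helper9.Depth
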