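import Mathlib

/-!
# (U1) for helper14's S5318: if the unit section of an `S`-group is an open immersion, so is its diagonal

The diagonal of a group object `G` is the base change of the unit along `(fst)⁻¹ * snd : G ⊗ G ⟶ G`.
Mathlib only.
-/

set_option autoImplicit false
universe u
open CategoryTheory CategoryTheory.Limits MonoidalCategory CartesianMonoidalCategory MonObj GrpObj
  AlgebraicGeometry

namespace Groth.Agent.Helper9.DiagOfUnit

section General

variable {C : Type*} [Category C] [CartesianMonoidalCategory C]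

/-- In a cartesian monoidal category, the diagonal of a group object `G` is the base change of the
unit `η : 𝟙_ ⟶ G` along `(fst)⁻¹ * snd : G ⊗ G ⟶ G`. -/
theorem isPullback_diag (G : C) [GrpObj G] :
    IsPullback (toUnit G) (lift (𝟙 G) (𝟙 G)) η[G] ((fst G G)⁻¹ * snd G G) := by
  have w : toUnit G ≫ η[G] = lift (𝟙 G) (𝟙 G) ≫ ((fst G G)⁻¹ * snd G G) := by
    rw [MonObj.comp_mul, GrpObj.comp_inv, lift_fst, lift_snd, inv_mul_cancel, Hom.one_def]
  refine ⟨⟨w⟩, ⟨PullbackCone.IsLimit.mk w (fun s => s.snd ≫ fst G G) ?_ ?_ ?_⟩⟩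
  · intro s
    exact toUnit_unique _ _
  · intro s
    have h0 : s.snd ≫ ((fst G G)⁻¹ * snd G G) = 1 := by
      rw [← s.condition, Hom.one_def]
      exact congrArg (fun t => t ≫ η[G]) (toUnit_unique _ _)
    have h1 : (s.snd ≫ fst G G)⁻¹ * (s.snd ≫ snd G G) = 1 := by
      rwa [MonObj.comp_mul, GrpObj.comp_inv] at h0
    have h2 : s.snd ≫ fst G G = s.snd ≫ snd G G := inv_mul_eq_one.mp h1
    apply CartesianMonoidalCategory.hom_ext
    · simp
    · simpa using h2
  · intro s m h1 h2
    rw [← h2]
    simp

end General

/-- (U1) If the unit section of an `S`-group scheme `G` is an open immersion, then the diagonal of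
`G ⟶ S` is an open immersion. -/
theorem diag_of_unit {S : Scheme.{u}} (G : Over S) [GrpObj G] (h : IsOpenImmersion η[G].left) :
    IsOpenImmersion (pullback.diagonal G.hom) := by
  have sq := (isPullback_diag G).map (Over.forget S)
  simp only [Over.forget_map] at sq
  have key : IsOpenImmersion (lift (𝟙 G) (𝟙 G)).left :=
    MorphismProperty.of_isPullback (P := @IsOpenImmersion) sq h
  exact key

end Groth.Agent.Helper9.DiagOfUnit
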