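import Mathlib
import Groth.Agent.Lib.Helper9.DeltaIso

/-!
# Central endomorphisms and right derived functors (helper9)

`rightDerived_map_central`: if `c : 𝟭 A ⟶ 𝟭 A` and `c' : 𝟭 B ⟶ 𝟭 B` are natural endomorphisms of
the identity functors with `G (c_M) = c'_{G M}` for a left exact additive functor `G : A ⥤ B`, then
`(RⁿG) (c_M) = c'_{RⁿG M}` for all `n`.
-/

universe v v' u u'
open CategoryTheory CategoryTheory.Limits

namespace Groth.Agent.Helper9.LcDepth

variable {A : Type u} [Category.{v} A] [Abelian A] [EnoughInjectives A]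
  {B : Type u'} [Category.{v'} B] [Abelian B]

open DeltaF

/-- the endomorphism of a δ-functor induced by a central endomorphism of the source. -/
noncomputable def srcEnd (T : CohDeltaFunctor A B ℕ) (c : 𝟭 A ⟶ 𝟭 A) : T ⟶ T where
  app n :=
    { app := fun M => (T.F n).map (c.app M)
      naturality := fun M N g => by
        rw [← Functor.map_comp, ← Functor.map_comp]
        congr 1
        exact c.naturality g }
  comm S hS n₀ n₁ h := by
    let φ : S ⟶ S :=
      { τ₁ := c.app S.X₁
        τ₂ := c.app S.X₂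
        τ₃ := c.app S.X₃
        comm₁₂ := (c.naturality S.f).symm
        comm₂₃ := (c.naturality S.g).symm }
    exact (T.δ_natural hS hS φ n₀ n₁ h).symm

/-- the endomorphism of a δ-functor induced by a central endomorphism of the target. -/
noncomputable def tgtEnd (T : CohDeltaFunctor A B ℕ) (c' : 𝟭 B ⟶ 𝟭 B) : T ⟶ T where
  app n :=
    { app := fun M => c'.app ((T.F n).obj M)
      naturality := fun M N g => c'.naturality ((T.F n).map g) }
  comm S hS n₀ n₁ h := c'.naturality (T.δ S hS n₀ n₁ h)

theorem rightDerived_map_central (G : A ⥤ B) [G.Additive] [PreservesFiniteLimits G]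
    (c : 𝟭 A ⟶ 𝟭 A) (c' : 𝟭 B ⟶ 𝟭 B) (h0 : ∀ M : A, G.map (c.app M) = c'.app (G.obj M))
    (n : ℕ) (M : A) :
    (G.rightDerived n).map (c.app M) = c'.app ((G.rightDerived n).obj M) := by
  let T := Groth.Agent.Helper9.DeltaIso.rDelta G
  have hU : T.IsUniversal := Groth.Agent.S6773.result T
    ((Groth.Agent.S14349.result T).2
      (fun n I _ => Functor.isZero_rightDerived_obj_injective_succ G n I))
  have h00 : (srcEnd T c).app 0 = (tgtEnd T c').app 0 := by
    ext M
    change (G.rightDerived 0).map (c.app M) = c'.app ((G.rightDerived 0).obj M)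
    have e1 : (G.rightDerived 0).map (c.app M) ≫ G.rightDerivedZeroIsoSelf.hom.app M =
        G.rightDerivedZeroIsoSelf.hom.app M ≫ G.map (c.app M) :=
      G.rightDerivedZeroIsoSelf.hom.naturality (c.app M)
    have e2 : G.rightDerivedZeroIsoSelf.hom.app M ≫ c'.app (G.obj M) =
        c'.app ((G.rightDerived 0).obj M) ≫ G.rightDerivedZeroIsoSelf.hom.app M :=
      c'.naturality (G.rightDerivedZeroIsoSelf.hom.app M)
    haveI : IsIso (G.rightDerivedZeroIsoSelf.hom.app M) :=
      inferInstanceAs (IsIso (G.rightDerivedZeroIsoSelf.app M).hom)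
    apply (cancel_mono (G.rightDerivedZeroIsoSelf.hom.app M)).1
    rw [e1, h0]
    exact e2
  obtain ⟨τ, _, huniq⟩ := hU T ((srcEnd T c).app 0)
  have h1 : srcEnd T c = τ := huniq _ rfl
  have h2 : tgtEnd T c' = τ := huniq _ h00.symm
  have h3 : srcEnd T c = tgtEnd T c' := h1.trans h2.symm
  have h4 := congrArg (fun σ : T ⟶ T => (σ.app n).app M) h3
  exact h4

end Groth.Agent.Helper9.LcDepth
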