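import Mathlib
import Groth.Prelude.Def_DCoh3
import Groth.Prelude.Def_CxOX
import Groth.Agent.Lib.Helper9.OpenAdj5
import Groth.Agent.Lib.Helper24.RFQc7
import Groth.Agent.Lib.Helper13.KerSec
import Groth.Agent.Lib.Helper13.QCoh
import Groth.Agent.Lib.Helper13.QCohKer
import Groth.Agent.S6593

/-!
# `RΓ_Z` commutes with direct sums on `D_QCoh` (helper9)

* `kerIso`: two morphisms out of the same object killing each other's kernels have isomorphic kernels;
* `gammaZIso j t h : DCoh.gammaZ j ≅ DCoh.gammaZ t` for open immersions `j`, `t` with the same range;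
* `RgammaZIso j t h : CxOX.RgammaZ j ≅ CxOX.RgammaZ t`;
* `main_T`, `main`: `∐ RΓ_Z(E i) ⟶ RΓ_Z(∐ E i)` is an isomorphism for `E i ∈ D_QCoh` and `j` quasi-compact.
-/

set_option autoImplicit false
universe u
open CategoryTheory CategoryTheory.Limits TopologicalSpace AlgebraicGeometry Opposite Pretriangulated

attribute [local instance] HasDerivedCategory.standard

namespace Groth.Agent.Helper9.GammaZSum

open Groth.Agent.Helper9.OpenAdj Groth.Agent.Helper9.OpenAdj2 Groth.Agent.Helper9.OpenAdj3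
  Groth.Agent.Helper9.OpenAdj5

section Abstract

variable {C : Type*} [Category C] [HasZeroMorphisms C] {A B B' : C} (f : A ⟶ B) (g : A ⟶ B')
  [HasKernel f] [HasKernel g]

/-- kernels of two morphisms killing each other's kernels are isomorphic -/
noncomputable def kerIso (h1 : kernel.ι f ≫ g = 0) (h2 : kernel.ι g ≫ f = 0) : kernel f ≅ kernel g where
  hom := kernel.lift g (kernel.ι f) h1
  inv := kernel.lift f (kernel.ι g) h2
  hom_inv_id := by rw [← cancel_mono (kernel.ι f)]; simp
  inv_hom_id := by rw [← cancel_mono (kernel.ι g)]; simp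

lemma kerIso_hom_ι (h1 : kernel.ι f ≫ g = 0) (h2 : kernel.ι g ≫ f = 0) :
    (kerIso f g h1 h2).hom ≫ kernel.ι g = kernel.ι f := kernel.lift_ι _ _ _

/-- a natural isomorphism of additive functors induces one on homotopy categories -/
noncomputable def mapHomotopyCategoryIso {V W : Type*} [Category V] [Preadditive V] [Category W]
    [Preadditive W] {ι : Type*} {F G : V ⥤ W} [F.Additive] [G.Additive] (e : F ≅ G)
    (c : ComplexShape ι) : F.mapHomotopyCategory c ≅ G.mapHomotopyCategory c where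
  hom := NatTrans.mapHomotopyCategory e.hom c
  inv := NatTrans.mapHomotopyCategory e.inv c
  hom_inv_id := by
    rw [← NatTrans.mapHomotopyCategory_comp, e.hom_inv_id, NatTrans.mapHomotopyCategory_id]
  inv_hom_id := by
    rw [← NatTrans.mapHomotopyCategory_comp, e.inv_hom_id, NatTrans.mapHomotopyCategory_id]

end Abstract

section Iso

variable {U T X : Scheme.{u}} (j : U ⟶ X) (t : T ⟶ X) [IsOpenImmersion j] [IsOpenImmersion t]

lemma ι_comp_unit_of_range_eq (h : j.opensRange = t.opensRange) (F : X.Modules) :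
    kernel.ι ((Scheme.Modules.restrictAdjunction j).unit.app F) ≫
      (Scheme.Modules.restrictAdjunction t).unit.app F = 0 := by
  apply Scheme.Modules.hom_ext
  intro V
  ext k
  have e : t ''ᵁ t ⁻¹ᵁ V = j ''ᵁ j ⁻¹ᵁ V := by
    rw [t.image_preimage_eq_opensRange_inf, j.image_preimage_eq_opensRange_inf, h]
  have h1 : F.presheaf.map (homOfLE (j.image_preimage_le V)).op
      ((kernel.ι ((Scheme.Modules.restrictAdjunction j).unit.app F)).app V k) = 0 :=
    Groth.Agent.Helper13.KerSec.kernel_ι_app_comp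
      ((Scheme.Modules.restrictAdjunction j).unit.app F) V k
  have h2 := Groth.Agent.Helper13.QCoh.map_map_eq F (homOfLE (j.image_preimage_le V)).op
    (eqToHom e).op (homOfLE (t.image_preimage_le V)).op
    ((kernel.ι ((Scheme.Modules.restrictAdjunction j).unit.app F)).app V k)
  rw [h1, map_zero] at h2
  exact h2.symm

/-- `Γ_Z` only depends on the range of the open immersion (objectwise) -/
noncomputable def gammaZIsoApp (h : j.opensRange = t.opensRange) (F : X.Modules) :
    (DCoh.gammaZ j).obj F ≅ (DCoh.gammaZ t).obj F :=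
  kerIso ((Scheme.Modules.restrictAdjunction j).unit.app F)
    ((Scheme.Modules.restrictAdjunction t).unit.app F)
    (ι_comp_unit_of_range_eq j t h F) (ι_comp_unit_of_range_eq t j h.symm F)

lemma gammaZIsoApp_hom_ι (h : j.opensRange = t.opensRange) (F : X.Modules) :
    (gammaZIsoApp j t h F).hom ≫ (CxOX.gammaZι t).app F = (CxOX.gammaZι j).app F :=
  kerIso_hom_ι _ _ _ _

/-- `Γ_Z` only depends on the range of the open immersion -/
noncomputable def gammaZIso (h : j.opensRange = t.opensRange) : DCoh.gammaZ j ≅ DCoh.gammaZ t :=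
  NatIso.ofComponents (fun F => gammaZIsoApp j t h F) (by
    intro F G f
    have e1 := gammaZIsoApp_hom_ι j t h G
    have e2 := gammaZIsoApp_hom_ι j t h F
    have n1 : (DCoh.gammaZ j).map f ≫ (CxOX.gammaZι j).app G = (CxOX.gammaZι j).app F ≫ f :=
      (CxOX.gammaZι j).naturality f
    have n2 : (DCoh.gammaZ t).map f ≫ (CxOX.gammaZι t).app G = (CxOX.gammaZι t).app F ≫ f :=
      (CxOX.gammaZι t).naturality f
    haveI : Mono ((CxOX.gammaZι t).app G) := Groth.Agent.Helper9.LocCohQC.mono_ι_app t G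
    apply (cancel_mono ((CxOX.gammaZι t).app G)).1
    rw [Category.assoc, e1, n1, Category.assoc, n2, ← Category.assoc, e2])

/-- `RΓ_Z` only depends on the range of the open immersion -/
noncomputable def RgammaZIso (h : j.opensRange = t.opensRange) [CxOX.HasRgammaZ j]
    [CxOX.HasRgammaZ t] : CxOX.RgammaZ j ≅ CxOX.RgammaZ t :=
  Functor.rightDerivedNatIso (CxOX.RgammaZ j) (CxOX.RgammaZ t)
    ((CxOX.gammaZKh j).totalRightDerivedUnit DerivedCategory.Qh
      (HomotopyCategory.quasiIso X.Modules (ComplexShape.up ℤ)))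
    ((CxOX.gammaZKh t).totalRightDerivedUnit DerivedCategory.Qh
      (HomotopyCategory.quasiIso X.Modules (ComplexShape.up ℤ)))
    (HomotopyCategory.quasiIso X.Modules (ComplexShape.up ℤ))
    (Functor.isoWhiskerRight (mapHomotopyCategoryIso (gammaZIso j t h) (ComplexShape.up ℤ))
      DerivedCategory.Qh)

end Iso

section Main

variable {X : Scheme.{u}}

lemma isQCohD_of_iso {K K' : DCoh.D X} (e : K ≅ K') (h : DCoh.IsQCohD K) : DCoh.IsQCohD K' := by
  intro i
  haveI : (DCoh.HD K i).IsQuasicoherent := h i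
  exact Groth.Agent.Helper13.QCohLocal.isQuasicoherent_of_iso
    ((DerivedCategory.homologyFunctor X.Modules i).mapIso e)

/-- `RΓ_Z` commutes with direct sums on `D_QCoh`, for `Z` the complement of a retrocompact open `T` -/
theorem main_T (T : X.Opens) [QuasiCompact T.ι] [CxOX.HasRgammaZ T.ι]
    {ι : Type u} (E : ι → DCoh.D X) (hE : ∀ i, DCoh.IsQCohD (E i)) :
    IsIso (Sigma.desc (fun i => (CxOX.RgammaZ T.ι).map (Sigma.ι E i))) := by
  haveI : DCoh.HasRpush T.ι := Groth.Agent.Helper11.KI.hasRightDerivedFunctor (DCoh.pushKh T.ι)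
  obtain ⟨adj⟩ := nonempty_adjD T.ι
  haveI := isIso_counit T.ι adj
  haveI : PreservesColimitsOfSize.{u, u} (DCoh.restrictD T.ι) := adj.leftAdjoint_preservesColimits
  have hex := fun i => exists_triangle T (E i)
  choose E' u d hT using hex
  have hE' : ∀ i, DCoh.IsQCohD (E' i) := by
    intro i
    have hd := (DCoh.restrictD T.ι).map_distinguished _ (hT i)
    have hz : IsZero ((DCoh.restrictD T.ι).obj ((CxOX.RgammaZ T.ι).obj (E i))) :=
      isZero_restrictD_RgammaZ T.ι (E i)
    haveI hiso : IsIso ((DCoh.restrictD T.ι).map (u i)) :=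
      (Triangle.isZero₁_iff_isIso₂ _ hd).1 hz
    exact isQCohD_of_iso
      (asIso ((DCoh.restrictD T.ι).map (u i)) ≪≫ asIso (adj.counit.app (E' i)))
      (isQCohD_restrictD T.ι (E i) (hE i))
  haveI hS : IsIso (Sigma.desc (fun i => (DCoh.Rpush T.ι).map (Sigma.ι E' i))) :=
    Groth.Agent.Helper24.RFQc.isIso_sigmaDesc_Rpush_general T.ι E' hE'
  have hSig := Groth.Agent.S6593.result
    (fun i => Triangle.mk ((CxOX.RgammaZToId T.ι).app (E i)) (u i) (d i)) hT
  obtain ⟨E'', u₂, d₂, hT₂⟩ := exists_triangle T (∐ E)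
  have hA : (N T.ι) (∐ fun i => (CxOX.RgammaZ T.ι).obj (E i)) := by
    show IsZero ((DCoh.restrictD T.ι).obj (∐ fun i => (CxOX.RgammaZ T.ι).obj (E i)))
    have hc := isColimitCofanMkObjOfIsColimit (DCoh.restrictD T.ι) _ _
      (coproductIsCoproduct (fun i => (CxOX.RgammaZ T.ι).obj (E i)))
    rw [IsZero.iff_id_eq_zero]
    exact Cofan.IsColimit.hom_ext hc _ _
      (fun i => (isZero_restrictD_RgammaZ T.ι (E i)).eq_of_src _ _)
  have hR : (N T.ι) ((CxOX.RgammaZ T.ι).obj (∐ E)) := isZero_restrictD_RgammaZ T.ι (∐ E)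
  have hQ₁ : (N T.ι).rightOrthogonal (∐ fun i => (DCoh.Rpush T.ι).obj (E' i)) :=
    (N T.ι).rightOrthogonal.prop_of_iso
      (asIso (Sigma.desc (fun i => (DCoh.Rpush T.ι).map (Sigma.ι E' i)))).symm
      (rightOrthogonal_Rpush T.ι (∐ E'))
  have hQ₂ := rightOrthogonal_Rpush T.ι E''
  have key := colocal_unique (N T.ι) hSig hT₂ hA hR hQ₁ hQ₂
  have hα : Sigma.desc (fun i => (CxOX.RgammaZ T.ι).map (Sigma.ι E i)) ≫
      (CxOX.RgammaZToId T.ι).app (∐ E) =
      (Limits.Sigma.map (fun i => ((CxOX.RgammaZToId T.ι).app (E i) :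
        (CxOX.RgammaZ T.ι).obj (E i) ⟶ E i)) :
        (∐ fun i => (CxOX.RgammaZ T.ι).obj (E i)) ⟶ ∐ E) := by
    refine Sigma.hom_ext _ _ (fun i => ?_)
    rw [Sigma.ι_desc_assoc, Sigma.ι_map]
    exact (CxOX.RgammaZToId T.ι).naturality (Sigma.ι E i)
  exact key.2 _ hα

/-- `RΓ_Z` commutes with direct sums on `D_QCoh`, for `Z` the complement of a quasi-compact open
immersion -/
theorem main {U : Scheme.{u}} (j : U ⟶ X) [IsOpenImmersion j] [QuasiCompact j]
    [CxOX.HasRgammaZ j] {ι : Type u} (E : ι → DCoh.D X) (hE : ∀ i, DCoh.IsQCohD (E i))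
    [HasCoproduct E] [HasCoproduct (fun i => (CxOX.RgammaZ j).obj (E i))] :
    IsIso (Sigma.desc (fun i => (CxOX.RgammaZ j).map (Sigma.ι E i))) := by
  haveI : QuasiCompact j.opensRange.ι := by
    have e := j.isoOpensRange_inv_comp
    rw [← e]
    infer_instance
  haveI : CxOX.HasRgammaZ j.opensRange.ι :=
    Groth.Agent.Helper11.KI.hasRightDerivedFunctor (CxOX.gammaZKh j.opensRange.ι)
  haveI hT := main_T j.opensRange E hE
  have hr : j.opensRange = j.opensRange.ι.opensRange := (Scheme.Opens.opensRange_ι _).symm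
  obtain ⟨φ, -⟩ : ∃ φ : CxOX.RgammaZ j ≅ CxOX.RgammaZ j.opensRange.ι, True :=
    ⟨RgammaZIso j j.opensRange.ι hr, trivial⟩
  have key : Sigma.desc (fun i => (CxOX.RgammaZ j).map (Sigma.ι E i)) ≫ φ.hom.app (∐ E) =
      Limits.Sigma.map (fun i => φ.hom.app (E i)) ≫
        Sigma.desc (fun i => (CxOX.RgammaZ j.opensRange.ι).map (Sigma.ι E i)) := by
    refine Sigma.hom_ext _ _ (fun i => ?_)
    rw [Sigma.ι_desc_assoc, Sigma.ι_map_assoc, Sigma.ι_desc]
    exact φ.hom.naturality (Sigma.ι E i)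
  haveI : IsIso (Limits.Sigma.map (fun i => φ.hom.app (E i))) :=
    ⟨⟨Limits.Sigma.map (fun i => φ.inv.app (E i)),
      Sigma.hom_ext _ _ (fun i => by simp), Sigma.hom_ext _ _ (fun i => by simp)⟩⟩
  have h2 : IsIso (Sigma.desc (fun i => (CxOX.RgammaZ j).map (Sigma.ι E i)) ≫
      φ.hom.app (∐ E)) := by
    rw [key]; infer_instance
  exact IsIso.of_isIso_comp_right _ (φ.hom.app (∐ E))

end Main

end Groth.Agent.Helper9.GammaZSum
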