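import Mathlib
import Groth.Agent.Lib.Helper24.LC6
import Groth.Agent.Lib.Helper17.IR1
import Groth.Agent.Lib.Helper9.GammaZSum
import Groth.Agent.Lib.Helper14.IdealMulA
import Groth.Agent.Lib.Helper13.QCohStalk
import Groth.Agent.S6023

/-!
# Local cohomology sheaves: modules versus abelian sheaves, and restriction to opens (helper9)

* `nonempty_rightDerived_gammaZ_toAb`: `RⁿΓ_Z` on `O_Y`-modules computes `ℋⁿ_Z` of the underlying
  abelian sheaf;
* `gammaZRestrictIso`: `Γ_Z` commutes with restriction to an open subscheme;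
* `nonempty_rightDerived_restrict`: so do its right derived functors;
* `isZero_of_isZero_restrict`: a quasi-coherent module vanishing on every affine open is zero.
-/

set_option autoImplicit false
set_option linter.unusedSectionVars false
universe u
open CategoryTheory CategoryTheory.Limits Opposite AlgebraicGeometry TopologicalSpace

namespace Groth.Agent.Helper9.LcDepth

open Groth.Agent.Helper13.ToAbExact (toAbF)
open Groth.Agent.Helper24.LC Groth.Agent.Helper9.LocCohQC Groth.Agent.Helper9.GammaZSum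

variable {Y : Scheme.{u}} (U : Y.Opens)

/-- comparison of the module-level and the abelian local cohomology sheaves. -/
theorem nonempty_rightDerived_gammaZ_toAb (n : ℕ) :
    Nonempty ((DCoh.gammaZ U.ι).rightDerived n ⋙ toAbF Y ≅
      toAbF Y ⋙ LocCohZ.HZsh (X := Y.carrier) U n) := by
  haveI : PreservesFiniteLimits (LocCohZ.sectSuppF (X := Y.carrier) U) :=
    Groth.Agent.Helper9.OpenRes.preservesFiniteLimits_sectSuppF _
  refine nonempty_comparison (toAbF Y) (toAbF Y) (DCoh.gammaZ U.ι)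
    (LocCohZ.sectSuppF (X := Y.carrier) U) (gammaZToAb U) ?_ n
  intro Q hQ k
  have hfl := Groth.Agent.Helper13.ModFlasque.isFlasque_toAb Q
  exact (@Groth.Agent.S6023.result Y.carrier ((toAbF Y).obj Q) hfl).2 U (k + 1) (Nat.succ_pos k)

section Restrict

variable (V : Y.Opens)

/-- restriction to the open subscheme `V`. -/
noncomputable abbrev ρ : Y.Modules ⥤ (V : Scheme.{u}).Modules :=
  Scheme.Modules.restrictFunctor V.ι

lemma eqOpens (W : (V : Scheme.{u}).Opens) :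
    V.ι ''ᵁ ((V.ι ⁻¹ᵁ U).ι ''ᵁ (V.ι ⁻¹ᵁ U).ι ⁻¹ᵁ W) = U.ι ''ᵁ U.ι ⁻¹ᵁ (V.ι ''ᵁ W) := by
  rw [Scheme.Hom.image_preimage_eq_opensRange_inf, Scheme.Hom.image_preimage_eq_opensRange_inf,
    Scheme.Opens.opensRange_ι, Scheme.Opens.opensRange_ι]
  apply le_antisymm
  · intro x hx
    change x ∈ Set.image _ _ at hx
    obtain ⟨y, hy, rfl⟩ := hx
    exact ⟨hy.1, ⟨y, hy.2, rfl⟩⟩
  · intro x hx
    obtain ⟨hxU, hxW⟩ := hx
    change x ∈ Set.image _ _ at hxW
    obtain ⟨y, hyW, rfl⟩ := hxW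
    exact ⟨y, ⟨hxU, hyW⟩, rfl⟩

lemma ι_restrict_comp_unit (M : Y.Modules) :
    kernel.ι ((ρ V).map ((Scheme.Modules.restrictAdjunction U.ι).unit.app M)) ≫
      (Scheme.Modules.restrictAdjunction (V.ι ⁻¹ᵁ U).ι).unit.app ((ρ V).obj M) = 0 := by
  apply Scheme.Modules.hom_ext
  intro W
  ext k
  have h1 : M.presheaf.map (homOfLE (U.ι.image_preimage_le (V.ι ''ᵁ W))).op
      ((kernel.ι ((ρ V).map ((Scheme.Modules.restrictAdjunction U.ι).unit.app M))).app W k) = 0 :=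
    Groth.Agent.Helper13.KerSec.kernel_ι_app_comp
      ((ρ V).map ((Scheme.Modules.restrictAdjunction U.ι).unit.app M)) W k
  have h2 := Groth.Agent.Helper13.QCoh.map_map_eq M
    (homOfLE (U.ι.image_preimage_le (V.ι ''ᵁ W))).op (eqToHom (eqOpens U V W)).op
    (homOfLE (V.ι.image_mono ((V.ι ⁻¹ᵁ U).ι.image_preimage_le W))).op
    ((kernel.ι ((ρ V).map ((Scheme.Modules.restrictAdjunction U.ι).unit.app M))).app W k)
  rw [h1, map_zero] at h2
  exact h2.symm

lemma ι_unit_comp_restrict (M : Y.Modules) :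
    kernel.ι ((Scheme.Modules.restrictAdjunction (V.ι ⁻¹ᵁ U).ι).unit.app ((ρ V).obj M)) ≫
      (ρ V).map ((Scheme.Modules.restrictAdjunction U.ι).unit.app M) = 0 := by
  apply Scheme.Modules.hom_ext
  intro W
  ext k
  have h1 : M.presheaf.map (homOfLE (V.ι.image_mono ((V.ι ⁻¹ᵁ U).ι.image_preimage_le W))).op
      ((kernel.ι ((Scheme.Modules.restrictAdjunction (V.ι ⁻¹ᵁ U).ι).unit.app
        ((ρ V).obj M))).app W k) = 0 :=
    Groth.Agent.Helper13.KerSec.kernel_ι_app_comp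
      ((Scheme.Modules.restrictAdjunction (V.ι ⁻¹ᵁ U).ι).unit.app ((ρ V).obj M)) W k
  have h2 := Groth.Agent.Helper13.QCoh.map_map_eq M
    (homOfLE (V.ι.image_mono ((V.ι ⁻¹ᵁ U).ι.image_preimage_le W))).op
    (eqToHom (eqOpens U V W).symm).op
    (homOfLE (U.ι.image_preimage_le (V.ι ''ᵁ W))).op
    ((kernel.ι ((Scheme.Modules.restrictAdjunction (V.ι ⁻¹ᵁ U).ι).unit.app
        ((ρ V).obj M))).app W k)
  rw [h1, map_zero] at h2
  exact h2.symm

/-- `Γ_Z(M)|_V ≅ Γ_{Z ∩ V}(M|_V)`. -/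
noncomputable def gammaZRestrictApp (M : Y.Modules) :
    (ρ V).obj ((DCoh.gammaZ U.ι).obj M) ≅ (DCoh.gammaZ (V.ι ⁻¹ᵁ U).ι).obj ((ρ V).obj M) :=
  PreservesKernel.iso (ρ V) ((Scheme.Modules.restrictAdjunction U.ι).unit.app M) ≪≫
    kerIso _ _ (ι_restrict_comp_unit U V M) (ι_unit_comp_restrict U V M)

lemma gammaZRestrictApp_hom_ι (M : Y.Modules) :
    (gammaZRestrictApp U V M).hom ≫ (CxOX.gammaZι (V.ι ⁻¹ᵁ U).ι).app ((ρ V).obj M) =
      (ρ V).map ((CxOX.gammaZι U.ι).app M) := by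
  change (PreservesKernel.iso (ρ V) _ ≪≫ kerIso _ _ _ _).hom ≫ kernel.ι _ = (ρ V).map (kernel.ι _)
  rw [Iso.trans_hom, Category.assoc, kerIso_hom_ι, PreservesKernel.iso_hom,
    kernelComparison_comp_ι]

/-- `Γ_Z` commutes with restriction to an open subscheme. -/
noncomputable def gammaZRestrictIso :
    DCoh.gammaZ U.ι ⋙ ρ V ≅ ρ V ⋙ DCoh.gammaZ (V.ι ⁻¹ᵁ U).ι :=
  NatIso.ofComponents (fun M => gammaZRestrictApp U V M) (by
    intro M N f
    haveI : Mono ((CxOX.gammaZι (V.ι ⁻¹ᵁ U).ι).app ((ρ V).obj N)) :=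
      mono_ι_app (V.ι ⁻¹ᵁ U).ι ((ρ V).obj N)
    apply (cancel_mono ((CxOX.gammaZι (V.ι ⁻¹ᵁ U).ι).app ((ρ V).obj N))).1
    have n1 : (DCoh.gammaZ U.ι).map f ≫ (CxOX.gammaZι U.ι).app N =
        (CxOX.gammaZι U.ι).app M ≫ f := (CxOX.gammaZι U.ι).naturality f
    have n2 : (DCoh.gammaZ (V.ι ⁻¹ᵁ U).ι).map ((ρ V).map f) ≫
        (CxOX.gammaZι (V.ι ⁻¹ᵁ U).ι).app ((ρ V).obj N) =
        (CxOX.gammaZι (V.ι ⁻¹ᵁ U).ι).app ((ρ V).obj M) ≫ (ρ V).map f :=
      (CxOX.gammaZι (V.ι ⁻¹ᵁ U).ι).naturality ((ρ V).map f)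
    change ((ρ V).map ((DCoh.gammaZ U.ι).map f) ≫ (gammaZRestrictApp U V N).hom) ≫ _ =
      ((gammaZRestrictApp U V M).hom ≫ (DCoh.gammaZ (V.ι ⁻¹ᵁ U).ι).map ((ρ V).map f)) ≫ _
    rw [Category.assoc, gammaZRestrictApp_hom_ι, ← Functor.map_comp, n1, Functor.map_comp,
      Category.assoc, n2, ← Category.assoc, gammaZRestrictApp_hom_ι])

/-- the local cohomology sheaves commute with restriction to an open subscheme. -/
theorem nonempty_rightDerived_restrict (n : ℕ) :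
    Nonempty ((DCoh.gammaZ U.ι).rightDerived n ⋙ ρ V ≅
      ρ V ⋙ (DCoh.gammaZ (V.ι ⁻¹ᵁ U).ι).rightDerived n) := by
  refine nonempty_comparison (ρ V) (ρ V) (DCoh.gammaZ U.ι) (DCoh.gammaZ (V.ι ⁻¹ᵁ U).ι)
    (gammaZRestrictIso U V) ?_ n
  intro Q hQ k
  haveI : Injective ((ρ V).obj Q) := Groth.Agent.Helper17.IR.main11327 Y V Q hQ
  exact Functor.isZero_rightDerived_obj_injective_succ _ k _

theorem isZero_rightDerived_restrict_iff (n : ℕ) (M : Y.Modules) :
    IsZero ((ρ V).obj (((DCoh.gammaZ U.ι).rightDerived n).obj M)) ↔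
      IsZero (((DCoh.gammaZ (V.ι ⁻¹ᵁ U).ι).rightDerived n).obj ((ρ V).obj M)) := by
  obtain ⟨e⟩ := nonempty_rightDerived_restrict U V n
  exact (e.app M).isZero_iff

end Restrict

/-- a quasi-coherent module whose restrictions to all affine opens vanish is zero. -/
theorem isZero_of_isZero_restrict (N : Y.Modules) [N.IsQuasicoherent]
    (h : ∀ V : Y.affineOpens, IsZero ((ρ V.1).obj N)) : IsZero N := by
  rw [IsZero.iff_id_eq_zero]
  apply Groth.Agent.Helper14.IdealMul.hom_eq_zero_of_affine_cover (𝟙 N)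
    (fun W : Y.affineOpens => W.1) (fun W => W.2)
  · intro x
    obtain ⟨W, hW, hxW, -⟩ := Y.isBasis_affineOpens.exists_subset_of_mem_open
      (Set.mem_univ x) isOpen_univ
    obtain ⟨W', hW', rfl⟩ := hW
    exact ⟨⟨W', hW'⟩, hxW⟩
  · intro W s
    change s = 0
    have hs := (Groth.Agent.Helper13.QCoh.isZero_iff_sections _).1 (h W) ⊤
    have e : W.1.ι ''ᵁ ⊤ = W.1 := Scheme.Opens.ι_image_top W.1
    apply Groth.Agent.Helper13.QCoh.map_eqToHom_injective N e
    exact @Subsingleton.elim _ hs (N.presheaf.map (eqToHom e).op s)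
      (N.presheaf.map (eqToHom e).op 0)

theorem isZero_restrict_of_isZero (V : Y.Opens) (N : Y.Modules) (h : IsZero N) :
    IsZero ((ρ V).obj N) :=
  Functor.map_isZero (ρ V) h

end Groth.Agent.Helper9.LcDepth
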