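import Mathlib
import Groth.Prelude.Def_KLin
import Groth.Prelude.Def_CAlg
import Groth.Agent.Lib.Helper13.QCohStalk
import Groth.Agent.Lib.Helper13.QCohLoc
import Groth.Agent.Lib.Helper13.EpiStalk
import Groth.Agent.Lib.Helper13.ExtSheaf
import Groth.Agent.Lib.Helper13.LocFree2
import Groth.Agent.Lib.Helper13.FinAffine2
import Groth.Agent.Lib.Helper13.FinTypeEpi
import Groth.Agent.Lib.Helper13.QCohKer
import Groth.Agent.Lib.Helper13.KerSec
import Groth.Agent.Lib.Helper9.Depth
import Groth.Agent.Lib.Helper9.Depth2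
import Groth.Agent.Lib.Helper9.Depth4

/-!
# Depth of the stalks of `M / rM` (helper9)

For a global function `r` acting injectively on a coherent module `M` on a locally Noetherian
scheme: the stalk of `M / rM` at `x` is `M_x / r M_x`, and its depth is one less than that of `M_x`
at the points where `r` vanishes.
-/

set_option autoImplicit false
set_option linter.unusedSectionVars false
universe u
open CategoryTheory CategoryTheory.Limits Opposite AlgebraicGeometry TopologicalSpace

namespace Groth.Agent.Helper9.LcDepth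

open Groth.Agent.Helper13.QCoh IsLocalRing
open scoped Pointwise

variable {Y : Scheme.{u}}

/-- the map on stalks as a linear map. -/
noncomputable def stalkLin {F G : Y.Modules} (φ : F ⟶ G) (x : Y) :
    F.presheaf.stalk x →ₗ[Y.presheaf.stalk x] G.presheaf.stalk x where
  toFun := stalkMap φ x
  map_add' a b := map_add _ a b
  map_smul' c m := stalkMap_smul φ x c m

section Smul

variable (M : Y.Modules) (r : Γ(Y, ⊤))

/-- multiplication by the global function `r` on `M`. -/
noncomputable abbrev mulBy : M ⟶ M := Formal.smulModΓ M r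

lemma mulBy_app (W : Y.Opens) (m : Γ(M, W)) :
    (mulBy M r).app W m = Y.presheaf.map (homOfLE (le_top : W ≤ ⊤)).op r • m := rfl

lemma stalkMap_mulBy (x : Y) (m : M.presheaf.stalk x) :
    stalkMap (mulBy M r) x m = Y.presheaf.germ ⊤ x trivial r • m := by
  obtain ⟨W, hxW, m₀, rfl⟩ := TopCat.Presheaf.exists_germ_eq M.presheaf m
  rw [stalkMap_germ, mulBy_app, germ_smul, TopCat.Presheaf.germ_res_apply]

lemma isSMulRegular_germ_of_mono [Mono (mulBy M r)] (x : Y) :
    IsSMulRegular (M.presheaf.stalk x) (Y.presheaf.germ ⊤ x trivial r) := by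
  intro a b hab
  apply Groth.Agent.Helper13.Ext.stalkMap_injective_of_mono (mulBy M r) x
  rw [stalkMap_mulBy, stalkMap_mulBy]
  exact hab

/-- `M / rM`. -/
noncomputable abbrev quotBy : Y.Modules := cokernel (mulBy M r)

/-- the projection `M ⟶ M / rM`. -/
noncomputable abbrev quotπ : M ⟶ quotBy M r := cokernel.π (mulBy M r)

/-- the short complex `M ⟶ M ⟶ M / rM`. -/
noncomputable abbrev quotSC : ShortComplex Y.Modules :=
  ShortComplex.mk (mulBy M r) (quotπ M r) (cokernel.condition _)

lemma quotSC_exact : (quotSC M r).Exact :=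
  ShortComplex.exact_of_g_is_cokernel _ (cokernelIsCokernel _)

lemma quotSC_shortExact [Mono (mulBy M r)] : (quotSC M r).ShortExact where
  exact := quotSC_exact M r
  mono_f := inferInstanceAs (Mono (mulBy M r))
  epi_g := inferInstanceAs (Epi (cokernel.π (mulBy M r)))

lemma ker_stalk_quotπ [Mono (mulBy M r)] (x : Y) :
    LinearMap.ker (stalkLin (quotπ M r) x) =
      Y.presheaf.germ ⊤ x trivial r •
        (⊤ : Submodule (Y.presheaf.stalk x) (M.presheaf.stalk x)) := by
  ext m
  rw [LinearMap.mem_ker, Submodule.mem_smul_pointwise_iff_exists]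
  constructor
  · intro hm
    haveI : Mono (quotSC M r).f := inferInstanceAs (Mono (mulBy M r))
    obtain ⟨m₁, hm₁⟩ := stalk_exact_of_exact_of_mono (S := quotSC M r) (quotSC_exact M r) x m hm
    refine ⟨m₁, trivial, ?_⟩
    rw [← stalkMap_mulBy]
    exact hm₁
  · rintro ⟨m₁, -, rfl⟩
    rw [← stalkMap_mulBy]
    change stalkMap (quotπ M r) x (stalkMap (mulBy M r) x m₁) = 0
    obtain ⟨W, hxW, m₀, rfl⟩ := TopCat.Presheaf.exists_germ_eq M.presheaf m₁
    rw [stalkMap_germ, stalkMap_germ]
    have h0 : (quotπ M r).app W ((mulBy M r).app W m₀) = 0 :=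
      congrArg (fun ψ => ψ.app W m₀) (cokernel.condition (mulBy M r))
    rw [h0, map_zero]

/-- `(M / rM)_x ≅ M_x / r M_x`. -/
noncomputable def stalkQuotEquiv [Mono (mulBy M r)] (x : Y) :
    QuotSMulTop (Y.presheaf.germ ⊤ x trivial r) (M.presheaf.stalk x) ≃ₗ[Y.presheaf.stalk x]
      (quotBy M r).presheaf.stalk x :=
  (Submodule.quotEquivOfEq _ _ (ker_stalk_quotπ M r x).symm).trans
    (LinearMap.quotKerEquivOfSurjective (stalkLin (quotπ M r) x)
      (Groth.Agent.Helper13.FinType.stalkMap_surjective_of_epi (quotπ M r) x))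

lemma germ_mem_maximalIdeal (x : Y) (hx : x ∉ Y.basicOpen r) :
    Y.presheaf.germ ⊤ x trivial r ∈ maximalIdeal (Y.presheaf.stalk x) := by
  rw [mem_maximalIdeal, mem_nonunits_iff]
  intro hu
  exact hx ((Y.mem_basicOpen_top r x).2 hu)

theorem isCoh_quotBy (hM : Coh.IsCoh M) : Coh.IsCoh (quotBy M r) := by
  haveI := hM.1
  haveI := hM.2
  exact ⟨Groth.Agent.Helper13.QCohLocal.isQuasicoherent_cokernel _,
    Groth.Agent.Helper13.FinType.isFiniteType_of_epi (quotπ M r)⟩

theorem depth_quotBy [IsLocallyNoetherian Y] (hM : Coh.IsCoh M) [Mono (mulBy M r)] (x : Y)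
    (hx : x ∉ Y.basicOpen r) :
    LocCoh.depth (Y.presheaf.stalk x) ((quotBy M r).presheaf.stalk x) + 1 =
      LocCoh.depth (Y.presheaf.stalk x) (M.presheaf.stalk x) := by
  haveI := hM.1
  haveI := hM.2
  haveI : Module.Finite (Y.presheaf.stalk x) (M.presheaf.stalk x) :=
    Groth.Agent.Helper13.LocFree.finite_stalk_of_isFiniteType M x
  rw [← Groth.Agent.Helper9.Depth.depth_congr (stalkQuotEquiv M r x)]
  rcases subsingleton_or_nontrivial (M.presheaf.stalk x) with hs | hn
  · haveI : Subsingleton (QuotSMulTop (Y.presheaf.germ ⊤ x trivial r) (M.presheaf.stalk x)) :=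
      (Submodule.Quotient.mk_surjective _).subsingleton
    rw [Groth.Agent.Helper9.Depth.depth_eq_top_of_subsingleton,
      Groth.Agent.Helper9.Depth.depth_eq_top_of_subsingleton]
    rfl
  · exact Groth.Agent.Helper9.Depth.depth_quotSMulTop_succ (germ_mem_maximalIdeal r x hx)
      (isSMulRegular_germ_of_mono M r x)

end Smul

end Groth.Agent.Helper9.LcDepth
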