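import Mathlib
import Groth.Agent.Lib.Helper9.LcDepth2
import Groth.Agent.Lib.Helper9.LcDepth3

/-!
# Regular elements vanishing on a closed subset, and sections with supports (helper9)

* `isZero_of_mono_mulBy`: a quasi-coherent module vanishing on `U ⊇ D(r)` on which `r` acts
  injectively is zero;
* `exists_regular`: on an affine Noetherian scheme, if a coherent `M` has depth `≥ 1` at all points
  of `Z = Y ∖ U`, there is a global function vanishing on `Z` acting injectively on `M`;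
* `one_le_depth_of_isZero_gammaZ`: if `Γ_Z(M) = 0` then `M` has depth `≥ 1` at all points of `Z`.
-/

set_option autoImplicit false
set_option linter.unusedSectionVars false
universe u
open CategoryTheory CategoryTheory.Limits Opposite AlgebraicGeometry TopologicalSpace

namespace Groth.Agent.Helper9.LcDepth

open Groth.Agent.Helper13.QCoh IsLocalRing

variable {Y : Scheme.{u}}

lemma eq_zero_of_isUnit_smul {R M : Type*} [Ring R] [AddCommGroup M] [Module R M] {c : R}
    (hc : IsUnit c) {m : M} (h : c • m = 0) : m = 0 := by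
  obtain ⟨v, rfl⟩ := hc
  have := congrArg (fun z => (↑v⁻¹ : R) • z) h
  simpa [smul_smul] using this

lemma affine_cover (x : Y) : ∃ W : Y.affineOpens, x ∈ W.1 := by
  obtain ⟨W, hW, hxW, -⟩ := Y.isBasis_affineOpens.exists_subset_of_mem_open
    (Set.mem_univ x) isOpen_univ
  obtain ⟨W', hW', rfl⟩ := hW
  exact ⟨⟨W', hW'⟩, hxW⟩

lemma subsingleton_sections_of_isZero_restrict (U : Y.Opens) (N : Y.Modules)
    (h : IsZero ((ρ U).obj N)) (O : Y.Opens) (hO : O ≤ U) : Subsingleton Γ(N, O) := by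
  have hs := (isZero_iff_sections _).1 h (U.ι ⁻¹ᵁ O)
  have e : U.ι ''ᵁ (U.ι ⁻¹ᵁ O) = O := by
    rw [Scheme.Hom.image_preimage_eq_opensRange_inf, Scheme.Opens.opensRange_ι]
    exact inf_eq_right.2 hO
  refine ⟨fun a b => ?_⟩
  apply map_eqToHom_injective N e
  exact @Subsingleton.elim _ hs (N.presheaf.map (eqToHom e).op a)
    (N.presheaf.map (eqToHom e).op b)

/-- a quasi-coherent module vanishing on `U ⊇ D(r)` on which `r` acts injectively is zero. -/
theorem isZero_of_mono_mulBy (N : Y.Modules) [N.IsQuasicoherent] (r : Γ(Y, ⊤)) (U : Y.Opens)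
    (hr : Y.basicOpen r ≤ U) (hU : IsZero ((ρ U).obj N)) [Mono (mulBy N r)] : IsZero N := by
  rw [IsZero.iff_id_eq_zero]
  apply Groth.Agent.Helper14.IdealMul.hom_eq_zero_of_affine_cover (𝟙 N)
    (fun W : Y.affineOpens => W.1) (fun W => W.2) affine_cover
  intro W s
  change s = 0
  have hle : Y.basicOpen (Y.presheaf.map (homOfLE (le_top : W.1 ≤ ⊤)).op r) ≤ U := by
    rw [Scheme.basicOpen_res]
    exact inf_le_right.trans hr
  have h0 : N.presheaf.map
      (homOfLE (Y.basicOpen_le (Y.presheaf.map (homOfLE (le_top : W.1 ≤ ⊤)).op r))).op s = 0 :=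
    @Subsingleton.elim _ (subsingleton_sections_of_isZero_restrict U N hU _ hle) _ _
  obtain ⟨n, hn⟩ := exists_pow_smul_eq_zero N W.2 _ s h0
  have hinj : Function.Injective ((mulBy N r).app W.1) :=
    (mono_iff_app_injective _).1 inferInstance W.1
  have hz : (mulBy N r).app W.1 0 = 0 := map_zero _
  have key : ∀ n : ℕ, (Y.presheaf.map (homOfLE (le_top : W.1 ≤ ⊤)).op r) ^ n • s = 0 → s = 0 := by
    intro n
    induction n with
    | zero =>
      intro h
      simpa using h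
    | succ k ih =>
      intro h
      apply ih
      apply hinj
      rw [hz, mulBy_app, smul_smul, ← pow_succ']
      exact h
  exact key n hn

/-- the ideal of global functions vanishing outside `U`. -/
def vanIdeal (U : Y.Opens) : Ideal Γ(Y, ⊤) where
  carrier := {a | Y.basicOpen a ≤ U}
  add_mem' := fun {a b} ha hb => (Y.basicOpen_add_le ..).trans (sup_le ha hb)
  zero_mem' := by
    change Y.basicOpen (0 : Γ(Y, ⊤)) ≤ U
    rw [Scheme.basicOpen_zero]
    exact bot_le
  smul_mem' := fun c {a} ha => by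
    change Y.basicOpen (c * a) ≤ U
    rw [Scheme.basicOpen_mul]
    exact inf_le_right.trans ha

lemma mem_vanIdeal (U : Y.Opens) (a : Γ(Y, ⊤)) : a ∈ vanIdeal U ↔ Y.basicOpen a ≤ U := Iff.rfl

section Affine

variable [IsAffine Y]

/-- membership in the prime ideal of a point, in terms of basic opens. -/
lemma mem_primeIdealOf_iff (x : Y) (a : Γ(Y, ⊤)) :
    a ∈ ((isAffineOpen_top Y).primeIdealOf ⟨x, trivial⟩).asIdeal ↔ x ∉ Y.basicOpen a := by
  letI : Algebra Γ(Y, ⊤) (Y.presheaf.stalk x) :=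
    TopCat.Presheaf.algebra_section_stalk Y.presheaf (U := ⊤) ⟨x, trivial⟩
  haveI : IsLocalization.AtPrime (Y.presheaf.stalk x)
      ((isAffineOpen_top Y).primeIdealOf ⟨x, trivial⟩).asIdeal :=
    (isAffineOpen_top Y).isLocalization_stalk ⟨x, trivial⟩
  have h1 := IsLocalization.AtPrime.isUnit_to_map_iff (Y.presheaf.stalk x)
    ((isAffineOpen_top Y).primeIdealOf ⟨x, trivial⟩).asIdeal a
  have h2 : x ∈ Y.basicOpen a ↔ IsUnit (Y.presheaf.germ ⊤ x trivial a) :=
    Y.mem_basicOpen_top a x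
  constructor
  · intro ha hx
    exact (h1.1 (h2.1 hx)) ha
  · intro hx
    by_contra ha
    exact hx (h2.2 (h1.2 ha))

lemma injective_stalkMap_mulBy (M : Y.Modules) [M.IsQuasicoherent] (r : Γ(Y, ⊤))
    (hreg : IsSMulRegular Γ(M, ⊤) r) (x : Y) :
    Function.Injective (stalkMap (mulBy M r) x) := by
  rw [injective_iff_map_eq_zero]
  intro m hm
  rw [stalkMap_mulBy] at hm
  obtain ⟨g, hxg, t, ht⟩ := exists_germ_smul_eq M (isAffineOpen_top Y) x trivial m
  have hug : IsUnit (Y.presheaf.germ ⊤ x trivial g) := (Y.mem_basicOpen_top g x).1 hxg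
  have h1 : M.presheaf.germ ⊤ x trivial (r • t) = 0 := by
    rw [germ_smul, ← ht, smul_comm, hm, smul_zero]
  obtain ⟨g', hxg', hg'⟩ := exists_smul_eq_zero_of_germ_eq_zero M (isAffineOpen_top Y) x trivial
    (r • t) h1
  have hug' : IsUnit (Y.presheaf.germ ⊤ x trivial g') := (Y.mem_basicOpen_top g' x).1 hxg'
  have h2 : g' • t = 0 := by
    apply hreg
    change r • (g' • t) = r • 0
    rw [smul_zero, smul_comm]
    exact hg'
  have h3 : M.presheaf.germ ⊤ x trivial t = 0 := by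
    apply eq_zero_of_isUnit_smul hug'
    rw [← germ_smul, h2, map_zero]
  apply eq_zero_of_isUnit_smul hug
  rw [ht, h3]

theorem mono_mulBy_of_isSMulRegular (M : Y.Modules) [M.IsQuasicoherent] (r : Γ(Y, ⊤))
    (hreg : IsSMulRegular Γ(M, ⊤) r) : Mono (mulBy M r) :=
  (mono_iff_stalk_injective _).2 (fun x => injective_stalkMap_mulBy M r hreg x)

/-- if the annihilator of a global section `n` is the prime of the point `x`, the stalk at `x` has
depth zero. -/
lemma depth_eq_zero_of_ann [IsLocallyNoetherian Y] (M : Y.Modules) (hM : Coh.IsCoh M) (x : Y)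
    (n : Γ(M, ⊤)) (hn : ∀ a : Γ(Y, ⊤), a • n = 0 ↔ x ∉ Y.basicOpen a) :
    LocCoh.depth (Y.presheaf.stalk x) (M.presheaf.stalk x) = 0 := by
  haveI := hM.1
  haveI := hM.2
  have hT := isAffineOpen_top Y
  have hm0 : M.presheaf.germ ⊤ x trivial n ≠ 0 := by
    intro h0
    obtain ⟨g, hg1, hg2⟩ := exists_smul_eq_zero_of_germ_eq_zero M hT x trivial n h0
    exact (hn g).1 hg2 hg1
  haveI : Nontrivial (M.presheaf.stalk x) := ⟨⟨_, 0, hm0⟩⟩
  haveI : Module.Finite (Y.presheaf.stalk x) (M.presheaf.stalk x) :=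
    Groth.Agent.Helper13.LocFree.finite_stalk_of_isFiniteType M x
  rw [Groth.Agent.Helper9.Depth.depth_eq_zero_iff_forall_not_regular]
  intro c hc hreg
  letI : Algebra Γ(Y, ⊤) (Y.presheaf.stalk x) :=
    TopCat.Presheaf.algebra_section_stalk Y.presheaf (U := ⊤) ⟨x, trivial⟩
  haveI : IsLocalization.AtPrime (Y.presheaf.stalk x) (hT.primeIdealOf ⟨x, trivial⟩).asIdeal :=
    hT.isLocalization_stalk ⟨x, trivial⟩
  obtain ⟨⟨a, s⟩, has⟩ := IsLocalization.surj (hT.primeIdealOf ⟨x, trivial⟩).asIdeal.primeCompl c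
  have hs : IsUnit (algebraMap Γ(Y, ⊤) (Y.presheaf.stalk x) s) :=
    IsLocalization.map_units (Y.presheaf.stalk x) s
  have ha : a ∈ (hT.primeIdealOf ⟨x, trivial⟩).asIdeal := by
    by_contra hna
    have hua : IsUnit (algebraMap Γ(Y, ⊤) (Y.presheaf.stalk x) a) :=
      (IsLocalization.AtPrime.isUnit_to_map_iff (Y.presheaf.stalk x)
        (hT.primeIdealOf ⟨x, trivial⟩).asIdeal a).2 hna
    rw [← has] at hua
    have huc : IsUnit c := isUnit_of_mul_isUnit_left hua
    exact (mem_nonunits_iff.1 ((mem_maximalIdeal c).1 hc)) huc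
  have ha0 : a • n = 0 := (hn a).2 ((mem_primeIdealOf_iff x a).1 ha)
  have h1 : (algebraMap Γ(Y, ⊤) (Y.presheaf.stalk x) a) • M.presheaf.germ ⊤ x trivial n = 0 := by
    change Y.presheaf.germ ⊤ x trivial a • M.presheaf.germ ⊤ x trivial n = 0
    rw [← germ_smul, ha0, map_zero]
  rw [← has, mul_comm, mul_smul] at h1
  have h2 := eq_zero_of_isUnit_smul hs h1
  apply hm0
  apply hreg
  change c • M.presheaf.germ ⊤ x trivial n = c • 0
  rw [smul_zero]
  exact h2

/-- on an affine Noetherian scheme, a coherent module of depth `≥ 1` along `Z = Y ∖ U` admits a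
regular global function vanishing on `Z`. -/
theorem exists_regular [IsLocallyNoetherian Y] (U : Y.Opens) (M : Y.Modules) (hM : Coh.IsCoh M)
    (hD : ∀ x : Y, x ∉ U → (1 : ℕ∞) ≤ LocCoh.depth (Y.presheaf.stalk x) (M.presheaf.stalk x)) :
    ∃ r : Γ(Y, ⊤), Y.basicOpen r ≤ U ∧ Mono (mulBy M r) := by
  haveI := hM.1
  haveI := hM.2
  have hT := isAffineOpen_top Y
  haveI hA : IsNoetherianRing Γ(Y, ⊤) :=
    IsLocallyNoetherian.component_noetherian ⟨⊤, hT⟩
  haveI hfin : Module.Finite Γ(Y, ⊤) Γ(M, ⊤) :=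
    Groth.Agent.Helper13.FinType.finite_sections_of_isFiniteType M hT
  suffices hex : ∃ r ∈ vanIdeal U, IsSMulRegular Γ(M, ⊤) r by
    obtain ⟨r, hr, hreg⟩ := hex
    exact ⟨r, hr, mono_mulBy_of_isSMulRegular M r hreg⟩
  by_contra hcon
  push Not at hcon
  have hsub : ((vanIdeal U : Ideal Γ(Y, ⊤)) : Set Γ(Y, ⊤)) ⊆
      ⋃ p ∈ associatedPrimes Γ(Y, ⊤) Γ(M, ⊤), (p : Set Γ(Y, ⊤)) := by
    rw [biUnion_associatedPrimes_eq_compl_regular]
    intro a ha
    exact hcon a ha
  have hfinAss := associatedPrimes.finite Γ(Y, ⊤) Γ(M, ⊤)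
  have hsub' : ((vanIdeal U : Ideal Γ(Y, ⊤)) : Set Γ(Y, ⊤)) ⊆
      ⋃ p ∈ (↑hfinAss.toFinset : Set (Ideal Γ(Y, ⊤))), ((id p : Ideal Γ(Y, ⊤)) : Set Γ(Y, ⊤)) := by
    intro a ha
    obtain ⟨p, hp, hap⟩ := Set.mem_iUnion₂.1 (hsub ha)
    exact Set.mem_iUnion₂.2 ⟨p, by simpa using hp, hap⟩
  obtain ⟨p, hp, hIp⟩ := (Ideal.subset_union_prime (f := id) ⊤ ⊤
    (fun i hi _ _ => IsAssociatedPrime.isPrime
      ((Set.Finite.mem_toFinset hfinAss).1 hi))).1 hsub'
  have hp' : IsAssociatedPrime p Γ(M, ⊤) := (Set.Finite.mem_toFinset hfinAss).1 hp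
  obtain ⟨hprime, n, hn⟩ := isAssociatedPrime_iff.1 hp'
  let y : PrimeSpectrum Γ(Y, ⊤) := ⟨p, hprime⟩
  let x : Y := hT.fromSpec.base y
  have hxmem : ∀ a : Γ(Y, ⊤), x ∈ Y.basicOpen a ↔ a ∉ p := by
    intro a
    have e := hT.fromSpec_preimage_basicOpen a
    have h1 : x ∈ Y.basicOpen a ↔ y ∈ hT.fromSpec ⁻¹ᵁ Y.basicOpen a := Iff.rfl
    rw [h1, e]
    rfl
  have hxU : x ∉ U := by
    intro hx
    obtain ⟨a, ha1, ha2⟩ := hT.exists_basicOpen_le (V := U) ⟨x, hx⟩ trivial
    exact (hxmem a).1 ha2 (hIp ha1)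
  have hd := hD x hxU
  have hzero := depth_eq_zero_of_ann M hM x n (by
    intro a
    rw [← not_iff_not, not_not, hxmem a, not_iff_not, hn, Submodule.mem_colon_singleton,
      Submodule.mem_bot])
  rw [hzero] at hd
  exact absurd hd (by norm_num)

/-- if `Γ_Z(M) = 0` then `M` has depth at least one along `Z`. -/
theorem one_le_depth_of_isZero_gammaZ [IsLocallyNoetherian Y] (U : Y.Opens) (M : Y.Modules)
    (hM : Coh.IsCoh M) (h0 : IsZero ((DCoh.gammaZ U.ι).obj M)) (x : Y) (hx : x ∉ U) :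
    (1 : ℕ∞) ≤ LocCoh.depth (Y.presheaf.stalk x) (M.presheaf.stalk x) := by
  classical
  haveI := hM.1
  haveI := hM.2
  have hT := isAffineOpen_top Y
  haveI hA : IsNoetherianRing Γ(Y, ⊤) :=
    IsLocallyNoetherian.component_noetherian ⟨⊤, hT⟩
  haveI : Module.Finite (Y.presheaf.stalk x) (M.presheaf.stalk x) :=
    Groth.Agent.Helper13.LocFree.finite_stalk_of_isFiniteType M x
  rw [ENat.one_le_iff_ne_zero]
  intro hzero
  have hass := (Groth.Agent.Helper9.Depth.depth_eq_zero_iff_mem_associatedPrimes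
    (A := Y.presheaf.stalk x) (M.presheaf.stalk x)).1 hzero
  obtain ⟨-, m, hm⟩ := isAssociatedPrime_iff.1 hass
  have hkill : ∀ c ∈ maximalIdeal (Y.presheaf.stalk x), c • m = 0 := by
    intro c hc
    rw [hm, Submodule.mem_colon_singleton] at hc
    exact hc
  have hm0 : m ≠ 0 := by
    intro h
    have h1 : (1 : Y.presheaf.stalk x) ∈ maximalIdeal (Y.presheaf.stalk x) := by
      rw [hm, Submodule.mem_colon_singleton, h, smul_zero]
      exact Submodule.zero_mem _
    exact (maximalIdeal.isMaximal (Y.presheaf.stalk x)).ne_top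
      ((Ideal.eq_top_iff_one _).2 h1)
  obtain ⟨g, hxg, t, ht⟩ := exists_germ_smul_eq M hT x trivial m
  have hug : IsUnit (Y.presheaf.germ ⊤ x trivial g) := (Y.mem_basicOpen_top g x).1 hxg
  -- the prime of `x`
  set P : Ideal Γ(Y, ⊤) := (hT.primeIdealOf ⟨x, trivial⟩).asIdeal with hP
  obtain ⟨S, hS⟩ := (isNoetherianRing_iff_ideal_fg Γ(Y, ⊤)).1 hA P
  have key : ∀ a : Γ(Y, ⊤), a ∈ P → ∃ g' : Γ(Y, ⊤), x ∈ Y.basicOpen g' ∧ g' • (a • t) = 0 := by
    intro a ha
    have hga : Y.presheaf.germ ⊤ x trivial a ∈ maximalIdeal (Y.presheaf.stalk x) :=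
      germ_mem_maximalIdeal a x ((mem_primeIdealOf_iff x a).1 ha)
    have h1 : M.presheaf.germ ⊤ x trivial (a • t) = 0 := by
      rw [germ_smul, ← ht, smul_comm, hkill _ hga, smul_zero]
    exact exists_smul_eq_zero_of_germ_eq_zero M hT x trivial (a • t) h1
  choose! G hG using key
  have hprod : ∀ S' : Finset Γ(Y, ⊤), (∀ a ∈ S', a ∈ P) → x ∈ Y.basicOpen (∏ a ∈ S', G a) := by
    intro S'
    induction S' using Finset.induction_on with
    | empty =>
      intro _
      rw [Finset.prod_empty, Y.mem_basicOpen_top, map_one]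
      exact isUnit_one
    | insert a S'' ha ih =>
      intro hmem
      rw [Finset.prod_insert ha, Scheme.basicOpen_mul]
      exact ⟨(hG a (hmem a (Finset.mem_insert_self a S''))).1,
        ih (fun b hb => hmem b (Finset.mem_insert_of_mem hb))⟩
  have hSP : ∀ a ∈ S, a ∈ P := by
    intro a ha
    rw [← hS]
    exact Ideal.subset_span ha
  set h := ∏ a ∈ S, G a with hh
  have hxh : x ∈ Y.basicOpen h := hprod S hSP
  have huh : IsUnit (Y.presheaf.germ ⊤ x trivial h) := (Y.mem_basicOpen_top h x).1 hxh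
  have hS0 : ∀ a ∈ S, a • (h • t) = 0 := by
    intro a ha
    rw [hh, ← Finset.mul_prod_erase S G ha, smul_smul,
      show a * (G a * ∏ b ∈ S.erase a, G b) = (∏ b ∈ S.erase a, G b) * G a * a by ring,
      mul_smul, mul_smul, (hG a (hSP a ha)).2, smul_zero]
  have hP0 : ∀ a ∈ P, a • (h • t) = 0 := by
    intro a ha
    rw [← hS] at ha
    refine Submodule.span_induction (p := fun a _ => a • (h • t) = 0) ?_ ?_ ?_ ?_ ha
    · intro b hb
      exact hS0 b hb
    · exact zero_smul _ _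
    · intro b c _ _ hb hc
      rw [add_smul, hb, hc, add_zero]
    · intro b c _ hc
      rw [smul_eq_mul, mul_smul, hc, smul_zero]
  have hgerm : M.presheaf.germ ⊤ x trivial (h • t) ≠ 0 := by
    intro hz
    rw [germ_smul] at hz
    have h1 := eq_zero_of_isUnit_smul huh hz
    rw [← ht] at h1
    exact hm0 (eq_zero_of_isUnit_smul hug h1)
  -- `h • t` vanishes on `U`
  have hres : ((Scheme.Modules.restrictAdjunction U.ι).unit.app M).app ⊤ (h • t) = 0 := by
    change M.presheaf.map (homOfLE (U.ι.image_preimage_le ⊤)).op (h • t) = 0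
    apply TopCat.Presheaf.section_ext ⟨M.presheaf, M.isSheaf⟩ (U.ι ''ᵁ U.ι ⁻¹ᵁ ⊤)
    intro y hy
    have hyU : y ∈ U := by
      have := U.ι.image_le_opensRange _ hy
      rwa [Scheme.Opens.opensRange_ι] at this
    obtain ⟨a, ha1, ha2⟩ := hT.exists_basicOpen_le (V := U) ⟨y, hyU⟩ trivial
    have haP : a ∈ P := (mem_primeIdealOf_iff x a).2 (fun hxa => hx (ha1 hxa))
    have hua : IsUnit (Y.presheaf.germ ⊤ y trivial a) := (Y.mem_basicOpen_top a y).1 ha2
    rw [map_zero, TopCat.Presheaf.germ_res_apply]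
    apply eq_zero_of_isUnit_smul hua
    rw [← germ_smul, hP0 a haP, map_zero]
  obtain ⟨k, hk⟩ := Groth.Agent.Helper13.KerSec.exists_kernel_section
    ((Scheme.Modules.restrictAdjunction U.ι).unit.app M) ⊤ (h • t) hres
  have hk0 : k = 0 := @Subsingleton.elim _ ((isZero_iff_sections _).1 h0 ⊤) _ _
  apply hgerm
  rw [← hk, hk0, map_zero, map_zero]

end Affine

end Groth.Agent.Helper9.LcDepth
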