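import Mathlib
import Groth.Agent.Lib.Helper9.LcDepth1
import Groth.Agent.Lib.Helper9.LcDepth4
import Groth.Agent.Lib.Helper9.RGammaQC
import Groth.Agent.Lib.Helper9.LocCohQC
import Groth.Agent.Lib.Helper5.LRes1
import Groth.Agent.Lib.Helper16.Alg.FibModAlg1
import Groth.Agent.Lib.Helper13.FinTypeRestrict
import Groth.Agent.S6030

/-!
# Depth and vanishing of local cohomology sheaves (helper9)

`main6034`: for a coherent module `M` on a locally Noetherian scheme and `Z = X ∖ U`:
`ℋ^i_Z(M) = 0` for all `i < n` iff `depth M_x ≥ n` for all `x ∈ Z`.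
-/

set_option autoImplicit false
set_option linter.unusedSectionVars false
universe u
open CategoryTheory CategoryTheory.Limits Opposite AlgebraicGeometry TopologicalSpace

namespace Groth.Agent.Helper9.LcDepth

open Groth.Agent.Helper13.QCoh IsLocalRing
open Groth.Agent.Helper13.ToAbExact (toAbF)

section DepthExt

/-- depth is invariant under extension of scalars along a ring isomorphism. -/
theorem depth_extendScalars_of_bijective {R R' : Type u} [CommRing R] [CommRing R']
    [IsLocalRing R] [IsLocalRing R'] (φ : R →+* R') (hφ : Function.Bijective φ)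
    (N : ModuleCat.{u} R) :
    LocCoh.depth R' ((ModuleCat.extendScalars φ).obj N) = LocCoh.depth R N := by
  obtain ⟨e, he⟩ : ∃ e : R ≃+* R', φ = e.toRingHom :=
    ⟨RingEquiv.ofBijective φ hφ, RingHom.ext (fun _ => rfl)⟩
  subst he
  let E := ModuleCat.restrictScalarsEquivalenceOfRingEquiv e
  have adj1 : ModuleCat.extendScalars e.toRingHom ⊣ ModuleCat.restrictScalars e.toRingHom :=
    ModuleCat.extendRestrictScalarsAdj e.toRingHom
  have adj2 : E.inverse ⊣ ModuleCat.restrictScalars e.toRingHom := E.symm.toAdjunction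
  let iso : ModuleCat.extendScalars e.toRingHom ≅ E.inverse := adj1.leftAdjointUniq adj2
  let ψ : R' →+* R := e.symm.toRingHom
  letI : Algebra R' R := ψ.toAlgebra
  letI : Module R' N := Module.compHom N ψ
  haveI : IsScalarTower R' R N := IsScalarTower.of_algebraMap_smul (fun r m => rfl)
  have h2 : LocCoh.depth R' N = LocCoh.depth R N :=
    Groth.Agent.Helper16.FibModAlg.depth_eq_of_surjective' (R₁ := R') (R₂ := R)
      (fun r => ⟨e r, e.symm_apply_apply r⟩) N
  rw [← h2]
  exact Groth.Agent.Helper9.Depth.depth_congr (iso.app N).toLinearEquiv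

end DepthExt

variable {Y : Scheme.{u}}

/-- the depth of the stalks of a restriction to an open subscheme. -/
theorem depth_restrict_stalk (V : Y.Opens) (M : Y.Modules) (x' : V.toScheme) :
    LocCoh.depth (V.toScheme.presheaf.stalk x') (((ρ V).obj M).presheaf.stalk x') =
      LocCoh.depth (Y.presheaf.stalk (V.ι.base x')) (M.presheaf.stalk (V.ι.base x')) := by
  have iso := (Groth.Agent.Helper5.LDer.restrictStalkIso V.ι x').app M
  have h1 := Groth.Agent.Helper9.Depth.depth_congr iso.toLinearEquiv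
  have h2 := depth_extendScalars_of_bijective (Groth.Agent.Helper5.Sky.φst V.ι x')
    (Groth.Agent.Helper5.LDer.bijective_φst V.ι x') ((DerSch.stalkFunctor Y (V.ι.base x')).obj M)
  exact h1.trans h2

theorem isCoh_restrict (V : Y.Opens) (M : Y.Modules) (hM : Coh.IsCoh M) :
    Coh.IsCoh ((ρ V).obj M) := by
  haveI := hM.1
  haveI := hM.2
  exact ⟨inferInstanceAs ((Scheme.Modules.restrictFunctor V.ι).obj M).IsQuasicoherent,
    Groth.Agent.Helper13.FinType.isFiniteType_restrict V.ι M⟩

section Main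

variable (U : Y.Opens)

/-- multiplication by `r` as an endomorphism of the identity functor. -/
noncomputable def mulNat (r : Γ(Y, ⊤)) : 𝟭 Y.Modules ⟶ 𝟭 Y.Modules where
  app M := mulBy M r
  naturality _ _ f := KLin.comp_smulModΓ f r

lemma gammaZ_map_mulBy (M : Y.Modules) (r : Γ(Y, ⊤)) :
    (DCoh.gammaZ U.ι).map (mulBy M r) = mulBy ((DCoh.gammaZ U.ι).obj M) r := by
  apply (cancel_mono ((Groth.Agent.Helper9.LocCohQC.ι U.ι).app M)).1
  have h1 := Groth.Agent.Helper9.LocCohQC.ι_nat U.ι (mulBy M r)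
  have h2 := KLin.comp_smulModΓ ((Groth.Agent.Helper9.LocCohQC.ι U.ι).app M) r
  exact h1.trans h2

lemma rightDerived_map_mulBy (i : ℕ) (M : Y.Modules) (r : Γ(Y, ⊤)) :
    ((DCoh.gammaZ U.ι).rightDerived i).map (mulBy M r) =
      mulBy (((DCoh.gammaZ U.ι).rightDerived i).obj M) r :=
  rightDerived_map_central (DCoh.gammaZ U.ι) (mulNat r) (mulNat r)
    (fun M => gammaZ_map_mulBy U M r) i M

lemma mono_rightDerived_zero {M M' : Y.Modules} (f : M ⟶ M') [Mono f] :
    Mono (((DCoh.gammaZ U.ι).rightDerived 0).map f) := by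
  have hnat := (DCoh.gammaZ U.ι).rightDerivedZeroIsoSelf.hom.naturality f
  haveI : Mono ((DCoh.gammaZ U.ι).map f) := inferInstance
  haveI : Mono (((DCoh.gammaZ U.ι).rightDerived 0).map f ≫
      (DCoh.gammaZ U.ι).rightDerivedZeroIsoSelf.hom.app M') := by
    rw [hnat]
    infer_instance
  exact mono_of_mono _ ((DCoh.gammaZ U.ι).rightDerivedZeroIsoSelf.hom.app M')

/-- depth at least `n` along the complement of `U`. -/
def DepthGE (M : Y.Modules) (n : ℕ) : Prop :=
  ∀ x : Y, x ∉ U → (n : ℕ∞) ≤ LocCoh.depth (Y.presheaf.stalk x) (M.presheaf.stalk x)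

/-- vanishing of the local cohomology sheaves in degrees `< n`. -/
def VanLT (M : Y.Modules) (n : ℕ) : Prop :=
  ∀ i : ℕ, i < n → IsZero (((DCoh.gammaZ U.ι).rightDerived i).obj M)

lemma enat_le_of_succ_le {n : ℕ} {d : ℕ∞} (h : ((n + 1 : ℕ) : ℕ∞) ≤ d + 1) : (n : ℕ∞) ≤ d := by
  by_cases hd : d = ⊤
  · rw [hd]
    exact le_top
  · lift d to ℕ using hd
    norm_cast at h ⊢
    omega

lemma enat_succ_le_of_le {n : ℕ} {d : ℕ∞} (h : (n : ℕ∞) ≤ d) : ((n + 1 : ℕ) : ℕ∞) ≤ d + 1 := by
  by_cases hd : d = ⊤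
  · rw [hd, top_add]
    exact le_top
  · lift d to ℕ using hd
    norm_cast at h ⊢
    omega

section AffineMain

variable [IsAffine Y] [IsLocallyNoetherian Y]

theorem vanLT_of_depthGE (n : ℕ) :
    ∀ M : Y.Modules, Coh.IsCoh M → DepthGE U M n → VanLT U M n := by
  induction n with
  | zero =>
    intro M _ _ i hi
    exact absurd hi (Nat.not_lt_zero i)
  | succ n ih =>
    intro M hM hD
    have hD1 : ∀ x : Y, x ∉ U →
        (1 : ℕ∞) ≤ LocCoh.depth (Y.presheaf.stalk x) (M.presheaf.stalk x) := by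
      intro x hx
      refine le_trans ?_ (hD x hx)
      have : (1 : ℕ) ≤ n + 1 := by omega
      exact_mod_cast this
    obtain ⟨r, hr, hmono⟩ := exists_regular U M hM hD1
    haveI := hmono
    have hM' : Coh.IsCoh (quotBy M r) := isCoh_quotBy M r hM
    have hD' : DepthGE U (quotBy M r) n := by
      intro x hx
      have hxr : x ∉ Y.basicOpen r := fun h => hx (hr h)
      have e := depth_quotBy M r hM x hxr
      have h1 : ((n + 1 : ℕ) : ℕ∞) ≤
          LocCoh.depth (Y.presheaf.stalk x) (M.presheaf.stalk x) := hD x hx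
      rw [← e] at h1
      exact enat_le_of_succ_le h1
    have hV' := ih (quotBy M r) hM' hD'
    have hS := quotSC_shortExact M r
    let T := Groth.Agent.Helper9.DeltaIso.rDelta (DCoh.gammaZ U.ι)
    intro i hi
    have hmonoi : Mono (((DCoh.gammaZ U.ι).rightDerived i).map (mulBy M r)) := by
      cases i with
      | zero => exact mono_rightDerived_zero U (mulBy M r)
      | succ k =>
        have hz : IsZero (((DCoh.gammaZ U.ι).rightDerived k).obj (quotBy M r)) :=
          hV' k (by omega)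
        have ex := T.exact₁ (quotSC M r) hS k (k + 1) rfl
        exact ex.mono_g (hz.eq_of_src _ _)
    rw [rightDerived_map_mulBy] at hmonoi
    haveI := hmonoi
    haveI : (((DCoh.gammaZ U.ι).rightDerived i).obj M).IsQuasicoherent :=
      Groth.Agent.S6030.result U.ι M hM.1 i
    exact isZero_of_mono_mulBy _ r U hr
      (Groth.Agent.Helper9.RGammaQC.isZero_restrict_rightDerived U.ι M i)

theorem depthGE_of_vanLT (n : ℕ) :
    ∀ M : Y.Modules, Coh.IsCoh M → VanLT U M n → DepthGE U M n := by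
  induction n with
  | zero =>
    intro M _ _ x _
    rw [Nat.cast_zero]
    exact zero_le
  | succ n ih =>
    intro M hM hV
    have h0 : IsZero ((DCoh.gammaZ U.ι).obj M) :=
      (hV 0 (Nat.succ_pos n)).of_iso ((DCoh.gammaZ U.ι).rightDerivedZeroIsoSelf.app M).symm
    have hD1 := one_le_depth_of_isZero_gammaZ U M hM h0
    obtain ⟨r, hr, hmono⟩ := exists_regular U M hM hD1
    haveI := hmono
    have hM' : Coh.IsCoh (quotBy M r) := isCoh_quotBy M r hM
    have hS := quotSC_shortExact M r
    let T := Groth.Agent.Helper9.DeltaIso.rDelta (DCoh.gammaZ U.ι)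
    have hV' : VanLT U (quotBy M r) n := by
      intro i hi
      have ex := T.exact₃ (quotSC M r) hS i (i + 1) rfl
      have hz1 : IsZero (((DCoh.gammaZ U.ι).rightDerived i).obj M) := hV i (by omega)
      have hz2 : IsZero (((DCoh.gammaZ U.ι).rightDerived (i + 1)).obj M) :=
        hV (i + 1) (by omega)
      exact ex.isZero_of_both_zeros (hz1.eq_of_src _ _) (hz2.eq_of_tgt _ _)
    have hD' := ih (quotBy M r) hM' hV'
    intro x hx
    have hxr : x ∉ Y.basicOpen r := fun h => hx (hr h)
    rw [← depth_quotBy M r hM x hxr]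
    exact enat_succ_le_of_le (hD' x hx)

theorem vanLT_iff_depthGE_affine (M : Y.Modules) (hM : Coh.IsCoh M) (n : ℕ) :
    VanLT U M n ↔ DepthGE U M n :=
  ⟨depthGE_of_vanLT U n M hM, vanLT_of_depthGE U n M hM⟩

end AffineMain

theorem vanLT_iff_depthGE [IsLocallyNoetherian Y] (M : Y.Modules) (hM : Coh.IsCoh M) (n : ℕ) :
    VanLT U M n ↔ DepthGE U M n := by
  have key : ∀ V : Y.affineOpens, VanLT (V.1.ι ⁻¹ᵁ U) ((ρ V.1).obj M) n ↔
      DepthGE (V.1.ι ⁻¹ᵁ U) ((ρ V.1).obj M) n := by
    intro V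
    haveI : IsAffine V.1.toScheme := V.2
    haveI : IsLocallyNoetherian V.1.toScheme := isLocallyNoetherian_of_isOpenImmersion V.1.ι
    exact vanLT_iff_depthGE_affine (V.1.ι ⁻¹ᵁ U) ((ρ V.1).obj M) (isCoh_restrict V.1 M hM) n
  have hQ : VanLT U M n ↔
      ∀ V : Y.affineOpens, VanLT (V.1.ι ⁻¹ᵁ U) ((ρ V.1).obj M) n := by
    constructor
    · intro h V i hi
      exact (isZero_rightDerived_restrict_iff U V.1 i M).1
        (isZero_restrict_of_isZero V.1 _ (h i hi))
    · intro h i hi
      haveI : (((DCoh.gammaZ U.ι).rightDerived i).obj M).IsQuasicoherent :=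
        Groth.Agent.S6030.result U.ι M hM.1 i
      exact isZero_of_isZero_restrict _
        (fun V => (isZero_rightDerived_restrict_iff U V.1 i M).2 (h V i hi))
  have hDD : DepthGE U M n ↔
      ∀ V : Y.affineOpens, DepthGE (V.1.ι ⁻¹ᵁ U) ((ρ V.1).obj M) n := by
    constructor
    · intro h V x' hx'
      rw [depth_restrict_stalk V.1 M x']
      exact h (V.1.ι.base x') hx'
    · intro h x hx
      obtain ⟨V, hxV⟩ := affine_cover x
      have e := depth_restrict_stalk V.1 M (⟨x, hxV⟩ : ↥V.1)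
      have h1 := h V (⟨x, hxV⟩ : ↥V.1) hx
      exact le_of_le_of_eq h1 e
  rw [hQ, hDD]
  exact forall_congr' key

/-- the statement of S6034. -/
theorem main6034 (X : Scheme.{u}) [IsLocallyNoetherian X] (U : X.Opens)
    (M : X.Modules) (hM : Coh.IsCoh M) (n : ℕ) :
    (∀ i : ℕ, i < n → IsZero ((LocCohZ.HZsh (X := X.carrier) U i).obj (Coh.toAb M))) ↔
      ∀ x : X, x ∉ (U : Set X) →
        (n : ℕ∞) ≤ LocCoh.depth (X.presheaf.stalk x) (M.presheaf.stalk x) := by
  have h1 : (∀ i : ℕ, i < n →
      IsZero ((LocCohZ.HZsh (X := X.carrier) U i).obj (Coh.toAb M))) ↔ VanLT U M n := by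
    refine forall_congr' (fun i => imp_congr_right (fun _ => ?_))
    obtain ⟨e⟩ := nonempty_rightDerived_gammaZ_toAb U i
    have e' : (toAbF X).obj (((DCoh.gammaZ U.ι).rightDerived i).obj M) ≅
        (LocCohZ.HZsh (X := X.carrier) U i).obj (Coh.toAb M) := e.app M
    constructor
    · intro h
      exact Groth.Agent.Helper9.LocCohQC.isZero_of_isZero_toAb _ (h.of_iso e')
    · intro h
      exact ((toAbF X).map_isZero h).of_iso e'.symm
  rw [h1]
  exact vanLT_iff_depthGE U M hM n

end Main

end Groth.Agent.Helper9.LcDepth
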