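import Mathlib
import Groth.Agent.Lib.Helper13.SpSeqLib
import Groth.Agent.Lib.Helper13.DualFinLocFree
import Groth.Agent.Lib.Helper17.FCH7
import Groth.Agent.Lib.Lead.Depth6
import Groth.Agent.Lib.Helper9.ResVan
import Groth.Agent.Lib.Helper9.LcDepth5
import Groth.Agent.S6029

/-!
# Edge isomorphisms of spectral sequences and `Γ(X, ℋ^d_Z(M)) ≅ H^d_Z(X, M)` (helper9)

* `edge_iso`: if on the line `p + q = n` only the position `(p₀, q₀)` is nonzero on page `r`, this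
  position is stationary from page `r` on and the filtration of `H n` is finite, then
  `H n ≅ E_r^{p₀,q₀}`;
* `main14116`: for a finite locally free module on a locally Noetherian scheme whose local rings
  along `Z` have depth `≥ d`: `Γ(X, ℋ^d_Z(M)) ≅ H^d_Z(X, M)`.
-/

set_option autoImplicit false
universe v u
open CategoryTheory CategoryTheory.Limits Opposite AlgebraicGeometry TopologicalSpace

namespace Groth.Agent.Helper9.EdgeIso

open Groth.Agent.Helper13.SpSeqL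

section Abstract

variable {C : Type u} [Category.{v} C] [Abelian C] {r₀ : ℤ}

lemma gr_transport {E : CohomologicalSpectralSequence C r₀} {H : ℤ → C} (a : SpSeq.Abutment E H)
    (M n : ℤ) (hM : M = n) (p : ℤ) :
    Nonempty (SpSeq.grPiece (a.fil M) (a.anti M) p ≅ SpSeq.grPiece (a.fil n) (a.anti n) p) := by
  subst hM
  exact ⟨Iso.refl _⟩

/-- the edge isomorphism when a single position survives on the line `p + q = n`. -/
theorem edge_iso (E : CohomologicalSpectralSequence C r₀) {H : ℤ → C} (a : SpSeq.Abutment E H)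
    (r : ℤ) (hr : r₀ ≤ r) (n p₀ q₀ : ℤ) (hn : p₀ + q₀ = n)
    (hdeg : ∀ p q : ℤ, p + q = n → p ≠ p₀ → IsZero ((E.page r hr).X (p, q)))
    (hfin : a.IsFinite n)
    (hst : SpSeq.StationaryAt E (p₀, q₀) r) :
    Nonempty (H n ≅ (E.page r hr).X (p₀, q₀)) := by
  have hz : ∀ p, p ≠ p₀ → IsZero (SpSeq.grPiece (a.fil n) (a.anti n) p) := by
    intro p hp
    have h2 := isZero_gr_of_isZero E r hr (p, n - p) (hdeg p (n - p) (by omega) hp) a
    obtain ⟨e⟩ := gr_transport a (p + (n - p)) n (by omega) p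
    exact IsZero.of_iso h2 e.symm
  obtain ⟨⟨t, ht⟩, hdisc⟩ := hfin
  have hexh : IsLUB (Set.range (a.fil n)) ⊤ := by
    refine ⟨fun _ _ => le_top, fun b hb => ?_⟩
    have h1 : a.fil n t ≤ b := hb ⟨t, rfl⟩
    have ht' : a.fil n t = ⊤ := ht
    rw [ht'] at h1
    exact h1
  obtain ⟨e1⟩ := gr_iso_of_single (a.fil n) (a.anti n) p₀ hz hdisc hexh
  obtain ⟨e2⟩ := gr_transport a (p₀ + q₀) n hn p₀
  obtain ⟨e3⟩ := iso_of_stationary_of_stationary E (p₀, q₀) _ r (a.stat (p₀, q₀)) hst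
  exact ⟨e1.symm ≪≫ e2.symm ≪≫ (a.β (p₀, q₀)).symm ≪≫ e3⟩

end Abstract

section Top

variable {X : TopCat.{u}}

/-- the cohomology of a zero sheaf vanishes. -/
lemma subsingleton_HU_of_isZero (Z : CohTop.Ab X) (hZ : IsZero Z) (k : ℕ) (V : Opens X) :
    Subsingleton (CohTop.HU Z k V) := by
  have key : ∀ c : Abelian.Ext.{u} (CohCx.freeSheaf (Opens.grothendieckTopology X) V) Z k,
      c = 0 := by
    intro c
    rw [← Abelian.Ext.comp_mk₀_id c, hZ.eq_of_src (𝟙 Z) 0, Abelian.Ext.mk₀_zero,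
      Abelian.Ext.comp_zero]
  exact ⟨fun a b => (key a).trans (key b).symm⟩

/-- if `ℋ^i_Z(F) = 0` for `i < d`, then `H^d_Z(X, F) ≅ Γ(X, ℋ^d_Z(F))`. -/
theorem nonempty_sections_equiv_HZc (F : CohTop.Ab X) (U : Opens X) (d : ℕ)
    (hvan : ∀ i : ℕ, i < d → IsZero ((LocCohZ.HZsh U i).obj F)) :
    Nonempty (((LocCohZ.HZsh U d).obj F).obj.obj (op ⊤) ≃+ LocCohZ.HZc F d U) := by
  obtain ⟨E, a, hfin, -, hE2⟩ := Groth.Agent.S6029.result F U
  have hpu : IsZero (AddCommGrpCat.of PUnit.{u + 1}) := AddCommGrpCat.isZero_of_subsingleton _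
  have hzero : ∀ pq : ℤ × ℤ, (pq.1 < 0 ∨ pq.2 < 0 ∨ pq.2 < (d : ℤ)) →
      IsZero ((E.page 2 le_rfl).X pq) := by
    intro pq h
    obtain ⟨e⟩ := hE2 pq.1 pq.2
    refine IsZero.of_iso ?_ e
    by_cases hc : 0 ≤ pq.1 ∧ 0 ≤ pq.2
    · rw [if_pos hc]
      have hq : pq.2.toNat < d := by omega
      haveI := subsingleton_HU_of_isZero _ (hvan pq.2.toNat hq) pq.1.toNat ⊤
      exact AddCommGrpCat.isZero_of_subsingleton _
    · rw [if_neg hc]
      exact hpu
  have hdeg : ∀ p q : ℤ, p + q = (d : ℤ) → p ≠ 0 → IsZero ((E.page 2 le_rfl).X (p, q)) := by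
    intro p q hpq hp
    apply hzero
    show p < 0 ∨ q < 0 ∨ q < (d : ℤ)
    omega
  have hst : SpSeq.StationaryAt E ((0 : ℤ), (d : ℤ)) 2 := by
    refine ⟨le_rfl, fun r' h₀ hr' => ⟨?_, ?_⟩⟩
    · refine IsZero.eq_of_src (isZero_of_le E 2 le_rfl _ (hzero _ ?_) r' hr') _ _
      left
      show (0 : ℤ) - r' < 0
      omega
    · refine IsZero.eq_of_tgt (isZero_of_le E 2 le_rfl _ (hzero _ ?_) r' hr') _ _
      right
      right
      show (d : ℤ) + (1 - r') < (d : ℤ)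
      omega
  obtain ⟨e⟩ := edge_iso E a 2 le_rfl (d : ℤ) 0 (d : ℤ) (zero_add _) hdeg (hfin d) hst
  obtain ⟨e2⟩ := hE2 0 (d : ℤ)
  have eH : (if (0 : ℤ) ≤ (d : ℤ) then AddCommGrpCat.of (LocCohZ.HZc F (d : ℤ).toNat U)
      else AddCommGrpCat.of PUnit.{u + 1}) = AddCommGrpCat.of (LocCohZ.HZc F d U) := by
    rw [if_pos (Int.natCast_nonneg d), Int.toNat_natCast]
  have eE : (if (0 : ℤ) ≤ 0 ∧ (0 : ℤ) ≤ (d : ℤ) then
      AddCommGrpCat.of (CohTop.HU ((LocCohZ.HZsh U (d : ℤ).toNat).obj F) (0 : ℤ).toNat ⊤)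
      else AddCommGrpCat.of PUnit.{u + 1}) =
      AddCommGrpCat.of (CohTop.HU ((LocCohZ.HZsh U d).obj F) 0 ⊤) := by
    rw [if_pos ⟨le_rfl, Int.natCast_nonneg d⟩, Int.toNat_natCast, Int.toNat_zero]
  let i1 : AddCommGrpCat.of (LocCohZ.HZc F d U) ≅
      AddCommGrpCat.of (CohTop.HU ((LocCohZ.HZsh U d).obj F) 0 ⊤) :=
    eqToIso eH.symm ≪≫ e ≪≫ e2 ≪≫ eqToIso eE
  exact ⟨(Groth.Agent.Helper17.FCH.psi ((LocCohZ.HZsh U d).obj F) ⊤).symm.trans
    i1.symm.addCommGroupIsoToAddEquiv⟩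

end Top

section Scheme

/-- the statement of S14116. -/
theorem main14116 (X : Scheme.{u}) [IsLocallyNoetherian X] (U : X.Opens) (d : ℕ)
    (hdepth : ∀ x : ↥X, x ∉ (U : Set ↥X) →
      (d : ℕ∞) ≤ LocCoh.depth ↑(X.presheaf.stalk x) ↑(X.presheaf.stalk x))
    (M : X.Modules) (hM : FlatMod.IsFinLocFree M) :
    Nonempty (↑(((LocCohZ.HZsh (X := X.carrier) U d).obj (Coh.toAb M)).obj.obj (op ⊤)) ≃+
      LocCohZ.HZM X M d U) := by
  have hcoh : Coh.IsCoh M := Groth.Agent.Helper9.ResVan.isCoh_of_isFinLocFree M hM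
  have hD : ∀ x : X, x ∉ (U : Set X) →
      (d : ℕ∞) ≤ LocCoh.depth (X.presheaf.stalk x) (M.presheaf.stalk x) := by
    intro x hx
    obtain ⟨hfree, hfinite⟩ := Groth.Agent.Helper13.DualFinLocFree.free_finite_stalk M hM x
    rcases subsingleton_or_nontrivial (M.presheaf.stalk x) with hs | hn
    · rw [Groth.Agent.Helper9.Depth.depth_eq_top_of_subsingleton]
      exact le_top
    · rw [Groth.Agent.Lead.Depth.depth_free (M.presheaf.stalk x)]
      exact hdepth x hx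
  have hvan := (Groth.Agent.Helper9.LcDepth.main6034 X U M hcoh d).2 hD
  exact nonempty_sections_equiv_HZc (X := X.carrier) (Coh.toAb M) U d hvan

end Scheme

end Groth.Agent.Helper9.EdgeIso
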