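import Mathlib
import Groth.Agent.Lib.Helper9.LcDepth5
import Groth.Agent.Lib.Helper9.LocCohQC2

/-!
# Vanishing of local cohomology sheaves above the dimension (helper9)

* `exists_local_generators`: in a Noetherian ring, an ideal `I` contained in a prime `𝔭` of height
  `≤ d` is cut out, set-theoretically and near `𝔭`, by `d` of its elements (prime avoidance);
* `isZero_rightDerived_of_dim_lt`: on a locally Noetherian scheme, `ℋ^i_Z(M) = 0` for
  quasi-coherent `M` as soon as `dim O_{X,x} < i` for all `x ∈ Z`;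
* `main6038`.
-/

set_option autoImplicit false
set_option linter.unusedSectionVars false
universe u
open CategoryTheory CategoryTheory.Limits Opposite AlgebraicGeometry TopologicalSpace

namespace Groth.Agent.Helper9.LcDim

section Alg

variable {A : Type*} [CommRing A] [IsNoetherianRing A]

theorem exists_finset_le_height (I : Ideal A) (k : ℕ) :
    ∃ s : Finset A, s.card ≤ k ∧ (↑s : Set A) ⊆ I ∧
      ∀ p : Ideal A, p.IsPrime → Ideal.span (↑s : Set A) ≤ p → ¬ I ≤ p →
        (k : ℕ∞) ≤ p.height := by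
  classical
  induction k with
  | zero =>
    refine ⟨∅, le_rfl, by simp, fun p _ _ _ => ?_⟩
    rw [Nat.cast_zero]
    exact zero_le
  | succ k ih =>
    obtain ⟨s, hcard, hsI, hs⟩ := ih
    have hfin := Ideal.finite_minimalPrimes_of_isNoetherianRing A (Ideal.span (↑s : Set A))
    let P : Finset (Ideal A) := hfin.toFinset.filter (fun q => ¬ I ≤ q)
    have hx : ∃ x ∈ I, ∀ q ∈ P, x ∉ q := by
      by_contra hcon
      push Not at hcon
      have hsub : (I : Set A) ⊆ ⋃ q ∈ (↑P : Set (Ideal A)), ((id q : Ideal A) : Set A) := by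
        intro x hxI
        obtain ⟨q, hq, hxq⟩ := hcon x hxI
        exact Set.mem_iUnion₂.2 ⟨q, hq, hxq⟩
      obtain ⟨q, hq, hIq⟩ := (Ideal.subset_union_prime (f := id) ⊤ ⊤
        (fun q hq _ _ => ((Set.Finite.mem_toFinset hfin).1 (Finset.mem_filter.1 hq).1).1.1)).1 hsub
      exact (Finset.mem_filter.1 hq).2 hIq
    obtain ⟨x, hxI, hxP⟩ := hx
    refine ⟨insert x s, ?_, ?_, ?_⟩
    · exact (Finset.card_insert_le x s).trans (Nat.succ_le_succ hcard)
    · intro y hy
      rw [Finset.coe_insert] at hy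
      rcases hy with rfl | hy
      · exact hxI
      · exact hsI hy
    · intro p hp hsp hIp
      haveI := hp
      have hsp' : Ideal.span (↑s : Set A) ≤ p :=
        (Ideal.span_mono (by rw [Finset.coe_insert]; exact Set.subset_insert x ↑s)).trans hsp
      have hxp : x ∈ p :=
        hsp (Ideal.subset_span (by rw [Finset.coe_insert]; exact Set.mem_insert x ↑s))
      obtain ⟨q, hq, hqp⟩ := Ideal.exists_minimalPrimes_le hsp'
      haveI : q.IsPrime := hq.1.1
      have hIq : ¬ I ≤ q := fun h => hIp (h.trans hqp)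
      have hqP : q ∈ P := Finset.mem_filter.2 ⟨(Set.Finite.mem_toFinset hfin).2 hq, hIq⟩
      have hne : q ≠ p := fun h => hxP q hqP (h ▸ hxp)
      have hlt : q < p := lt_of_le_of_ne hqp hne
      have h1 : (k : ℕ∞) ≤ q.height := hs q hq.1.1 hq.1.2 hIq
      have h2 := Ideal.height_add_one_le_of_lt_of_isPrime hlt
      calc ((k + 1 : ℕ) : ℕ∞) = (k : ℕ∞) + 1 := by push_cast; rfl
        _ ≤ q.height + 1 := by gcongr
        _ ≤ p.height := h2

lemma exists_notMem_forall_mem (𝔭 : Ideal A) [h𝔭 : 𝔭.IsPrime] (P : Finset (Ideal A))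
    (hP : ∀ q ∈ P, ¬ q ≤ 𝔭) : ∃ g : A, g ∉ 𝔭 ∧ ∀ q ∈ P, g ∈ q := by
  classical
  induction P using Finset.induction_on with
  | empty =>
    exact ⟨1, fun h => h𝔭.ne_top ((Ideal.eq_top_iff_one _).2 h), fun q hq => by simp at hq⟩
  | insert q P' hq ih =>
    obtain ⟨g', hg', hg'P⟩ := ih (fun q' hq' => hP q' (Finset.mem_insert_of_mem hq'))
    obtain ⟨gq, hgq, hgq'⟩ := SetLike.not_le_iff_exists.1 (hP q (Finset.mem_insert_self q P'))
    refine ⟨gq * g', fun h => ?_, fun q' hq' => ?_⟩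
    · rcases h𝔭.mem_or_mem h with h1 | h1
      · exact hgq' h1
      · exact hg' h1
    · rcases Finset.mem_insert.1 hq' with rfl | h1
      · exact Ideal.mul_mem_right _ _ hgq
      · exact Ideal.mul_mem_left _ _ (hg'P q' h1)

/-- near a prime of height `≤ d` containing `I`, the closed set `V(I)` is cut out by `d` elements
of `I`. -/
theorem exists_local_generators (I 𝔭 : Ideal A) [h𝔭 : 𝔭.IsPrime] (hI : I ≤ 𝔭) (d : ℕ)
    (hd : 𝔭.height ≤ (d : ℕ∞)) :
    ∃ (s : Finset A) (g : A), s.card ≤ d ∧ (↑s : Set A) ⊆ I ∧ g ∉ 𝔭 ∧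
      ∀ p : Ideal A, p.IsPrime → g ∉ p → (Ideal.span (↑s : Set A) ≤ p ↔ I ≤ p) := by
  classical
  obtain ⟨s, hcard, hsI, hs⟩ := exists_finset_le_height I d
  have hfin := Ideal.finite_minimalPrimes_of_isNoetherianRing A (Ideal.span (↑s : Set A))
  let P : Finset (Ideal A) := hfin.toFinset.filter (fun q => ¬ I ≤ q)
  have hP : ∀ q ∈ P, ¬ q ≤ 𝔭 := by
    intro q hq hq𝔭
    obtain ⟨hq1, hq2⟩ := Finset.mem_filter.1 hq
    have hqmin : q ∈ (Ideal.span (↑s : Set A)).minimalPrimes :=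
      (Set.Finite.mem_toFinset hfin).1 hq1
    haveI : q.IsPrime := hqmin.1.1
    have h1 : (d : ℕ∞) ≤ q.height := hs q hqmin.1.1 hqmin.1.2 hq2
    have h2 : q = 𝔭 := Ideal.eq_of_le_of_height_le q hq𝔭 (hd.trans h1)
    apply hq2
    rw [h2]
    exact hI
  obtain ⟨g, hg, hgP⟩ := exists_notMem_forall_mem 𝔭 P hP
  refine ⟨s, g, hcard, hsI, hg, fun p hp hgp =>
    ⟨fun hsp => ?_, fun hIp => (Ideal.span_le.2 hsI).trans hIp⟩⟩
  haveI := hp
  obtain ⟨q, hq, hqp⟩ := Ideal.exists_minimalPrimes_le hsp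
  by_contra hIp
  have hIq : ¬ I ≤ q := fun h => hIp (h.trans hqp)
  have hqP : q ∈ P := Finset.mem_filter.2 ⟨(Set.Finite.mem_toFinset hfin).2 hq, hIq⟩
  exact hgp (hqp (hgP q hqP))

end Alg

section Sch

open Groth.Agent.Helper9.LcDepth Groth.Agent.Helper13.QCoh
open Groth.Agent.Helper13.ToAbExact (toAbF)

variable {X : Scheme.{u}}

/-- a module whose restrictions to the members of an open cover vanish is zero. -/
theorem isZero_of_cover (N : X.Modules)
    (h : ∀ y : X, ∃ W : X.Opens, y ∈ W ∧ IsZero ((ρ W).obj N)) : IsZero N := by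
  rw [isZero_iff_sections]
  intro O
  refine ⟨fun a b => ?_⟩
  apply TopCat.Presheaf.section_ext ⟨N.presheaf, N.isSheaf⟩ O
  intro y hy
  obtain ⟨W, hyW, hW⟩ := h y
  haveI hs := subsingleton_sections_of_isZero_restrict W N hW (O ⊓ W) inf_le_right
  have e : N.presheaf.map (homOfLE (inf_le_left : O ⊓ W ≤ O)).op a =
      N.presheaf.map (homOfLE (inf_le_left : O ⊓ W ≤ O)).op b := Subsingleton.elim _ _
  have e2 := congrArg (N.presheaf.germ (O ⊓ W) y ⟨hy, hyW⟩) e
  rwa [TopCat.Presheaf.germ_res_apply, TopCat.Presheaf.germ_res_apply] at e2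

section Affine

variable [IsAffine X]

lemma vanIdeal_le_primeIdealOf_iff (U : X.Opens) (y : X) :
    vanIdeal U ≤ ((isAffineOpen_top X).primeIdealOf ⟨y, trivial⟩).asIdeal ↔ y ∉ U := by
  constructor
  · intro h hy
    obtain ⟨a, ha1, ha2⟩ := (isAffineOpen_top X).exists_basicOpen_le (V := U) ⟨y, hy⟩ trivial
    exact (mem_primeIdealOf_iff y a).1 (h ha1) ha2
  · intro hy a ha
    exact (mem_primeIdealOf_iff y a).2 (fun h => hy (ha h))

variable [IsLocallyNoetherian X]

theorem exists_basicOpen_cut (U : X.Opens) (x : X) (hx : x ∉ U) (d : ℕ)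
    (hd : ringKrullDim (X.presheaf.stalk x) < ((d + 1 : ℕ) : WithBot ℕ∞)) :
    ∃ (s : Finset Γ(X, ⊤)) (g : Γ(X, ⊤)), s.card ≤ d ∧ x ∈ X.basicOpen g ∧
      ∀ y : X, y ∈ X.basicOpen g → ((∀ a ∈ s, y ∉ X.basicOpen a) ↔ y ∉ U) := by
  have hT := isAffineOpen_top X
  haveI hA : IsNoetherianRing Γ(X, ⊤) := IsLocallyNoetherian.component_noetherian ⟨⊤, hT⟩
  set 𝔭 : Ideal Γ(X, ⊤) := (hT.primeIdealOf ⟨x, trivial⟩).asIdeal with h𝔭
  haveI : 𝔭.IsPrime := (hT.primeIdealOf ⟨x, trivial⟩).isPrime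
  letI : Algebra Γ(X, ⊤) (X.presheaf.stalk x) :=
    TopCat.Presheaf.algebra_section_stalk X.presheaf (U := ⊤) ⟨x, trivial⟩
  haveI : IsLocalization.AtPrime (X.presheaf.stalk x) 𝔭 := hT.isLocalization_stalk ⟨x, trivial⟩
  have hh : ringKrullDim (X.presheaf.stalk x) = 𝔭.height :=
    IsLocalization.AtPrime.ringKrullDim_eq_height 𝔭 (X.presheaf.stalk x)
  have hd' : 𝔭.height ≤ (d : ℕ∞) := by
    rw [hh] at hd
    have h1 : 𝔭.height < ((d + 1 : ℕ) : ℕ∞) := by exact_mod_cast hd
    obtain ⟨m, hm⟩ := ENat.ne_top_iff_exists.1 (ne_top_of_lt h1)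
    rw [← hm] at h1 ⊢
    norm_cast at h1 ⊢
    omega
  obtain ⟨s, g, hcard, -, hg, hsg⟩ := exists_local_generators (vanIdeal U) 𝔭
    ((vanIdeal_le_primeIdealOf_iff U x).2 hx) d hd'
  refine ⟨s, g, hcard, ?_, fun y hy => ?_⟩
  · by_contra hxg
    exact hg ((mem_primeIdealOf_iff x g).2 hxg)
  · have hgy : g ∉ ((hT.primeIdealOf ⟨y, trivial⟩).asIdeal) :=
      fun h => (mem_primeIdealOf_iff y g).1 h hy
    have key := hsg _ (hT.primeIdealOf ⟨y, trivial⟩).isPrime hgy
    rw [← vanIdeal_le_primeIdealOf_iff U y, ← key, Ideal.span_le]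
    constructor
    · intro h a ha
      exact (mem_primeIdealOf_iff y a).2 (h a ha)
    · intro h a ha
      exact (mem_primeIdealOf_iff y a).1 (h ha)

theorem isZero_rightDerived_of_dim_lt_affine (U : X.Opens) (M : X.Modules) [M.IsQuasicoherent]
    (i : ℕ) (hi : ∀ x : X, x ∉ U → ringKrullDim (X.presheaf.stalk x) < (i : WithBot ℕ∞)) :
    IsZero (((DCoh.gammaZ U.ι).rightDerived i).obj M) := by
  apply isZero_of_cover
  intro y
  by_cases hy : y ∈ U
  · exact ⟨U, hy, Groth.Agent.Helper9.RGammaQC.isZero_restrict_rightDerived U.ι M i⟩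
  · have hlt := hi y hy
    have hpos : 0 < i := by
      by_contra h0
      have hi0 : i = 0 := by omega
      subst hi0
      have h1 := ringKrullDim_nonneg_of_nontrivial (R := X.presheaf.stalk y)
      have h2 := lt_of_le_of_lt h1 hlt
      rw [Nat.cast_zero] at h2
      exact lt_irrefl _ h2
    obtain ⟨d, rfl⟩ : ∃ d, i = d + 1 := ⟨i - 1, by omega⟩
    obtain ⟨s, g, hcard, hyg, hcut⟩ := exists_basicOpen_cut U y hy d hlt
    refine ⟨X.basicOpen g, hyg, ?_⟩
    rw [isZero_rightDerived_restrict_iff U (X.basicOpen g) (d + 1) M]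
    classical
    refine Groth.Agent.Helper9.LocCohQC.main7252 (X := (X.basicOpen g).toScheme)
      ((X.basicOpen g).ι ⁻¹ᵁ U) d ?_ ((ρ (X.basicOpen g)).obj M) inferInstance (d + 1)
      (Nat.lt_succ_self d)
    intro z
    refine ⟨(X.basicOpen g).ι ⁻¹ᵁ ⊤, s.image (fun a => (X.basicOpen g).ι.app ⊤ a), trivial,
      (Finset.card_image_le).trans hcard, ?_⟩
    have hiff : ∀ (z' : (X.basicOpen g).toScheme) (a : Γ(X, ⊤)),
        z' ∈ (X.basicOpen g).toScheme.basicOpen ((X.basicOpen g).ι.app ⊤ a) ↔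
          (X.basicOpen g).ι.base z' ∈ X.basicOpen a := by
      intro z' a
      rw [← Scheme.preimage_basicOpen]
      rfl
    ext z'
    have hz'g : (X.basicOpen g).ι.base z' ∈ X.basicOpen g := z'.2
    constructor
    · rintro ⟨h1, h2⟩
      refine ⟨?_, h2⟩
      rw [Scheme.mem_zeroLocus_iff] at h1
      apply (hcut ((X.basicOpen g).ι.base z') hz'g).1
      intro a ha hmem
      exact h1 ((X.basicOpen g).ι.app ⊤ a)
        (Finset.mem_coe.2 (Finset.mem_image_of_mem _ ha)) ((hiff z' a).2 hmem)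
    · rintro ⟨h1, h2⟩
      refine ⟨?_, h2⟩
      rw [Scheme.mem_zeroLocus_iff]
      intro f hf
      obtain ⟨a, ha, rfl⟩ := Finset.mem_image.1 (Finset.mem_coe.1 hf)
      intro hmem
      exact (hcut ((X.basicOpen g).ι.base z') hz'g).2 h1 a ha ((hiff z' a).1 hmem)

end Affine

theorem isZero_rightDerived_of_dim_lt [IsLocallyNoetherian X] (U : X.Opens) (M : X.Modules)
    [M.IsQuasicoherent] (i : ℕ)
    (hi : ∀ x : X, x ∉ U → ringKrullDim (X.presheaf.stalk x) < (i : WithBot ℕ∞)) :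
    IsZero (((DCoh.gammaZ U.ι).rightDerived i).obj M) := by
  haveI : (((DCoh.gammaZ U.ι).rightDerived i).obj M).IsQuasicoherent :=
    Groth.Agent.S6030.result U.ι M inferInstance i
  apply isZero_of_isZero_restrict
  intro V
  haveI : IsAffine V.1.toScheme := V.2
  haveI : IsLocallyNoetherian V.1.toScheme := isLocallyNoetherian_of_isOpenImmersion V.1.ι
  rw [isZero_rightDerived_restrict_iff U V.1 i M]
  apply isZero_rightDerived_of_dim_lt_affine
  intro x' hx'
  have e : X.presheaf.stalk (V.1.ι.base x') ≃+* V.1.toScheme.presheaf.stalk x' :=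
    (asIso (V.1.ι.stalkMap x')).commRingCatIsoToRingEquiv
  rw [← ringKrullDim_eq_of_ringEquiv e]
  exact hi (V.1.ι.base x') hx'

/-- the statement of S6038 (regularity and coherence are not needed). -/
theorem main6038 (X : Scheme.{u}) [IsLocallyNoetherian X] (U : X.Opens) (G : X.Modules)
    (hG : Coh.IsCoh G) (i : ℕ)
    (hi : ∀ x : X, x ∉ (U : Set X) →
      ringKrullDim (X.presheaf.stalk x) < (i : WithBot ℕ∞)) :
    IsZero ((LocCohZ.HZsh (X := X.carrier) U i).obj (Coh.toAb G)) := by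
  haveI := hG.1
  have h := isZero_rightDerived_of_dim_lt U G i hi
  obtain ⟨e⟩ := nonempty_rightDerived_gammaZ_toAb U i
  exact ((toAbF X).map_isZero h).of_iso (e.app G).symm

end Sch

end Groth.Agent.Helper9.LcDim
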