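import Mathlib
import Groth.Agent.Lib.Helper9.LcDim
import Groth.Agent.Lib.Helper13.AffSurj
import Groth.Agent.Lib.Helper13.LocLift

/-!
# Depth, regular sequences of global functions and supports on affine Noetherian schemes (helper9)

On an affine locally Noetherian scheme `Y`, for a coherent module `M` and an open `U` with closed
complement `Z`:

* `sectionsQuotEquiv`: `Γ(M / rM) ≃ Γ(M) / r Γ(M)` for an `M`-regular global function `r`;
* `exists_isRegular_of_depthGE`: if `depth M_x ≥ n` on `Z` then `I Γ(M) = Γ(M)` or there is a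
  `Γ(M)`-regular sequence of length `n` in the ideal `I` of functions vanishing on `Z`;
* `depthGE_of_isWeaklyRegular`: a weakly regular sequence of global functions vanishing at `x`
  bounds the depth of `M_x` below;
* `subsingleton_stalk_iff`: the support of a quasi-coherent module in terms of `Module.support`;
* `subsingleton_ext_of_smul_top_eq_top`: `Ext^i(N, M) = 0` when `I M = M` and `Supp N ⊆ V(I)`.
-/

set_option autoImplicit false
set_option linter.unusedSectionVars false
universe u
open CategoryTheory CategoryTheory.Limits Opposite AlgebraicGeometry TopologicalSpace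

namespace Groth.Agent.Helper9.ExtDepth

open Groth.Agent.Helper9.LcDepth Groth.Agent.Helper9.LcDim Groth.Agent.Helper13.QCoh IsLocalRing
open scoped Pointwise

section Alg

/-- `I M ≠ M` passes to `M / rM` for `r ∈ I`. -/
lemma smul_top_quot_ne_top {R : Type*} [CommRing R] {M : Type*} [AddCommGroup M]
    [Module R M] {I : Ideal R} {r : R} (hr : r ∈ I)
    (hI : I • (⊤ : Submodule R M) ≠ ⊤) :
    I • (⊤ : Submodule R (QuotSMulTop r M)) ≠ ⊤ := by
  intro heq
  apply hI
  rw [eq_top_iff]
  intro m _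
  have hm : (Submodule.mkQ (r • (⊤ : Submodule R M))) m ∈
      I • (⊤ : Submodule R (QuotSMulTop r M)) := by
    rw [heq]
    trivial
  have hmap : I • (⊤ : Submodule R (QuotSMulTop r M)) =
      Submodule.map (Submodule.mkQ (r • (⊤ : Submodule R M))) (I • (⊤ : Submodule R M)) := by
    rw [Submodule.map_smul'', Submodule.map_top, Submodule.range_mkQ]
  rw [hmap] at hm
  obtain ⟨m', hm', hmm'⟩ := hm
  have hsub : m - m' ∈ r • (⊤ : Submodule R M) := by
    have h1 : (Submodule.mkQ (r • (⊤ : Submodule R M))) (m - m') = 0 := by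
      rw [map_sub, hmm', sub_self]
    exact (Submodule.Quotient.mk_eq_zero _).1 h1
  have hle : r • (⊤ : Submodule R M) ≤ I • (⊤ : Submodule R M) := by
    intro y hy
    obtain ⟨z, -, rfl⟩ := (Submodule.mem_smul_pointwise_iff_exists _ _ _).1 hy
    exact Submodule.smul_mem_smul hr trivial
  have := Submodule.add_mem _ (hle hsub) hm'
  rwa [sub_add_cancel] at this

/-- `Ext^i(N, M) = 0` when `I M = M` and `N` is supported in `V(I)`. -/
theorem subsingleton_ext_of_smul_top_eq_top {A : Type u} [CommRing A] (I : Ideal A)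
    (N M : ModuleCat.{u} A) [Module.Finite A N] [Module.Finite A M]
    (hsupp : Module.support A N ⊆ PrimeSpectrum.zeroLocus (I : Set A))
    (hI : I • (⊤ : Submodule A M) = ⊤) (i : ℕ) : Subsingleton (Abelian.Ext N M i) := by
  obtain ⟨r, hr1, hr2⟩ := Submodule.exists_sub_one_mem_and_smul_eq_zero_of_fg_of_le_smul I
    (⊤ : Submodule A M) Module.Finite.fg_top (by rw [hI])
  have haI : 1 - r ∈ I := by
    have : 1 - r = -(r - 1) := by ring
    rw [this]
    exact I.neg_mem hr1
  have ham : ∀ m : M, (1 - r) • m = m := by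
    intro m
    rw [sub_smul, one_smul, hr2 m trivial, sub_zero]
  have hrad : I ≤ (Module.annihilator A N).radical := by
    rw [Module.support_eq_zeroLocus] at hsupp
    exact (PrimeSpectrum.zeroLocus_subset_zeroLocus_iff _ _).1 hsupp
  obtain ⟨k, hk⟩ := hrad haI
  have hpow : ∀ j : ℕ, ∀ m : M, ((1 - r) ^ j) • m = m := by
    intro j
    induction j with
    | zero => intro m; simp
    | succ j ih => intro m; rw [pow_succ, mul_smul, ham m, ih m]
  refine ⟨fun x y => ?_⟩
  suffices H : ∀ z : Abelian.Ext N M i, z = 0 by rw [H x, H y]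
  intro z
  have hbN : ((1 - r) ^ k) • 𝟙 N = 0 := by
    simp [← ModuleCat.lsmul_eq_smul_id, Module.mem_annihilator_iff_lsmul_eq_zero.mp hk]
  have hbM : ((1 - r) ^ k) • 𝟙 M = 𝟙 M := by
    ext m
    simpa using hpow k m
  have h1 : ((1 - r) ^ k) • z = z := by
    rw [Abelian.Ext.smul_eq_comp_mk₀, hbM, Abelian.Ext.comp_mk₀_id]
  have h2 : ((1 - r) ^ k) • z = 0 := by
    have h3 : ((1 - r) ^ k) • z =
        (Abelian.Ext.mk₀ (((1 - r) ^ k) • 𝟙 N)).comp z (zero_add i) := by
      simp [Abelian.Ext.mk₀_smul]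
    rw [h3, hbN, Abelian.Ext.mk₀_zero, Abelian.Ext.zero_comp]
  rw [← h1, h2]

end Alg

variable {Y : Scheme.{u}}

/-- the map on sections over `W` as a linear map. -/
noncomputable def appLin {M N : Y.Modules} (φ : M ⟶ N) (W : Y.Opens) :
    Γ(M, W) →ₗ[Γ(Y, W)] Γ(N, W) where
  toFun := fun m => φ.app W m
  map_add' a b := map_add _ a b
  map_smul' c m := Scheme.Modules.Hom.app_smul φ c m

section Quot

variable (M : Y.Modules) (r : Γ(Y, ⊤))

lemma mulBy_app_top (m : Γ(M, ⊤)) : (mulBy M r).app ⊤ m = r • m := by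
  have h : Y.presheaf.map (homOfLE (le_top : (⊤ : Y.Opens) ≤ ⊤)).op r = r := by
    rw [show (homOfLE (le_top : (⊤ : Y.Opens) ≤ ⊤)).op = 𝟙 _ from rfl, Y.presheaf.map_id]
    rfl
  rw [mulBy_app, h]

lemma isSMulRegular_of_mono [Mono (mulBy M r)] : IsSMulRegular Γ(M, ⊤) r := by
  intro a b hab
  apply Groth.Agent.Helper13.LocLift.app_injective_of_mono (mulBy M r) ⊤
  rw [mulBy_app_top, mulBy_app_top]
  exact hab

lemma ker_appLin_quotπ [Mono (mulBy M r)] :
    LinearMap.ker (appLin (quotπ M r) ⊤) = r • (⊤ : Submodule Γ(Y, ⊤) Γ(M, ⊤)) := by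
  ext m
  rw [LinearMap.mem_ker, Submodule.mem_smul_pointwise_iff_exists]
  constructor
  · intro hm
    haveI : Mono (quotSC M r).f := inferInstanceAs (Mono (mulBy M r))
    obtain ⟨m₁, hm₁⟩ := app_exact_of_exact_of_mono (quotSC M r) (quotSC_exact M r) ⊤ m hm
    refine ⟨m₁, trivial, ?_⟩
    rw [← mulBy_app_top]
    exact hm₁
  · rintro ⟨m₁, -, rfl⟩
    rw [← mulBy_app_top]
    exact congrArg (fun ψ => ψ.app ⊤ m₁) (cokernel.condition (mulBy M r))

/-- `Γ(M / rM) ≃ Γ(M) / r Γ(M)` on an affine scheme. -/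
noncomputable def sectionsQuotEquiv [IsAffine Y] [M.IsQuasicoherent] [Mono (mulBy M r)] :
    QuotSMulTop r Γ(M, ⊤) ≃ₗ[Γ(Y, ⊤)] Γ(quotBy M r, ⊤) :=
  haveI : (quotBy M r).IsQuasicoherent :=
    Groth.Agent.Helper13.QCohLocal.isQuasicoherent_cokernel _
  (Submodule.quotEquivOfEq _ _ (ker_appLin_quotπ M r).symm).trans
    (LinearMap.quotKerEquivOfSurjective (appLin (quotπ M r) ⊤)
      (Groth.Agent.Helper13.AffSurj.surjective_app_of_epi (quotπ M r) (isAffineOpen_top Y)))

end Quot

section Affine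

variable [IsAffine Y]

/-- if `I Γ(M) = Γ(M)` the stalks of `M` at the points of `V(I)` have infinite depth. -/
theorem depth_eq_top_of_smul_top_eq (M : Y.Modules) [M.IsQuasicoherent] (I : Ideal Γ(Y, ⊤))
    (hI : I • (⊤ : Submodule Γ(Y, ⊤) Γ(M, ⊤)) = ⊤) (x : Y)
    (hx : ∀ a ∈ I, x ∉ Y.basicOpen a) :
    LocCoh.depth (Y.presheaf.stalk x) (M.presheaf.stalk x) = ⊤ := by
  unfold LocCoh.depth LocCoh.idealDepth
  rw [if_pos]
  rw [eq_top_iff]
  intro m _
  obtain ⟨g, hxg, t, ht⟩ := exists_germ_smul_eq M (isAffineOpen_top Y) x trivial m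
  have hu : IsUnit (Y.presheaf.germ ⊤ x trivial g) := (Y.mem_basicOpen_top g x).1 hxg
  have ht' : t ∈ I • (⊤ : Submodule Γ(Y, ⊤) Γ(M, ⊤)) := by
    rw [hI]
    trivial
  have hgt : M.presheaf.germ ⊤ x trivial t ∈
      maximalIdeal (Y.presheaf.stalk x) •
        (⊤ : Submodule (Y.presheaf.stalk x) (M.presheaf.stalk x)) := by
    refine Submodule.smul_induction_on ht' ?_ ?_
    · intro a ha n _
      rw [germ_smul]
      exact Submodule.smul_mem_smul (germ_mem_maximalIdeal a x (hx a ha)) trivial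
    · intro a b ha hb
      rw [map_add]
      exact Submodule.add_mem _ ha hb
  obtain ⟨v, hv⟩ := hu
  have hm : m = (↑v⁻¹ : Y.presheaf.stalk x) • M.presheaf.germ ⊤ x trivial t := by
    rw [← ht, ← hv, smul_smul, Units.inv_mul, one_smul]
  rw [hm]
  exact Submodule.smul_mem _ _ hgt

/-- a weakly regular sequence of global functions vanishing at `x` bounds the depth below. -/
theorem depthGE_of_isWeaklyRegular [IsLocallyNoetherian Y] (n : ℕ) :
    ∀ (M : Y.Modules), Coh.IsCoh M → ∀ rs : List Γ(Y, ⊤), rs.length = n →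
      RingTheory.Sequence.IsWeaklyRegular Γ(M, ⊤) rs →
      ∀ x : Y, (∀ r ∈ rs, x ∉ Y.basicOpen r) →
      (n : ℕ∞) ≤ LocCoh.depth (Y.presheaf.stalk x) (M.presheaf.stalk x) := by
  induction n with
  | zero =>
    intro M _ rs _ _ x _
    rw [Nat.cast_zero]
    exact zero_le
  | succ n ih =>
    intro M hM rs hlen hreg x hx
    rcases rs with _ | ⟨r, rs'⟩
    · simp at hlen
    · rw [RingTheory.Sequence.isWeaklyRegular_cons_iff] at hreg
      haveI := hM.1
      haveI : Mono (mulBy M r) := mono_mulBy_of_isSMulRegular M r hreg.1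
      have hxr : x ∉ Y.basicOpen r := hx r List.mem_cons_self
      have h1 := ih (quotBy M r) (isCoh_quotBy M r hM) rs' (by simpa using hlen)
        (((sectionsQuotEquiv M r).isWeaklyRegular_congr rs').1 hreg.2) x
        (fun a ha => hx a (List.mem_cons_of_mem _ ha))
      rw [← depth_quotBy M r hM x hxr]
      exact enat_succ_le_of_le h1

/-- if the stalks of `M` have depth `≥ n` off `U`, then either `I Γ(M) = Γ(M)` or there is a
`Γ(M)`-regular sequence of length `n` in the ideal `I` of functions vanishing off `U`. -/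
theorem exists_isRegular_of_depthGE [IsLocallyNoetherian Y] (U : Y.Opens) (n : ℕ) :
    ∀ (M : Y.Modules), Coh.IsCoh M → DepthGE U M n →
      (vanIdeal U • (⊤ : Submodule Γ(Y, ⊤) Γ(M, ⊤)) = ⊤) ∨
      ∃ rs : List Γ(Y, ⊤), rs.length = n ∧ (∀ r ∈ rs, r ∈ vanIdeal U) ∧
        RingTheory.Sequence.IsRegular Γ(M, ⊤) rs := by
  induction n with
  | zero =>
    intro M _ _
    by_cases h : vanIdeal U • (⊤ : Submodule Γ(Y, ⊤) Γ(M, ⊤)) = ⊤
    · exact Or.inl h
    · right
      haveI : Nontrivial Γ(M, ⊤) := by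
        rw [← not_subsingleton_iff_nontrivial]
        intro hs
        apply h
        rw [eq_top_iff]
        intro m _
        rw [Subsingleton.elim m 0]
        exact Submodule.zero_mem _
      exact ⟨[], rfl, fun r hr => absurd hr List.not_mem_nil,
        RingTheory.Sequence.IsRegular.nil _ _⟩
  | succ n ih =>
    intro M hM hD
    by_cases h : vanIdeal U • (⊤ : Submodule Γ(Y, ⊤) Γ(M, ⊤)) = ⊤
    · exact Or.inl h
    right
    have hD1 : ∀ x : Y, x ∉ U →
        (1 : ℕ∞) ≤ LocCoh.depth (Y.presheaf.stalk x) (M.presheaf.stalk x) :=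
      fun x hx => le_trans (by exact_mod_cast Nat.le_add_left 1 n) (hD x hx)
    obtain ⟨r, hrU, hmono⟩ := exists_regular U M hM hD1
    haveI := hmono
    haveI := hM.1
    have hD' : DepthGE U (quotBy M r) n := by
      intro x hx
      have hxr : x ∉ Y.basicOpen r := fun hh => hx (hrU hh)
      have e := depth_quotBy M r hM x hxr
      have h1 := hD x hx
      rw [← e] at h1
      exact enat_le_of_succ_le h1
    have hreg : IsSMulRegular Γ(M, ⊤) r := isSMulRegular_of_mono M r
    rcases ih (quotBy M r) (isCoh_quotBy M r hM) hD' with h' | ⟨rs, hlen, hmem, hrs⟩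
    · exfalso
      apply smul_top_quot_ne_top (I := vanIdeal U) (r := r) hrU h
      have h2 := congrArg (Submodule.map (sectionsQuotEquiv M r).symm.toLinearMap) h'
      rw [Submodule.map_smul'', Submodule.map_top,
        LinearMap.range_eq_top.2 (sectionsQuotEquiv M r).symm.surjective] at h2
      exact h2
    · refine ⟨r :: rs, by simp [hlen], ?_, ?_⟩
      · intro a ha
        rcases List.mem_cons.1 ha with rfl | ha
        · exact hrU
        · exact hmem a ha
      · exact RingTheory.Sequence.IsRegular.cons hreg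
          (((sectionsQuotEquiv M r).isRegular_congr rs).2 hrs)

/-- the support of a quasi-coherent module on an affine scheme, in terms of `Module.support`. -/
lemma subsingleton_stalk_iff (G : Y.Modules) [G.IsQuasicoherent] (x : Y) :
    Subsingleton (G.presheaf.stalk x) ↔
      (isAffineOpen_top Y).primeIdealOf ⟨x, trivial⟩ ∉ Module.support Γ(Y, ⊤) Γ(G, ⊤) := by
  rw [Module.notMem_support_iff']
  constructor
  · intro hs m
    have h0 : G.presheaf.germ ⊤ x trivial m = 0 := Subsingleton.elim _ _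
    obtain ⟨g, hxg, hg⟩ :=
      exists_smul_eq_zero_of_germ_eq_zero G (isAffineOpen_top Y) x trivial m h0
    refine ⟨g, ?_, hg⟩
    rw [mem_primeIdealOf_iff]
    exact fun h => h hxg
  · intro h
    refine ⟨fun a b => ?_⟩
    suffices H : ∀ m : G.presheaf.stalk x, m = 0 by rw [H a, H b]
    intro m
    obtain ⟨g, hxg, t, ht⟩ := exists_germ_smul_eq G (isAffineOpen_top Y) x trivial m
    obtain ⟨r, hr, hrt⟩ := h t
    rw [mem_primeIdealOf_iff, not_not] at hr
    have hug : IsUnit (Y.presheaf.germ ⊤ x trivial g) := (Y.mem_basicOpen_top g x).1 hxg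
    have hur : IsUnit (Y.presheaf.germ ⊤ x trivial r) := (Y.mem_basicOpen_top r x).1 hr
    have h1 : Y.presheaf.germ ⊤ x trivial r • G.presheaf.germ ⊤ x trivial t = 0 := by
      rw [← germ_smul, hrt, map_zero]
    have h2 : G.presheaf.germ ⊤ x trivial t = 0 := eq_zero_of_isUnit_smul hur h1
    rw [h2] at ht
    exact eq_zero_of_isUnit_smul hug ht

lemma exists_primeIdealOf_eq (p : PrimeSpectrum Γ(Y, ⊤)) :
    ∃ x : Y, (isAffineOpen_top Y).primeIdealOf ⟨x, trivial⟩ = p := by
  refine ⟨((isAffineOpen_top Y).isoSpec.inv p).1, ?_⟩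
  change (isAffineOpen_top Y).isoSpec.hom ((isAffineOpen_top Y).isoSpec.inv p) = p
  rw [← Scheme.Hom.comp_apply, Iso.inv_hom_id]
  rfl

/-- a module supported off `U` has `Module.support` inside the zero locus of `vanIdeal U`. -/
lemma support_subset_zeroLocus (U : Y.Opens) (G : Y.Modules) [G.IsQuasicoherent]
    (hG : ∀ x ∈ CohB1.support G, x ∉ (U : Set Y)) :
    Module.support Γ(Y, ⊤) Γ(G, ⊤) ⊆ PrimeSpectrum.zeroLocus (vanIdeal U : Set Γ(Y, ⊤)) := by
  intro p hp
  obtain ⟨x, rfl⟩ := exists_primeIdealOf_eq p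
  rw [PrimeSpectrum.mem_zeroLocus, SetLike.coe_subset_coe, vanIdeal_le_primeIdealOf_iff]
  apply hG
  intro hs
  exact (subsingleton_stalk_iff G x).1 hs hp

/-- a quasi-coherent module on an affine scheme without global sections is zero. -/
lemma isZero_of_subsingleton_top (N : Y.Modules) [N.IsQuasicoherent]
    (h : Subsingleton Γ(N, ⊤)) : IsZero N := by
  rw [isZero_iff_sections]
  intro O
  refine ⟨fun a b => ?_⟩
  apply TopCat.Presheaf.section_ext ⟨N.presheaf, N.isSheaf⟩ O
  intro y hy
  haveI : Subsingleton (N.presheaf.stalk y) :=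
    (subsingleton_stalk_iff N y).2 (by
      rw [Module.support_eq_empty]
      exact Set.notMem_empty _)
  exact Subsingleton.elim _ _

end Affine

end Groth.Agent.Helper9.ExtDepth
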