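import Mathlib
import Groth.Agent.Lib.Helper9.ExtDepth1
import Groth.Agent.Lib.Helper24.AffExt9
import Groth.Agent.Lib.Helper24.CohExt3
import Groth.Agent.Lib.Helper13.InvGen
import Groth.Agent.Lib.Helper13.AssMono
import Groth.Agent.Lib.Helper13.PushFinite
import Groth.Agent.Lib.Helper13.CohRoof

/-!
# Depth and the vanishing of Ext sheaves (helper9)

For coherent modules `F`, `G` on a locally Noetherian scheme `X`:

* `isZero_extSh_of_depthGE`: if `depth F_x ≥ n` off `U` and `G` is supported off `U`, then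
  `ℰxt^i(G, F) = 0` for `i < n`;
* `depth_ge_of_isZero_extSh`: if `ℰxt^i(G, F) = 0` for `i < n`, then `depth F_x ≥ n` at every point
  of the support of `G`;
* `main12885`, `main12886`.

The comparison with Ext groups of modules of sections is helper24's `AffExt.main_open`, and the
algebra is Mathlib's Rees theorem.
-/

set_option autoImplicit false
set_option linter.unusedSectionVars false
set_option maxHeartbeats 400000
universe u
open CategoryTheory CategoryTheory.Limits Opposite AlgebraicGeometry TopologicalSpace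

namespace Groth.Agent.Helper9.ExtDepth

open Groth.Agent.Helper9.LcDepth Groth.Agent.Helper9.LcDim Groth.Agent.Helper13.QCoh IsLocalRing

section AffineCore

variable {Y : Scheme.{u}}

/-- the module of global sections, in the form used by helper24's `main_open`. -/
noncomputable abbrev secMod (M : Y.Modules) : ModuleCat.{u} Γ(Y, ⊤) :=
  ModuleCat.of Γ(Y, ⊤) (M.val.obj (op ⊤))

variable [IsAffine Y] [IsLocallyNoetherian Y]

theorem subsingleton_ext_of_depthGE (U : Y.Opens) (F G : Y.Modules) (hF : Coh.IsCoh F)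
    (hG : Coh.IsCoh G) (hsupp : ∀ x ∈ CohB1.support G, x ∉ (U : Set Y)) (n : ℕ)
    (hD : DepthGE U F n) (i : ℕ) (hi : i < n) :
    Subsingleton (Abelian.Ext (secMod G) (secMod F) i) := by
  haveI := hF.1
  haveI := hF.2
  haveI := hG.1
  haveI := hG.2
  have hT := isAffineOpen_top Y
  haveI hA : IsNoetherianRing Γ(Y, ⊤) := IsLocallyNoetherian.component_noetherian ⟨⊤, hT⟩
  haveI hfF : Module.Finite Γ(Y, ⊤) (secMod F) :=
    Groth.Agent.Helper13.FinType.finite_sections_of_isFiniteType F hT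
  haveI hfG : Module.Finite Γ(Y, ⊤) (secMod G) :=
    Groth.Agent.Helper13.FinType.finite_sections_of_isFiniteType G hT
  have hs : Module.support Γ(Y, ⊤) (secMod G) ⊆
      PrimeSpectrum.zeroLocus (vanIdeal U : Set Γ(Y, ⊤)) :=
    support_subset_zeroLocus U G hsupp
  by_cases hI : vanIdeal U • (⊤ : Submodule Γ(Y, ⊤) (secMod F)) = ⊤
  · exact subsingleton_ext_of_smul_top_eq_top (vanIdeal U) (secMod G) (secMod F) hs hI i
  · rcases exists_isRegular_of_depthGE U n F hF hD with h | ⟨rs, hlen, hmem, hreg⟩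
    · exact absurd h hI
    · exact ModuleCat.subsingleton_ext_of_exists_isRegular (vanIdeal U) (secMod G) hs (secMod F)
        (lt_top_iff_ne_top.2 hI) rs hmem hreg i (hi.trans_eq hlen.symm)

theorem depth_ge_of_subsingleton_ext (F G : Y.Modules) (hF : Coh.IsCoh F) (hG : Coh.IsCoh G)
    (n : ℕ) (hE : ∀ i < n, Subsingleton (Abelian.Ext (secMod G) (secMod F) i)) (x : Y)
    (hx : x ∈ CohB1.support G) :
    (n : ℕ∞) ≤ LocCoh.depth (Y.presheaf.stalk x) (F.presheaf.stalk x) := by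
  haveI := hF.1
  haveI := hF.2
  haveI := hG.1
  haveI := hG.2
  have hT := isAffineOpen_top Y
  haveI hA : IsNoetherianRing Γ(Y, ⊤) := IsLocallyNoetherian.component_noetherian ⟨⊤, hT⟩
  haveI hfF : Module.Finite Γ(Y, ⊤) (secMod F) :=
    Groth.Agent.Helper13.FinType.finite_sections_of_isFiniteType F hT
  haveI hfG : Module.Finite Γ(Y, ⊤) (secMod G) :=
    Groth.Agent.Helper13.FinType.finite_sections_of_isFiniteType G hT
  have hsuppG : Module.support Γ(Y, ⊤) (secMod G) =
      PrimeSpectrum.zeroLocus (Module.annihilator Γ(Y, ⊤) (secMod G) : Set Γ(Y, ⊤)) :=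
    Module.support_eq_zeroLocus
  have hpx : hT.primeIdealOf ⟨x, trivial⟩ ∈ Module.support Γ(Y, ⊤) (secMod G) := by
    by_contra hcon
    exact hx ((subsingleton_stalk_iff G x).2 hcon)
  rw [hsuppG, PrimeSpectrum.mem_zeroLocus] at hpx
  have hJx : ∀ a ∈ Module.annihilator Γ(Y, ⊤) (secMod G), x ∉ Y.basicOpen a :=
    fun a ha => (mem_primeIdealOf_iff x a).1 (hpx ha)
  by_cases hI : Module.annihilator Γ(Y, ⊤) (secMod G) •
      (⊤ : Submodule Γ(Y, ⊤) (secMod F)) = ⊤
  · rw [depth_eq_top_of_smul_top_eq F _ hI x hJx]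
    exact le_top
  · obtain ⟨rs, hlen, hmem, hreg⟩ := ModuleCat.exists_isRegular_of_exists_subsingleton_ext
      (Module.annihilator Γ(Y, ⊤) (secMod G)) n (secMod F) (lt_top_iff_ne_top.2 hI) (secMod G)
      hsuppG hE
    exact depthGE_of_isWeaklyRegular n F hF rs hlen hreg.toIsWeaklyRegular x
      (fun r hr => hJx r (hmem r hr))

end AffineCore

section Global

variable {X : Scheme.{u}} [IsLocallyNoetherian X]

/-- over an affine open `V`, the restriction of `ℰxt^i(G, F)` vanishes iff the Ext group of the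
modules of sections over `V` does. -/
theorem isZero_restrict_extSh_iff (V : X.Opens) (hV : IsAffineOpen V) (F G : X.Modules)
    (hF : Coh.IsCoh F) (hG : Coh.IsCoh G)
    [ModSite.HasSheafHom (O := X.sheaf) G] [HasInjectiveResolutions (ModSite.Mod X.sheaf)]
    (i : ℕ) :
    IsZero ((ρ V).obj ((ModSite.extSh (O := X.sheaf) G i).obj F)) ↔
      Subsingleton (Abelian.Ext (secMod (Y := V.toScheme) (G.restrict V.ι))
        (secMod (Y := V.toScheme) (F.restrict V.ι)) i) := by
  haveI : IsAffine V.toScheme := hV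
  haveI : IsLocallyNoetherian V.toScheme := isLocallyNoetherian_of_isOpenImmersion V.ι
  haveI : HasInjectiveResolutions (ModSite.Mod V.toScheme.sheaf) :=
    inferInstanceAs (HasInjectiveResolutions V.toScheme.Modules)
  haveI := Groth.Agent.Helper24.RelExt.hasSheafHom' (G.restrict V.ι)
  obtain ⟨e⟩ := Groth.Agent.Helper24.ResHom.main11328 V G F i
  have hG' : Coh.IsCoh (G.restrict V.ι) := isCoh_restrict V G hG
  have hF' : Coh.IsCoh (F.restrict V.ι) := isCoh_restrict V F hF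
  obtain ⟨l⟩ := Groth.Agent.Helper24.AffExt.main_open V.toScheme ⊤ (isAffineOpen_top _)
    (G.restrict V.ι) (F.restrict V.ι) hG' hF' i
  have hcoh : Coh.IsCoh ((ModSite.extSh (O := V.toScheme.sheaf) (G.restrict V.ι) i).obj
      (F.restrict V.ι)) :=
    Groth.Agent.Helper24.CohExt.main10943 V.toScheme _ _ hG' hF' i
  haveI := hcoh.1
  constructor
  · intro hz
    have hz' : IsZero ((ModSite.extSh (O := V.toScheme.sheaf) (G.restrict V.ι) i).obj
        (F.restrict V.ι)) := hz.of_iso e.symm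
    haveI hs : Subsingleton ↑(((ModSite.extSh (O := V.toScheme.sheaf) (G.restrict V.ι) i).obj
        (F.restrict V.ι)).val.obj (op ⊤)) := (isZero_iff_sections _).1 hz' ⊤
    exact l.symm.toEquiv.subsingleton
  · intro hs
    haveI := hs
    have hs' : Subsingleton Γ((ModSite.extSh (O := V.toScheme.sheaf) (G.restrict V.ι) i).obj
        (F.restrict V.ι), ⊤) := l.toEquiv.subsingleton
    exact (isZero_of_subsingleton_top _ hs').of_iso e

theorem isZero_extSh_of_depthGE (U : X.Opens) (F : X.Modules) (hF : Coh.IsCoh F) (n : ℕ)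
    (hD : ∀ x : X, x ∉ (U : Set X) →
      (n : ℕ∞) ≤ LocCoh.depth (X.presheaf.stalk x) (F.presheaf.stalk x))
    (G : X.Modules) (hG : Coh.IsCoh G) (hsupp : ∀ x ∈ CohB1.support G, x ∉ (U : Set X))
    [ModSite.HasSheafHom (O := X.sheaf) G] [HasInjectiveResolutions (ModSite.Mod X.sheaf)]
    (i : ℕ) (hi : i < n) :
    IsZero ((ModSite.extSh (O := X.sheaf) G i).obj F) := by
  apply isZero_of_cover
  intro y
  obtain ⟨V, hyV⟩ := affine_cover y
  refine ⟨V.1, hyV, ?_⟩
  rw [isZero_restrict_extSh_iff V.1 V.2 F G hF hG i]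
  haveI : IsAffine V.1.toScheme := V.2
  haveI : IsLocallyNoetherian V.1.toScheme := isLocallyNoetherian_of_isOpenImmersion V.1.ι
  refine subsingleton_ext_of_depthGE (V.1.ι ⁻¹ᵁ U) (F.restrict V.1.ι) (G.restrict V.1.ι)
    (isCoh_restrict V.1 F hF) (isCoh_restrict V.1 G hG) ?_ n ?_ i hi
  · intro x' hx' hxU
    refine hsupp (V.1.ι.base x') ?_ hxU
    intro hs
    haveI := hs
    exact hx' (Groth.Agent.Helper13.Inv.τ V.1.ι G x').toEquiv.subsingleton
  · intro x' hx'
    rw [depth_restrict_stalk V.1 F x']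
    exact hD (V.1.ι.base x') hx'

theorem depth_ge_of_isZero_extSh (F G : X.Modules) (hF : Coh.IsCoh F) (hG : Coh.IsCoh G) (n : ℕ)
    [ModSite.HasSheafHom (O := X.sheaf) G] [HasInjectiveResolutions (ModSite.Mod X.sheaf)]
    (hE : ∀ i : ℕ, i < n → IsZero ((ModSite.extSh (O := X.sheaf) G i).obj F)) (x : X)
    (hx : x ∈ CohB1.support G) :
    (n : ℕ∞) ≤ LocCoh.depth (X.presheaf.stalk x) (F.presheaf.stalk x) := by
  obtain ⟨V, hxV⟩ := affine_cover x
  haveI : IsAffine V.1.toScheme := V.2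
  haveI : IsLocallyNoetherian V.1.toScheme := isLocallyNoetherian_of_isOpenImmersion V.1.ι
  have e := depth_restrict_stalk V.1 F (⟨x, hxV⟩ : ↥V.1)
  refine le_of_le_of_eq ?_ e
  refine depth_ge_of_subsingleton_ext (F.restrict V.1.ι) (G.restrict V.1.ι)
    (isCoh_restrict V.1 F hF) (isCoh_restrict V.1 G hG) n ?_ _ ?_
  · intro i hi
    exact (isZero_restrict_extSh_iff V.1 V.2 F G hF hG i).1
      (isZero_restrict_of_isZero V.1 _ (hE i hi))
  · intro hs
    haveI := hs
    exact hx (Groth.Agent.Helper13.Inv.τ V.1.ι G (⟨x, hxV⟩ : ↥V.1)).symm.toEquiv.subsingleton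

end Global

section QuotMod

variable {X : Scheme.{u}}

lemma isCoh_quotMod (𝓘 : X.IdealSheafData) : Coh.IsCoh (ClSub.quotMod 𝓘) := by
  have h := Groth.Agent.Helper13.CohRoof.isCoh_structureModule 𝓘.subscheme
  haveI := h.1
  haveI := h.2
  exact ⟨Groth.Agent.Helper13.QCohPush.isQuasicoherent_pushforward 𝓘.subschemeι _,
    (Groth.Agent.Helper13.PushFinite.isFiniteType_pushforward_iff 𝓘.subschemeι
      (Coh.structureModule 𝓘.subscheme)).1 inferInstance⟩

lemma unitToPush_app_eq_zero_iff (𝓘 : X.IdealSheafData) {V : X.Opens} (hV : IsAffineOpen V)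
    (a : Γ(X, V)) :
    (ClSub.unitToPush 𝓘.subschemeι).app V a = 0 ↔ a ∈ 𝓘.ideal ⟨V, hV⟩ := by
  have h1 : 𝓘.subschemeι.ker = 𝓘 := Scheme.IdealSheafData.ker_subschemeι _
  conv_rhs => rw [← h1]
  rw [Scheme.Hom.ker_apply, RingHom.mem_ker]
  rfl

lemma mem_vanishingIdeal_iff (Z : Set X) (hZ : IsClosed Z) {V : X.Opens} (hV : IsAffineOpen V)
    (a : Γ(X, V)) :
    a ∈ (Scheme.IdealSheafData.vanishingIdeal ⟨Z, hZ⟩).ideal ⟨V, hV⟩ ↔
      ∀ (y : X) (hy : y ∈ V), y ∈ Z → a ∈ (hV.primeIdealOf ⟨y, hy⟩).asIdeal := by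
  rw [Scheme.IdealSheafData.vanishingIdeal_ideal, PrimeSpectrum.mem_vanishingIdeal]
  constructor
  · intro h y hy hyZ
    apply h
    change hV.fromSpec (hV.primeIdealOf ⟨y, hy⟩) ∈ Z
    rw [hV.fromSpec_primeIdealOf ⟨y, hy⟩]
    exact hyZ
  · intro h q hq
    have hq' : hV.fromSpec q ∈ Z := hq
    have hyV : hV.fromSpec q ∈ V := by
      have : hV.fromSpec q ∈ Set.range hV.fromSpec := ⟨q, rfl⟩
      rw [hV.range_fromSpec] at this
      exact this
    have hqe : hV.primeIdealOf ⟨hV.fromSpec q, hyV⟩ = q :=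
      hV.fromSpec.isOpenEmbedding.injective (hV.fromSpec_primeIdealOf ⟨hV.fromSpec q, hyV⟩)
    have := h _ hyV hq'
    rwa [hqe] at this

theorem mem_support_quotMod_of_mem (Z : Set X) (hZ : IsClosed Z) (x : X) (hx : x ∈ Z) :
    x ∈ CohB1.support (ClSub.quotMod (Scheme.IdealSheafData.vanishingIdeal ⟨Z, hZ⟩)) := by
  intro hs
  obtain ⟨V, hxV⟩ := affine_cover x
  haveI := (isCoh_quotMod (Scheme.IdealSheafData.vanishingIdeal ⟨Z, hZ⟩)).1
  have h0 : (ClSub.quotMod (Scheme.IdealSheafData.vanishingIdeal ⟨Z, hZ⟩)).presheaf.germ V.1 x hxV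
      ((ClSub.unitToPush (Scheme.IdealSheafData.vanishingIdeal ⟨Z, hZ⟩).subschemeι).app V.1
        (Groth.Agent.Helper13.LocFree.toO V.1 1)) = 0 := Subsingleton.elim _ _
  obtain ⟨g, hxg, hg⟩ := exists_smul_eq_zero_of_germ_eq_zero
    (ClSub.quotMod (Scheme.IdealSheafData.vanishingIdeal ⟨Z, hZ⟩)) V.2 x hxV _ h0
  have hg' : (ClSub.unitToPush (Scheme.IdealSheafData.vanishingIdeal ⟨Z, hZ⟩).subschemeι).app V.1
      g = 0 := by
    rw [← hg, ← Scheme.Modules.Hom.app_smul]
    congr 1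
    exact (mul_one g).symm
  rw [unitToPush_app_eq_zero_iff _ V.2, mem_vanishingIdeal_iff Z hZ V.2] at hg'
  exact (mem_basicOpen_iff_notMem_primeIdealOf V.2 x hxV g).1 hxg (hg' x hxV hx)

theorem subsingleton_stalk_quotMod_of_notMem (Z : Set X) (hZ : IsClosed Z) (x : X)
    (hx : x ∉ Z) :
    Subsingleton ((ClSub.quotMod
      (Scheme.IdealSheafData.vanishingIdeal ⟨Z, hZ⟩)).presheaf.stalk x) := by
  haveI := (isCoh_quotMod (Scheme.IdealSheafData.vanishingIdeal ⟨Z, hZ⟩)).1
  obtain ⟨_, ⟨V, hV, rfl⟩, hxV, hVZ⟩ := X.isBasis_affineOpens.exists_subset_of_mem_open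
    (show x ∈ Zᶜ from hx) hZ.isOpen_compl
  refine ⟨fun a b => ?_⟩
  suffices H : ∀ m : (ClSub.quotMod
      (Scheme.IdealSheafData.vanishingIdeal ⟨Z, hZ⟩)).presheaf.stalk x, m = 0 by rw [H a, H b]
  intro m
  obtain ⟨g, hxg, t, ht⟩ := exists_germ_smul_eq
    (ClSub.quotMod (Scheme.IdealSheafData.vanishingIdeal ⟨Z, hZ⟩)) hV x hxV m
  obtain ⟨a', ha'⟩ := Scheme.Hom.app_surjective
    (Scheme.IdealSheafData.vanishingIdeal ⟨Z, hZ⟩).subschemeι V hV t
  have h0 : (ClSub.unitToPush (Scheme.IdealSheafData.vanishingIdeal ⟨Z, hZ⟩).subschemeι).app V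
      a' = 0 := by
    rw [unitToPush_app_eq_zero_iff _ hV, mem_vanishingIdeal_iff Z hZ hV]
    intro y hyV hyZ
    exact absurd hyZ (hVZ hyV)
  have ht0 : t = 0 := by
    rw [← ha']
    exact h0
  rw [ht0, map_zero] at ht
  exact eq_zero_of_isUnit_smul ((X.mem_basicOpen g x hxV).1 hxg) ht

end QuotMod

section Main

theorem main12885 (X : Scheme.{u}) [IsLocallyNoetherian X]
    (U : X.Opens) (F : X.Modules) (hF : Coh.IsCoh F) (n : ℕ)
    [∀ M : X.Modules, ModSite.HasSheafHom (O := X.sheaf) M]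
    [HasInjectiveResolutions (ModSite.Mod X.sheaf)] :
    (∀ x : X, x ∉ (U : Set X) →
      (n : ℕ∞) ≤ LocCoh.depth (X.presheaf.stalk x) (F.presheaf.stalk x)) ↔
      ∀ G : X.Modules, Coh.IsCoh G → (∀ x ∈ CohB1.support G, x ∉ (U : Set X)) →
        ∀ i : ℕ, i < n → IsZero ((ModSite.extSh (O := X.sheaf) G i).obj F) := by
  constructor
  · intro hD G hG hsupp i hi
    exact isZero_extSh_of_depthGE U F hF n hD G hG hsupp i hi
  · intro h x hx
    have hZ : IsClosed ((U : Set X)ᶜ) := U.isOpen.isClosed_compl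
    have hG := isCoh_quotMod (Scheme.IdealSheafData.vanishingIdeal ⟨(U : Set X)ᶜ, hZ⟩)
    have hsupp : ∀ y ∈ CohB1.support
        (ClSub.quotMod (Scheme.IdealSheafData.vanishingIdeal ⟨(U : Set X)ᶜ, hZ⟩)),
        y ∉ (U : Set X) := by
      intro y hy hyU
      exact hy (subsingleton_stalk_quotMod_of_notMem _ hZ y (fun hc => hc hyU))
    exact depth_ge_of_isZero_extSh F _ hF hG n (fun i hi => h _ hG hsupp i hi) x
      (mem_support_quotMod_of_mem _ hZ x hx)

theorem main12886 (X : Scheme.{u}) [IsLocallyNoetherian X]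
    (U : X.Opens) (F : X.Modules) (hF : Coh.IsCoh F) (n : ℕ)
    [∀ M : X.Modules, ModSite.HasSheafHom (O := X.sheaf) M]
    [HasInjectiveResolutions (ModSite.Mod X.sheaf)]
    (h : ∃ G : X.Modules, Coh.IsCoh G ∧ CohB1.support G = (U : Set X)ᶜ ∧
      ∀ i : ℕ, i < n → IsZero ((ModSite.extSh (O := X.sheaf) G i).obj F))
    (x : X) (hx : x ∉ (U : Set X)) :
    (n : ℕ∞) ≤ LocCoh.depth (X.presheaf.stalk x) (F.presheaf.stalk x) := by
  obtain ⟨G, hG, hsupp, hE⟩ := h
  exact depth_ge_of_isZero_extSh F G hF hG n hE x (by rw [hsupp]; exact hx)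

end Main

end Groth.Agent.Helper9.ExtDepth
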