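import Mathlib
import Groth.Agent.Lib.Helper9.RegLocExt

/-!
# `Ext^p(M, A) ≅ Hom(M, Ext^p(A/J, A))` over a regular local ring, for `JM = 0`,
`dim A/J + p ≤ dim A`.
-/

set_option autoImplicit false
set_option linter.style.haveILetI false
set_option linter.unusedSectionVars false

universe u

namespace Groth.Agent.Helper9.ExtDual

open CategoryTheory Abelian

variable {A : Type u} [CommRing A]

section Pull

variable {X Y W : Type u} [AddCommGroup X] [Module A X] [AddCommGroup Y] [Module A Y]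
  [AddCommGroup W] [Module A W] (Z : ModuleCat.{u} A) (p : ℕ)

/-- Pullback of `Ext` classes along a linear map. -/
noncomputable def pull (f : X →ₗ[A] Y) :
    Ext (ModuleCat.of A Y) Z p →ₗ[A] Ext (ModuleCat.of A X) Z p :=
  (Ext.mk₀ (ModuleCat.ofHom f)).precompOfLinear A Z (zero_add p)

variable {Z p}

lemma pull_apply (f : X →ₗ[A] Y) (ξ : Ext (ModuleCat.of A Y) Z p) :
    pull Z p f ξ = (Ext.mk₀ (ModuleCat.ofHom f)).comp ξ (zero_add p) := rfl

lemma pull_comp (f : X →ₗ[A] Y) (g : Y →ₗ[A] W) (ξ : Ext (ModuleCat.of A W) Z p) :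
    pull Z p (g ∘ₗ f) ξ = pull Z p f (pull Z p g ξ) := by
  rw [pull_apply, pull_apply, pull_apply, ModuleCat.ofHom_comp, Ext.mk₀_comp_mk₀_assoc]

lemma pull_id (ξ : Ext (ModuleCat.of A X) Z p) : pull Z p (LinearMap.id : X →ₗ[A] X) ξ = ξ := by
  rw [pull_apply, ModuleCat.ofHom_id, Ext.mk₀_id_comp]

lemma pull_zero (ξ : Ext (ModuleCat.of A Y) Z p) : pull Z p (0 : X →ₗ[A] Y) ξ = 0 := by
  rw [pull_apply, ModuleCat.ofHom_zero, Ext.mk₀_zero, Ext.zero_comp]

lemma pull_add (f g : X →ₗ[A] Y) (ξ : Ext (ModuleCat.of A Y) Z p) :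
    pull Z p (f + g) ξ = pull Z p f ξ + pull Z p g ξ := by
  rw [pull_apply, pull_apply, pull_apply, ModuleCat.ofHom_add, Ext.mk₀_add, Ext.add_comp]

lemma pull_smul (c : A) (f : X →ₗ[A] Y) (ξ : Ext (ModuleCat.of A Y) Z p) :
    pull Z p (c • f) ξ = c • pull Z p f ξ := by
  rw [pull_apply, pull_apply]
  have : ModuleCat.ofHom (c • f) = c • ModuleCat.ofHom f := rfl
  rw [this, Ext.mk₀_smul, Ext.smul_comp]

lemma pull_sum {ι : Type*} (s : Finset ι) (f : ι → (X →ₗ[A] Y))
    (ξ : Ext (ModuleCat.of A Y) Z p) :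
    pull Z p (∑ i ∈ s, f i) ξ = ∑ i ∈ s, pull Z p (f i) ξ := by
  classical
  induction s using Finset.induction_on with
  | empty => rw [Finset.sum_empty, Finset.sum_empty, pull_zero]
  | insert a s ha ih => rw [Finset.sum_insert ha, Finset.sum_insert ha, pull_add, ih]

end Pull

section QMaps

variable (J : Ideal A) {X : Type u} [AddCommGroup X] [Module A X]

/-- Linear maps out of `A ⧸ J` are determined by their value at `1`. -/
lemma qmap_ext {v w : (A ⧸ J) →ₗ[A] X}
    (h : v (Ideal.Quotient.mk J 1) = w (Ideal.Quotient.mk J 1)) : v = w := by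
  apply Submodule.linearMap_qext
  apply LinearMap.ext_ring
  exact h

/-- The map `A ⧸ J → X`, `1 ↦ x`, for a module `X` killed by `J`. -/
noncomputable def fromQ (hX : ∀ a ∈ J, ∀ x : X, a • x = 0) (x : X) : (A ⧸ J) →ₗ[A] X :=
  Submodule.liftQ J (LinearMap.toSpanSingleton A X x) (fun a ha => by
    rw [LinearMap.mem_ker, LinearMap.toSpanSingleton_apply]
    exact hX a ha x)

lemma fromQ_one (hX : ∀ a ∈ J, ∀ x : X, a • x = 0) (x : X) :
    fromQ J hX x (Ideal.Quotient.mk J 1) = x := by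
  change Submodule.liftQ J (LinearMap.toSpanSingleton A X x) _ (Submodule.Quotient.mk 1) = x
  rw [Submodule.liftQ_apply, LinearMap.toSpanSingleton_apply, one_smul]

lemma killed_quot (a : A) (ha : a ∈ J) (x : A ⧸ J) : a • x = 0 := by
  obtain ⟨b, rfl⟩ := Ideal.Quotient.mk_surjective x
  rw [← Ideal.Quotient.mk_eq_mk, ← Submodule.Quotient.mk_smul, Ideal.Quotient.mk_eq_mk,
    Ideal.Quotient.eq_zero_iff_mem, smul_eq_mul]
  exact J.mul_mem_right _ ha

lemma killed_pi (n : ℕ) (a : A) (ha : a ∈ J) (f : Fin n → A ⧸ J) : a • f = 0 := by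
  funext i
  exact killed_quot J a ha (f i)

lemma killed_sub (hX : ∀ a ∈ J, ∀ x : X, a • x = 0) (N : Submodule A X) (a : A) (ha : a ∈ J)
    (x : N) : a • x = 0 := Subtype.ext (hX a ha x)

/-- `a • mk 1 = mk a`. -/
lemma smul_mk_one (a : A) : a • (Ideal.Quotient.mk J 1) = Ideal.Quotient.mk J a := by
  rw [← Ideal.Quotient.mk_eq_mk, ← Submodule.Quotient.mk_smul, smul_eq_mul, mul_one]
  rfl

variable {J} in
/-- The coordinates of a map `A ⧸ J → (A ⧸ J)^n`. -/
noncomputable def coeff {n : ℕ} (v : (A ⧸ J) →ₗ[A] (Fin n → A ⧸ J)) (i : Fin n) : A :=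
  (Ideal.Quotient.mk_surjective (v (Ideal.Quotient.mk J 1) i)).choose

lemma mk_coeff {n : ℕ} (v : (A ⧸ J) →ₗ[A] (Fin n → A ⧸ J)) (i : Fin n) :
    Ideal.Quotient.mk J (coeff v i) = v (Ideal.Quotient.mk J 1) i :=
  (Ideal.Quotient.mk_surjective (v (Ideal.Quotient.mk J 1) i)).choose_spec

lemma proj_comp_eq {n : ℕ} (v : (A ⧸ J) →ₗ[A] (Fin n → A ⧸ J)) (i : Fin n) :
    (LinearMap.proj i : (Fin n → A ⧸ J) →ₗ[A] (A ⧸ J)) ∘ₗ v =
      coeff v i • (LinearMap.id : (A ⧸ J) →ₗ[A] (A ⧸ J)) := by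
  apply qmap_ext
  rw [LinearMap.comp_apply, LinearMap.proj_apply, LinearMap.smul_apply, LinearMap.id_apply,
    smul_mk_one, mk_coeff]

lemma eq_sum_coeff {n : ℕ} (v : (A ⧸ J) →ₗ[A] (Fin n → A ⧸ J)) :
    v = ∑ i, coeff v i • (LinearMap.single A (fun _ : Fin n => A ⧸ J) i) := by
  apply qmap_ext
  funext j
  rw [LinearMap.sum_apply, Finset.sum_apply]
  simp only [LinearMap.smul_apply, LinearMap.single_apply, Pi.smul_apply]
  rw [Finset.sum_eq_single j]
  · rw [Pi.single_eq_same, smul_mk_one, mk_coeff]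
  · intro i _ hij
    rw [Pi.single_eq_of_ne hij.symm, smul_zero]
  · intro h; exact absurd (Finset.mem_univ j) h

lemma sum_single_comp_proj (n : ℕ) :
    ∑ i, (LinearMap.single A (fun _ : Fin n => A ⧸ J) i) ∘ₗ
      (LinearMap.proj i : (Fin n → A ⧸ J) →ₗ[A] (A ⧸ J)) = LinearMap.id := by
  ext f j
  simp only [LinearMap.comp_apply, LinearMap.sum_apply, LinearMap.proj_apply,
    LinearMap.single_apply, Finset.sum_apply, LinearMap.id_apply,
    Submodule.mkQ_apply]
  rw [Finset.sum_eq_single j]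
  · rw [Pi.single_eq_same]
  · intro i _ hij
    rw [Pi.single_eq_of_ne hij.symm]
  · intro h; exact absurd (Finset.mem_univ j) h

end QMaps

section Coord

variable (J : Ideal A) {Z : ModuleCat.{u} A} {p : ℕ}

/-- The coordinate decomposition of a class in `Ext^p((A/J)^n, Z)`. -/
lemma eq_sum_pull {n : ℕ} (η : Ext (ModuleCat.of A (Fin n → A ⧸ J)) Z p) :
    η = ∑ i, pull Z p (LinearMap.proj i : (Fin n → A ⧸ J) →ₗ[A] (A ⧸ J))
      (pull Z p (LinearMap.single A (fun _ : Fin n => A ⧸ J) i) η) := by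
  conv_lhs => rw [← pull_id η, ← sum_single_comp_proj J n, pull_sum]
  refine Finset.sum_congr rfl fun i _ => ?_
  rw [pull_comp]

lemma eq_zero_of_pull_single {n : ℕ} (η : Ext (ModuleCat.of A (Fin n → A ⧸ J)) Z p)
    (h : ∀ i, pull Z p (LinearMap.single A (fun _ : Fin n => A ⧸ J) i) η = 0) : η = 0 := by
  rw [eq_sum_pull J η]
  refine Finset.sum_eq_zero fun i _ => ?_
  rw [h i, map_zero]

variable {M : Type u} [AddCommGroup M] [Module A M]

/-- Key computation: the class `η = ∑ π_i^* g(q ι_i)` pulls back along any `v : A/J → (A/J)^n`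
to `g (q ∘ v)`. -/
lemma pull_eta {n : ℕ} (g : ((A ⧸ J) →ₗ[A] M) →ₗ[A] Ext (ModuleCat.of A (A ⧸ J)) Z p)
    (q : (Fin n → A ⧸ J) →ₗ[A] M) (v : (A ⧸ J) →ₗ[A] (Fin n → A ⧸ J)) :
    pull Z p v (∑ i, pull Z p (LinearMap.proj i : (Fin n → A ⧸ J) →ₗ[A] (A ⧸ J))
      (g (q ∘ₗ LinearMap.single A (fun _ : Fin n => A ⧸ J) i))) = g (q ∘ₗ v) := by
  rw [map_sum]
  have h1 : ∀ i : Fin n, pull Z p v (pull Z p (LinearMap.proj i : (Fin n → A ⧸ J) →ₗ[A] (A ⧸ J))
      (g (q ∘ₗ LinearMap.single A (fun _ : Fin n => A ⧸ J) i))) =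
      g (coeff v i • (q ∘ₗ LinearMap.single A (fun _ : Fin n => A ⧸ J) i)) := by
    intro i
    rw [← pull_comp, proj_comp_eq, pull_smul, pull_id, map_smul]
  rw [Finset.sum_congr rfl fun i _ => h1 i, ← map_sum]
  congr 1
  apply LinearMap.ext
  intro x
  conv_rhs => rw [eq_sum_coeff J v]
  simp only [LinearMap.sum_apply, LinearMap.smul_apply, LinearMap.comp_apply, map_sum, map_smul]

end Coord

section Regular

variable [IsRegularLocalRing A] (J : Ideal A) (p : ℕ)
  (hJ : ringKrullDim (A ⧸ J) + p ≤ ringKrullDim A)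

include hJ

lemma subsingleton_ext_lt (X : Type u) [AddCommGroup X] [Module A X] [Module.Finite A X]
    (hX : ∀ a ∈ J, ∀ x : X, a • x = 0) (i : ℕ) (hi : i < p) :
    Subsingleton (Ext (ModuleCat.of A X) (ModuleCat.of A A) i) := by
  apply RegLocExt.subsingleton_ext_of_supportDim X p ?_ i hi
  refine le_trans (add_le_add_left ?_ _) hJ
  rw [Module.supportDim_eq_ringKrullDim_quotient_annihilator]
  have hle : J ≤ Module.annihilator A X := fun a ha =>
    Module.mem_annihilator.2 (hX a ha)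
  exact ringKrullDim_le_of_surjective (Ideal.Quotient.factor hle)
    (Ideal.Quotient.factor_surjective hle)

variable {X Y : Type u} [AddCommGroup X] [Module A X] [Module.Finite A X]
  [AddCommGroup Y] [Module A Y] [Module.Finite A Y]

/-- Lemma I: pullback along a surjection of modules killed by `J` is injective on `Ext^p(-, A)`. -/
lemma pull_injective_of_surjective (hX : ∀ a ∈ J, ∀ x : X, a • x = 0)
    (s : X →ₗ[A] Y) (hs : Function.Surjective s) :
    Function.Injective (pull (ModuleCat.of A A) p s) := by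
  cases p with
  | zero =>
    haveI : Epi (ModuleCat.ofHom s) := (ModuleCat.epi_iff_surjective _).2 hs
    intro a b hab
    exact Ext.precomp_mk₀_injective_of_epi (ModuleCat.of A A) (ModuleCat.ofHom s) hab
  | succ n =>
    rw [injective_iff_map_eq_zero]
    intro ξ hξ
    have hS := LinearMap.shortExact_shortComplexKer hs
    obtain ⟨x₁, hx₁⟩ := Ext.contravariant_sequence_exact₃ hS (ModuleCat.of A A) ξ hξ
      (n₀ := n) (by omega)
    haveI : Subsingleton (Ext (ModuleCat.of A (LinearMap.ker s)) (ModuleCat.of A A) n) :=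
      subsingleton_ext_lt J (n + 1) hJ (LinearMap.ker s) (killed_sub J hX _) n (by omega)
    have hx0 : x₁ = 0 := Subsingleton.elim _ _
    rw [← hx₁, hx0, Ext.comp_zero]

/-- Lemma II: exactness. -/
lemma exists_pull_eq {X' : Type u} [AddCommGroup X'] [Module A X'] [Module.Finite A X']
    (hX' : ∀ a ∈ J, ∀ x : X', a • x = 0)
    (s : X →ₗ[A] Y) (hs : Function.Surjective s)
    (r₀ : X' →ₗ[A] LinearMap.ker s) (hr₀ : Function.Surjective r₀)
    (η : Ext (ModuleCat.of A X) (ModuleCat.of A A) p)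
    (hη : pull (ModuleCat.of A A) p ((LinearMap.ker s).subtype ∘ₗ r₀) η = 0) :
    ∃ ξ : Ext (ModuleCat.of A Y) (ModuleCat.of A A) p, pull (ModuleCat.of A A) p s ξ = η := by
  rw [pull_comp] at hη
  have h0 : pull (ModuleCat.of A A) p (LinearMap.ker s).subtype η = 0 :=
    pull_injective_of_surjective J p hJ hX' r₀ hr₀ (hη.trans (map_zero _).symm)
  have hS := LinearMap.shortExact_shortComplexKer hs
  exact Ext.contravariant_sequence_exact₂ hS (ModuleCat.of A A) η h0

end Regular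

section Present

variable (J : Ideal A) {X : Type u} [AddCommGroup X] [Module A X]

/-- The map `(A/J)^n → X` attached to a family of elements of a module killed by `J`. -/
noncomputable def famMap (hX : ∀ a ∈ J, ∀ x : X, a • x = 0) {n : ℕ} (s : Fin n → X) :
    (Fin n → A ⧸ J) →ₗ[A] X :=
  ∑ i, fromQ J hX (s i) ∘ₗ (LinearMap.proj i : (Fin n → A ⧸ J) →ₗ[A] (A ⧸ J))

lemma famMap_single (hX : ∀ a ∈ J, ∀ x : X, a • x = 0) {n : ℕ} (s : Fin n → X) (i : Fin n) :
    famMap J hX s (Pi.single i (Ideal.Quotient.mk J 1)) = s i := by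
  unfold famMap
  rw [LinearMap.sum_apply, Finset.sum_eq_single i]
  · rw [LinearMap.comp_apply, LinearMap.proj_apply, Pi.single_eq_same, fromQ_one]
  · intro j _ hji
    rw [LinearMap.comp_apply, LinearMap.proj_apply, Pi.single_eq_of_ne hji, map_zero]
  · intro h; exact absurd (Finset.mem_univ i) h

lemma famMap_surjective (hX : ∀ a ∈ J, ∀ x : X, a • x = 0) {n : ℕ} (s : Fin n → X)
    (hs : Submodule.span A (Set.range s) = ⊤) : Function.Surjective (famMap J hX s) := by
  rw [← LinearMap.range_eq_top, eq_top_iff, ← hs, Submodule.span_le]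
  rintro _ ⟨i, rfl⟩
  exact ⟨_, famMap_single J hX s i⟩

/-- Every finite module killed by `J` is a quotient of some `(A/J)^n`. -/
lemma exists_surjective [Module.Finite A X] (hX : ∀ a ∈ J, ∀ x : X, a • x = 0) :
    ∃ (n : ℕ) (q : (Fin n → A ⧸ J) →ₗ[A] X), Function.Surjective q := by
  obtain ⟨n, s, hs⟩ := Module.Finite.exists_fin (R := A) (M := X)
  exact ⟨n, famMap J hX s, famMap_surjective J hX s hs⟩

end Present

section Main

variable [IsRegularLocalRing A] (J : Ideal A) (p : ℕ)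
  (hJ : ringKrullDim (A ⧸ J) + p ≤ ringKrullDim A)
  (M : Type u) [AddCommGroup M] [Module A M] [Module.Finite A M]
  (hM : ∀ a ∈ J, ∀ x : M, a • x = 0)

include hJ hM

theorem injective_pull :
    Function.Injective (fun ξ : Ext (ModuleCat.of A M) (ModuleCat.of A A) p =>
      fun u : (A ⧸ J) →ₗ[A] M => pull (ModuleCat.of A A) p u ξ) := by
  obtain ⟨n, q, hq⟩ := exists_surjective J hM
  intro ξ ξ' h
  apply pull_injective_of_surjective J p hJ (killed_pi J n) q hq
  rw [eq_sum_pull J (pull (ModuleCat.of A A) p q ξ), eq_sum_pull J (pull (ModuleCat.of A A) p q ξ')]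
  refine Finset.sum_congr rfl fun i _ => ?_
  have hi : pull (ModuleCat.of A A) p (LinearMap.single A (fun _ : Fin n => A ⧸ J) i)
      (pull (ModuleCat.of A A) p q ξ) =
      pull (ModuleCat.of A A) p (LinearMap.single A (fun _ : Fin n => A ⧸ J) i)
        (pull (ModuleCat.of A A) p q ξ') := by
    rw [← pull_comp, ← pull_comp]
    exact congrFun h _
  rw [hi]

theorem surjective_pull
    (g : ((A ⧸ J) →ₗ[A] M) →ₗ[A] Ext (ModuleCat.of A (A ⧸ J)) (ModuleCat.of A A) p) :
    ∃ ξ : Ext (ModuleCat.of A M) (ModuleCat.of A A) p,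
      ∀ u : (A ⧸ J) →ₗ[A] M, g u = pull (ModuleCat.of A A) p u ξ := by
  obtain ⟨n, q, hq⟩ := exists_surjective J hM
  obtain ⟨m, r₀, hr₀⟩ := exists_surjective J (X := LinearMap.ker q)
    (killed_sub J (killed_pi J n) _)
  set η : Ext (ModuleCat.of A (Fin n → A ⧸ J)) (ModuleCat.of A A) p :=
    ∑ i, pull (ModuleCat.of A A) p (LinearMap.proj i : (Fin n → A ⧸ J) →ₗ[A] (A ⧸ J))
      (g (q ∘ₗ LinearMap.single A (fun _ : Fin n => A ⧸ J) i)) with hη
  have key : ∀ v : (A ⧸ J) →ₗ[A] (Fin n → A ⧸ J),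
      pull (ModuleCat.of A A) p v η = g (q ∘ₗ v) := fun v => pull_eta J g q v
  have hzero : pull (ModuleCat.of A A) p ((LinearMap.ker q).subtype ∘ₗ r₀) η = 0 := by
    apply eq_zero_of_pull_single J
    intro j
    rw [← pull_comp, key]
    have : q ∘ₗ (((LinearMap.ker q).subtype ∘ₗ r₀) ∘ₗ
        LinearMap.single A (fun _ : Fin m => A ⧸ J) j) = 0 := by
      apply LinearMap.ext
      intro x
      exact (r₀ (LinearMap.single A (fun _ : Fin m => A ⧸ J) j x)).2
    rw [this, map_zero]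
  obtain ⟨ξ, hξ⟩ := exists_pull_eq J p hJ (killed_pi J m) q hq r₀ hr₀ η hzero
  refine ⟨ξ, fun u => ?_⟩
  obtain ⟨y, hy⟩ := hq (u (Ideal.Quotient.mk J 1))
  have hu : u = q ∘ₗ fromQ J (killed_pi J n) y := by
    apply qmap_ext
    rw [LinearMap.comp_apply, fromQ_one, hy]
  conv_rhs => rw [hu, pull_comp, hξ, key]
  rw [← hu]

end Main

end Groth.Agent.Helper9.ExtDual
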