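import Mathlib

/-!
# Effaceability of `Ext` classes by epimorphisms; comparison of `Ext` under exact functors (S5616)
-/

set_option autoImplicit false
universe w w' v v' u u'
open CategoryTheory CategoryTheory.Limits

namespace Groth.Agent.Helper9.ExtEfface

section

variable {C : Type u} [Category.{v} C] [Abelian C]

open DerivedCategory in
theorem exists_epi_comp_eq_zero_of_shiftedHom [HasDerivedCategory.{w} C] {X Y : C} (m : ℤ)
    (hm : 0 < m)
    (φ : (DerivedCategory.singleFunctor C 0).obj X ⟶
      ((DerivedCategory.singleFunctor C 0).obj Y)⟦m⟧) :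
    ∃ (X' : C) (p : X' ⟶ X), Epi p ∧ (DerivedCategory.singleFunctor C 0).map p ≫ φ = 0 := by
  let φ' : Q.obj ((HomologicalComplex.single C (ComplexShape.up ℤ) 0).obj X) ⟶
    (Q.obj ((HomologicalComplex.single C (ComplexShape.up ℤ) 0).obj Y))⟦m⟧ := φ
  let ψ : Q.obj ((HomologicalComplex.single C (ComplexShape.up ℤ) 0).obj X) ⟶
      Q.obj (((HomologicalComplex.single C (ComplexShape.up ℤ) 0).obj Y)⟦m⟧) :=
    φ' ≫ ((Q (C := C)).commShiftIso m).inv.app
      ((HomologicalComplex.single C (ComplexShape.up ℤ) 0).obj Y)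
  haveI : CochainComplex.IsStrictlyLE ((HomologicalComplex.single C (ComplexShape.up ℤ) 0).obj X) 0 :=
    inferInstanceAs (((CochainComplex.singleFunctor C 0).obj X).IsStrictlyLE 0)
  obtain ⟨K, hK, s, hs, g, hfac⟩ := right_fac_of_isStrictlyLE ψ 0
  let p : K.X 0 ⟶ X := s.f 0 ≫ (HomologicalComplex.singleObjXSelf (ComplexShape.up ℤ) 0 X).hom
  let incl : (HomologicalComplex.single C (ComplexShape.up ℤ) 0).obj (K.X 0) ⟶ K :=
    HomologicalComplex.mkHomFromSingle (𝟙 _) (fun k hk => by
      have hk' : 0 + 1 = k := hk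
      exact (K.isZero_of_isStrictlyLE 0 k (by omega)).eq_of_tgt _ _)
  have h1 : incl ≫ s = (HomologicalComplex.single C (ComplexShape.up ℤ) 0).map p := by
    apply HomologicalComplex.from_single_hom_ext
    simp [incl, p, CochainComplex.singleFunctor, CochainComplex.singleFunctors,
      HomologicalComplex.single_map_f_self]
  have h2 : incl ≫ g = 0 := by
    apply HomologicalComplex.from_single_hom_ext
    apply IsZero.eq_of_tgt
    exact HomologicalComplex.isZero_single_obj_X (ComplexShape.up ℤ) 0 Y (0 + m) (by omega)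
  have hepi : Epi p := by
    apply Abelian.epi_of_cokernel_π_eq_zero
    have h3 : s ≫ (HomologicalComplex.single C (ComplexShape.up ℤ) 0).map (cokernel.π p) = 0 := by
      apply HomologicalComplex.to_single_hom_ext
      rw [HomologicalComplex.comp_f, HomologicalComplex.single_map_f_self,
        HomologicalComplex.zero_f, ← Category.assoc, ← Category.assoc]
      change (p ≫ cokernel.π p) ≫ _ = 0
      rw [cokernel.condition, zero_comp]
    have h4 : Q.map ((HomologicalComplex.single C (ComplexShape.up ℤ) 0).map (cokernel.π p)) = 0 := by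
      have := congrArg (fun x => Q.map x) h3
      simp only [Functor.map_comp, Functor.map_zero] at this
      rw [← cancel_epi (Q.map s), this, comp_zero]
    exact (DerivedCategory.singleFunctor C 0).map_injective (by
      rw [Functor.map_zero]; exact h4)
  refine ⟨K.X 0, p, hepi, ?_⟩
  have h5 : Q.map ((HomologicalComplex.single C (ComplexShape.up ℤ) 0).map p) ≫ ψ = 0 := by
    rw [hfac, ← h1, Q.map_comp, Category.assoc, IsIso.hom_inv_id_assoc, ← Q.map_comp, h2,
      Functor.map_zero]
  have h6 := congrArg (fun x => x ≫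
    ((Q (C := C)).commShiftIso m).hom.app ((HomologicalComplex.single C (ComplexShape.up ℤ) 0).obj Y)) h5
  have h7 : ψ ≫ ((Q (C := C)).commShiftIso m).hom.app
      ((HomologicalComplex.single C (ComplexShape.up ℤ) 0).obj Y) = φ' := by
    simp only [ψ, Category.assoc, Iso.inv_hom_id_app]
    exact Category.comp_id _
  simp only [Category.assoc, zero_comp] at h6
  rw [h7] at h6
  exact h6

end

section

open Abelian

variable {A : Type u} [Category.{v} A] [Abelian A] [HasExt.{w} A]

theorem exists_epi_comp_eq_zero {X Y : A} {n : ℕ} (hn : 1 ≤ n) (y : Ext.{w} X Y n) :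
    ∃ (X' : A) (p : X' ⟶ X), Epi p ∧ (Ext.mk₀ p).comp y (zero_add n) = 0 := by
  letI := HasDerivedCategory.standard A
  obtain ⟨X', p, hp, h⟩ := exists_epi_comp_eq_zero_of_shiftedHom (n : ℤ) (by omega) y.hom
  refine ⟨X', p, hp, ?_⟩
  apply Ext.ext
  rw [← Ext.singleFunctor_map_comp_hom, h, Ext.zero_hom]

variable {B : Type u'} [Category.{v'} B] [Abelian B] [HasExt.{w'} B]
  (φ : A ⥤ B) [φ.Additive] [PreservesFiniteLimits φ] [PreservesFiniteColimits φ] (M : A)

theorem bijective_zero_iff (L : A) :
    Function.Bijective (fun f : Ext.{w} L M 0 => Ext.mapExactFunctor φ f) ↔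
      Function.Bijective (fun f : L ⟶ M => φ.map f) := by
  have h : (fun f : Ext.{w} L M 0 => Ext.mapExactFunctor.{w, w'} φ f) ∘ Ext.mk₀ =
      Ext.mk₀ ∘ (fun f : L ⟶ M => φ.map f) := by
    funext f
    exact Ext.mapExactFunctor_mk₀ φ f
  rw [← Function.Bijective.of_comp_iff _ (Ext.mk₀_bijective L M), h,
    Function.Bijective.of_comp_iff' (Ext.mk₀_bijective (φ.obj L) (φ.obj M))]

theorem bijective_of_effaceable
    (h0 : ∀ L : A, Function.Bijective (fun f : L ⟶ M => φ.map f))
    (heff : ∀ (L : A) (n : ℕ), 1 ≤ n → ∀ x : Ext.{w'} (φ.obj L) (φ.obj M) n,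
      ∃ (L' : A) (p : L' ⟶ L), Epi p ∧ (Ext.mk₀ (φ.map p)).comp x (zero_add n) = 0) :
    ∀ (n : ℕ) (L : A), Function.Bijective (fun f : Ext.{w} L M n => Ext.mapExactFunctor φ f) := by
  intro n
  induction n with
  | zero => exact fun L => (bijective_zero_iff φ M L).2 (h0 L)
  | succ n ih =>
    intro L
    constructor
    · -- injectivity
      intro y₁ y₂ hy
      have hy' : Ext.mapExactFunctor φ (y₁ - y₂) = 0 := by
        have h1 := (φ.mapExtAddHom L M (n + 1)).map_sub y₁ y₂
        simp only [Functor.mapExtAddHom_apply] at h1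
        rw [h1]
        exact sub_eq_zero.2 hy
      suffices h : y₁ - y₂ = 0 from sub_eq_zero.1 h
      generalize y₁ - y₂ = y at hy'
      obtain ⟨L', p, hp, hpy⟩ := exists_epi_comp_eq_zero (Nat.succ_le_succ (Nat.zero_le n)) y
      let S : ShortComplex A := ShortComplex.mk (kernel.ι p) p (kernel.condition p)
      have hS : S.ShortExact := { exact := ShortComplex.exact_kernel p }
      obtain ⟨z, hz⟩ := Ext.contravariant_sequence_exact₃ hS M y hpy (add_comm 1 n)
      have e1 : Ext.mapExactFunctor φ (hS.extClass.comp z (add_comm 1 n)) =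
          (hS.map_of_exact φ).extClass.comp (Ext.mapExactFunctor φ z) (add_comm 1 n) :=
        (Ext.mapExactFunctor_comp φ hS.extClass z (add_comm 1 n)).trans
          (congrArg (fun e : Ext.{w'} (φ.obj S.X₃) (φ.obj S.X₁) 1 =>
            e.comp (Ext.mapExactFunctor φ z) (add_comm 1 n)) (Ext.mapExactFunctor_extClass φ hS))
      have hφz : (hS.map_of_exact φ).extClass.comp (Ext.mapExactFunctor φ z) (add_comm 1 n) = 0 := by
        rw [← e1, hz, hy']
        rfl
      obtain ⟨w₀, hw₀⟩ := Ext.contravariant_sequence_exact₁ (hS.map_of_exact φ) (φ.obj M)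
        (Ext.mapExactFunctor φ z) (add_comm 1 n) hφz
      obtain ⟨w', hw'⟩ := (ih S.X₂).2 w₀
      have hw'' : Ext.mapExactFunctor φ w' = w₀ := hw'
      have hz' : (Ext.mk₀ S.f).comp w' (zero_add n) = z := by
        apply (ih S.X₁).1
        change Ext.mapExactFunctor φ _ = Ext.mapExactFunctor φ z
        rw [Ext.mapExactFunctor_comp, Ext.mapExactFunctor_mk₀, hw'']
        exact hw₀
      rw [← hz, ← hz', ← Ext.comp_assoc _ _ _ (add_zero 1) (zero_add n) (by omega),
        hS.extClass_comp, Ext.zero_comp]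
    · -- surjectivity
      intro x
      obtain ⟨L', p, hp, hpx⟩ := heff L (n + 1) (Nat.succ_le_succ (Nat.zero_le n)) x
      let S : ShortComplex A := ShortComplex.mk (kernel.ι p) p (kernel.condition p)
      have hS : S.ShortExact := { exact := ShortComplex.exact_kernel p }
      obtain ⟨z, hz⟩ := Ext.contravariant_sequence_exact₃ (hS.map_of_exact φ) (φ.obj M) x hpx
        (add_comm 1 n)
      obtain ⟨z', hz'⟩ := (ih S.X₁).2 z
      have hz'' : Ext.mapExactFunctor φ z' = z := hz'
      refine ⟨hS.extClass.comp z' (add_comm 1 n), ?_⟩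
      change Ext.mapExactFunctor φ _ = x
      have e1 : Ext.mapExactFunctor φ (hS.extClass.comp z' (add_comm 1 n)) =
          (hS.map_of_exact φ).extClass.comp (Ext.mapExactFunctor φ z') (add_comm 1 n) :=
        (Ext.mapExactFunctor_comp φ hS.extClass z' (add_comm 1 n)).trans
          (congrArg (fun e : Ext.{w'} (φ.obj S.X₃) (φ.obj S.X₁) 1 =>
            e.comp (Ext.mapExactFunctor φ z') (add_comm 1 n)) (Ext.mapExactFunctor_extClass φ hS))
      rw [e1, hz'']
      exact hz

/-- S5616. -/
theorem bijective_iff :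
    (∀ (L : A) (n : ℕ), Function.Bijective
        (fun f : Ext.{w} L M n => Ext.mapExactFunctor φ f)) ↔
      ((∀ L : A, Function.Bijective (fun f : L ⟶ M => φ.map f)) ∧
        ∀ (L : A) (n : ℕ), 1 ≤ n → ∀ x : Ext.{w'} (φ.obj L) (φ.obj M) n,
          ∃ (L' : A) (p : L' ⟶ L), Epi p ∧
            (Ext.mk₀ (φ.map p)).comp x (zero_add n) = 0) := by
  constructor
  · intro h
    refine ⟨fun L => (bijective_zero_iff φ M L).1 (h L 0), fun L n hn x => ?_⟩
    obtain ⟨y, hy⟩ := (h L n).2 x
    have hy' : Ext.mapExactFunctor φ y = x := hy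
    obtain ⟨L', p, hp, hpy⟩ := exists_epi_comp_eq_zero hn y
    refine ⟨L', p, hp, ?_⟩
    rw [← hy', ← Ext.mapExactFunctor_mk₀, ← Ext.mapExactFunctor_comp, hpy,
      Ext.mapExactFunctor_zero]
  · rintro ⟨h0, heff⟩ L n
    exact bijective_of_effaceable φ M h0 heff n L

end

end Groth.Agent.Helper9.ExtEfface
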