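import Mathlib

set_option autoImplicit false
set_option linter.unusedSectionVars false
set_option linter.style.haveILetI false

universe u

open CategoryTheory Abelian RingTheory.Sequence
open scoped Pointwise

namespace Groth.Agent.Helper9.ExtReg

variable {A : Type u} [CommRing A]

/-- Transport of `Ext` along an isomorphism in the first variable, linearly. -/
noncomputable def extCongrLeft {X X' : ModuleCat.{u} A} (e : X ≅ X') (M : ModuleCat.{u} A)
    (n : ℕ) : Ext X M n ≃ₗ[A] Ext X' M n :=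
  LinearEquiv.ofLinear (Ext.precompOfLinear (Ext.mk₀ e.inv) A M (zero_add n))
    (Ext.precompOfLinear (Ext.mk₀ e.hom) A M (zero_add n))
    (by
      ext z
      change (Ext.mk₀ e.inv).comp ((Ext.mk₀ e.hom).comp z (zero_add n)) (zero_add n) = z
      rw [Ext.mk₀_comp_mk₀_assoc, e.inv_hom_id, Ext.mk₀_id_comp])
    (by
      ext z
      change (Ext.mk₀ e.hom).comp ((Ext.mk₀ e.inv).comp z (zero_add n)) (zero_add n) = z
      rw [Ext.mk₀_comp_mk₀_assoc, e.hom_inv_id, Ext.mk₀_id_comp])

/-- Functoriality of `E ↦ E / I E` along linear equivalences. -/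
noncomputable def quotSMulTopCongr {E E' : Type*} [AddCommGroup E] [Module A E] [AddCommGroup E']
    [Module A E'] (I : Ideal A) (f : E ≃ₗ[A] E') :
    (E ⧸ (I • ⊤ : Submodule A E)) ≃ₗ[A] (E' ⧸ (I • ⊤ : Submodule A E')) :=
  Submodule.Quotient.equiv _ _ f (by
    rw [Submodule.map_smul'', Submodule.map_top, LinearEquiv.range])

section OneStep

variable (N M : ModuleCat.{u} A) (x : A) (hx : IsSMulRegular N x) (d : ℕ)
  (hvan : ∀ i, d < i → Subsingleton (Ext N M i))

include hx hvan in
lemma subsingleton_ext_quotSMulTop (i : ℕ) (hi : d + 1 < i) :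
    Subsingleton (Ext (ModuleCat.of A (QuotSMulTop x N)) M i) := by
  obtain ⟨j, rfl⟩ : ∃ j, i = j + 1 := ⟨i - 1, by omega⟩
  have hS : (ModuleCat.smulShortComplex N x).ShortExact := hx.smulShortComplex_shortExact
  refine ⟨fun a b => ?_⟩
  have key : ∀ x₃ : Ext (ModuleCat.smulShortComplex N x).X₃ M (j + 1), x₃ = 0 := by
    intro x₃
    have h0 : (Ext.mk₀ (ModuleCat.smulShortComplex N x).g).comp x₃ (zero_add _) = 0 :=
      (hvan (j + 1) (by omega)).allEq _ _
    obtain ⟨x₁, rfl⟩ := Ext.contravariant_sequence_exact₃ hS M x₃ h0 (add_comm 1 j)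
    have h1 : x₁ = 0 := (hvan j (by omega)).allEq _ _
    rw [h1, Ext.comp_zero]
  exact (key a).trans (key b).symm

/-- The connecting map in degree `d`, as a linear map. -/
noncomputable def delta (hS : (ModuleCat.smulShortComplex N x).ShortExact) :
    Ext N M d →ₗ[A] Ext (ModuleCat.of A (QuotSMulTop x N)) M (d + 1) :=
  Ext.precompOfLinear (X := (ModuleCat.smulShortComplex N x).X₃)
    (Y := (ModuleCat.smulShortComplex N x).X₁) hS.extClass A M (add_comm 1 d)

lemma delta_apply (hS : (ModuleCat.smulShortComplex N x).ShortExact) (e : Ext N M d) :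
    delta N M x d hS e = hS.extClass.comp e (add_comm 1 d) := rfl

include hvan in
lemma delta_surjective (hS : (ModuleCat.smulShortComplex N x).ShortExact) :
    Function.Surjective (delta N M x d hS) := by
  intro x₃
  have h0 : (Ext.mk₀ (ModuleCat.smulShortComplex N x).g).comp x₃ (zero_add _) = 0 :=
    (hvan (d + 1) (by omega)).allEq _ _
  obtain ⟨x₁, hx₁⟩ := Ext.contravariant_sequence_exact₃ hS M x₃ h0 (add_comm 1 d)
  exact ⟨x₁, hx₁⟩

lemma mk₀_f_comp (y : Ext N M d) :
    (Ext.mk₀ (ModuleCat.smulShortComplex N x).f).comp y (zero_add d) = x • y := by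
  change (Ext.mk₀ (x • 𝟙 N)).comp y (zero_add d) = x • y
  rw [Ext.mk₀_smul, Ext.smul_comp, Ext.mk₀_id_comp]

lemma ker_delta (hS : (ModuleCat.smulShortComplex N x).ShortExact) :
    LinearMap.ker (delta N M x d hS) = x • (⊤ : Submodule A (Ext N M d)) := by
  ext e
  rw [LinearMap.mem_ker, delta_apply, Submodule.mem_smul_pointwise_iff_exists]
  constructor
  · intro h
    obtain ⟨y, hy⟩ := Ext.contravariant_sequence_exact₁ hS M e (add_comm 1 d) h
    refine ⟨y, Submodule.mem_top, ?_⟩
    rw [← hy]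
    exact (mk₀_f_comp N M x d y).symm
  · rintro ⟨y, -, rfl⟩
    rw [← mk₀_f_comp N M x d y]
    exact hS.extClass_comp_assoc _

include hvan in
/-- `Ext^{d+1}(N/xN, M) ≅ Ext^d(N, M)/x`. -/
lemma nonempty_deltaEquiv (hx : IsSMulRegular N x) :
    Nonempty (QuotSMulTop x (Ext N M d) ≃ₗ[A]
      Ext (ModuleCat.of A (QuotSMulTop x N)) M (d + 1)) := by
  have hS : (ModuleCat.smulShortComplex N x).ShortExact := hx.smulShortComplex_shortExact
  exact ⟨(Submodule.quotEquivOfEq _ _ (ker_delta N M x d hS).symm) ≪≫ₗ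
    (delta N M x d hS).quotKerEquivOfSurjective (delta_surjective N M x d hvan hS)⟩

end OneStep

section Main

theorem main (M : ModuleCat.{u} A) (xs : List A) :
    ∀ (N : Type u) [AddCommGroup N] [Module A N], IsWeaklyRegular N xs → ∀ d : ℕ,
      (∀ i, d < i → Subsingleton (Ext (ModuleCat.of A N) M i)) →
      (∀ i, d + xs.length < i → Subsingleton
        (Ext (ModuleCat.of A (N ⧸ (Ideal.ofList xs • ⊤ : Submodule A N))) M i)) ∧
      ∀ n, n = d + xs.length → Nonempty
        (Ext (ModuleCat.of A (N ⧸ (Ideal.ofList xs • ⊤ : Submodule A N))) M n ≃ₗ[A]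
          (Ext (ModuleCat.of A N) M d ⧸
            (Ideal.ofList xs • ⊤ : Submodule A (Ext (ModuleCat.of A N) M d)))) := by
  induction xs with
  | nil =>
    intro N _ _ _ d hvan
    have hbot : (Ideal.ofList ([] : List A) • ⊤ : Submodule A N) = ⊥ := by
      rw [Ideal.ofList_nil, Submodule.bot_smul]
    have hbot' : (Ideal.ofList ([] : List A) • ⊤ :
        Submodule A (Ext (ModuleCat.of A N) M d)) = ⊥ := by
      rw [Ideal.ofList_nil, Submodule.bot_smul]
    let eI : ModuleCat.of A (N ⧸ (Ideal.ofList ([] : List A) • ⊤ : Submodule A N)) ≅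
        ModuleCat.of A N := (Submodule.quotEquivOfEqBot _ hbot).toModuleIso
    refine ⟨fun i hi => ?_, fun n hn => ?_⟩
    · haveI := hvan i (by simpa using hi)
      exact (extCongrLeft eI M i).toEquiv.subsingleton
    · obtain rfl : n = d := by simpa using hn
      exact ⟨(extCongrLeft eI M n) ≪≫ₗ (Submodule.quotEquivOfEqBot _ hbot').symm⟩
  | cons x xs' ih =>
    intro N _ _ hreg d hvan
    rw [isWeaklyRegular_cons_iff] at hreg
    obtain ⟨hx, hreg'⟩ := hreg
    have hvan1 : ∀ i, d + 1 < i →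
        Subsingleton (Ext (ModuleCat.of A (QuotSMulTop x N)) M i) :=
      subsingleton_ext_quotSMulTop (ModuleCat.of A N) M x hx d hvan
    obtain ⟨ihvan, ihiso⟩ := ih (QuotSMulTop x N) hreg' (d + 1) hvan1
    obtain ⟨δe⟩ := nonempty_deltaEquiv (ModuleCat.of A N) M x d hvan hx
    let eN : ModuleCat.of A (N ⧸ (Ideal.ofList (x :: xs') • ⊤ : Submodule A N)) ≅
        ModuleCat.of A (QuotSMulTop x N ⧸
          (Ideal.ofList xs' • ⊤ : Submodule A (QuotSMulTop x N))) :=
      (Submodule.quotOfListConsSMulTopEquivQuotSMulTopInner N x xs').toModuleIso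
    refine ⟨fun i hi => ?_, fun n hn => ?_⟩
    · haveI := ihvan i (by rw [List.length_cons] at hi; omega)
      exact (extCongrLeft eN M i).toEquiv.subsingleton
    · obtain ⟨f⟩ := ihiso n (by rw [hn, List.length_cons]; omega)
      exact ⟨(extCongrLeft eN M n) ≪≫ₗ f ≪≫ₗ
        quotSMulTopCongr (Ideal.ofList xs') δe.symm ≪≫ₗ
        (Submodule.quotOfListConsSMulTopEquivQuotSMulTopInner
          (Ext (ModuleCat.of A N) M d) x xs').symm⟩

theorem ext_quotient_regular (xs : List A) (hreg : IsWeaklyRegular A xs) (M : Type u)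
    [AddCommGroup M] [Module A M] :
    Nonempty (Ext (ModuleCat.of A (A ⧸ Ideal.ofList xs)) (ModuleCat.of A M) xs.length ≃ₗ[A]
      (M ⧸ (Ideal.ofList xs • (⊤ : Submodule A M)))) := by
  haveI : Projective (ModuleCat.of A A) := (IsProjective.iff_projective A).1 inferInstance
  have hvan : ∀ i, 0 < i → Subsingleton (Ext (ModuleCat.of A A) (ModuleCat.of A M) i) := by
    intro i hi
    obtain ⟨j, rfl⟩ : ∃ j, i = j + 1 := ⟨i - 1, by omega⟩
    exact subsingleton_of_forall_eq 0 (fun e => Ext.eq_zero_of_projective e)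
  obtain ⟨-, hiso⟩ := main (ModuleCat.of A M) xs A hreg 0 hvan
  obtain ⟨f⟩ := hiso xs.length (zero_add _).symm
  have htop : (Ideal.ofList xs • ⊤ : Submodule A A) = Ideal.ofList xs := by
    rw [smul_eq_mul, Ideal.mul_top]
  let eA : ModuleCat.of A (A ⧸ Ideal.ofList xs) ≅
      ModuleCat.of A (A ⧸ (Ideal.ofList xs • ⊤ : Submodule A A)) :=
    (Submodule.quotEquivOfEq _ _ htop.symm).toModuleIso
  let e0 : Ext (ModuleCat.of A A) (ModuleCat.of A M) 0 ≃ₗ[A] M :=
    Ext.linearEquiv₀ ≪≫ₗ ModuleCat.homLinearEquiv ≪≫ₗ LinearMap.ringLmapEquivSelf A A M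
  exact ⟨(extCongrLeft eA (ModuleCat.of A M) xs.length) ≪≫ₗ f ≪≫ₗ
    quotSMulTopCongr (Ideal.ofList xs) e0⟩

end Main

end Groth.Agent.Helper9.ExtReg
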