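import Mathlib
import Groth.Agent.Lib.Helper9.ExtReg

/-!
# `Ext^n(K, M) ≅ Hom(K, M/(x_1..x_n)M)` for an `M`-regular sequence killing `K`
-/

set_option autoImplicit false
set_option linter.unusedSectionVars false
set_option linter.style.haveILetI false

universe u

open CategoryTheory Abelian RingTheory.Sequence
open scoped Pointwise

namespace Groth.Agent.Helper9.ExtReg2

variable {A : Type u} [CommRing A]

/-- Transport of `Ext` along an isomorphism in the second variable, linearly. -/
noncomputable def extCongrRight (K : ModuleCat.{u} A) {Y Y' : ModuleCat.{u} A} (e : Y ≅ Y')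
    (n : ℕ) : Ext K Y n ≃ₗ[A] Ext K Y' n :=
  LinearEquiv.ofLinear (Ext.postcompOfLinear (Ext.mk₀ e.hom) A K (add_zero n))
    (Ext.postcompOfLinear (Ext.mk₀ e.inv) A K (add_zero n))
    (by
      ext z
      change ((z.comp (Ext.mk₀ e.inv) (add_zero n)).comp (Ext.mk₀ e.hom) (add_zero n)) = z
      rw [Ext.comp_assoc_of_third_deg_zero, Ext.mk₀_comp_mk₀, e.inv_hom_id, Ext.comp_mk₀_id])
    (by
      ext z
      change ((z.comp (Ext.mk₀ e.hom) (add_zero n)).comp (Ext.mk₀ e.inv) (add_zero n)) = z
      rw [Ext.comp_assoc_of_third_deg_zero, Ext.mk₀_comp_mk₀, e.hom_inv_id, Ext.comp_mk₀_id])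

section OneStep

variable (K M : ModuleCat.{u} A) (x : A) (hK : x • (𝟙 K) = 0) (hx : IsSMulRegular M x) (d : ℕ)

include hK in
lemma comp_mk₀_f (y : Ext K M d) :
    y.comp (Ext.mk₀ (ModuleCat.smulShortComplex M x).f) (add_zero d) = 0 := by
  change y.comp (Ext.mk₀ (x • 𝟙 M)) (add_zero d) = 0
  rw [Ext.mk₀_smul, Ext.comp_smul, Ext.comp_mk₀_id]
  have : x • y = (Ext.mk₀ (x • 𝟙 K)).comp y (zero_add d) := by
    rw [Ext.mk₀_smul, Ext.smul_comp, Ext.mk₀_id_comp]
  rw [this, hK, Ext.mk₀_zero, Ext.zero_comp]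

include hK hx in
lemma subsingleton_ext_of_quot
    (hvan : ∀ i, i < d → Subsingleton (Ext K (ModuleCat.of A (QuotSMulTop x M)) i))
    (i : ℕ) (hi : i < d + 1) : Subsingleton (Ext K M i) := by
  have hS : (ModuleCat.smulShortComplex M x).ShortExact := hx.smulShortComplex_shortExact
  refine subsingleton_of_forall_eq 0 fun y => ?_
  have h0 := comp_mk₀_f K M x hK i y
  cases i with
  | zero =>
    haveI : Mono (ModuleCat.smulShortComplex M x).f := hS.mono_f
    exact Ext.postcomp_mk₀_injective_of_mono K (ModuleCat.smulShortComplex M x).f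
      (h0.trans (map_zero _).symm)
  | succ j =>
    obtain ⟨x₃, hx₃⟩ := Ext.covariant_sequence_exact₁ K hS y h0 (n₀ := j) rfl
    have : x₃ = 0 := (hvan j (by omega)).allEq _ _
    rw [← hx₃, this, Ext.zero_comp]
    rfl

/-- The connecting map. -/
noncomputable def delta (hS : (ModuleCat.smulShortComplex M x).ShortExact) :
    Ext K (ModuleCat.of A (QuotSMulTop x M)) d →ₗ[A] Ext K M (d + 1) :=
  Ext.postcompOfLinear (Y := (ModuleCat.smulShortComplex M x).X₃)
    (Z := (ModuleCat.smulShortComplex M x).X₁) hS.extClass A K rfl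

lemma delta_apply (hS : (ModuleCat.smulShortComplex M x).ShortExact)
    (e : Ext K (ModuleCat.of A (QuotSMulTop x M)) d) :
    delta K M x d hS e = e.comp hS.extClass rfl := rfl

include hK in
lemma delta_bijective (hS : (ModuleCat.smulShortComplex M x).ShortExact)
    (hvan : Subsingleton (Ext K M d)) : Function.Bijective (delta K M x d hS) := by
  constructor
  · rw [injective_iff_map_eq_zero]
    intro e he
    obtain ⟨x₂, hx₂⟩ := Ext.covariant_sequence_exact₃ K hS e rfl he
    have : x₂ = 0 := hvan.allEq _ _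
    rw [← hx₂, this, Ext.zero_comp]
    rfl
  · intro y
    exact Ext.covariant_sequence_exact₁ K hS y (comp_mk₀_f K M x hK (d + 1) y) rfl

end OneStep

section Main

theorem main (K : ModuleCat.{u} A) (xs : List A) (hK : ∀ x ∈ xs, x • (𝟙 K) = 0) :
    ∀ (M : Type u) [AddCommGroup M] [Module A M], IsWeaklyRegular M xs →
      (∀ i, i < xs.length → Subsingleton (Ext K (ModuleCat.of A M) i)) ∧
      Nonempty (Ext K (ModuleCat.of A (M ⧸ (Ideal.ofList xs • ⊤ : Submodule A M))) 0 ≃ₗ[A]
        Ext K (ModuleCat.of A M) xs.length) := by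
  induction xs with
  | nil =>
    intro M _ _ _
    have hbot : (Ideal.ofList ([] : List A) • ⊤ : Submodule A M) = ⊥ := by
      rw [Ideal.ofList_nil, Submodule.bot_smul]
    let eI : ModuleCat.of A (M ⧸ (Ideal.ofList ([] : List A) • ⊤ : Submodule A M)) ≅
        ModuleCat.of A M := (Submodule.quotEquivOfEqBot _ hbot).toModuleIso
    exact ⟨fun i hi => absurd hi (by simp), ⟨extCongrRight K eI 0⟩⟩
  | cons x xs' ih =>
    intro M _ _ hreg
    rw [isWeaklyRegular_cons_iff] at hreg
    obtain ⟨hx, hreg'⟩ := hreg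
    obtain ⟨ihvan, ⟨ihiso⟩⟩ := ih (fun y hy => hK y (List.mem_cons_of_mem _ hy))
      (QuotSMulTop x M) hreg'
    have hKx : x • (𝟙 K) = 0 := hK x List.mem_cons_self
    have hS : (ModuleCat.smulShortComplex (ModuleCat.of A M) x).ShortExact :=
      IsSMulRegular.smulShortComplex_shortExact (M := ModuleCat.of A M) hx
    have hvan : ∀ i, i < xs'.length + 1 → Subsingleton (Ext K (ModuleCat.of A M) i) :=
      subsingleton_ext_of_quot K (ModuleCat.of A M) x hKx hx xs'.length ihvan
    let eN : ModuleCat.of A (M ⧸ (Ideal.ofList (x :: xs') • ⊤ : Submodule A M)) ≅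
        ModuleCat.of A (QuotSMulTop x M ⧸
          (Ideal.ofList xs' • ⊤ : Submodule A (QuotSMulTop x M))) :=
      (Submodule.quotOfListConsSMulTopEquivQuotSMulTopInner M x xs').toModuleIso
    refine ⟨fun i hi => hvan i (by simpa using hi), ⟨?_⟩⟩
    exact (extCongrRight K eN 0) ≪≫ₗ ihiso ≪≫ₗ
      LinearEquiv.ofBijective (delta K (ModuleCat.of A M) x xs'.length hS)
        (delta_bijective K (ModuleCat.of A M) x hKx xs'.length hS
          (hvan xs'.length (by omega)))

end Main

end Groth.Agent.Helper9.ExtReg2
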