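import Mathlib
import Groth.Prelude.Def_SuppFam
import Groth.Agent.Lib.Helper9.ClosedEmb3
import Groth.Agent.Lib.Helper10.LanExact
import Groth.Agent.S0488
import Groth.Agent.S0904

/-!
# Restriction to an open and `Γ_Z` preserve injective abelian sheaves (helper9)

Uses helper10's exactness of extension by zero (`LanExact`, `S0488.compFilt_openEmb`).
-/

universe u
open CategoryTheory CategoryTheory.Limits Opposite TopologicalSpace

namespace Groth.Agent.Helper9.RestrInj

/-- restriction to an open subspace preserves injectives. -/
theorem injective_restr {X : TopCat.{u}} (U : Opens X) (I : CohTop.Ab X) [Injective I] :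
    Injective ((CohTop.restrFunctor U).obj I) := by
  have hU : Topology.IsOpenEmbedding
      (TopCat.Hom.hom (TopCat.ofHom (X := TopCat.of U) (Y := X) ⟨_, continuous_subtype_val⟩)) :=
    U.isOpenEmbedding
  have := hU.functor_isContinuous
  have h1 : PreservesFiniteLimits (hU.isOpenMap.functor.sheafPullback
      AddCommGrpCat.{u} (Opens.grothendieckTopology (TopCat.of U)) (Opens.grothendieckTopology X)) :=
    Groth.Agent.Helper10.LanExact.preservesFiniteLimits_sheafPullback_ab_of_compFilt
      hU.isOpenMap.functor _ _ (Groth.Agent.S0488.compFilt_openEmb hU)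
  have adj := hU.isOpenMap.functor.sheafAdjunctionContinuous AddCommGrpCat.{u}
    (Opens.grothendieckTopology (TopCat.of U)) (Opens.grothendieckTopology X)
  haveI : (hU.isOpenMap.functor.sheafPullback AddCommGrpCat.{u}
      (Opens.grothendieckTopology (TopCat.of U))
      (Opens.grothendieckTopology X)).PreservesMonomorphisms := inferInstance
  exact Injective.injective_of_adjoint adj I

/-- `Γ_Z(I)` is injective for `I` injective. -/
theorem injective_sectSupp {X : TopCat.{u}} (U : Opens X) (I : CohTop.Ab X) [Injective I] :
    Injective ((LocCohZ.sectSuppF U).obj I) := by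
  have hi := ClosedEmb.isClosedEmbedding_inclCompl U
  haveI : IsIso ((StalkPull.pullAdj (CohCx.inclCompl U)).unit.app ((LocCohZ.sectSuppF U).obj I)) :=
    ClosedEmb.isIso_unit_of_stalks _ hi _ (fun x hx => ClosedEmb.isZero_stalk_sectSupp U I x (by
      rw [ClosedEmb.range_inclCompl] at hx
      exact not_not.1 hx))
  haveI : Injective (CohCx.HZ U I) := ClosedEmb.injective_HZ U I
  haveI : Injective ((CohTop.push (CohCx.inclCompl U)).obj (CohCx.HZ U I)) :=
    Groth.Agent.S0904.result (CohCx.inclCompl U) (CohCx.HZ U I)
  exact Injective.of_iso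
    (asIso ((StalkPull.pullAdj (CohCx.inclCompl U)).unit.app ((LocCohZ.sectSuppF U).obj I))).symm
    (inferInstanceAs (Injective ((CohTop.push (CohCx.inclCompl U)).obj (CohCx.HZ U I))))

/-- `Γ_Z(I)` is injective for `Z` locally closed and `I` injective. -/
theorem injective_sectSuppLC {X : TopCat.{u}} (F : CohTop.Ab X) {W V : Opens X} (h : W ≤ V)
    (hF : Injective F) : Injective ((SuppFam.sectSuppLC h).obj F) := by
  haveI h1 := injective_restr V F
  haveI h2 := injective_sectSupp (SuppFam.inOpen V W) ((CohTop.restrFunctor V).obj F)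
  exact Groth.Agent.S0904.result (CohCx.incl V)
    ((LocCohZ.sectSuppF (SuppFam.inOpen V W)).obj ((CohTop.restrFunctor V).obj F))

end Groth.Agent.Helper9.RestrInj
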