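import Mathlib
import Groth.Agent.S6527
import Groth.Agent.Lib.Helper9.RestrInj
import Groth.Agent.Lib.Helper9.ShfSupp4

/-!
# Extension by zero from an open subspace and `H^p(U, K) ≅ H^p(U, K|_U)` (helper9)
-/

universe u
set_option linter.style.haveILetI false
open CategoryTheory CategoryTheory.Limits Opposite TopologicalSpace

namespace Groth.Agent.Helper9.ExtZero

open Groth.Agent.Helper9.Excision (map_map_apply map_self_apply jF jtop)
open Groth.Agent.Helper9.ShfSupp (map_ge_le map_le_ge)

section Gen
variable {C : Type u} [SmallCategory C] (J : GrothendieckTopology C)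

lemma evalGen_comp (V : C) {F F' : Sheaf J AddCommGrpCat.{u}} (ψ : CohCx.freeSheaf J V ⟶ F)
    (φ : F ⟶ F') :
    CohFree.evalGen J V F' (ψ ≫ φ) = φ.hom.app (op V) (CohFree.evalGen J V F ψ) := rfl

lemma ofSect_comp (V : C) {F F' : Sheaf J AddCommGrpCat.{u}} (φ : F ⟶ F')
    (s : F.obj.obj (op V)) :
    CohFree.ofSect J V F' (φ.hom.app (op V) s) = CohFree.ofSect J V F s ≫ φ := by
  apply (CohFree.homEquivSect J V F').injective
  rw [CohFree.homEquivSect_apply, CohFree.homEquivSect_apply, CohFree.evalGen_ofSect,
    evalGen_comp, CohFree.evalGen_ofSect]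

/-- precomposition with an isomorphism, additively. -/
def preAdd {D : Type*} [Category D] [Preadditive D] {A B : D} (e : A ≅ B) (Z : D) :
    (B ⟶ Z) ≃+ (A ⟶ Z) where
  toFun f := e.hom ≫ f
  invFun g := e.inv ≫ g
  left_inv f := by simp
  right_inv g := by simp
  map_add' f g := Preadditive.comp_add _ _ _ _ _ _

/-- postcomposition with an isomorphism, additively. -/
def postAdd {D : Type*} [Category D] [Preadditive D] {A B : D} (e : A ≅ B) (Z : D) :
    (Z ⟶ A) ≃+ (Z ⟶ B) where
  toFun f := f ≫ e.hom
  invFun g := g ≫ e.inv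
  left_inv f := by simp
  right_inv g := by simp
  map_add' f g := Preadditive.add_comp _ _ _ _ _ _

end Gen

variable {X : TopCat.{u}} (U : Opens X)

lemma hU : Topology.IsOpenEmbedding
    (TopCat.Hom.hom (TopCat.ofHom (X := TopCat.of U) (Y := X) ⟨_, continuous_subtype_val⟩)) :=
  U.isOpenEmbedding

/-- extension by zero `j_!`. -/
noncomputable def ext0 : CohTop.Ab (TopCat.of U) ⥤ CohTop.Ab X :=
  haveI := (hU U).functor_isContinuous
  (hU U).isOpenMap.functor.sheafPullback AddCommGrpCat.{u}
    (Opens.grothendieckTopology (TopCat.of U)) (Opens.grothendieckTopology X)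

/-- `j_! ⊣ j⁻¹`. -/
noncomputable def adj : ext0 U ⊣ CohTop.restrFunctor U :=
  haveI := (hU U).functor_isContinuous
  (hU U).isOpenMap.functor.sheafAdjunctionContinuous AddCommGrpCat.{u}
    (Opens.grothendieckTopology (TopCat.of U)) (Opens.grothendieckTopology X)

instance : PreservesFiniteLimits (ext0 U) := by
  haveI := (hU U).functor_isContinuous
  exact Groth.Agent.Helper10.LanExact.preservesFiniteLimits_sheafPullback_ab_of_compFilt
    (hU U).isOpenMap.functor _ _ (Groth.Agent.S0488.compFilt_openEmb (hU U))

instance : PreservesFiniteColimits (ext0 U) := by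
  have := (adj U).leftAdjoint_preservesColimits
  infer_instance

instance : (ext0 U).Additive := (adj U).left_adjoint_additive

/-- `j_! ℤ_U ≅ ℤ_U`. -/
noncomputable def ext0Free :
    (ext0 U).obj (CohCx.freeSheaf (Opens.grothendieckTopology (TopCat.of U)) ⊤) ≅
      CohCx.freeSheaf (Opens.grothendieckTopology X) U :=
  Coyoneda.ext _ _
    (fun {F} f => CohFree.ofSect (Opens.grothendieckTopology X) U F
      (F.obj.map (homOfLE (jtop U).ge).op
        (CohFree.evalGen (Opens.grothendieckTopology (TopCat.of U)) ⊤
          ((CohTop.restrFunctor U).obj F) ((adj U).homEquiv _ _ f))))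
    (fun {F} g => ((adj U).homEquiv _ _).symm
      (CohFree.ofSect (Opens.grothendieckTopology (TopCat.of U)) ⊤
        ((CohTop.restrFunctor U).obj F)
        (F.obj.map (homOfLE (jtop U).le).op
          (CohFree.evalGen (Opens.grothendieckTopology X) U F g))))
    (fun {F} f => by
      rw [CohFree.evalGen_ofSect, map_ge_le F (jtop U), CohFree.ofSect_evalGen,
        Equiv.symm_apply_apply])
    (fun {F} g => by
      rw [Equiv.apply_symm_apply, CohFree.evalGen_ofSect, map_le_ge F (jtop U),
        CohFree.ofSect_evalGen])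
    (fun {Z Z'} f g => by
      rw [evalGen_comp]
      have h1 : Z'.obj.map (homOfLE (jtop U).le).op (g.hom.app (op U)
          (CohFree.evalGen (Opens.grothendieckTopology X) U Z f)) =
          ((CohTop.restrFunctor U).map g).hom.app (op ⊤)
            (Z.obj.map (homOfLE (jtop U).le).op
              (CohFree.evalGen (Opens.grothendieckTopology X) U Z f)) :=
        (ConcreteCategory.congr_hom (g.hom.naturality (homOfLE (jtop U).le).op) _).symm
      rw [h1, ofSect_comp, Adjunction.homEquiv_naturality_right_symm])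

theorem main [HasDerivedCategory.{u} (CohTop.Ab X)]
    [HasDerivedCategory.{u} (CohTop.Ab (TopCat.of U))]
    [PreservesFiniteLimits (CohTop.restrFunctor U)]
    [PreservesFiniteColimits (CohTop.restrFunctor U)]
    (K : DerivedCategory (CohTop.Ab X)) (p : ℤ) :
    Nonempty (CohCx.HDU K p U ≃+
      CohCx.HDU ((CohTop.restrFunctor U).mapDerivedCategory.obj K) p ⊤) := by
  let dadj : (ext0 U).mapDerivedCategory ⊣ (CohTop.restrFunctor U).mapDerivedCategory :=
    Groth.Agent.S6527.derivedAdj (adj U)
  let i1 : (ext0 U).mapDerivedCategory.obj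
      ((DerivedCategory.singleFunctor (CohTop.Ab (TopCat.of U)) 0).obj
        (CohCx.freeSheaf (Opens.grothendieckTopology (TopCat.of U)) ⊤)) ≅
      (DerivedCategory.singleFunctor (CohTop.Ab X) 0).obj
        (CohCx.freeSheaf (Opens.grothendieckTopology X) U) :=
    ((ext0 U).mapDerivedCategorySingleFunctor 0).app _ ≪≫
      (DerivedCategory.singleFunctor (CohTop.Ab X) 0).mapIso (ext0Free U)
  let i2 : (CohTop.restrFunctor U).mapDerivedCategory.obj ((shiftFunctor _ p).obj K) ≅
      (shiftFunctor _ p).obj ((CohTop.restrFunctor U).mapDerivedCategory.obj K) :=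
    ((CohTop.restrFunctor U).mapDerivedCategory.commShiftIso p).app K
  exact ⟨((preAdd i1 _).trans (dadj.homAddEquiv _ _)).trans (postAdd i2 _)⟩

end Groth.Agent.Helper9.ExtZero
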