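import Mathlib
import Groth.Prelude.Def_EGA41

/-!
# Formal smoothness for adic topologies: passage to quotients `A/I → B/IB`
-/

set_option autoImplicit false
set_option linter.unusedSectionVars false
universe u v

namespace Groth.Agent.Helper9.FSAdic

open EGA41

section

variable {A B : Type u} [CommRing A] [CommRing B] [Algebra A B]

/-- If `B` is formally smooth over `A` (adic), `B/IB` is formally smooth over the discrete ring
`A/I` for every open ideal `I`. -/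
theorem fs_quotient (𝔞 : Ideal A) (𝔟 : Ideal B) (I : Ideal A) (hI : ∃ k : ℕ, 𝔞 ^ k ≤ I)
    (hB : IsFormallySmoothAdic A 𝔞 B 𝔟) :
    IsFormallySmoothAdic (A ⧸ I) ⊥ (B ⧸ I.map (algebraMap A B))
      (𝔟.map (Ideal.Quotient.mk (I.map (algebraMap A B)))) := by
  intro C _ algC J hJ _ u hu
  obtain ⟨k, hk⟩ := hI
  obtain ⟨m, hm⟩ := hu
  letI algAC : Algebra A C := ((algebraMap (A ⧸ I) C).comp (Ideal.Quotient.mk I)).toAlgebra
  haveI : IsScalarTower A (A ⧸ I) C := IsScalarTower.of_algebraMap_eq (fun _ => rfl)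
  haveI : IsScalarTower A (A ⧸ I) (C ⧸ J) := IsScalarTower.of_algebraMap_eq (fun _ => rfl)
  have halg : ∀ a : A, algebraMap A C a = algebraMap (A ⧸ I) C (Ideal.Quotient.mk I a) :=
    fun a => rfl
  have hcond : ∃ k : ℕ, (𝔞 ^ k).map (algebraMap A C) = ⊥ := ⟨k, by
    rw [eq_bot_iff, Ideal.map_le_iff_le_comap]
    intro a ha
    rw [Ideal.mem_comap, Ideal.mem_bot, halg, Ideal.Quotient.eq_zero_iff_mem.mpr (hk ha), map_zero]⟩
  let uA : B →ₐ[A] C ⧸ J :=
    (u.restrictScalars A).comp (Ideal.Quotient.mkₐ A (I.map (algebraMap A B)))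
  have huA : ∃ k : ℕ, ∀ x ∈ 𝔟 ^ k, uA x = 0 := ⟨m, fun x hx => hm _ (by
    rw [← Ideal.map_pow]; exact Ideal.mem_map_of_mem _ hx)⟩
  obtain ⟨v, hv⟩ := hB C J hJ hcond uA huA
  have hvI : ∀ x ∈ I.map (algebraMap A B), v x = 0 := by
    have : I.map (algebraMap A B) ≤ RingHom.ker v.toRingHom := by
      rw [Ideal.map_le_iff_le_comap]
      intro a ha
      rw [Ideal.mem_comap, RingHom.mem_ker]
      change v (algebraMap A B a) = 0
      rw [v.commutes, halg, Ideal.Quotient.eq_zero_iff_mem.mpr ha, map_zero]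
    exact fun x hx => this hx
  let v₁ : B ⧸ I.map (algebraMap A B) →ₐ[A] C := Ideal.Quotient.liftₐ _ v hvI
  have hv₁ : ∀ b, v₁ (Ideal.Quotient.mk _ b) = v b := fun b => rfl
  have hcomm : ∀ r : A ⧸ I, v₁.toRingHom (algebraMap (A ⧸ I) (B ⧸ I.map (algebraMap A B)) r) =
      algebraMap (A ⧸ I) C r := by
    intro r
    obtain ⟨a, rfl⟩ := Ideal.Quotient.mk_surjective r
    change v₁ (Ideal.Quotient.mk _ (algebraMap A B a)) = _
    rw [hv₁, v.commutes, halg]
  let v' : B ⧸ I.map (algebraMap A B) →ₐ[A ⧸ I] C := { v₁.toRingHom with commutes' := hcomm }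
  refine ⟨v', ?_⟩
  ext x
  obtain ⟨b, rfl⟩ := Ideal.Quotient.mk_surjective x
  change Ideal.Quotient.mk J (v b) = u (Ideal.Quotient.mk _ b)
  exact AlgHom.congr_fun hv b

/-- Lifting for test algebras killed by `I`, from formal smoothness of `B/IB` over `A/I`. -/
theorem lift_of_quotient (𝔟 : Ideal B) (I : Ideal A)
    (hq : IsFormallySmoothAdic (A ⧸ I) ⊥ (B ⧸ I.map (algebraMap A B))
      (𝔟.map (Ideal.Quotient.mk (I.map (algebraMap A B)))))
    (C : Type u) [CommRing C] [Algebra A C] (J : Ideal C) (hJ : IsNilpotent J)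
    (hIC : I.map (algebraMap A C) = ⊥) (u : B →ₐ[A] C ⧸ J)
    (hu : ∃ k : ℕ, ∀ x ∈ 𝔟 ^ k, u x = 0) :
    ∃ v : B →ₐ[A] C, (Ideal.Quotient.mkₐ A J).comp v = u := by
  have hIC' : ∀ a ∈ I, algebraMap A C a = 0 := fun a ha => by
    have := Ideal.mem_map_of_mem (algebraMap A C) ha
    rwa [hIC] at this
  letI algC : Algebra (A ⧸ I) C := (Ideal.Quotient.lift I (algebraMap A C) hIC').toAlgebra
  haveI : IsScalarTower A (A ⧸ I) C := IsScalarTower.of_algebraMap_eq (fun _ => rfl)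
  haveI : IsScalarTower A (A ⧸ I) (C ⧸ J) := IsScalarTower.of_algebraMap_eq (fun _ => rfl)
  have huI : ∀ x ∈ I.map (algebraMap A B), u x = 0 := by
    have : I.map (algebraMap A B) ≤ RingHom.ker u.toRingHom := by
      rw [Ideal.map_le_iff_le_comap]
      intro a ha
      rw [Ideal.mem_comap, RingHom.mem_ker]
      change u (algebraMap A B a) = 0
      rw [u.commutes]
      change Ideal.Quotient.mk J (algebraMap A C a) = 0
      rw [hIC' a ha, map_zero]
    exact fun x hx => this hx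
  let u₁ : B ⧸ I.map (algebraMap A B) →ₐ[A] C ⧸ J := Ideal.Quotient.liftₐ _ u huI
  have hu₁ : ∀ b, u₁ (Ideal.Quotient.mk _ b) = u b := fun b => rfl
  have hcomm : ∀ r : A ⧸ I, u₁.toRingHom (algebraMap (A ⧸ I) (B ⧸ I.map (algebraMap A B)) r) =
      algebraMap (A ⧸ I) (C ⧸ J) r := by
    intro r
    obtain ⟨a, rfl⟩ := Ideal.Quotient.mk_surjective r
    change u₁ (Ideal.Quotient.mk _ (algebraMap A B a)) = _
    rw [hu₁, u.commutes]
    rfl
  let u' : B ⧸ I.map (algebraMap A B) →ₐ[A ⧸ I] C ⧸ J :=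
    { u₁.toRingHom with commutes' := hcomm }
  obtain ⟨m, hm⟩ := hu
  have hu' : ∃ k : ℕ, ∀ x ∈ (𝔟.map (Ideal.Quotient.mk (I.map (algebraMap A B)))) ^ k,
      u' x = 0 := ⟨m, fun x hx => by
    rw [← Ideal.map_pow] at hx
    obtain ⟨b, hb, rfl⟩ := (Ideal.mem_map_iff_of_surjective _ Ideal.Quotient.mk_surjective).mp hx
    exact hm b hb⟩
  obtain ⟨v', hv'⟩ := hq C J hJ ⟨1, by simp⟩ u' hu'
  refine ⟨(v'.restrictScalars A).comp (Ideal.Quotient.mkₐ A _), ?_⟩
  ext b
  exact AlgHom.congr_fun hv' (Ideal.Quotient.mk _ b)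

end

end Groth.Agent.Helper9.FSAdic
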