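import Mathlib
import Groth.Prelude.Def_EGA41
import Groth.Agent.Lib.Helper9.PBasis2

/-!
# Formally unramified algebras for adic topologies (EGA 0_IV 20.7)
-/

set_option autoImplicit false
set_option linter.unusedSectionVars false
universe u v

namespace Groth.Agent.Helper9.FUnram

section

variable {A B : Type u} [CommRing A] [CommRing B] [Algebra A B]

/-- If `Ω_{B/A} = 𝔠 Ω_{B/A}`, two `A`-algebra maps `B → E` that kill `𝔠` (only `v₁` needed) and
agree modulo a nilpotent ideal are equal. -/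
theorem eq_of_smul_top_eq_top (𝔠 : Ideal B) (h𝔠 : (𝔠 • ⊤ : Submodule B Ω[B⁄A]) = ⊤)
    {E : Type u} [CommRing E] [algE : Algebra A E] (J : Ideal E) (hJ : IsNilpotent J)
    (v₁ v₂ : B →ₐ[A] E) (hv₁ : ∀ x ∈ 𝔠, v₁ x = 0)
    (h : ∀ b, Ideal.Quotient.mk J (v₁ b) = Ideal.Quotient.mk J (v₂ b)) : v₁ = v₂ := by
  revert v₁ v₂
  revert algE
  apply Ideal.IsNilpotent.induction_on (S := E) J hJ
  · intro S _ I hI _ v₁ v₂ hv₁ h
    letI algBS : Algebra B S := v₁.toRingHom.toAlgebra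
    haveI : IsScalarTower A B S := IsScalarTower.of_algebraMap_eq' v₁.comp_algebraMap.symm
    have hsub : ∀ D : Derivation A B I, D = 0 := by
      intro D
      have hker : ∀ ω : Ω[B⁄A], D.liftKaehlerDifferential ω = 0 := by
        intro ω
        have hω : ω ∈ (𝔠 • ⊤ : Submodule B Ω[B⁄A]) := by rw [h𝔠]; trivial
        refine Submodule.smul_induction_on hω (fun x hx ω' _ => ?_)
          (fun x y hx hy => by rw [map_add, hx, hy, add_zero])
        rw [map_smul]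
        apply Subtype.ext
        change algebraMap B S x * _ = _
        change v₁ x * _ = _
        rw [hv₁ x hx, zero_mul]
        rfl
      ext b
      rw [← D.liftKaehlerDifferential_comp_D, hker]
      rfl
    let e := derivationToSquareZeroEquivLift (R := A) (A := B) I hI
    have h1 : (Ideal.Quotient.mkₐ A I).comp v₁ = IsScalarTower.toAlgHom A B (S ⧸ I) := by
      ext b; rfl
    have h2 : (Ideal.Quotient.mkₐ A I).comp v₂ = IsScalarTower.toAlgHom A B (S ⧸ I) := by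
      ext b; exact (h b).symm
    have := e.symm.injective (a₁ := ⟨v₁, h1⟩) (a₂ := ⟨v₂, h2⟩) ((hsub _).trans (hsub _).symm)
    exact congrArg Subtype.val this
  · intro S _ I J' hIJ hP1 hP2 _ v₁ v₂ hv₁ h
    have h3 : (Ideal.Quotient.mkₐ A I).comp v₁ = (Ideal.Quotient.mkₐ A I).comp v₂ := by
      apply hP2
      · intro x hx
        change Ideal.Quotient.mk I (v₁ x) = 0
        rw [hv₁ x hx, map_zero]
      · intro b
        have hb := h b
        change Ideal.Quotient.mk _ (Ideal.Quotient.mk I (v₁ b)) =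
          Ideal.Quotient.mk _ (Ideal.Quotient.mk I (v₂ b))
        rwa [Ideal.Quotient.eq, ← map_sub, Ideal.mem_quotient_iff_mem hIJ, ← Ideal.Quotient.eq]
    exact hP1 v₁ v₂ hv₁ (fun b => AlgHom.congr_fun h3 b)

/-- `𝔠 Ω = Ω` implies `𝔠^n Ω = Ω`. -/
lemma pow_smul_top_eq_top {M : Type*} [AddCommGroup M] [Module B M] (𝔠 : Ideal B)
    (h : (𝔠 • ⊤ : Submodule B M) = ⊤) (n : ℕ) : (𝔠 ^ n • ⊤ : Submodule B M) = ⊤ := by
  induction n with
  | zero => rw [pow_zero, Ideal.one_eq_top, Submodule.top_smul]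
  | succ n ih => rw [pow_succ, Submodule.mul_smul, h, ih]

end

section Converse

open TrivSqZeroExt

attribute [local instance] Groth.Agent.Helper9.PBasis.oppModule

variable {A B : Type u} [CommRing A] [CommRing B] [Algebra A B]

/-- The uniqueness property for the test algebra `B/𝔟 ⊕ Ω/𝔟Ω` forces `Ω = 𝔟Ω`. -/
theorem smul_top_eq_top_of_unique (𝔞 : Ideal A) (𝔟 : Ideal B)
    (hAB : ∃ k : ℕ, (𝔞 ^ k).map (algebraMap A B) ≤ 𝔟)
    (H : ∀ (E : Type u) [CommRing E] [Algebra A E], (∃ k : ℕ, (𝔞 ^ k).map (algebraMap A E) = ⊥) →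
      ∀ J : Ideal E, IsNilpotent J → ∀ v₁ v₂ : B →ₐ[A] E,
        (∃ m : ℕ, ∀ x ∈ 𝔟 ^ m, v₁ x = 0) → (∃ m : ℕ, ∀ x ∈ 𝔟 ^ m, v₂ x = 0) →
        (∀ b : B, Ideal.Quotient.mk J (v₁ b) = Ideal.Quotient.mk J (v₂ b)) → v₁ = v₂) :
    (𝔟 • ⊤ : Submodule B Ω[B⁄A]) = ⊤ := by
  letI : IsCentralScalar (B ⧸ 𝔟) (Ω[B⁄A] ⧸ (𝔟 • ⊤ : Submodule B Ω[B⁄A])) := ⟨fun _ _ => rfl⟩
  obtain ⟨k₀, hk₀⟩ := hAB
  letI algE : Algebra A (TrivSqZeroExt (B ⧸ 𝔟) (Ω[B⁄A] ⧸ (𝔟 • ⊤ : Submodule B Ω[B⁄A]))) :=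
    ((TrivSqZeroExt.inlHom (B ⧸ 𝔟) _).comp (algebraMap A (B ⧸ 𝔟))).toAlgebra
  have halgE : ∀ a : A, algebraMap A (TrivSqZeroExt (B ⧸ 𝔟)
      (Ω[B⁄A] ⧸ (𝔟 • ⊤ : Submodule B Ω[B⁄A]))) a = inl (algebraMap A (B ⧸ 𝔟) a) := fun a => rfl
  let d : B → Ω[B⁄A] ⧸ (𝔟 • ⊤ : Submodule B Ω[B⁄A]) := fun b =>
    Submodule.Quotient.mk (KaehlerDifferential.D A B b)
  have hd_add : ∀ b c, d (b + c) = d b + d c := fun b c => by
    simp only [d, map_add, Submodule.Quotient.mk_add]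
  have hd_mul : ∀ b c, d (b * c) = Ideal.Quotient.mk 𝔟 b • d c + Ideal.Quotient.mk 𝔟 c • d b := by
    intro b c
    simp only [d, Derivation.leibniz, Submodule.Quotient.mk_add]
    rfl
  have hd_alg : ∀ a : A, d (algebraMap A B a) = 0 := fun a => by
    simp only [d, Derivation.map_algebraMap, Submodule.Quotient.mk_zero]
  have hd𝔟 : ∀ x ∈ 𝔟 * 𝔟, d x = 0 := by
    intro x hx
    refine Submodule.mul_induction_on hx ?_ ?_
    · intro y hy z hz
      rw [hd_mul, Ideal.Quotient.eq_zero_iff_mem.mpr hy, Ideal.Quotient.eq_zero_iff_mem.mpr hz,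
        zero_smul, zero_smul, add_zero]
    · intro y z hy hz
      rw [hd_add, hy, hz, add_zero]
  let v₁ : B →ₐ[A] TrivSqZeroExt (B ⧸ 𝔟) (Ω[B⁄A] ⧸ (𝔟 • ⊤ : Submodule B Ω[B⁄A])) :=
    { toFun := fun b => inl (Ideal.Quotient.mk 𝔟 b)
      map_one' := by simp
      map_mul' := fun b c => by simp
      map_zero' := by simp
      map_add' := fun b c => by simp
      commutes' := fun a => by rw [halgE]; rfl }
  let v₂ : B →ₐ[A] TrivSqZeroExt (B ⧸ 𝔟) (Ω[B⁄A] ⧸ (𝔟 • ⊤ : Submodule B Ω[B⁄A])) :=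
    { toFun := fun b => inl (Ideal.Quotient.mk 𝔟 b) + inr (d b)
      map_one' := by
        have : d 1 = 0 := by simpa using hd_alg 1
        simp [this]
      map_mul' := fun b c => by
        ext
        · simp
        · simp [hd_mul, add_comm]
      map_zero' := by
        have : d 0 = 0 := by simpa using hd_alg 0
        simp [this]
      map_add' := fun b c => by
        ext
        · simp
        · simp [hd_add]
      commutes' := fun a => by
        rw [halgE, hd_alg, inr_zero, add_zero]; rfl }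
  have hv₁ : ∀ b, v₁ b = inl (Ideal.Quotient.mk 𝔟 b) := fun b => rfl
  have hv₂ : ∀ b, v₂ b = inl (Ideal.Quotient.mk 𝔟 b) + inr (d b) := fun b => rfl
  let J : Ideal (TrivSqZeroExt (B ⧸ 𝔟) (Ω[B⁄A] ⧸ (𝔟 • ⊤ : Submodule B Ω[B⁄A]))) :=
    RingHom.ker (TrivSqZeroExt.fstHom (B ⧸ 𝔟) (B ⧸ 𝔟) _).toRingHom
  have hJ : ∀ c ∈ J, c.fst = 0 := fun c hc => hc
  have hJnil : IsNilpotent J := by
    refine ⟨2, ?_⟩
    rw [Ideal.zero_eq_bot, eq_bot_iff, pow_two, Ideal.mul_le]
    intro c hc c' hc'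
    rw [Ideal.mem_bot]
    ext
    · simp [hJ c hc]
    · simp [hJ c hc, hJ c' hc']
  have hcondA : ∃ k : ℕ, (𝔞 ^ k).map (algebraMap A (TrivSqZeroExt (B ⧸ 𝔟)
      (Ω[B⁄A] ⧸ (𝔟 • ⊤ : Submodule B Ω[B⁄A])))) = ⊥ := by
    refine ⟨k₀, ?_⟩
    rw [eq_bot_iff, Ideal.map_le_iff_le_comap]
    intro a ha
    rw [Ideal.mem_comap, Ideal.mem_bot, halgE]
    have h1 : algebraMap A B a ∈ 𝔟 := hk₀ (Ideal.mem_map_of_mem _ ha)
    have h3 : algebraMap A (B ⧸ 𝔟) a = 0 := by
      rw [IsScalarTower.algebraMap_apply A B (B ⧸ 𝔟)]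
      exact Ideal.Quotient.eq_zero_iff_mem.mpr h1
    rw [h3, inl_zero]
  have hkill₁ : ∃ m : ℕ, ∀ x ∈ 𝔟 ^ m, v₁ x = 0 := ⟨1, fun x hx => by
    rw [pow_one] at hx
    rw [hv₁, Ideal.Quotient.eq_zero_iff_mem.mpr hx, inl_zero]⟩
  have hkill₂ : ∃ m : ℕ, ∀ x ∈ 𝔟 ^ m, v₂ x = 0 := ⟨2, fun x hx => by
    rw [pow_two] at hx
    rw [hv₂, Ideal.Quotient.eq_zero_iff_mem.mpr (Ideal.mul_le_right hx), hd𝔟 x hx]
    simp⟩
  have hagree : ∀ b : B, Ideal.Quotient.mk J (v₁ b) = Ideal.Quotient.mk J (v₂ b) := by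
    intro b
    rw [Ideal.Quotient.eq]
    change (v₁ b - v₂ b).fst = 0
    rw [hv₁, hv₂]
    simp
  have heq := H _ hcondA J hJnil v₁ v₂ hkill₁ hkill₂ hagree
  have hd0 : ∀ b, d b = 0 := by
    intro b
    have := congrArg (fun v => (v b).snd) heq
    simp only [hv₁, hv₂] at this
    simpa using this.symm
  have hle : Submodule.span B (Set.range (KaehlerDifferential.D A B)) ≤
      (𝔟 • ⊤ : Submodule B Ω[B⁄A]) := Submodule.span_le.mpr (by
    rintro _ ⟨b, rfl⟩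
    exact (Submodule.Quotient.mk_eq_zero _).mp (hd0 b))
  rw [KaehlerDifferential.span_range_derivation] at hle
  exact top_le_iff.mp hle

end Converse

section Quot

open TensorProduct

variable {A B : Type u} [CommRing A] [CommRing B] [Algebra A B]

/-- If `Ω_{(B/𝔪B)/A} = 0` then `Ω_{B/A} = 𝔪B · Ω_{B/A}`. -/
theorem smul_top_eq_top_of_subsingleton_quotient (𝔪 : Ideal A)
    [Subsingleton (Ω[(B ⧸ 𝔪.map (algebraMap A B))⁄A])] :
    ((𝔪.map (algebraMap A B)) • ⊤ : Submodule B Ω[B⁄A]) = ⊤ := by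
  set I : Ideal B := 𝔪.map (algebraMap A B) with hI
  have hsurj : Function.Surjective (algebraMap B (B ⧸ I)) := Ideal.Quotient.mk_surjective
  have hzero : ∀ x ∈ I,
      ((1 : B ⧸ I) ⊗ₜ[B] KaehlerDifferential.D A B x : (B ⧸ I) ⊗[B] Ω[B⁄A]) = 0 := by
    intro x hx
    rw [hI, Ideal.map] at hx
    induction hx using Submodule.span_induction with
    | mem x hx =>
      obtain ⟨a, _, rfl⟩ := hx
      rw [Derivation.map_algebraMap, TensorProduct.tmul_zero]
    | zero => rw [map_zero, TensorProduct.tmul_zero]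
    | add x y _ _ hx hy => rw [map_add, TensorProduct.tmul_add, hx, hy, add_zero]
    | smul b x hxI hx =>
      rw [smul_eq_mul, Derivation.leibniz, TensorProduct.tmul_add, TensorProduct.tmul_smul, hx,
        smul_zero, zero_add, ← TensorProduct.smul_tmul]
      have : x • (1 : B ⧸ I) = 0 := by
        rw [Algebra.smul_def, mul_one]
        exact Ideal.Quotient.eq_zero_iff_mem.mpr hxI
      rw [this, TensorProduct.zero_tmul]
  have hT : Subsingleton ((B ⧸ I) ⊗[B] Ω[B⁄A]) := by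
    have hr := KaehlerDifferential.range_kerCotangentToTensor A B (B ⧸ I) hsurj
    have hker : LinearMap.ker (KaehlerDifferential.mapBaseChange A B (B ⧸ I)) = ⊤ := by
      rw [eq_top_iff]
      intro z _
      rw [LinearMap.mem_ker]
      exact Subsingleton.elim _ _
    have hz : ∀ z : (B ⧸ I) ⊗[B] Ω[B⁄A], z = 0 := by
      intro z
      have hzmem : z ∈ LinearMap.range (KaehlerDifferential.kerCotangentToTensor A B (B ⧸ I)) := by
        rw [hr, hker]; trivial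
      obtain ⟨c, rfl⟩ := hzmem
      obtain ⟨x, rfl⟩ := Ideal.toCotangent_surjective _ c
      rw [KaehlerDifferential.kerCotangentToTensor_toCotangent]
      apply hzero
      have h1 : (x : B) ∈ RingHom.ker (algebraMap B (B ⧸ I)) := x.2
      rw [RingHom.mem_ker] at h1
      exact Ideal.Quotient.eq_zero_iff_mem.mp h1
    exact ⟨fun z z' => by rw [hz z, hz z']⟩
  rw [← Submodule.Quotient.subsingleton_iff]
  exact (TensorProduct.quotTensorEquivQuotSMul Ω[B⁄A] I).symm.injective.subsingleton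

end Quot

end Groth.Agent.Helper9.FUnram
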