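import Mathlib

/-!
# Right derivability structures from triangulated subcategories with enough resolutions
-/

set_option autoImplicit false
universe v u
open CategoryTheory CategoryTheory.Limits Pretriangulated

namespace Groth.Agent.Helper9.VerdierDer

variable {C : Type u} [Category.{v} C] [HasZeroObject C] [HasShift C ℤ] [Preadditive C]
  [∀ n : ℤ, (shiftFunctor C n).Additive] [Pretriangulated C] [IsTriangulated C]
  (A B : ObjectProperty C) [A.IsTriangulated] [B.IsTriangulated]
  [A.IsClosedUnderIsomorphisms] [B.IsClosedUnderIsomorphisms]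
  (hres : ∀ X : C, ∃ (Z : C) (s : X ⟶ Z), A Z ∧ B.trW s)

include hres in
lemma isVerdierRightLocalizing : A.IsVerdierRightLocalizing B := by
  rw [ObjectProperty.isVerdierRightLocalizing_iff]
  intro X Y s hX hs
  obtain ⟨Z, b, hZ, hb⟩ := hres Y
  have hsb : B.trW (s ≫ b) := MorphismProperty.comp_mem _ _ _ hs hb
  refine ⟨Z, s ≫ b, b, hZ, ?_, rfl⟩
  obtain ⟨W, g, h, hT⟩ := distinguished_cocone_triangle (s ≫ b)
  have hWA : A W := A.ext_of_isTriangulatedClosed₃ _ hT hX hZ
  have hWB : B W := (B.trW_iff_of_distinguished _ hT).1 hsb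
  exact ⟨W, g, h, hT, ⟨hWA, hWB⟩⟩

include hres in
lemma nonempty_rightResolution (X : C) :
    Nonempty ((A.triangulatedLocalizerMorphism B).RightResolution X) := by
  obtain ⟨Z, s, hZ, hs⟩ := hres X
  exact ⟨{ X₁ := ⟨Z, hZ⟩, w := s, hw := hs }⟩

include hres in
lemma isConnected_rightResolution (X : C) :
    IsConnected ((A.triangulatedLocalizerMorphism B).RightResolution X) := by
  haveI := nonempty_rightResolution A B hres X
  apply zigzag_isConnected
  intro R R'
  obtain ⟨ψ, hψ⟩ := (MorphismProperty.RightFraction.mk R.w R.hw R'.w).exists_leftFraction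
  dsimp at hψ
  obtain ⟨V, r, hV, hr⟩ := hres ψ.Y'
  let R'' : (A.triangulatedLocalizerMorphism B).RightResolution X :=
    { X₁ := ⟨V, hV⟩
      w := R'.w ≫ ψ.s ≫ r
      hw := MorphismProperty.comp_mem _ _ _ R'.hw (MorphismProperty.comp_mem _ _ _ ψ.hs hr) }
  have f₁ : R ⟶ R'' :=
    { f := ObjectProperty.homMk (ψ.f ≫ r)
      comm := by
        show R.w ≫ ψ.f ≫ r = R'.w ≫ ψ.s ≫ r
        rw [← Category.assoc, ← hψ, Category.assoc] }
  have f₂ : R' ⟶ R'' :=
    { f := ObjectProperty.homMk (ψ.s ≫ r)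
      comm := rfl }
  exact (Zigzag.of_hom f₁).trans (Zigzag.of_inv f₂)

include hres in
lemma arrow_hasRightResolutions :
    (A.triangulatedLocalizerMorphism B).arrow.HasRightResolutions := by
  intro g
  obtain ⟨I, wX, hI, hwX⟩ := hres g.left
  obtain ⟨ψ, hψ⟩ := (MorphismProperty.RightFraction.mk wX hwX g.hom).exists_leftFraction
  dsimp at hψ
  obtain ⟨J, r, hJ, hr⟩ := hres ψ.Y'
  exact ⟨{ X₁ := Arrow.mk (ObjectProperty.homMk (ψ.f ≫ r) :
              (⟨I, hI⟩ : A.FullSubcategory) ⟶ ⟨J, hJ⟩)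
           w := Arrow.homMk wX (ψ.s ≫ r) (by
              show wX ≫ ψ.f ≫ r = g.hom ≫ ψ.s ≫ r
              rw [← Category.assoc, ← hψ, Category.assoc])
           hw := ⟨hwX, MorphismProperty.comp_mem _ _ _ ψ.hs hr⟩ }⟩

include hres in
lemma isLocalizedEquivalence : (A.triangulatedLocalizerMorphism B).IsLocalizedEquivalence := by
  haveI := isVerdierRightLocalizing A B hres
  let G := (A.triangulatedLocalizerMorphism B).localizedFunctor
    (B.inverseImage A.ι).trW.Q B.trW.Q
  haveI hfull : G.Full := inferInstance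
  haveI hfaith : G.Faithful := inferInstance
  haveI : B.trW.Q.EssSurj := Localization.essSurj _ B.trW
  haveI hess : G.EssSurj := by
    constructor
    intro Y
    obtain ⟨Z, s, hZ, hs⟩ := hres (B.trW.Q.objPreimage Y)
    haveI : IsIso (B.trW.Q.map s) := Localization.inverts B.trW.Q B.trW s hs
    let e : (A.triangulatedLocalizerMorphism B).functor ⋙ B.trW.Q ≅
        (B.inverseImage A.ι).trW.Q ⋙ G := CatCommSq.iso _ _ _ _
    exact ⟨(B.inverseImage A.ι).trW.Q.obj ⟨Z, hZ⟩,
      ⟨(e.app ⟨Z, hZ⟩).symm ≪≫ (asIso (B.trW.Q.map s)).symm ≪≫ B.trW.Q.objObjPreimageIso Y⟩⟩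
  exact ⟨{ }⟩

include hres in
theorem isRightDerivabilityStructure :
    (A.triangulatedLocalizerMorphism B).IsRightDerivabilityStructure := by
  haveI := isLocalizedEquivalence A B hres
  haveI := arrow_hasRightResolutions A B hres
  haveI : ∀ X, IsConnected ((A.triangulatedLocalizerMorphism B).RightResolution X) :=
    isConnected_rightResolution A B hres
  exact LocalizerMorphism.IsRightDerivabilityStructure.mk' _

lemma derives {H : Type*} [Category H] (G : C ⥤ H)
    (hG : ∀ ⦃X Y : C⦄ (f : X ⟶ Y), (A ⊓ B).trW f → IsIso (G.map f)) :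
    (A.triangulatedLocalizerMorphism B).Derives G := by
  intro X Y f hf
  rw [ObjectProperty.trW_inverseImage_ι_iff] at hf
  exact hG f.hom hf

end Groth.Agent.Helper9.VerdierDer
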