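import Mathlib
import Groth.Agent.Lib.Helper9.Leray2
import Groth.Agent.Lib.Helper9.VerdierDer

/-!
# Unbounded right derived functors of functors of finite cohomological dimension
-/

set_option autoImplicit false
universe w w' v u v' u'
open CategoryTheory CategoryTheory.Limits HomologicalComplex Pretriangulated ZeroObject

namespace Groth.Agent.Helper9.FinDimDer

open Groth.Agent.Helper9.Leray

variable {A : Type u} [Category.{v} A] [Abelian A] [EnoughInjectives A]
  {B : Type u'} [Category.{v'} B] [Abelian B] (F : A ⥤ B) [F.Additive]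

/-- Complexes with `F`-acyclic terms. -/
def acycTerms : ObjectProperty (CochainComplex A ℤ) := fun K => ∀ m, Acyc F (K.X m)

/-- Objects of the homotopy category which are complexes with `F`-acyclic terms. -/
def sub₀ : ObjectProperty (HomotopyCategory A (ComplexShape.up ℤ)) :=
  (acycTerms F).strictMap (HomotopyCategory.quotient _ _)

lemma sub₀_quotient_obj_iff (K : CochainComplex A ℤ) :
    sub₀ F ((HomotopyCategory.quotient _ _).obj K) ↔ acycTerms F K := by
  refine ⟨?_, fun h ↦ ⟨_, h⟩⟩
  simp only [sub₀, ObjectProperty.strictMap_iff]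
  rintro ⟨L, h, hL⟩
  obtain rfl : L = K := congr_arg Quotient.as hL
  exact h

instance : (sub₀ F).ContainsZero where
  exists_zero :=
    ⟨(HomotopyCategory.quotient _ _).obj 0, Functor.map_isZero _ (isZero_zero _), by
      rw [sub₀_quotient_obj_iff]
      intro m
      exact acyc_of_isZero F
        ((HomologicalComplex.eval A (ComplexShape.up ℤ) m).map_isZero (isZero_zero _))⟩

instance : (sub₀ F).IsStableUnderShift ℤ where
  isStableUnderShiftBy n :=
    { le_shift K hK := by
        obtain ⟨K : CochainComplex _ _, rfl⟩ := K.quotient_obj_surjective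
        rw [sub₀_quotient_obj_iff] at hK
        rw [ObjectProperty.prop_shift_iff, HomotopyCategory.shift_quotient_obj,
          sub₀_quotient_obj_iff]
        intro m
        exact hK (m + n) }

set_option backward.defeqAttrib.useBackward true in
set_option backward.isDefEq.respectTransparency false in
instance : (sub₀ F).IsTriangulatedClosed₃ where
  ext₃' T hT h₁ h₂ := by
    have h₁' : acycTerms F T.obj₁.as := by rwa [← sub₀_quotient_obj_iff]
    have h₂' : acycTerms F T.obj₂.as := by rwa [← sub₀_quotient_obj_iff]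
    obtain ⟨f : T.obj₁.as ⟶ T.obj₂.as, hf⟩ := (HomotopyCategory.quotient _ _).map_surjective T.mor₁
    refine ⟨_, ?_,
      ⟨Triangle.π₃.mapIso (isoTriangleOfIso₁₂ T _ hT
        (HomotopyCategory.mappingCone_triangleh_distinguished f)
        (Iso.refl _) (Iso.refl _) ?_)⟩⟩
    · dsimp
      rw [sub₀_quotient_obj_iff]
      intro m
      exact acyc_of_iso F
        (HomologicalComplex.homotopyCofiber.XIsoBiprod f m (m + 1) (by simp) :
          (CochainComplex.mappingCone f).X m ≅ _).symm
        (acyc_biprod F (h₁' (m + 1)) (h₂' m))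
    · simp [hf]

instance : (sub₀ F).IsTriangulated where
  toIsTriangulatedClosed₂ := .of_isTriangulatedClosed₃

/-- The triangulated subcategory of complexes homotopy equivalent to a complex with `F`-acyclic
terms. -/
abbrev sub : ObjectProperty (HomotopyCategory A (ComplexShape.up ℤ)) := (sub₀ F).isoClosure

lemma sub_quotient_obj (K : CochainComplex A ℤ) (hK : ∀ m, Acyc F (K.X m)) :
    sub F ((HomotopyCategory.quotient _ _).obj K) :=
  ObjectProperty.le_isoClosure _ _ ((sub₀_quotient_obj_iff F K).2 hK)

section

variable (n : ℕ) (hn : ∀ X : A, IsZero ((F.rightDerived n).obj X))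

include hn in
lemma hres (X : HomotopyCategory A (ComplexShape.up ℤ)) :
    ∃ (Z : HomotopyCategory A (ComplexShape.up ℤ)) (s : X ⟶ Z),
      sub F Z ∧ (HomotopyCategory.subcategoryAcyclic A).trW s := by
  obtain ⟨K, rfl⟩ := HomotopyCategory.quotient_obj_surjective X
  obtain ⟨I, f, hf, hI⟩ := Groth.Agent.Helper9.PDim.exists_resolution (Acyc F)
    (fun X => ⟨Injective.under X, Injective.ι X, acyc_of_injective F _, inferInstance⟩)
    (fun S hS h₁ => acyc_X₂_iff_X₃ F S hS h₁) (max n 1) K (le_max_right _ _)
    (fun K hex hz _ hP => acyc_top F n hn (max n 1) (le_max_left _ _) K hex hz hP)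
  refine ⟨(HomotopyCategory.quotient _ _).obj I, (HomotopyCategory.quotient _ _).map f,
    sub_quotient_obj F I hI, ?_⟩
  rw [← HomotopyCategory.quasiIso_eq_trW_subcategoryAcyclic,
    HomotopyCategory.quotient_map_mem_quasiIso_iff, HomologicalComplex.mem_quasiIso_iff]
  exact hf

variable [PreservesFiniteLimits F] [HasDerivedCategory.{w'} B]

include hn in
lemma inverts ⦃X Y : HomotopyCategory A (ComplexShape.up ℤ)⦄ (f : X ⟶ Y)
    (hf : (sub F ⊓ HomotopyCategory.subcategoryAcyclic A).trW f) :
    IsIso ((F.mapHomotopyCategory (ComplexShape.up ℤ) ⋙ DerivedCategory.Qh).map f) := by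
  obtain ⟨W, g, h, hT, hWA, hWB⟩ := hf
  obtain ⟨W', hW', ⟨e⟩⟩ := hWA
  obtain ⟨K, rfl⟩ := HomotopyCategory.quotient_obj_surjective W'
  rw [sub₀_quotient_obj_iff] at hW'
  have hKac : K.Acyclic := by
    rw [← HomotopyCategory.quotient_obj_mem_subcategoryAcyclic_iff_acyclic]
    exact ObjectProperty.prop_of_iso _ e hWB
  have hFK : ((F.mapHomologicalComplex (ComplexShape.up ℤ)).obj K).Acyclic :=
    acyclic_map' F K hKac (acyc_cycles' F n hn K hKac hW')
  have hFW : HomotopyCategory.subcategoryAcyclic B
      ((F.mapHomotopyCategory (ComplexShape.up ℤ)).obj W) := by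
    refine ObjectProperty.prop_of_iso _
      ((F.mapHomotopyCategory (ComplexShape.up ℤ)).mapIso e).symm ?_
    show HomotopyCategory.subcategoryAcyclic B
      ((HomotopyCategory.quotient _ _).obj ((F.mapHomologicalComplex (ComplexShape.up ℤ)).obj K))
    rw [HomotopyCategory.quotient_obj_mem_subcategoryAcyclic_iff_acyclic]
    exact hFK
  show IsIso (DerivedCategory.Qh.map ((F.mapHomotopyCategory (ComplexShape.up ℤ)).map f))
  rw [DerivedCategory.isIso_Qh_map_iff, HomotopyCategory.quasiIso_eq_trW_subcategoryAcyclic]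
  exact ⟨_, _, _, (F.mapHomotopyCategory (ComplexShape.up ℤ)).map_distinguished _ hT, hFW⟩

include hn in
theorem hasRightDerivedFunctor_aux
    (W : MorphismProperty (HomotopyCategory A (ComplexShape.up ℤ)))
    (hW : W = (HomotopyCategory.subcategoryAcyclic A).trW) :
    (F.mapHomotopyCategory (ComplexShape.up ℤ) ⋙ DerivedCategory.Qh).HasRightDerivedFunctor W := by
  subst hW
  haveI := VerdierDer.isRightDerivabilityStructure (sub F) (HomotopyCategory.subcategoryAcyclic A)
    (hres F n hn)
  haveI := (VerdierDer.derives (sub F) (HomotopyCategory.subcategoryAcyclic A)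
    (F.mapHomotopyCategory (ComplexShape.up ℤ) ⋙ DerivedCategory.Qh)
    (inverts F n hn)).hasPointwiseRightDerivedFunctor
  infer_instance

include hn in
theorem isIso_unit_aux [HasDerivedCategory.{w} A]
    (W : MorphismProperty (HomotopyCategory A (ComplexShape.up ℤ)))
    (hW : W = (HomotopyCategory.subcategoryAcyclic A).trW)
    [DerivedCategory.Qh.IsLocalization W]
    [(F.mapHomotopyCategory (ComplexShape.up ℤ) ⋙ DerivedCategory.Qh).HasRightDerivedFunctor W]
    (K : CochainComplex A ℤ) (hK : ∀ m, Acyc F (K.X m)) :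
    IsIso (((F.mapHomotopyCategory (ComplexShape.up ℤ) ⋙
      DerivedCategory.Qh).totalRightDerivedUnit DerivedCategory.Qh W).app
        ((HomotopyCategory.quotient A (ComplexShape.up ℤ)).obj K)) := by
  subst hW
  haveI := VerdierDer.isRightDerivabilityStructure (sub F) (HomotopyCategory.subcategoryAcyclic A)
    (hres F n hn)
  exact (VerdierDer.derives (sub F) (HomotopyCategory.subcategoryAcyclic A)
    (F.mapHomotopyCategory (ComplexShape.up ℤ) ⋙ DerivedCategory.Qh)
    (inverts F n hn)).isIso_of_isRightDerivedFunctor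
    ((F.mapHomotopyCategory (ComplexShape.up ℤ) ⋙
      DerivedCategory.Qh).totalRightDerivedUnit DerivedCategory.Qh _)
    (⟨(HomotopyCategory.quotient A (ComplexShape.up ℤ)).obj K, sub_quotient_obj F K hK⟩ :
      (sub F).FullSubcategory)

end

end Groth.Agent.Helper9.FinDimDer
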