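import Mathlib
import Groth.Agent.Lib.Helper21.FS6
import Groth.Agent.Lib.Helper21.FlatKer
import Groth.Agent.Lib.Helper11.GenRes

/-!
# Finitely presented modules, flat over the base, over a flat finitely presented algebra (helper9)

* `exists_model`: descent of `(A, B, M)` to a Noetherian model, keeping flatness of the algebra too.
* `exists_surj`: core lemma: there is a surjection `(Fin n → B) → M` whose kernel is again finitely
  presented over `B` and flat over `A`.
* `Good`, `exists_cover`, `exists_resolution`: categorical versions and the resolution by finite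
  free modules.
-/

set_option autoImplicit false
set_option linter.style.haveILetI false
set_option linter.unusedSectionVars false

universe u

open TensorProduct Function

namespace Groth.Agent.Helper9.FlatFP

open Groth.Agent.Helper21.FS

section Descent

variable {A R S₁ S : Type u} [CommRing A] [CommRing R] [CommRing S₁] [CommRing S]
  [Algebra A R] [Algebra A S₁] [Algebra R S] [Algebra S₁ S] [Algebra A S]
  [IsScalarTower A R S] [IsScalarTower A S₁ S] [Algebra.IsPushout A R S₁ S]
  [Algebra.FiniteType ℤ A] [Algebra.FiniteType A S₁]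
  {M₁ : Type u} [AddCommGroup M₁] [Module S₁ M₁] [Module.Finite S₁ M₁]
  {M : Type u} [AddCommGroup M] [Module S M] [Module R M] [IsScalarTower R S M] [Module S₁ M]
  [IsScalarTower S₁ S M]

variable (A) in
include A in
attribute [local instance] Groth.Agent.Helper21.FS.stageAlgebra
  Algebra.TensorProduct.rightAlgebra in
/-- variant of helper21's `exists_descent` which also keeps the flatness of the algebra. -/
theorem exists_descent' [Module.Flat R S] (h : M₁ →ₗ[S₁] M) (hh : IsBaseChange S h)
    [Module.Flat R M] :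
    ∃ (R₀ : Type u) (_ : CommRing R₀) (_ : Algebra R₀ R) (S₀ : Type u) (_ : CommRing S₀)
      (_ : Algebra R₀ S₀) (_ : Algebra S₀ S) (_ : Algebra R₀ S) (_ : IsScalarTower R₀ R S)
      (_ : IsScalarTower R₀ S₀ S) (M₀ : Type u) (_ : AddCommGroup M₀) (_ : Module S₀ M₀)
      (_ : Module R₀ M₀) (_ : IsScalarTower R₀ S₀ M₀) (_ : Module S₀ M) (_ : IsScalarTower S₀ S M)
      (f : M₀ →ₗ[S₀] M),
      Algebra.FiniteType ℤ R₀ ∧ Algebra.FiniteType R₀ S₀ ∧ Module.Finite S₀ M₀ ∧ Module.Flat R₀ M₀ ∧
        Algebra.IsPushout R₀ R S₀ S ∧ IsBaseChange S f ∧ Module.Flat R₀ S₀ := by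
  classical
  haveI : IsNoetherianRing A := Algebra.FiniteType.isNoetherianRing ℤ A
  letI : Module A M₁ := Module.compHom M₁ (algebraMap A S₁)
  haveI : IsScalarTower A S₁ M₁ := IsScalarTower.of_algebraMap_smul fun _ _ => rfl
  haveI : Module.Flat R (R ⊗[A] M₁) := flat_baseChange_of_isBaseChange h hh
  haveI : Module.Flat R (R ⊗[A] S₁) :=
    Module.Flat.of_linearEquiv (Algebra.IsPushout.equiv A R S₁ S).toLinearEquiv
  obtain ⟨T, hT⟩ := exists_finset_forall_flat A S₁ M₁ R
  obtain ⟨T₂, hT₂⟩ := exists_finset_forall_flat A S₁ S₁ R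
  let R' : Subalgebra A R := Algebra.adjoin A ((T ∪ T₂ : Finset R) : Set R)
  have hR'fg : R'.FG := Subalgebra.fg_adjoin_finset (T ∪ T₂)
  have hsub1 : (T : Set R) ⊆ R' := fun x hx =>
    Algebra.subset_adjoin (Finset.mem_coe.mpr (Finset.mem_union_left _ (Finset.mem_coe.mp hx)))
  have hsub2 : (T₂ : Set R) ⊆ R' := fun x hx =>
    Algebra.subset_adjoin (Finset.mem_coe.mpr (Finset.mem_union_right _ (Finset.mem_coe.mp hx)))
  haveI : Module.Flat R' (R' ⊗[A] M₁) := hT R' hsub1 hR'fg
  haveI : Module.Flat R' (R' ⊗[A] S₁) := hT₂ R' hsub2 hR'fg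
  haveI : Algebra.FiniteType A R' := (Subalgebra.fg_iff_finiteType R').mp hR'fg
  haveI : IsScalarTower A R' S := IsScalarTower.of_algebraMap_eq fun a => by
    rw [IsScalarTower.algebraMap_apply A R S]
    rfl
  let S₀ := R' ⊗[A] S₁
  letI : Module S₀ M := Module.compHom M (algebraMap S₀ S)
  haveI : IsScalarTower S₀ S M := IsScalarTower.of_algebraMap_smul fun _ _ => rfl
  refine ⟨R', inferInstance, inferInstance, S₀, inferInstance, inferInstance, inferInstance,
    inferInstance, inferInstance, inferInstance, S₀ ⊗[S₁] M₁, inferInstance, inferInstance,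
    inferInstance, inferInstance, inferInstance, inferInstance, stageMap A S₁ S R' h,
    ?_, ?_, ?_, ?_, ?_, ?_, ?_⟩
  · exact Algebra.FiniteType.trans (inferInstance : Algebra.FiniteType ℤ A) inferInstance
  · infer_instance
  · infer_instance
  · exact stage_flat A S₁ R'
  · exact stage_isPushout A S₁ S R'
  · exact stageMap_isBaseChange A S₁ S R' h hh
  · infer_instance

end Descent

/-- Descent of a flat finitely presented algebra together with a finitely presented module flat
over the base to a Noetherian model; all flatness is kept. -/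
theorem exists_model (R : Type u) [CommRing R]
    (S : Type u) [CommRing S] [Algebra R S] [Algebra.FinitePresentation R S] [Module.Flat R S]
    (M : Type u)
    [AddCommGroup M] [Module S M] [Module R M] [IsScalarTower R S M]
    [Module.FinitePresentation S M] [Module.Flat R M] :
    ∃ (R₀ : Type u) (_ : CommRing R₀) (_ : Algebra R₀ R) (S₀ : Type u) (_ : CommRing S₀)
      (_ : Algebra R₀ S₀) (_ : Algebra S₀ S) (_ : Algebra R₀ S) (_ : IsScalarTower R₀ R S)
      (_ : IsScalarTower R₀ S₀ S) (M₀ : Type u) (_ : AddCommGroup M₀) (_ : Module S₀ M₀)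
      (_ : Module R₀ M₀) (_ : IsScalarTower R₀ S₀ M₀) (_ : Module S₀ M) (_ : IsScalarTower S₀ S M)
      (f : M₀ →ₗ[S₀] M),
      Algebra.FiniteType ℤ R₀ ∧ Algebra.FiniteType R₀ S₀ ∧ Module.Finite S₀ M₀ ∧ Module.Flat R₀ M₀ ∧
        Algebra.IsPushout R₀ R S₀ S ∧ IsBaseChange S f ∧ Module.Flat R₀ S₀ := by
  classical
  let P := Algebra.Presentation.ofFinitePresentation R S
  obtain ⟨n, m, f, g, hf, hfg⟩ := Module.FinitePresentation.exists_fin' S M
  have hsurj : ∀ (k : Fin m) (l : Fin n), ∃ w : MvPolynomial _ R,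
      MvPolynomial.aeval P.val w = g (Pi.single k 1) l := fun k l => by
    obtain ⟨w, hw⟩ := P.algebraMap_surjective (g (Pi.single k 1) l)
    exact ⟨w, by rw [← hw, Algebra.Generators.algebraMap_apply]⟩
  choose w hw using hsurj
  let s : Set R := P.coeffs ∪ ⋃ k, ⋃ l, ((w k l).coeffs : Set R)
  have hsfin : s.Finite := by
    refine Set.Finite.union P.finite_coeffs ?_
    exact Set.finite_iUnion fun k => Set.finite_iUnion fun l => Finset.finite_toSet _
  let A : Subalgebra ℤ R := Algebra.adjoin ℤ s
  haveI : P.HasCoeffs A := ⟨fun x hx => ⟨⟨x, Algebra.subset_adjoin (Or.inl hx)⟩, rfl⟩⟩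
  haveI : Algebra.FiniteType ℤ A := Algebra.FiniteType.adjoin_of_finite hsfin
  haveI : IsNoetherianRing A := Algebra.FiniteType.isNoetherianRing ℤ A
  let S₁ := P.ModelOfHasCoeffs A
  letI : Algebra S₁ S := Groth.Agent.Helper21.FS.modelAlgebra P A
  haveI : IsScalarTower A S₁ S := Groth.Agent.Helper21.FS.model_isScalarTower P A
  haveI : Algebra.IsPushout A R S₁ S := Groth.Agent.Helper21.FS.model_isPushout P A
  have hw' : ∀ k l, ∃ w' : MvPolynomial _ A, MvPolynomial.map (algebraMap A R) w' = w k l := by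
    intro k l
    have : w k l ∈ Set.range (MvPolynomial.map (algebraMap A R)) := by
      rw [MvPolynomial.mem_range_map_iff_coeffs_subset]
      intro x hx
      exact ⟨⟨x, Algebra.subset_adjoin (Or.inr (Set.mem_iUnion₂.mpr ⟨k, l, hx⟩))⟩, rfl⟩
    exact this
  choose w' hw' using hw'
  let c' : Fin m → Fin n → S₁ := fun k l => Ideal.Quotient.mk _ (w' k l)
  letI : Module S₁ M := Module.compHom M (algebraMap S₁ S)
  haveI : IsScalarTower S₁ S M := IsScalarTower.of_algebraMap_smul fun _ _ => rfl
  have hc : ∀ k l, algebraMap S₁ S (c' k l) = g (Pi.single k 1) l := by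
    intro k l
    rw [Groth.Agent.Helper21.FS.modelAlgebra_mk, ← hw, ← hw', MvPolynomial.aeval_map_algebraMap]
  obtain ⟨h, hh⟩ := Groth.Agent.Helper21.FS.exists_isBaseChange_cokerModel c' f g hf hfg hc
  haveI : Module.Finite S₁ (Groth.Agent.Helper21.FS.CokerModel c') := Module.Finite.quotient S₁ _
  exact exists_descent' A h hh

section Model

variable {R₀ R S₀ S : Type u} [CommRing R₀] [CommRing R] [CommRing S₀] [CommRing S]
  [Algebra R₀ R] [Algebra R₀ S₀] [Algebra R S] [Algebra S₀ S] [Algebra R₀ S]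
  [IsScalarTower R₀ R S] [IsScalarTower R₀ S₀ S] [Algebra.IsPushout R₀ R S₀ S]

/-- `S ⊗[S₀] -` of an `S₀`-linear map is injective as soon as `R ⊗[R₀] -` of it is. -/
theorem lTensor_injective_of (X Y : Type u) [AddCommGroup X] [Module S₀ X] [Module R₀ X]
    [IsScalarTower R₀ S₀ X] [AddCommGroup Y] [Module S₀ Y] [Module R₀ Y] [IsScalarTower R₀ S₀ Y]
    (g : X →ₗ[S₀] Y) (h : Injective ((g.restrictScalars R₀).lTensor R)) :
    Injective (g.lTensor S) := by
  let eX := (Algebra.IsPushout.cancelBaseChange R₀ R S₀ S X).symm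
  let eY := (Algebra.IsPushout.cancelBaseChange R₀ R S₀ S Y).symm
  have hcomm : ∀ t, g.lTensor S (eX t) = eY ((g.restrictScalars R₀).lTensor R t) := by
    intro t
    induction t using TensorProduct.induction_on with
    | zero => simp only [map_zero]
    | tmul r x =>
      simp only [eX, eY, Algebra.IsPushout.cancelBaseChange_symm_tmul, LinearMap.lTensor_tmul,
        LinearMap.restrictScalars_apply]
    | add a b ha hb => simp only [map_add, ha, hb]
  intro a b hab
  obtain ⟨a', rfl⟩ := eX.surjective a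
  obtain ⟨b', rfl⟩ := eX.surjective b
  rw [hcomm, hcomm] at hab
  rw [h (eY.injective hab)]

/-- The core lemma in the presence of a Noetherian model. -/
theorem exists_surj_of_model [IsNoetherianRing S₀] [Module.Flat R₀ S₀]
    (M₀ : Type u) [AddCommGroup M₀] [Module S₀ M₀] [Module R₀ M₀] [IsScalarTower R₀ S₀ M₀]
    [Module.Finite S₀ M₀] [Module.Flat R₀ M₀]
    (M : Type u) [AddCommGroup M] [Module S M] [Module S₀ M] [IsScalarTower S₀ S M]
    (f : M₀ →ₗ[S₀] M) (hf : IsBaseChange S f) :
    ∃ (n : ℕ) (p : (Fin n → S) →ₗ[S] M), Surjective p ∧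
      Module.FinitePresentation S (LinearMap.ker p) ∧ Module.Flat R (LinearMap.ker p) := by
  classical
  obtain ⟨n, p₀, hp₀⟩ := Module.Finite.exists_fin' S₀ M₀
  let K₀ := LinearMap.ker p₀
  let g : K₀ →ₗ[S₀] (Fin n → S₀) := K₀.subtype
  have hg : Injective g := K₀.subtype_injective
  have hex : Exact g p₀ := LinearMap.exact_subtype_ker_map p₀
  haveI : Module.Flat R₀ (Fin n → S₀) := Module.Flat.trans R₀ S₀ (Fin n → S₀)
  haveI hK₀flat : Module.Flat R₀ K₀ :=
    Groth.Agent.Helper21.FK.flat_of_exact (g.restrictScalars R₀) (p₀.restrictScalars R₀) hg hp₀ hex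
  haveI : IsNoetherian S₀ (Fin n → S₀) := inferInstance
  haveI : Module.Finite S₀ K₀ := Module.Finite.of_injective g hg
  haveI : Module.FinitePresentation S₀ K₀ := Module.finitePresentation_of_finite S₀ K₀
  have hgR : Injective ((g.restrictScalars R₀).lTensor R) :=
    LinearMap.lTensor_injective_of_exact_of_flat (p₀.restrictScalars R₀) hp₀
      (g.restrictScalars R₀) hg hex R
  have hgS : Injective (g.baseChange S) := by
    rw [LinearMap.baseChange_eq_ltensor]
    exact lTensor_injective_of (R := R) K₀ (Fin n → S₀) g hgR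
  have hexS : Exact (g.baseChange S) (p₀.baseChange S) := by
    rw [LinearMap.baseChange_eq_ltensor, LinearMap.baseChange_eq_ltensor]
    exact lTensor_exact S hex hp₀
  have hpS : Surjective (p₀.baseChange S) := by
    rw [LinearMap.baseChange_eq_ltensor]
    exact LinearMap.lTensor_surjective S hp₀
  let e₁ : S ⊗[S₀] (Fin n → S₀) ≃ₗ[S] (Fin n → S) := TensorProduct.piScalarRight S₀ S S (Fin n)
  let e₂ : S ⊗[S₀] M₀ ≃ₗ[S] M := hf.equiv
  let p : (Fin n → S) →ₗ[S] M := e₂.toLinearMap ∘ₗ (p₀.baseChange S) ∘ₗ e₁.symm.toLinearMap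
  let φ : S ⊗[S₀] K₀ →ₗ[S] (Fin n → S) := e₁.toLinearMap ∘ₗ (g.baseChange S)
  have hφ : Injective φ := e₁.injective.comp hgS
  have hrange : LinearMap.range φ = LinearMap.ker p := by
    ext x
    constructor
    · rintro ⟨t, rfl⟩
      rw [LinearMap.mem_ker]
      show e₂ (p₀.baseChange S (e₁.symm (e₁ (g.baseChange S t)))) = 0
      rw [e₁.symm_apply_apply, hexS.apply_apply_eq_zero, map_zero]
    · intro hx
      rw [LinearMap.mem_ker] at hx
      have hx' : p₀.baseChange S (e₁.symm x) = 0 := by
        apply e₂.injective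
        rw [map_zero]
        exact hx
      obtain ⟨t, ht⟩ := (hexS (e₁.symm x)).mp hx'
      refine ⟨t, ?_⟩
      show e₁ (g.baseChange S t) = x
      rw [ht, e₁.apply_symm_apply]
  let eK : S ⊗[S₀] K₀ ≃ₗ[S] LinearMap.ker p :=
    (LinearEquiv.ofInjective φ hφ).trans (LinearEquiv.ofEq _ _ hrange)
  refine ⟨n, p, e₂.surjective.comp (hpS.comp e₁.symm.surjective), ?_, ?_⟩
  · exact Module.FinitePresentation.of_equiv eK
  · haveI : Module.Flat R (R ⊗[R₀] K₀) := Module.Flat.baseChange R₀ R K₀
    let e3 : LinearMap.ker p ≃ₗ[R] R ⊗[R₀] K₀ :=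
      (eK.symm.restrictScalars R).trans (Algebra.IsPushout.cancelBaseChange R₀ R S₀ S K₀)
    exact Module.Flat.of_linearEquiv e3

end Model

/-- **Core lemma.** `B` a flat finitely presented `A`-algebra, `M` a finitely presented `B`-module
flat over `A`: there is a surjection from a finite free `B`-module onto `M` whose kernel is again
finitely presented over `B` and flat over `A`. -/
theorem exists_surj (A B M : Type u) [CommRing A] [CommRing B] [Algebra A B]
    [Algebra.FinitePresentation A B] [Module.Flat A B] [AddCommGroup M] [Module B M] [Module A M]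
    [IsScalarTower A B M] [Module.FinitePresentation B M] [Module.Flat A M] :
    ∃ (n : ℕ) (p : (Fin n → B) →ₗ[B] M), Surjective p ∧
      Module.FinitePresentation B (LinearMap.ker p) ∧ Module.Flat A (LinearMap.ker p) := by
  obtain ⟨R₀, _, _, S₀, _, _, _, _, _, _, M₀, _, _, _, _, _, _, f, h1, h2, h3, h4, h5, h6, h7⟩ :=
    exists_model A B M
  haveI := h1; haveI := h2; haveI := h3; haveI := h4; haveI := h5; haveI := h7
  haveI : IsNoetherianRing R₀ := Algebra.FiniteType.isNoetherianRing ℤ R₀
  haveI : IsNoetherianRing S₀ := Algebra.FiniteType.isNoetherianRing R₀ S₀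
  exact exists_surj_of_model (R₀ := R₀) (R := A) (S₀ := S₀) (S := B) M₀ M f h6

end Groth.Agent.Helper9.FlatFP
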