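import Mathlib
import Groth.Agent.Lib.Helper9.FlatFP

/-!
# Resolutions by finite free modules (helper9)

Categorical form of `FlatFP.exists_surj` and the resulting resolution by finite free modules.
-/

set_option autoImplicit false
set_option linter.style.haveILetI false
set_option linter.unusedSectionVars false

universe u

open CategoryTheory CategoryTheory.Limits Function

namespace Groth.Agent.Helper9.FlatFP

variable (A B : Type u) [CommRing A] [CommRing B] [Algebra A B]

/-- a `B`-module which is finitely presented over `B` and flat over `A`. -/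
def Good (K : ModuleCat.{u} B) : Prop :=
  Module.FinitePresentation B K ∧
    Module.Flat A ((ModuleCat.restrictScalars.{u} (algebraMap A B)).obj K)

variable {A B}

theorem Good.of_iso {K K' : ModuleCat.{u} B} (e : K ≅ K') (h : Good A B K) : Good A B K' := by
  obtain ⟨h1, h2⟩ := h
  refine ⟨?_, ?_⟩
  · haveI := h1
    exact Module.FinitePresentation.of_equiv e.toLinearEquiv
  · haveI := h2
    exact Module.Flat.of_linearEquiv
      (((ModuleCat.restrictScalars.{u} (algebraMap A B)).mapIso e).symm.toLinearEquiv)

theorem Good.kernel_congr {X Y : ModuleCat.{u} B} {f g : X ⟶ Y} (h : f = g)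
    (hg : Good A B (kernel g)) : Good A B (kernel f) := by
  subst h
  exact hg

/-- the identity, as an `A`-linear equivalence between the restriction of scalars of a `B`-module
with a compatible `A`-module structure and that `A`-module. -/
noncomputable def restrictEquiv (M : Type u) [AddCommGroup M] [Module B M] [Module A M]
    [IsScalarTower A B M] :
    ((ModuleCat.restrictScalars.{u} (algebraMap A B)).obj (ModuleCat.of B M)) ≃ₗ[A] M where
  toFun := fun x => x
  invFun := fun x => x
  map_add' := fun _ _ => rfl
  map_smul' := fun a x => by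
    show (algebraMap A B a) • (show M from x) = a • (show M from x)
    rw [algebraMap_smul]
  left_inv := fun _ => rfl
  right_inv := fun _ => rfl

theorem good_of (M : Type u) [AddCommGroup M] [Module B M] [Module A M]
    [IsScalarTower A B M] [Module.FinitePresentation B M] [Module.Flat A M] :
    Good A B (ModuleCat.of B M) :=
  ⟨inferInstance, Module.Flat.of_linearEquiv (restrictEquiv M)⟩

variable (A B)

/-- categorical form of the core lemma -/
theorem exists_cover [Algebra.FinitePresentation A B] [Module.Flat A B] (K : ModuleCat.{u} B)
    (hK : Good A B K) :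
    ∃ (F : ModuleCat.{u} B) (p : F ⟶ K), Epi p ∧ (Module.Finite B F ∧ Module.Free B F) ∧
      Good A B (kernel p) := by
  obtain ⟨h1, h2⟩ := hK
  letI : Module A K := Module.compHom K (algebraMap A B)
  haveI : IsScalarTower A B K := IsScalarTower.of_algebraMap_smul fun _ _ => rfl
  haveI : Module.Flat A K := h2
  haveI := h1
  obtain ⟨n, p, hp, hfp, hfl⟩ := exists_surj A B K
  refine ⟨ModuleCat.of B (Fin n → B), ModuleCat.ofHom p,
    (ModuleCat.epi_iff_surjective _).mpr hp, ⟨?_, ?_⟩, ?_⟩
  · change Module.Finite B (Fin n → B)
    infer_instance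
  · change Module.Free B (Fin n → B)
    infer_instance
  · refine Good.of_iso (ModuleCat.kernelIsoKer (ModuleCat.ofHom p)).symm ?_
    haveI := hfp
    haveI := hfl
    exact good_of (LinearMap.ker p)

/-- **Resolution by finite free modules** of a finitely presented module, flat over the base, over
a flat finitely presented algebra. -/
theorem exists_resolution [Algebra.FinitePresentation A B] [Module.Flat A B]
    (M : ModuleCat.{u} B) (hM : Good A B M) :
    ∃ P : ProjectiveResolution M,
      ∀ n : ℕ, Module.Finite B (P.complex.X n) ∧ Module.Free B (P.complex.X n) := by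
  classical
  have hex : ∀ K : ModuleCat.{u} B, ∃ (F : ModuleCat.{u} B) (p : F ⟶ K), Epi p ∧
      (Good A B K → (Module.Finite B F ∧ Module.Free B F) ∧ Good A B (kernel p)) := by
    intro K
    by_cases hK : Good A B K
    · obtain ⟨F, p, h1, h2, h3⟩ := exists_cover A B K hK
      exact ⟨F, p, h1, fun _ => ⟨h2, h3⟩⟩
    · exact ⟨K, 𝟙 K, inferInstance, fun h => absurd h hK⟩
  choose cov π hepi hspec using hex
  let D : Groth.Agent.Helper11.GenRes.CoverData (ModuleCat.{u} B) := ⟨cov, π, hepi⟩
  have hdd : ∀ {X Y : ModuleCat.{u} B} (f : X ⟶ Y), Good A B (kernel f) →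
      (Module.Finite B (D.cov (kernel f)) ∧ Module.Free B (D.cov (kernel f))) ∧
        Good A B (kernel (D.dd f)) := by
    intro X Y f hf
    obtain ⟨h2, h3⟩ := hspec (kernel f) hf
    exact ⟨h2, Good.of_iso (kernelCompMono (D.π (kernel f)) (kernel.ι f)).symm h3⟩
  have key : ∀ n : ℕ, (Module.Finite B ((D.resCx M).X (n + 1)) ∧
      Module.Free B ((D.resCx M).X (n + 1))) ∧
        Good A B (kernel ((D.resCx M).d (n + 1) n)) := by
    intro n
    induction n with
    | zero =>
      obtain ⟨-, h3⟩ := hspec M hM
      have h := hdd (D.π M) h3
      exact ⟨h.1, Good.kernel_congr (D.resCx_d_1_0 M) h.2⟩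
    | succ n ih =>
      have h := hdd ((D.resCx M).d (n + 1) n) ih.2
      refine ⟨?_, ?_⟩
      · let e := D.resCxXIso M n
        haveI := h.1.1
        haveI := h.1.2
        exact ⟨Module.Finite.equiv e.symm.toLinearEquiv, Module.Free.of_equiv e.symm.toLinearEquiv⟩
      · have hd : (D.resCx M).d (n + 2) (n + 1) =
            (D.resCxXIso M n).hom ≫ D.dd ((D.resCx M).d (n + 1) n) :=
          ChainComplex.mk'_d _ _ _ _ n
        refine Good.kernel_congr hd ?_
        exact Good.of_iso (kernelIsIsoComp _ _).symm h.2
  have hall : ∀ n, Module.Finite B ((D.resCx M).X n) ∧ Module.Free B ((D.resCx M).X n) := by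
    intro n
    cases n with
    | zero => exact (hspec M hM).1
    | succ n => exact (key n).1
  have hproj : ∀ n, Projective ((D.resCx M).X n) := fun n => by
    haveI := (hall n).2
    haveI : Module.Projective B ((D.resCx M).X n) := Module.Projective.of_free
    exact (IsProjective.iff_projective (R := B) _).mp this
  exact ⟨{ complex := D.resCx M
           projective := hproj
           π := D.resπ M
           quasiIso := D.quasiIso_resπ M }, hall⟩

end Groth.Agent.Helper9.FlatFP
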