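import Mathlib
import Groth.Prelude.Def_CAlg2

/-!
# Geometric unibranchness along integral birational ring maps (ring-theoretic part)

`A → B` integral, inducing a bijection on minimal primes and isomorphisms on the residue fields at
minimal primes (`BR`).  Then the normalisations of `A_red` and `B_red` agree, and geometric
unibranchness transfers (EGA IV 6.15.5 / 0.23.2.5).
-/

set_option autoImplicit false

universe u

open CAlg2 IsLocalRing

namespace Groth.Agent.Helper9.GUInt

/-! ### Fraction fields -/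

section Frac

variable {A₀ B₀ : Type u} [CommRing A₀] [CommRing B₀] [IsDomain A₀] [IsDomain B₀]
  (ι : A₀ →+* B₀) (hι : Function.Injective ι)

/-- The map induced on fraction fields by an injective map of domains. -/
noncomputable def fracMap : FractionRing A₀ →+* FractionRing B₀ :=
  IsFractionRing.lift (A := A₀) (K := FractionRing A₀)
    (g := (algebraMap B₀ (FractionRing B₀)).comp ι)
    ((IsFractionRing.injective B₀ (FractionRing B₀)).comp hι)

theorem fracMap_algebraMap (a : A₀) :
    fracMap ι hι (algebraMap A₀ (FractionRing A₀) a) = algebraMap B₀ (FractionRing B₀) (ι a) :=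
  IsFractionRing.lift_algebraMap _ a

theorem fracMap_comp :
    (algebraMap B₀ (FractionRing B₀)).comp ι =
      (fracMap ι hι).comp (algebraMap A₀ (FractionRing A₀)) :=
  RingHom.ext fun a => (fracMap_algebraMap ι hι a).symm

theorem fracMap_surjective
    (hfrac : ∀ b : B₀, ∃ a₁ a₂ : A₀, a₂ ≠ 0 ∧ ι a₂ * b = ι a₁) :
    Function.Surjective (fracMap ι hι) := by
  intro z
  obtain ⟨x, y, -, rfl⟩ := IsFractionRing.div_surjective B₀ z
  obtain ⟨a₁, a₂, ha₂, h1⟩ := hfrac x
  obtain ⟨c₁, c₂, hc₂, h2⟩ := hfrac y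
  have inj := IsFractionRing.injective B₀ (FractionRing B₀)
  have hne : ∀ a : A₀, a ≠ 0 → algebraMap B₀ (FractionRing B₀) (ι a) ≠ 0 := by
    intro a ha h
    apply ha
    apply hι
    apply inj
    rw [h, map_zero, map_zero]
  have hX : algebraMap B₀ (FractionRing B₀) x =
      algebraMap B₀ (FractionRing B₀) (ι a₁) / algebraMap B₀ (FractionRing B₀) (ι a₂) :=
    eq_div_of_mul_eq (hne a₂ ha₂) (by rw [← map_mul, mul_comm, h1])
  have hY : algebraMap B₀ (FractionRing B₀) y =
      algebraMap B₀ (FractionRing B₀) (ι c₁) / algebraMap B₀ (FractionRing B₀) (ι c₂) :=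
    eq_div_of_mul_eq (hne c₂ hc₂) (by rw [← map_mul, mul_comm, h2])
  refine ⟨(algebraMap A₀ (FractionRing A₀) a₁ / algebraMap A₀ (FractionRing A₀) a₂) /
    (algebraMap A₀ (FractionRing A₀) c₁ / algebraMap A₀ (FractionRing A₀) c₂), ?_⟩
  rw [map_div₀, map_div₀, map_div₀, fracMap_algebraMap, fracMap_algebraMap, fracMap_algebraMap,
    fracMap_algebraMap, hX, hY]

theorem isIntegral_fracMap {z : FractionRing A₀} (hz : IsIntegral A₀ z) :
    IsIntegral B₀ (fracMap ι hι z) := by
  obtain ⟨p, hp, hpz⟩ := hz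
  refine ⟨p.map ι, hp.map ι, ?_⟩
  rw [Polynomial.eval₂_map, fracMap_comp ι hι, ← Polynomial.hom_eval₂, hpz, map_zero]

theorem isIntegral_of_fracMap (hint : ι.IsIntegral) {z : FractionRing A₀}
    (hz : IsIntegral B₀ (fracMap ι hι z)) : IsIntegral A₀ z := by
  have h1 : ((algebraMap B₀ (FractionRing B₀)).comp ι).IsIntegralElem (fracMap ι hι z) := by
    letI := ι.toAlgebra
    haveI : Algebra.IsIntegral A₀ B₀ := ⟨hint⟩
    have h2 : (algebraMap A₀ (FractionRing B₀)).IsIntegralElem (fracMap ι hι z) :=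
      isIntegral_trans (R := A₀) (A := B₀) _ hz
    rw [IsScalarTower.algebraMap_eq A₀ B₀ (FractionRing B₀)] at h2
    exact h2
  obtain ⟨p, hp, hpz⟩ := h1
  refine ⟨p, hp, ?_⟩
  rw [fracMap_comp ι hι, ← Polynomial.hom_eval₂] at hpz
  exact (fracMap ι hι).injective (hpz.trans (map_zero _).symm)

/-- The induced map on normalisations. -/
noncomputable def normHom :
    integralClosure A₀ (FractionRing A₀) →+* integralClosure B₀ (FractionRing B₀) where
  toFun x := ⟨fracMap ι hι x.1, isIntegral_fracMap ι hι x.2⟩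
  map_one' := Subtype.ext (by simp)
  map_mul' x y := Subtype.ext (by simp)
  map_zero' := Subtype.ext (by simp)
  map_add' x y := Subtype.ext (by simp)

theorem normHom_coe (x : integralClosure A₀ (FractionRing A₀)) :
    ((normHom ι hι x : integralClosure B₀ (FractionRing B₀)) : FractionRing B₀) =
      fracMap ι hι x.1 := rfl

theorem normHom_bijective (hint : ι.IsIntegral)
    (hfrac : ∀ b : B₀, ∃ a₁ a₂ : A₀, a₂ ≠ 0 ∧ ι a₂ * b = ι a₁) :
    Function.Bijective (normHom ι hι) := by
  constructor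
  · intro x y h
    apply Subtype.ext
    apply (fracMap ι hι).injective
    exact congrArg Subtype.val h
  · intro w
    obtain ⟨z, hz⟩ := fracMap_surjective ι hι hfrac w.1
    have hzint : IsIntegral A₀ z := by
      apply isIntegral_of_fracMap ι hι hint
      rw [hz]
      exact w.2
    exact ⟨⟨z, hzint⟩, Subtype.ext hz⟩

/-- The normalisations of `A₀` and `B₀` agree when `B₀` is integral and birational over `A₀`. -/
noncomputable def normEquiv (hint : ι.IsIntegral)
    (hfrac : ∀ b : B₀, ∃ a₁ a₂ : A₀, a₂ ≠ 0 ∧ ι a₂ * b = ι a₁) :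
    integralClosure A₀ (FractionRing A₀) ≃+* integralClosure B₀ (FractionRing B₀) :=
  RingEquiv.ofBijective (normHom ι hι) (normHom_bijective ι hι hint hfrac)

theorem normEquiv_algebraMap (hint : ι.IsIntegral)
    (hfrac : ∀ b : B₀, ∃ a₁ a₂ : A₀, a₂ ≠ 0 ∧ ι a₂ * b = ι a₁) (a : A₀) :
    normEquiv ι hι hint hfrac (algebraMap A₀ (integralClosure A₀ (FractionRing A₀)) a) =
      algebraMap B₀ (integralClosure B₀ (FractionRing B₀)) (ι a) :=
  Subtype.ext (fracMap_algebraMap ι hι a)

end Frac

/-! ### Characteristic exponents -/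

theorem ringExpChar_eq_of_injective {R S : Type*} [NonAssocSemiring R] [NonAssocSemiring S]
    (f : R →+* S) (hf : Function.Injective f) : ringExpChar S = ringExpChar R := by
  haveI := ringChar.charP R
  haveI : CharP S (ringChar R) := charP_of_injective_ringHom hf (ringChar R)
  have h : ringChar S = ringChar R := ringChar.eq S (ringChar R)
  unfold ringExpChar
  rw [h]

/-! ### The canonical map to the normalisation -/

section ToNorm

variable (A : Type u) [CommRing A]

/-- The canonical map `A → A_red → normRed A`. -/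
noncomputable abbrev toNorm : A →+* normRed A :=
  (algebraMap (red A) (normRed A)).comp (Ideal.Quotient.mk (nilradical A))

theorem toNorm_isIntegral : (toNorm A).IsIntegral :=
  RingHom.IsIntegral.trans _ _ (RingHom.isIntegral_of_surjective _ Ideal.Quotient.mk_surjective)
    (algebraMap_isIntegral_iff.mpr inferInstance)

theorem algebraMap_normRed_injective [IsDomain (red A)] :
    Function.Injective (algebraMap (red A) (normRed A)) := by
  intro a b hab
  have h := congrArg Subtype.val hab
  exact IsFractionRing.injective (red A) (FractionRing (red A)) h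

theorem ker_toNorm [IsDomain (red A)] : RingHom.ker (toNorm A) = nilradical A := by
  ext a
  rw [RingHom.mem_ker, RingHom.comp_apply]
  constructor
  · intro h
    exact Ideal.Quotient.eq_zero_iff_mem.mp
      (algebraMap_normRed_injective A (h.trans (map_zero _).symm))
  · intro h
    rw [Ideal.Quotient.eq_zero_iff_mem.mpr h, map_zero]

theorem comap_toNorm_eq [IsLocalRing A] (m : Ideal (normRed A)) [m.IsMaximal] :
    m.comap (toNorm A) = maximalIdeal A :=
  IsLocalRing.eq_maximalIdeal
    (Ideal.isMaximal_comap_of_isIntegral_of_isMaximal' (toNorm A) (toNorm_isIntegral A) m)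

/-- If `A_red` is a domain with local normalisation then `A` is local. -/
theorem isLocalRing_of_normRed [IsDomain (red A)] [IsLocalRing (normRed A)] : IsLocalRing A := by
  refine IsLocalRing.of_unique_max_ideal ⟨(maximalIdeal (normRed A)).comap (toNorm A),
    Ideal.isMaximal_comap_of_isIntegral_of_isMaximal' _ (toNorm_isIntegral A) _, ?_⟩
  intro M hM
  haveI := hM
  haveI := hM.isPrime
  letI : Algebra A (normRed A) := (toNorm A).toAlgebra
  haveI : Algebra.IsIntegral A (normRed A) := ⟨toNorm_isIntegral A⟩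
  obtain ⟨Q, hQ, hQM⟩ := Ideal.exists_ideal_over_maximal_of_isIntegral (S := normRed A) M
    (by
      show RingHom.ker (toNorm A) ≤ M
      rw [ker_toNorm]
      exact nilradical_le_prime M)
  have hQ' := IsLocalRing.eq_maximalIdeal hQ
  subst hQ'
  exact hQM.symm

/-- The residue field of `A` maps to the residue field of the normalisation. -/
noncomputable def resHom [IsLocalRing A] (m : Ideal (normRed A)) [m.IsMaximal] :
    ResidueField A →+* normRed A ⧸ m :=
  Ideal.Quotient.lift (maximalIdeal A) ((Ideal.Quotient.mk m).comp (toNorm A)) (by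
    intro a ha
    rw [← comap_toNorm_eq A m] at ha
    exact Ideal.Quotient.eq_zero_iff_mem.mpr ha)

theorem ringExpChar_quot [IsLocalRing A] (m : Ideal (normRed A)) [m.IsMaximal] :
    ringExpChar (normRed A ⧸ m) = ringExpChar (ResidueField A) :=
  ringExpChar_eq_of_injective (resHom A m) (resHom A m).injective

end ToNorm

/-! ### Minimal primes -/

section MinPrimes

variable {R : Type*} [CommRing R]

theorem eq_nilradical_of_mem_minimalPrimes (h : (nilradical R).IsPrime) {p : Ideal R}
    (hp : p ∈ minimalPrimes R) : p = nilradical R := by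
  haveI := hp.1.1
  exact le_antisymm (hp.2 ⟨h, bot_le⟩ (nilradical_le_prime p)) (nilradical_le_prime p)

theorem nilradical_mem_minimalPrimes (h : (nilradical R).IsPrime) :
    nilradical R ∈ minimalPrimes R :=
  ⟨⟨h, bot_le⟩, fun q hq _ => by haveI := hq.1; exact nilradical_le_prime q⟩

theorem nilradical_eq_of_unique {p₀ : Ideal R} (h0 : p₀ ∈ minimalPrimes R)
    (h : ∀ p ∈ minimalPrimes R, p = p₀) : nilradical R = p₀ := by
  have h1 : minimalPrimes R = {p₀} := Set.eq_singleton_iff_unique_mem.mpr ⟨h0, h⟩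
  have h2 : sInf (minimalPrimes R) = nilradical R := by
    show sInf (⊥ : Ideal R).minimalPrimes = _
    rw [Ideal.sInf_minimalPrimes]
    rfl
  rw [← h2, h1, sInf_singleton]

end MinPrimes

/-! ### Main ring-theoretic statements -/

section Main

variable {A B : Type u} [CommRing A] [CommRing B] (φ : A →+* B)

/-- `Spec B → Spec A` is bijective on minimal primes and induces isomorphisms of the residue fields
there (in elementary terms). -/
structure BR : Prop where
  mapsTo : ∀ q ∈ minimalPrimes B, q.comap φ ∈ minimalPrimes A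
  injOn : ∀ q ∈ minimalPrimes B, ∀ q' ∈ minimalPrimes B, q.comap φ = q'.comap φ → q = q'
  surjOn : ∀ p ∈ minimalPrimes A, ∃ q ∈ minimalPrimes B, q.comap φ = p
  frac : ∀ q ∈ minimalPrimes B, ∀ b : B, ∃ a₁ a₂ : A, a₂ ∉ q.comap φ ∧ φ a₂ * b - φ a₁ ∈ q

/-- birationality for rings with prime nilradicals -/
def Birat : Prop :=
  (nilradical B).comap φ = nilradical A ∧
    ∀ b : B, ∃ a₁ a₂ : A, a₂ ∉ nilradical A ∧ φ a₂ * b - φ a₁ ∈ nilradical B

variable {φ}

theorem birat_of_primeA (hBR : BR φ) (hA : (nilradical A).IsPrime) :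
    (nilradical B).IsPrime ∧ Birat φ := by
  obtain ⟨q₀, hq₀, hq₀c⟩ := hBR.surjOn _ (nilradical_mem_minimalPrimes hA)
  have hall : ∀ q ∈ minimalPrimes B, q = q₀ := fun q hq =>
    hBR.injOn q hq q₀ hq₀
      ((eq_nilradical_of_mem_minimalPrimes hA (hBR.mapsTo q hq)).trans hq₀c.symm)
  have hnil : nilradical B = q₀ := nilradical_eq_of_unique hq₀ hall
  refine ⟨by rw [hnil]; exact hq₀.1.1, ?_, ?_⟩
  · rw [hnil, hq₀c]
  · intro b
    obtain ⟨a₁, a₂, h2, h1⟩ := hBR.frac q₀ hq₀ b
    exact ⟨a₁, a₂, by rwa [hq₀c] at h2, by rwa [hnil]⟩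

theorem birat_of_primeB (hBR : BR φ) (hB : (nilradical B).IsPrime) :
    (nilradical A).IsPrime ∧ Birat φ := by
  have hq₀ := nilradical_mem_minimalPrimes hB
  have hp₀ := hBR.mapsTo _ hq₀
  have hall : ∀ p ∈ minimalPrimes A, p = (nilradical B).comap φ := by
    intro p hp
    obtain ⟨q, hq, rfl⟩ := hBR.surjOn p hp
    rw [eq_nilradical_of_mem_minimalPrimes hB hq]
  have hnil : nilradical A = (nilradical B).comap φ := nilradical_eq_of_unique hp₀ hall
  refine ⟨by rw [hnil]; exact hp₀.1.1, hnil.symm, ?_⟩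
  intro b
  obtain ⟨a₁, a₂, h2, h1⟩ := hBR.frac _ hq₀ b
  exact ⟨a₁, a₂, by rwa [← hnil] at h2, h1⟩

theorem ker_le_nilradical (hBR : BR φ) : RingHom.ker φ ≤ nilradical A := by
  rw [nilradical_eq_sInf]
  refine le_sInf fun p hp => ?_
  haveI : p.IsPrime := hp
  obtain ⟨p', hp', hle⟩ := Ideal.exists_minimalPrimes_le (I := ⊥) (J := p) bot_le
  obtain ⟨q, hq, rfl⟩ := hBR.surjOn p' hp'
  intro a ha
  apply hle
  show φ a ∈ q
  rw [RingHom.mem_ker.mp ha]
  exact q.zero_mem

theorem exists_normEquiv (hint : φ.IsIntegral) (hA : (nilradical A).IsPrime)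
    (hB : (nilradical B).IsPrime) (hbir : Birat φ) :
    ∃ e : normRed A ≃+* normRed B, ∀ a, e (toNorm A a) = toNorm B (φ a) := by
  haveI := hA
  haveI := hB
  haveI : IsDomain (red A) := Ideal.Quotient.isDomain _
  haveI : IsDomain (red B) := Ideal.Quotient.isDomain _
  obtain ⟨hc, hfr⟩ := hbir
  obtain ⟨ι, hιdef⟩ : ∃ ι : red A →+* red B, ∀ a,
      ι (Ideal.Quotient.mk (nilradical A) a) = Ideal.Quotient.mk (nilradical B) (φ a) :=
    ⟨Ideal.quotientMap (nilradical B) φ hc.ge, fun a => Ideal.quotientMap_mk⟩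
  have hι : Function.Injective ι := by
    rw [injective_iff_map_eq_zero]
    intro a ha
    obtain ⟨a, rfl⟩ := Ideal.Quotient.mk_surjective a
    rw [hιdef, Ideal.Quotient.eq_zero_iff_mem] at ha
    rw [Ideal.Quotient.eq_zero_iff_mem, ← hc]
    exact ha
  have hintι : ι.IsIntegral := by
    refine RingHom.IsIntegral.tower_top (Ideal.Quotient.mk (nilradical A)) ι ?_
    have hcomp : ι.comp (Ideal.Quotient.mk (nilradical A)) =
        (Ideal.Quotient.mk (nilradical B)).comp φ := RingHom.ext hιdef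
    rw [hcomp]
    exact RingHom.IsIntegral.trans _ _ hint
      (RingHom.isIntegral_of_surjective _ Ideal.Quotient.mk_surjective)
  have hfrac : ∀ b : red B, ∃ a₁ a₂ : red A, a₂ ≠ 0 ∧ ι a₂ * b = ι a₁ := by
    intro b
    obtain ⟨b, rfl⟩ := Ideal.Quotient.mk_surjective b
    obtain ⟨a₁, a₂, h2, h1⟩ := hfr b
    refine ⟨Ideal.Quotient.mk _ a₁, Ideal.Quotient.mk _ a₂,
      fun h => h2 (Ideal.Quotient.eq_zero_iff_mem.mp h), ?_⟩
    rw [hιdef, hιdef, ← map_mul]
    exact Ideal.Quotient.eq.mpr h1
  refine ⟨normEquiv ι hι hintι hfrac, fun a => ?_⟩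
  have h := normEquiv_algebraMap ι hι hintι hfrac (Ideal.Quotient.mk (nilradical A) a)
  rw [hιdef] at h
  exact h

variable (φ)

theorem gu_fwd [IsLocalRing A] [IsLocalRing B] (hdomB : IsDomain (red B))
    (e : normRed A ≃+* normRed B) (he : ∀ a, e (toNorm A a) = toNorm B (φ a))
    (hA : IsGeomUnibranch A) : IsGeomUnibranch B := by
  obtain ⟨⟨hdomA, hlocA⟩, hpiA⟩ := hA
  haveI := hlocA
  refine ⟨⟨hdomB, e.isLocalRing⟩, ?_⟩
  intro m' hm' x
  obtain ⟨w, rfl⟩ := Ideal.Quotient.mk_surjective x
  haveI hm : (m'.comap (e : normRed A →+* normRed B)).IsMaximal :=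
    Ideal.comap_isMaximal_of_surjective (e : normRed A →+* normRed B) e.surjective
  obtain ⟨n, a, ha⟩ := hpiA (m'.comap (e : normRed A →+* normRed B))
    (Ideal.Quotient.mk _ (e.symm w))
  have hp : ringExpChar (normRed B ⧸ m') =
      ringExpChar (normRed A ⧸ m'.comap (e : normRed A →+* normRed B)) :=
    ringExpChar_eq_of_injective
      (Ideal.quotientMap m' (e : normRed A →+* normRed B) le_rfl) Ideal.quotientMap_injective
  refine ⟨n, φ a, ?_⟩
  have h1 : toNorm A a - (e.symm w) ^
      (ringExpChar (normRed A ⧸ m'.comap (e : normRed A →+* normRed B))) ^ n ∈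
      m'.comap (e : normRed A →+* normRed B) := by
    rw [← Ideal.Quotient.eq, map_pow]
    exact ha
  have h2 : e (toNorm A a - (e.symm w) ^
      (ringExpChar (normRed A ⧸ m'.comap (e : normRed A →+* normRed B))) ^ n) ∈ m' := h1
  rw [map_sub, map_pow, e.apply_symm_apply, he] at h2
  rw [hp]
  show Ideal.Quotient.mk m' (toNorm B (φ a)) = _
  rw [← map_pow]
  exact Ideal.Quotient.eq.mpr h2

theorem gu_bwd [IsLocalRing A] [IsLocalRing B] (hdomA : IsDomain (red A))
    (e : normRed A ≃+* normRed B) (he : ∀ a, e (toNorm A a) = toNorm B (φ a))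
    (hpi : ∀ b : B, ∃ (n : ℕ) (a : A),
      b ^ (ringExpChar (ResidueField A)) ^ n - φ a ∈ maximalIdeal B)
    (hB : IsGeomUnibranch B) : IsGeomUnibranch A := by
  obtain ⟨⟨hdomB, hlocB⟩, hpiB⟩ := hB
  haveI := hlocB
  refine ⟨⟨hdomA, e.symm.isLocalRing⟩, ?_⟩
  intro m hm x
  obtain ⟨w, rfl⟩ := Ideal.Quotient.mk_surjective x
  haveI hm' : (m.comap (e.symm : normRed B →+* normRed A)).IsMaximal :=
    Ideal.comap_isMaximal_of_surjective (e.symm : normRed B →+* normRed A) e.symm.surjective
  obtain ⟨n, b, hb⟩ := hpiB (m.comap (e.symm : normRed B →+* normRed A))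
    (Ideal.Quotient.mk _ (e w))
  obtain ⟨k, a, hka⟩ := hpi b
  have hpB : ringExpChar (normRed A ⧸ m) =
      ringExpChar (normRed B ⧸ m.comap (e.symm : normRed B →+* normRed A)) :=
    ringExpChar_eq_of_injective
      (Ideal.quotientMap m (e.symm : normRed B →+* normRed A) le_rfl) Ideal.quotientMap_injective
  have hq : ringExpChar (normRed A ⧸ m) = ringExpChar (ResidueField A) := ringExpChar_quot A m
  rw [← hpB] at hb
  rw [← hq] at hka
  refine ⟨n + k, a, ?_⟩
  -- `e.symm (toNorm B b) ≡ w ^ p ^ n` modulo `m`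
  have h1 : toNorm B b - (e w) ^ (ringExpChar (normRed A ⧸ m)) ^ n ∈
      m.comap (e.symm : normRed B →+* normRed A) := by
    rw [← Ideal.Quotient.eq, map_pow]
    exact hb
  have h1' : e.symm (toNorm B b - (e w) ^ (ringExpChar (normRed A ⧸ m)) ^ n) ∈ m := h1
  rw [map_sub, map_pow, e.symm_apply_apply] at h1'
  -- `toNorm B (b ^ p ^ k - φ a)` lies in the maximal ideal
  have h2 : b ^ (ringExpChar (normRed A ⧸ m)) ^ k - φ a ∈
      (m.comap (e.symm : normRed B →+* normRed A)).comap (toNorm B) := by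
    rw [comap_toNorm_eq]
    exact hka
  have h2' : e.symm (toNorm B (b ^ (ringExpChar (normRed A ⧸ m)) ^ k - φ a)) ∈ m := h2
  have hsymm : e.symm (toNorm B (φ a)) = toNorm A a := by
    rw [← he, e.symm_apply_apply]
  rw [map_sub, map_sub, map_pow, map_pow, hsymm] at h2'
  have e1 : Ideal.Quotient.mk m (e.symm (toNorm B b)) =
      (Ideal.Quotient.mk m w) ^ (ringExpChar (normRed A ⧸ m)) ^ n := by
    rw [← map_pow]
    exact Ideal.Quotient.eq.mpr h1'
  have e2 : (Ideal.Quotient.mk m (e.symm (toNorm B b))) ^ (ringExpChar (normRed A ⧸ m)) ^ k =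
      Ideal.Quotient.mk m (toNorm A a) := by
    rw [← map_pow]
    exact Ideal.Quotient.eq.mpr h2'
  show Ideal.Quotient.mk m (toNorm A a) = _
  rw [← e2, e1, ← pow_mul, ← pow_add]

theorem pi_of_gu [IsLocalRing A] [IsLocalRing B]
    (e : normRed A ≃+* normRed B) (he : ∀ a, e (toNorm A a) = toNorm B (φ a))
    (hA : IsGeomUnibranch A) :
    ∀ b : B, ∃ (n : ℕ) (a : A),
      b ^ (ringExpChar (ResidueField A)) ^ n - φ a ∈ maximalIdeal B := by
  obtain ⟨⟨hdomA, hlocA⟩, hpiA⟩ := hA
  haveI := hlocA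
  haveI : IsLocalRing (normRed B) := e.isLocalRing
  intro b
  obtain ⟨n, a, ha⟩ := hpiA (maximalIdeal (normRed A))
    (Ideal.Quotient.mk _ (e.symm (toNorm B b)))
  have hq : ringExpChar (normRed A ⧸ maximalIdeal (normRed A)) = ringExpChar (ResidueField A) :=
    ringExpChar_quot A _
  rw [hq] at ha
  refine ⟨n, a, ?_⟩
  have hmm : Ideal.comap (e : normRed A →+* normRed B) (maximalIdeal (normRed B)) =
      maximalIdeal (normRed A) :=
    IsLocalRing.eq_maximalIdeal
      (Ideal.comap_isMaximal_of_surjective (e : normRed A →+* normRed B) e.surjective)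
  have h1 : toNorm A a - (e.symm (toNorm B b)) ^ (ringExpChar (ResidueField A)) ^ n ∈
      maximalIdeal (normRed A) := by
    rw [← Ideal.Quotient.eq, map_pow]
    exact ha
  rw [← hmm] at h1
  have h2 : e (toNorm A a - (e.symm (toNorm B b)) ^ (ringExpChar (ResidueField A)) ^ n) ∈
      maximalIdeal (normRed B) := h1
  rw [map_sub, map_pow, e.apply_symm_apply, he] at h2
  rw [← comap_toNorm_eq B (maximalIdeal (normRed B)), Ideal.mem_comap, map_sub, map_pow,
    ← neg_sub]
  exact neg_mem h2

/-- Forward direction, step 1: `B` is local. -/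
theorem isLocalRing_of_gu [IsLocalRing A] (hint : φ.IsIntegral) (hBR : BR φ)
    (hA : IsGeomUnibranch A) : IsLocalRing B := by
  have hdomA : IsDomain (red A) := hA.1.1
  have hpA : (nilradical A).IsPrime := (Ideal.Quotient.isDomain_iff_prime _).mp hdomA
  obtain ⟨hpB, hbir⟩ := birat_of_primeA hBR hpA
  obtain ⟨e, he⟩ := exists_normEquiv hint hpA hpB hbir
  haveI : IsDomain (red B) := by haveI := hpB; exact Ideal.Quotient.isDomain _
  haveI : IsLocalRing (normRed A) := hA.1.2
  haveI : IsLocalRing (normRed B) := e.isLocalRing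
  exact isLocalRing_of_normRed B

/-- Forward direction, step 2. -/
theorem rt_fwd [IsLocalRing A] [IsLocalRing B] (hint : φ.IsIntegral) (hBR : BR φ)
    (hA : IsGeomUnibranch A) :
    IsGeomUnibranch B ∧ ∀ b : B, ∃ (n : ℕ) (a : A),
      b ^ (ringExpChar (ResidueField A)) ^ n - φ a ∈ maximalIdeal B := by
  have hdomA : IsDomain (red A) := hA.1.1
  have hpA : (nilradical A).IsPrime := (Ideal.Quotient.isDomain_iff_prime _).mp hdomA
  obtain ⟨hpB, hbir⟩ := birat_of_primeA hBR hpA
  obtain ⟨e, he⟩ := exists_normEquiv hint hpA hpB hbir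
  have hdomB : IsDomain (red B) := by haveI := hpB; exact Ideal.Quotient.isDomain _
  exact ⟨gu_fwd φ hdomB e he hA, pi_of_gu φ e he hA⟩

/-- Backward direction. -/
theorem rt_bwd [IsLocalRing A] [IsLocalRing B] (hint : φ.IsIntegral) (hBR : BR φ)
    (hB : IsGeomUnibranch B)
    (hpi : ∀ b : B, ∃ (n : ℕ) (a : A),
      b ^ (ringExpChar (ResidueField A)) ^ n - φ a ∈ maximalIdeal B) :
    IsGeomUnibranch A := by
  have hdomB : IsDomain (red B) := hB.1.1
  have hpB : (nilradical B).IsPrime := (Ideal.Quotient.isDomain_iff_prime _).mp hdomB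
  obtain ⟨hpA, hbir⟩ := birat_of_primeB hBR hpB
  obtain ⟨e, he⟩ := exists_normEquiv hint hpA hpB hbir
  have hdomA : IsDomain (red A) := by haveI := hpA; exact Ideal.Quotient.isDomain _
  exact gu_bwd φ hdomA e he hpi hB

/-- `B` is local as soon as the fibre over the closed point has at most one point. -/
theorem isLocalRing_of_fiber [IsLocalRing A] (hint : φ.IsIntegral)
    (hker : RingHom.ker φ ≤ maximalIdeal A)
    (huniq : ∀ q q' : Ideal B, q.IsPrime → q'.IsPrime → q.comap φ = maximalIdeal A →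
      q'.comap φ = maximalIdeal A → q = q') : IsLocalRing B := by
  letI : Algebra A B := φ.toAlgebra
  haveI : Algebra.IsIntegral A B := ⟨hint⟩
  obtain ⟨Q, hQ, hQc⟩ :=
    Ideal.exists_ideal_over_maximal_of_isIntegral (S := B) (maximalIdeal A) hker
  refine IsLocalRing.of_unique_max_ideal ⟨Q, hQ, fun M hM => ?_⟩
  haveI : M.IsMaximal := hM
  have hMc : M.comap φ = maximalIdeal A :=
    IsLocalRing.eq_maximalIdeal (Ideal.isMaximal_comap_of_isIntegral_of_isMaximal' φ hint M)
  exact huniq M Q hM.isPrime hQ.isPrime hMc hQc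

end Main

end Groth.Agent.Helper9.GUInt
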