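import Mathlib
import Groth.Prelude.Def_CAlg2
import Groth.Prelude.Def_EGA4Misc
import Groth.Agent.Lib.Helper9.GUInt1
import Groth.Agent.Lib.Helper9.Birat
import Groth.Agent.Lib.Helper1.GU4
import Groth.Agent.Lib.Helper14.RadAt
import Groth.Agent.Lib.Helper2.GenericPtsTop

/-!
# Geometric unibranchness along integral birational morphisms (scheme part)
-/

set_option autoImplicit false

universe u

open CategoryTheory CategoryTheory.Limits AlgebraicGeometry IsLocalRing CAlg2

namespace Groth.Agent.Helper9.GUInt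

/-! ### Evaluation at points of an affine scheme -/

theorem residueField_frac {R : Type*} [CommRing R] (I : Ideal R) [I.IsPrime] (z : I.ResidueField) :
    ∃ r s : R, s ∉ I ∧ z * algebraMap R I.ResidueField s = algebraMap R I.ResidueField r := by
  obtain ⟨w, rfl⟩ := IsLocalRing.residue_surjective z
  obtain ⟨r, s, rfl⟩ := IsLocalization.exists_mk'_eq I.primeCompl w
  refine ⟨r, s, s.2, ?_⟩
  have h := IsLocalization.mk'_spec (Localization.AtPrime I) r s
  have h2 := congrArg (IsLocalRing.residue (Localization.AtPrime I)) h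
  rw [map_mul] at h2
  exact h2

/-- Evaluation of a ring element at a point of `Spec R`, with values in the residue field. -/
noncomputable def ev (R : CommRingCat.{u}) (x : Spec R) : R →+* (Spec R).residueField x :=
  ((Scheme.ΓSpecIso R).inv ≫ (Spec R).Γevaluation x).hom

theorem ev_eq (R : CommRingCat.{u}) (x : Spec R) (r : R) :
    ev R x r =
      (Scheme.Spec.residueFieldIso R x).inv.hom (algebraMap R x.asIdeal.ResidueField r) := by
  have h := Scheme.Spec.algebraMap_residueFieldIso_inv R x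
  have h2 := congrArg (fun k => k.hom r) h
  exact h2.symm

theorem ev_eq_zero_iff (R : CommRingCat.{u}) (x : Spec R) (r : R) :
    ev R x r = 0 ↔ r ∈ x.asIdeal := by
  have hinj : Function.Injective (Scheme.Spec.residueFieldIso R x).inv.hom :=
    (ConcreteCategory.bijective_of_isIso (Scheme.Spec.residueFieldIso R x).inv).1
  rw [ev_eq, map_eq_zero_iff _ hinj, Ideal.algebraMap_residueField_eq_zero]

theorem ev_frac (R : CommRingCat.{u}) (x : Spec R) (z : (Spec R).residueField x) :
    ∃ r s : R, s ∉ x.asIdeal ∧ z * ev R x s = ev R x r := by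
  obtain ⟨z', hz'⟩ : ∃ z', (Scheme.Spec.residueFieldIso R x).inv.hom z' = z :=
    (ConcreteCategory.bijective_of_isIso (Scheme.Spec.residueFieldIso R x).inv).2 z
  obtain ⟨r, s, hs, h⟩ := residueField_frac x.asIdeal z'
  refine ⟨r, s, hs, ?_⟩
  rw [← hz', ev_eq, ev_eq, ← map_mul, h]

theorem ev_nat {R S : CommRingCat.{u}} (φ : R ⟶ S) (x : Spec S) (a : R) :
    ((Spec.map φ).residueFieldMap x).hom (ev R (Spec.map φ x) a) = ev S x (φ.hom a) := by
  have h := Scheme.Γevaluation_naturality_apply (Spec.map φ) x ((Scheme.ΓSpecIso R).inv.hom a)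
  have h2 : (Spec.map φ).appTop.hom ((Scheme.ΓSpecIso R).inv.hom a) =
      (Scheme.ΓSpecIso S).inv.hom (φ.hom a) := by
    have h3 := Scheme.ΓSpecIso_inv_naturality φ
    exact (congrArg (fun k => k.hom a) h3).symm
  exact h.trans (congrArg ((Spec S).Γevaluation x).hom h2)

theorem ev_surjective {R : CommRingCat.{u}} [IsLocalRing R] (x : Spec R)
    (hx : x.asIdeal = maximalIdeal R) : Function.Surjective (ev R x) := by
  intro z
  obtain ⟨r, s, hs, h⟩ := ev_frac R x z
  rw [hx, IsLocalRing.notMem_maximalIdeal] at hs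
  obtain ⟨u, rfl⟩ := hs
  refine ⟨r * ↑u⁻¹, ?_⟩
  rw [map_mul, ← h, mul_assoc, ← map_mul, Units.mul_inv, map_one, mul_one]

/-! ### Generic points of an affine scheme -/

theorem mem_genericPoints_Spec_iff (R : CommRingCat.{u}) (x : Spec R) :
    x ∈ genericPoints (Spec R) ↔ x.asIdeal ∈ minimalPrimes R := by
  rw [Groth.Agent.Helper2.GenericPtsTop.mem_genericPoints_iff, ← PrimeSpectrum.isMin_iff]
  constructor
  · intro h y hy
    exact (PrimeSpectrum.le_iff_specializes _ _).mpr
      (h y ((PrimeSpectrum.le_iff_specializes _ _).mp hy))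
  · intro h y hy
    exact (PrimeSpectrum.le_iff_specializes _ _).mp
      (h ((PrimeSpectrum.le_iff_specializes _ _).mpr hy))

/-! ### From scheme-theoretic to ring-theoretic birationality -/

theorem br_of_isBirational {A B : CommRingCat.{u}} (φ : A ⟶ B)
    (hbir : RadPt.IsBirational (Spec.map φ)) : BR φ.hom := by
  obtain ⟨hbij, hfib⟩ := hbir
  have gen : ∀ {R : CommRingCat.{u}} (q : Ideal R) (hq : q ∈ minimalPrimes R),
      ((⟨q, hq.1.1⟩ : PrimeSpectrum R) : Spec R) ∈ genericPoints (Spec R) :=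
    fun q hq => (mem_genericPoints_Spec_iff _ _).mpr hq
  refine ⟨?_, ?_, ?_, ?_⟩
  · intro q hq
    have h := hbij.mapsTo (gen q hq)
    exact (mem_genericPoints_Spec_iff _ _).mp h
  · intro q hq q' hq' h
    have h' := hbij.injOn (gen q hq) (gen q' hq') (PrimeSpectrum.ext h)
    exact congrArg PrimeSpectrum.asIdeal h'
  · intro p hp
    obtain ⟨x', hx', hx'p⟩ := hbij.surjOn (gen p hp)
    exact ⟨x'.asIdeal, (mem_genericPoints_Spec_iff _ _).mp hx',
      congrArg PrimeSpectrum.asIdeal hx'p⟩
  · intro q hq b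
    obtain ⟨x', hx'q⟩ : ∃ x' : Spec B, x'.asIdeal = q :=
      ⟨((⟨q, hq.1.1⟩ : PrimeSpectrum B) : Spec B), rfl⟩
    have hx'gen : x' ∈ genericPoints (Spec B) := by
      rw [mem_genericPoints_Spec_iff, hx'q]
      exact hq
    have hy := hbij.mapsTo hx'gen
    obtain ⟨-, hb⟩ := hfib _ hy
    have hbij' := hb x' rfl
    obtain ⟨z, hz⟩ := hbij'.2 (ev B x' b)
    obtain ⟨r, s, hs, hrs⟩ := ev_frac A (Spec.map φ x') z
    refine ⟨r, s, ?_, ?_⟩
    · rw [← hx'q]
      exact hs
    · rw [← hx'q, ← ev_eq_zero_iff, map_sub, map_mul, ← ev_nat, ← ev_nat, ← hrs, map_mul, hz]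
      ring

/-! ### Pure inseparability of the residue field extension at the closed point -/

theorem pi_iff_pow {F E : Type*} [Field F] [Field E] (ρ : F →+* E) (q : ℕ) [ExpChar F q] :
    ρ.IsPurelyInseparable ↔ ∀ z : E, ∃ n : ℕ, z ^ q ^ n ∈ ρ.range := by
  algebraize [ρ]
  show IsPurelyInseparable F E ↔ _
  exact isPurelyInseparable_iff_pow_mem F q

theorem pi_iff {A B : CommRingCat.{u}} [IsLocalRing A] [IsLocalRing B] (φ : A ⟶ B) (x' : Spec B)
    (hx' : x'.asIdeal = maximalIdeal B) (hy : (Spec.map φ x').asIdeal = maximalIdeal A) :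
    ((Spec.map φ).residueFieldMap x').hom.IsPurelyInseparable ↔
      ∀ b : B, ∃ (n : ℕ) (a : A),
        b ^ (ringExpChar (ResidueField A)) ^ n - φ.hom a ∈ maximalIdeal B := by
  obtain ⟨κ, -⟩ : ∃ κ : ResidueField A →+* (Spec A).residueField (Spec.map φ x'), True :=
    ⟨Ideal.Quotient.lift (maximalIdeal A) (ev A (Spec.map φ x'))
      (fun a ha => (ev_eq_zero_iff A _ a).mpr (hy ▸ ha)), trivial⟩
  have hq : ringExpChar ((Spec A).residueField (Spec.map φ x')) = ringExpChar (ResidueField A) :=
    ringExpChar_eq_of_injective κ κ.injective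
  haveI : ExpChar ((Spec A).residueField (Spec.map φ x')) (ringExpChar (ResidueField A)) :=
    ringExpChar.of_eq hq
  rw [pi_iff_pow _ (ringExpChar (ResidueField A))]
  constructor
  · intro h b
    obtain ⟨n, z, hz⟩ := h (ev B x' b)
    obtain ⟨a, rfl⟩ := ev_surjective (Spec.map φ x') hy z
    refine ⟨n, a, ?_⟩
    rw [← hx', ← ev_eq_zero_iff, map_sub, map_pow, ← hz, ev_nat, sub_self]
  · intro h z
    obtain ⟨b, rfl⟩ := ev_surjective x' hx' z
    obtain ⟨n, a, hna⟩ := h b
    refine ⟨n, ev A _ a, ?_⟩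
    rw [← hx', ← ev_eq_zero_iff, map_sub, map_pow, sub_eq_zero] at hna
    rw [ev_nat, hna]

/-! ### The affine case -/

theorem affine {A B : CommRingCat.{u}} [IsLocalRing A] (φ : A ⟶ B) (hint : φ.hom.IsIntegral)
    (hbir : RadPt.IsBirational (Spec.map φ)) :
    IsGeomUnibranch A ↔
      (RadPt.IsRadicialAt (Spec.map φ) (closedPoint A) ∧
        ∀ x' : Spec B, Spec.map φ x' = closedPoint A →
          IsGeomUnibranch ((Spec B).presheaf.stalk x')) := by
  have hBR : BR φ.hom := br_of_isBirational φ hbir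
  constructor
  · intro hA
    haveI hlocB : IsLocalRing B := isLocalRing_of_gu φ.hom hint hBR hA
    obtain ⟨hGUB, hpi⟩ := rt_fwd φ.hom hint hBR hA
    have hfib : ∀ x' : Spec B, Spec.map φ x' = closedPoint A → x' = closedPoint B := by
      intro x' hx'
      have h1 : x'.asIdeal.comap φ.hom = maximalIdeal A := congrArg PrimeSpectrum.asIdeal hx'
      have h2 : x'.asIdeal.IsMaximal :=
        Ideal.isMaximal_of_isIntegral_of_isMaximal_comap' φ.hom hint x'.asIdeal
          (h1 ▸ inferInstance)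
      exact PrimeSpectrum.ext (IsLocalRing.eq_maximalIdeal h2)
    refine ⟨⟨?_, ?_⟩, ?_⟩
    · intro x₁ x₂ h₁ h₂
      rw [hfib x₁ h₁, hfib x₂ h₂]
    · intro x' hx'
      obtain rfl := hfib x' hx'
      exact (pi_iff φ (closedPoint B) rfl (congrArg PrimeSpectrum.asIdeal hx')).mpr hpi
    · intro x' hx'
      obtain rfl := hfib x' hx'
      exact Groth.Agent.Helper1.GU.isGeomUnibranch_of_ringEquiv
        (stalkClosedPointIso B).commRingCatIsoToRingEquiv.symm hGUB
  · rintro ⟨hrad, hst⟩
    haveI hlocB : IsLocalRing B := by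
      refine isLocalRing_of_fiber φ.hom hint
        ((ker_le_nilradical hBR).trans (nilradical_le_prime _)) ?_
      intro q q' hq hq' h1 h2
      have e1 : Spec.map φ ((⟨q, hq⟩ : PrimeSpectrum B) : Spec B) = closedPoint A :=
        PrimeSpectrum.ext h1
      have e2 : Spec.map φ ((⟨q', hq'⟩ : PrimeSpectrum B) : Spec B) = closedPoint A :=
        PrimeSpectrum.ext h2
      exact congrArg PrimeSpectrum.asIdeal (hrad.1 _ _ e1 e2)
    have hcl : Spec.map φ (closedPoint B) = closedPoint A := by
      refine PrimeSpectrum.ext ?_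
      exact IsLocalRing.eq_maximalIdeal
        (Ideal.isMaximal_comap_of_isIntegral_of_isMaximal' φ.hom hint (maximalIdeal B))
    have hGUB : IsGeomUnibranch B :=
      Groth.Agent.Helper1.GU.isGeomUnibranch_of_ringEquiv
        (stalkClosedPointIso B).commRingCatIsoToRingEquiv (hst _ hcl)
    have hpi := (pi_iff φ (closedPoint B) rfl (congrArg PrimeSpectrum.asIdeal hcl)).mp
      (hrad.2 _ hcl)
    exact rt_bwd φ.hom hint hBR hGUB hpi

/-! ### The general case -/

/-- the canonical morphism `Spec 𝒪_{X,x} ⟶ X` is flat -/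
theorem flat_fromSpecStalk (X : Scheme.{u}) (x : X) : Flat (X.fromSpecStalk x) := by
  obtain ⟨U, hU, hxU, -⟩ :=
    TopologicalSpace.Opens.isBasis_iff_nbhd.mp X.isBasis_affineOpens
      (show x ∈ (⊤ : X.Opens) from trivial)
  have hU : IsAffineOpen U := hU
  rw [← hU.fromSpecStalk_eq_fromSpecStalk hxU]
  unfold IsAffineOpen.fromSpecStalk
  haveI h1 : Flat (Spec.map (X.presheaf.germ U x hxU)) := by
    letI : Algebra Γ(X, U) (X.presheaf.stalk x) := (X.presheaf.germ U x hxU).hom.toAlgebra
    haveI := hU.isLocalization_stalk ⟨x, hxU⟩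
    rw [HasRingHomProperty.Spec_iff (P := @Flat)]
    exact RingHom.flat_algebraMap_iff.mpr
      (IsLocalization.flat _ (hU.primeIdealOf ⟨x, hxU⟩).asIdeal.primeCompl)
  exact MorphismProperty.comp_mem _ _ _ h1 inferInstance

/-- A flat preimmersion induces bijections on stalks. -/
theorem bijective_stalkMap {Z X : Scheme.{u}} (j : Z ⟶ X) [Flat j] [IsPreimmersion j] (z : Z) :
    Function.Bijective (j.stalkMap z).hom := by
  refine ⟨?_, j.stalkMap_surjective z⟩
  have hflat : (j.stalkMap z).hom.Flat := Flat.stalkMap j z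
  algebraize [(j.stalkMap z).hom]
  haveI : IsLocalHom (algebraMap (X.presheaf.stalk (j z)) (Z.presheaf.stalk z)) := by
    show IsLocalHom (j.stalkMap z).hom
    infer_instance
  haveI : Module.FaithfullyFlat (X.presheaf.stalk (j z)) (Z.presheaf.stalk z) :=
    Module.FaithfullyFlat.of_flat_of_isLocalHom
  exact FaithfulSMul.algebraMap_injective _ _

theorem core {X Y : Scheme.{u}} (f : X ⟶ Y) [IsIntegralHom f] (hf : RadPt.IsBirational f) (y : Y)
    {B : CommRingCat.{u}} (φ : Y.presheaf.stalk y ⟶ B) (G' : Spec B ⟶ X)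
    (sq : IsPullback G' (Spec.map φ) f (Y.fromSpecStalk y)) :
    IsGeomUnibranch (Y.presheaf.stalk y) ↔
      (RadPt.IsRadicialAt f y ∧ ∀ x : X, f x = y → IsGeomUnibranch (X.presheaf.stalk x)) := by
  haveI : Flat (Y.fromSpecStalk y) := flat_fromSpecStalk Y y
  haveI : IsIntegralHom (Spec.map φ) :=
    MorphismProperty.of_isPullback (P := @IsIntegralHom) sq inferInstance
  have hint : φ.hom.IsIntegral := IsIntegralHom.SpecMap_iff.mp inferInstance
  have hbir : RadPt.IsBirational (Spec.map φ) := Groth.Agent.Helper9.Birat.main sq hf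
  have hcl : Y.fromSpecStalk y (closedPoint (Y.presheaf.stalk y)) = y :=
    Scheme.fromSpecStalk_closedPoint
  have hrad : RadPt.IsRadicialAt f y ↔
      RadPt.IsRadicialAt (Spec.map φ) (closedPoint (Y.presheaf.stalk y)) := by
    have h := Groth.Agent.Helper14.RadAt.main sq (closedPoint (Y.presheaf.stalk y))
    rwa [hcl] at h
  haveI : Flat G' := MorphismProperty.of_isPullback (P := @Flat) sq.flip inferInstance
  haveI : IsPreimmersion G' :=
    MorphismProperty.of_isPullback (P := @IsPreimmersion) sq.flip inferInstance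
  have hw : ∀ x' : Spec B, f (G' x') = Y.fromSpecStalk y (Spec.map φ x') := fun x' => by
    rw [← Scheme.Hom.comp_apply, ← Scheme.Hom.comp_apply, sq.w]
  have hstalk : ∀ x' : Spec B, IsGeomUnibranch (X.presheaf.stalk (G' x')) ↔
      IsGeomUnibranch ((Spec B).presheaf.stalk x') := by
    intro x'
    have e : X.presheaf.stalk (G' x') ≃+* (Spec B).presheaf.stalk x' :=
      RingEquiv.ofBijective (G'.stalkMap x').hom (bijective_stalkMap G' x')
    exact ⟨Groth.Agent.Helper1.GU.isGeomUnibranch_of_ringEquiv e,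
      Groth.Agent.Helper1.GU.isGeomUnibranch_of_ringEquiv e.symm⟩
  have hst : (∀ x : X, f x = y → IsGeomUnibranch (X.presheaf.stalk x)) ↔
      (∀ x' : Spec B, Spec.map φ x' = closedPoint (Y.presheaf.stalk y) →
        IsGeomUnibranch ((Spec B).presheaf.stalk x')) := by
    constructor
    · intro h x' hx'
      refine (hstalk x').mp (h _ ?_)
      rw [hw, hx', hcl]
    · intro h x hx
      obtain ⟨z, hz1, hz2⟩ := Scheme.Pullback.exists_preimage_pullback (f := f)
        (g := Y.fromSpecStalk y) x (closedPoint (Y.presheaf.stalk y)) (by rw [hx, hcl])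
      have h1 : G' (sq.isoPullback.inv z) = x := by
        rw [← Scheme.Hom.comp_apply, sq.isoPullback_inv_fst]
        exact hz1
      have h2 : Spec.map φ (sq.isoPullback.inv z) = closedPoint (Y.presheaf.stalk y) := by
        rw [← Scheme.Hom.comp_apply, sq.isoPullback_inv_snd]
        exact hz2
      subst h1
      exact (hstalk _).mpr (h _ h2)
  rw [affine φ hint hbir, hrad, hst]

theorem main {X Y : Scheme.{u}} (f : X ⟶ Y) [IsIntegralHom f] (hf : RadPt.IsBirational f)
    (y : Y) :
    IsGeomUnibranch (Y.presheaf.stalk y) ↔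
      (RadPt.IsRadicialAt f y ∧ ∀ x : X, f x = y → IsGeomUnibranch (X.presheaf.stalk x)) := by
  haveI : IsAffine (pullback f (Y.fromSpecStalk y)) :=
    isAffine_of_isAffineHom (pullback.snd f (Y.fromSpecStalk y))
  obtain ⟨φ, hφ⟩ : ∃ φ : Y.presheaf.stalk y ⟶ Γ(pullback f (Y.fromSpecStalk y), ⊤),
      Spec.map φ = (pullback f (Y.fromSpecStalk y)).isoSpec.inv ≫
        pullback.snd f (Y.fromSpecStalk y) :=
    ⟨Spec.preimage _, Spec.map_preimage _⟩
  have sq : IsPullback ((pullback f (Y.fromSpecStalk y)).isoSpec.inv ≫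
      pullback.fst f (Y.fromSpecStalk y)) (Spec.map φ) f (Y.fromSpecStalk y) := by
    rw [hφ]
    exact IsPullback.of_iso (IsPullback.of_hasPullback f (Y.fromSpecStalk y))
      (pullback f (Y.fromSpecStalk y)).isoSpec (Iso.refl _) (Iso.refl _) (Iso.refl _)
      (by simp) (by simp) (by simp) (by simp)
  exact core f hf y φ _ sq

end Groth.Agent.Helper9.GUInt
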