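import Mathlib
import Groth.Prelude.Def_DCoh3
import Groth.Prelude.Def_CxOX
import Groth.Prelude.Def_CohB1
import Groth.Agent.Lib.Helper9.OpenAdj5
import Groth.Agent.Lib.Helper29.TriR
import Groth.Agent.Lib.Helper29.LRAdj

/-!
# Glueing objects of `D(O_U)` and `D(O_V)` along `U ∩ V` (existence only) (helper9)

* `nonempty_iso₁_of_iso₂₃`: abstract five-lemma consequence in a pretriangulated category;
* `isIso_restrictD_map_unit`, `isZero_restrictD_cone_unit`: the unit `K ⟶ Rj_* j^* K` restricts to an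
  isomorphism, its cone restricts to zero;
* `isZero_restrictD_preimage`: vanishing along an open immersion `t` into `P` gives vanishing on `P ∩ Q`
  as soon as `P ∩ Q ⊆ range t`;
* `isIso_restrictD_map_Rpush_map_unit`;
* `glue`: the glued object (as the fibre of `Rj_{V*} B ⟶ Rj_{U*} cone(A ⟶ Ra_* a^* A)`).
-/

set_option autoImplicit false
universe u
open CategoryTheory CategoryTheory.Limits TopologicalSpace AlgebraicGeometry Opposite Pretriangulated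

attribute [local instance] HasDerivedCategory.standard

namespace Groth.Agent.Helper9.GlueD

open Groth.Agent.Helper29.OpenMVC Groth.Agent.Helper11.KI Groth.Agent.Helper9.SuppD
open Groth.Agent.Helper9.OpenAdj Groth.Agent.Helper9.OpenAdj3 Groth.Agent.Helper9.OpenAdj5

section Abs

variable {C : Type*} [Category C] [Preadditive C] [HasZeroObject C] [HasShift C ℤ]
  [∀ n : ℤ, (shiftFunctor C n).Additive] [Pretriangulated C]

theorem nonempty_iso₁_of_iso₂₃ (T₁ T₂ : Triangle C) (hT₁ : T₁ ∈ distTriang C)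
    (hT₂ : T₂ ∈ distTriang C) (b : T₁.obj₂ ⟶ T₂.obj₂) (c : T₁.obj₃ ⟶ T₂.obj₃) (hb : IsIso b) (hc : IsIso c)
    (comm : T₁.mor₂ ≫ c = b ≫ T₂.mor₂) : Nonempty (T₁.obj₁ ≅ T₂.obj₁) := by
  obtain ⟨a, ha₁, ha₂⟩ := complete_distinguished_triangle_morphism₁ T₁ T₂ hT₁ hT₂ b c comm
  let φ : T₁ ⟶ T₂ :=
    { hom₁ := a, hom₂ := b, hom₃ := c, comm₁ := ha₁, comm₂ := comm, comm₃ := ha₂ }
  haveI : IsIso φ.hom₁ :=
    isIso₁_of_isIso₂₃ φ hT₁ hT₂ hb hc
  exact ⟨asIso φ.hom₁⟩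

end Abs

section A

variable {U X : Scheme.{u}} (j : U ⟶ X) [IsOpenImmersion j] [DCoh.HasRpush j]

theorem isIso_restrictD_map_unit (adj : DCoh.restrictD j ⊣ DCoh.Rpush j) (K : DCoh.D X) :
    IsIso ((DCoh.restrictD j).map (adj.unit.app K)) := by
  haveI := isIso_counit j adj
  have ht := adj.left_triangle_components K
  have h2 : (DCoh.restrictD j).map (adj.unit.app K) =
      inv (adj.counit.app ((DCoh.restrictD j).obj K)) := by
    rw [← cancel_mono (adj.counit.app ((DCoh.restrictD j).obj K)), ht, IsIso.inv_hom_id]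
    rfl
  rw [h2]; infer_instance

theorem isZero_restrictD_cone_unit (adj : DCoh.restrictD j ⊣ DCoh.Rpush j) (K : DCoh.D X)
    {N : DCoh.D X} (κ : (DCoh.Rpush j).obj ((DCoh.restrictD j).obj K) ⟶ N)
    (δ : N ⟶ K⟦(1 : ℤ)⟧)
    (hT : Triangle.mk (adj.unit.app K) κ δ ∈ distTriang (DCoh.D X)) :
    IsZero ((DCoh.restrictD j).obj N) := by
  have hT1 := (DCoh.restrictD j).map_distinguished _ hT
  exact (Triangle.isZero₃_iff_isIso₁ _ hT1).2 (isIso_restrictD_map_unit j adj K)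

end A

section B

variable {X : Scheme.{u}}

theorem isZero_restrictD_preimage (P Q : X.Opens) {W : Scheme.{u}} (t : W ⟶ (P : Scheme.{u}))
    [IsOpenImmersion t]
    (ht : ∀ y : (P : Scheme.{u}), P.ι.base y ∈ Q → y ∈ Set.range t.base)
    (N : DCoh.D (P : Scheme.{u})) (hN : IsZero ((DCoh.restrictD t).obj N)) :
    IsZero ((DCoh.restrictD (P.ι ⁻¹ᵁ Q).ι).obj N) := by
  apply isZero_restrictD_of_stalks
  intro i y hy
  obtain ⟨w, rfl⟩ := ht y hy
  exact subsingleton_stalk_HD_of_isZero_restrictD' N hN i w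

theorem mem_range_homOfLE_left (U V : X.Opens) (y : (U : Scheme.{u})) (hy : U.ι.base y ∈ V) :
    y ∈ Set.range (X.homOfLE (inf_le_left : U ⊓ V ≤ U)).base := by
  obtain ⟨x, hx⟩ := y
  have hy' : x ∈ V := hy
  exact ⟨⟨x, (show x ∈ U ⊓ V from ⟨hx, hy'⟩)⟩, Scheme.homOfLE_apply' _ x _⟩

theorem mem_range_homOfLE_right (U V : X.Opens) (y : (V : Scheme.{u})) (hy : V.ι.base y ∈ U) :
    y ∈ Set.range (X.homOfLE (inf_le_right : U ⊓ V ≤ V)).base := by
  obtain ⟨x, hx⟩ := y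
  have hy' : x ∈ U := hy
  exact ⟨⟨x, (show x ∈ U ⊓ V from ⟨hy', hx⟩)⟩, Scheme.homOfLE_apply' _ x _⟩

theorem isIso_restrictD_map_Rpush_map_unit (P Q : X.Opens) {W : Scheme.{u}}
    (t : W ⟶ (P : Scheme.{u})) [IsOpenImmersion t]
    (ht : ∀ y : (P : Scheme.{u}), P.ι.base y ∈ Q → y ∈ Set.range t.base)
    [DCoh.HasRpush t] [DCoh.HasRpush P.ι]
    (adj : DCoh.restrictD t ⊣ DCoh.Rpush t) (K : DCoh.D (P : Scheme.{u})) :
    IsIso ((DCoh.restrictD Q.ι).map ((DCoh.Rpush P.ι).map (adj.unit.app K))) := by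
  obtain ⟨N, κ, δ, hT⟩ := distinguished_cocone_triangle (adj.unit.app K)
  have hN := isZero_restrictD_cone_unit t adj K κ δ hT
  obtain ⟨c', hc'⟩ := Groth.Agent.Helper29.TriR.exists_distinguished (DCoh.pushKh P.ι)
    (DCoh.Rpush P.ι) (βp P.ι) _ hT
  have hT2 := (DCoh.restrictD Q.ι).map_distinguished _ hc'
  have h0 : IsZero ((DCoh.restrictD Q.ι).obj ((DCoh.Rpush P.ι).obj N)) :=
    isZero_restrictD_Rpush P.ι Q N (isZero_restrictD_preimage P Q t ht N hN)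
  exact (Triangle.isZero₃_iff_isIso₁ _ hT2).1 h0

/-- Glueing (existence): an object of `D(O_X)` restricting to `A` on `U` and to `B` on `V`. -/
theorem glue (U V : X.Opens) {W : Scheme.{u}} (a : W ⟶ (U : Scheme.{u}))
    (b : W ⟶ (V : Scheme.{u})) [IsOpenImmersion a] [IsOpenImmersion b]
    (hab : a ≫ U.ι = b ≫ V.ι)
    (ha : ∀ y : (U : Scheme.{u}), U.ι.base y ∈ V → y ∈ Set.range a.base)
    (hb : ∀ y : (V : Scheme.{u}), V.ι.base y ∈ U → y ∈ Set.range b.base)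
    (A : DCoh.D (U : Scheme.{u})) (B : DCoh.D (V : Scheme.{u}))
    (c : (DCoh.restrictD a).obj A ≅ (DCoh.restrictD b).obj B) :
    ∃ F : DCoh.D X, Nonempty ((DCoh.restrictD U.ι).obj F ≅ A) ∧
      Nonempty ((DCoh.restrictD V.ι).obj F ≅ B) := by
  haveI : DCoh.HasRpush a := hasRightDerivedFunctor (DCoh.pushKh a)
  haveI : DCoh.HasRpush b := hasRightDerivedFunctor (DCoh.pushKh b)
  haveI : DCoh.HasRpush U.ι := hasRightDerivedFunctor (DCoh.pushKh U.ι)
  haveI : DCoh.HasRpush V.ι := hasRightDerivedFunctor (DCoh.pushKh V.ι)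
  haveI : DCoh.HasRpush (a ≫ U.ι) := hasRightDerivedFunctor (DCoh.pushKh (a ≫ U.ι))
  haveI : DCoh.HasRpush (b ≫ V.ι) := hasRightDerivedFunctor (DCoh.pushKh (b ≫ V.ι))
  obtain ⟨adjA⟩ := nonempty_adjD a
  obtain ⟨adjB⟩ := nonempty_adjD b
  obtain ⟨φa⟩ := Groth.Agent.Helper29.LRAdj.main0922 a U.ι
  obtain ⟨φb⟩ := Groth.Agent.Helper29.LRAdj.main0922 b V.ι
  obtain ⟨φe⟩ := nonempty_Rpush_congr hab.symm
  obtain ⟨θ⟩ : Nonempty (DCoh.Rpush b ⋙ DCoh.Rpush V.ι ≅ DCoh.Rpush a ⋙ DCoh.Rpush U.ι) :=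
    ⟨φb ≪≫ φe ≪≫ φa.symm⟩
  obtain ⟨N, κ₀, δ₀, hT₀⟩ := distinguished_cocone_triangle (adjA.unit.app A)
  have hN := isZero_restrictD_cone_unit a adjA A κ₀ δ₀ hT₀
  obtain ⟨c', hc'⟩ := Groth.Agent.Helper29.TriR.exists_distinguished (DCoh.pushKh U.ι)
    (DCoh.Rpush U.ι) (βp U.ι) _ hT₀
  obtain ⟨β, hβdef⟩ : ∃ β : (DCoh.Rpush V.ι).obj B ⟶
      (DCoh.Rpush U.ι).obj ((DCoh.Rpush a).obj ((DCoh.restrictD a).obj A)),
      β = (DCoh.Rpush V.ι).map (adjB.unit.app B) ≫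
        (DCoh.Rpush V.ι).map ((DCoh.Rpush b).map c.inv) ≫
          θ.hom.app ((DCoh.restrictD a).obj A) := ⟨_, rfl⟩
  obtain ⟨F, i, δ, hF⟩ := distinguished_cocone_triangle₁ (β ≫ (DCoh.Rpush U.ι).map κ₀)
  refine ⟨F, ?_, ?_⟩
  · have hT1 := (DCoh.restrictD U.ι).map_distinguished _ hF
    have hT2 := (DCoh.restrictD U.ι).map_distinguished _ hc'
    haveI hβ : IsIso ((DCoh.restrictD U.ι).map β) := by
      haveI := isIso_restrictD_map_Rpush_map_unit V U b hb adjB B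
      rw [hβdef, Functor.map_comp, Functor.map_comp]
      infer_instance
    obtain ⟨e⟩ := nonempty_iso₁_of_iso₂₃ _ _ hT1 hT2 ((DCoh.restrictD U.ι).map β) (𝟙 _) hβ
      (IsIso.id _) (by
      show (DCoh.restrictD U.ι).map (β ≫ (DCoh.Rpush U.ι).map κ₀) ≫ 𝟙 _ =
        (DCoh.restrictD U.ι).map β ≫ (DCoh.restrictD U.ι).map ((DCoh.Rpush U.ι).map κ₀)
      rw [Category.comp_id, Functor.map_comp])
    exact ⟨e ≪≫ (RpushRestrictIso U.ι).app A⟩
  · have hT1 := (DCoh.restrictD V.ι).map_distinguished _ hF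
    have h0 : IsZero ((DCoh.restrictD V.ι).obj ((DCoh.Rpush U.ι).obj N)) :=
      isZero_restrictD_Rpush U.ι V N (isZero_restrictD_preimage U V a ha N hN)
    haveI : IsIso ((DCoh.restrictD V.ι).map i) := (Triangle.isZero₃_iff_isIso₁ _ hT1).1 h0
    exact ⟨asIso ((DCoh.restrictD V.ι).map i) ≪≫ (RpushRestrictIso V.ι).app B⟩

end B

end Groth.Agent.Helper9.GlueD
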