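import Mathlib
import Groth.Prelude.Def_OmegaPn
import Groth.Agent.Lib.Helper9.GrBC1

/-!
# Base change of the conormal sheaf of a section (no flatness)

For a section `i'` of `q' : X' ⟶ Z'` (a closed immersion) and its base change `i` along
`gZ : Z ⟶ Z'`, the canonical map `gZ^* Gr_1(i') ⟶ Gr_1(i)` is an isomorphism: on suitable charts
`Γ(X, U) = Γ(X', U') ⊗ Γ(Z, V)` over `Γ(Z', V')` and the ideal of `i'` is a direct summand.
-/

set_option autoImplicit false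
set_option backward.isDefEq.respectTransparency false
set_option linter.style.haveILetI false
set_option linter.unusedSectionVars false
set_option maxRecDepth 8000
universe u
open CategoryTheory CategoryTheory.Limits AlgebraicGeometry TopologicalSpace Opposite TensorProduct

namespace Groth.Agent.Helper9.GrBC2

section AlgSec

variable {A' A B' B : Type u} [CommRing A'] [CommRing A] [CommRing B'] [CommRing B]
    [Algebra B' B] [Algebra B' A'] [Algebra B A] [Algebra A' A] [Algebra B' A]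
    [IsScalarTower B' B A] [IsScalarTower B' A' A] [Algebra.IsPushout B' B A' A]
    (p : A →+* B) (p' : A' →+* B')
    (hp : ∀ b, p (algebraMap B A b) = b) (hp' : ∀ b', p' (algebraMap B' A' b') = b')
    {M' M P Q : Type u} [AddCommGroup M'] [Module A' M'] [AddCommGroup M] [Module A M]
    [AddCommGroup P] [Module B P] [AddCommGroup Q] [Module B Q]
    (ι' : M' →ₗ[A'] A') (ι : M →ₗ[A] A) (hι : Function.Injective ι) (hι' : Function.Injective ι')
    (hrange' : ∀ a', p' a' = 0 → a' ∈ LinearMap.range ι')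
    (hι'p : ∀ s', p' (ι' s') = 0)
    (ρ : M' →+ M) (hρ : ∀ s', ι (ρ s') = algebraMap A' A (ι' s'))
    (θ : M' →+ P) (hθ : ∀ r s', θ (r • s') = p (algebraMap A' A r) • θ s')
    (κ : M →+ Q) (hκ : ∀ a s, κ (a • s) = p a • κ s)
    (Φ : P →ₗ[B] Q) (hΦ : ∀ s', Φ (θ s') = κ (ρ s'))

include hp hp' hι hι' hrange' hι'p hρ hθ hκ hΦ in
theorem inj_sec (J' : Ideal A') (hJ' : J' ≤ (LinearMap.range ι' : Ideal A'))
    (hθ0 : ∀ s', ι' s' ∈ J' → θ s' = 0)
    (hθspan : Submodule.span B (Set.range θ) = ⊤)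
    (hκ0 : ∀ s, κ s = 0 → ι s ∈ Ideal.map (algebraMap A' A) J') : Function.Injective Φ := by
  have hAB : ∀ b' : B', algebraMap A' A (algebraMap B' A' b') =
      algebraMap B A (algebraMap B' B b') := fun b' =>
    (IsScalarTower.algebraMap_apply B' A' A b').symm.trans
      (IsScalarTower.algebraMap_apply B' B A b')
  have hθB : ∀ (b' : B') (s' : M'), θ (algebraMap B' A' b' • s') = algebraMap B' B b' • θ s' := by
    intro b' s'
    rw [hθ, hAB, hp]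
  have hρB : ∀ (b' : B') (s' : M'), ρ (algebraMap B' A' b' • s') =
      algebraMap B A (algebraMap B' B b') • ρ s' := by
    intro b' s'
    apply hι
    rw [hρ, LinearMap.map_smul ι' _ s', LinearMap.map_smul ι _ (ρ s'), hρ, smul_eq_mul, map_mul,
      hAB, smul_eq_mul]
  letI mB'M' : Module B' M' := Module.compHom M' (algebraMap B' A')
  have hsm : ∀ (b' : B') (s' : M'), b' • s' = algebraMap B' A' b' • s' := fun _ _ => rfl
  -- the B'-linear retraction of ι'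
  let ι'B : M' →ₗ[B'] A' :=
    { toFun := ι'
      map_add' := map_add ι'
      map_smul' := fun b' s' => by
        rw [hsm, LinearMap.map_smul ι' _ s', RingHom.id_apply, smul_eq_mul, Algebra.smul_def] }
  have hmem : ∀ a' : A', a' - algebraMap B' A' (p' a') ∈ LinearMap.range ι' := fun a' =>
    hrange' _ (by rw [map_sub, hp', sub_self])
  let rfun : A' → M' := fun a' => (hmem a').choose
  have hr : ∀ a', ι' (rfun a') = a' - algebraMap B' A' (p' a') := fun a' => (hmem a').choose_spec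
  let r : A' →ₗ[B'] M' :=
    { toFun := rfun
      map_add' := fun x y => hι' (by
        rw [hr, LinearMap.map_add ι', hr, hr, map_add, map_add]; ring)
      map_smul' := fun b x => hι' (by
        rw [hr, RingHom.id_apply, hsm, LinearMap.map_smul ι' _ (rfun x), hr, smul_eq_mul,
          Algebra.smul_def, map_mul p', hp', map_mul (algebraMap B' A')]
        ring) }
  have hrι : ∀ s', r (ι'B s') = s' := by
    intro s'
    apply hι'
    change ι' (rfun (ι' s')) = ι' s'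
    rw [hr, hι'p, map_zero, sub_zero]
  have hinjT : Function.Injective (LinearMap.lTensor B ι'B) := by
    apply Function.LeftInverse.injective (g := LinearMap.lTensor B r)
    intro t
    induction t using TensorProduct.induction_on with
    | zero => simp
    | tmul b s' => rw [LinearMap.lTensor_tmul, LinearMap.lTensor_tmul, hrι]
    | add x y hx hy => rw [map_add, map_add, hx, hy]
  let e := Algebra.IsPushout.equiv B' B A' A
  have he : ∀ (b : B) (a' : A'), e (b ⊗ₜ a') = algebraMap B A b * algebraMap A' A a' :=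
    fun b a' => Algebra.IsPushout.equiv_tmul B' B A' A b a'
  -- Θ and Rm
  let Θ : B ⊗[B'] M' →+ P := TensorProduct.liftAddHom
    (AddMonoidHom.mk' (fun b => AddMonoidHom.mk' (fun s' => b • θ s')
      (fun s t => by rw [map_add, smul_add]))
      (fun b c => by ext s'; simp [add_smul]))
    (fun b' b s' => by
      change (b' • b) • θ s' = b • θ (b' • s')
      rw [hsm, hθB, Algebra.smul_def, mul_smul, smul_comm])
  have hΘ : ∀ b s', Θ (b ⊗ₜ s') = b • θ s' := fun b s' => rfl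
  let Rm : B ⊗[B'] M' →+ M := TensorProduct.liftAddHom
    (AddMonoidHom.mk' (fun b => AddMonoidHom.mk' (fun s' => algebraMap B A b • ρ s')
      (fun s t => by rw [map_add, smul_add]))
      (fun b c => by ext s'; simp [add_smul]))
    (fun b' b s' => by
      change algebraMap B A (b' • b) • ρ s' = algebraMap B A b • ρ (b' • s')
      rw [hsm, hρB, Algebra.smul_def, map_mul, mul_smul, smul_comm])
  have hRm : ∀ b s', Rm (b ⊗ₜ s') = algebraMap B A b • ρ s' := fun b s' => rfl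
  have hιR : ∀ t, ι (Rm t) = e (LinearMap.lTensor B ι'B t) := by
    intro t
    induction t using TensorProduct.induction_on with
    | zero => simp
    | tmul b s' =>
      rw [hRm, map_smul, hρ, LinearMap.lTensor_tmul, he, smul_eq_mul]
      rfl
    | add x y hx hy => rw [map_add, map_add, hx, hy, map_add, map_add]
  have hμ : Function.Injective (fun t => ι (Rm t)) := by
    intro t₁ t₂ h
    simp only [hιR] at h
    exact hinjT (e.injective h)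
  have hΘsmul : ∀ (b : B) t, Θ (b • t) = b • Θ t := by
    intro b t
    induction t using TensorProduct.induction_on with
    | zero => simp
    | tmul b₁ s' => rw [TensorProduct.smul_tmul', hΘ, hΘ, smul_eq_mul, mul_smul]
    | add x y hx hy => rw [smul_add, map_add, hx, hy, map_add, smul_add]
  have hRsmul : ∀ (b : B) t, Rm (b • t) = algebraMap B A b • Rm t := by
    intro b t
    induction t using TensorProduct.induction_on with
    | zero => simp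
    | tmul b₁ s' => rw [TensorProduct.smul_tmul', hRm, hRm, smul_eq_mul, map_mul, mul_smul]
    | add x y hx hy => rw [smul_add, map_add, hx, hy, map_add, smul_add]
  have hΘs : ∀ n : P, ∃ t, Θ t = n := by
    intro n
    have hn : n ∈ Submodule.span B (Set.range θ) := by rw [hθspan]; trivial
    induction hn using Submodule.span_induction with
    | mem x hx =>
      obtain ⟨s', rfl⟩ := hx
      exact ⟨1 ⊗ₜ s', by rw [hΘ, one_smul]⟩
    | zero => exact ⟨0, map_zero _⟩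
    | add x y _ _ hx hy =>
      obtain ⟨t₁, rfl⟩ := hx
      obtain ⟨t₂, rfl⟩ := hy
      exact ⟨t₁ + t₂, map_add _ _ _⟩
    | smul b x _ hx =>
      obtain ⟨t₁, rfl⟩ := hx
      exact ⟨b • t₁, hΘsmul b t₁⟩
  have hΦΘ : ∀ t, Φ (Θ t) = κ (Rm t) := by
    intro t
    induction t using TensorProduct.induction_on with
    | zero => simp
    | tmul b s' => rw [hΘ, hRm, map_smul, hΦ, hκ, hp]
    | add x y hx hy => rw [map_add, map_add, hx, hy, map_add, map_add]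
  -- multiplication by a' on the second factor
  let mulM : A' → (M' →ₗ[B'] M') := fun a' =>
    { toFun := fun s' => a' • s'
      map_add' := smul_add a'
      map_smul' := fun b' s' => by
        rw [RingHom.id_apply, hsm, hsm, smul_smul, smul_smul, mul_comm] }
  have hΘmul : ∀ (a' : A') t, Θ (LinearMap.lTensor B (mulM a') t) =
      p (algebraMap A' A a') • Θ t := by
    intro a' t
    induction t using TensorProduct.induction_on with
    | zero => simp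
    | tmul b s' =>
      rw [LinearMap.lTensor_tmul, hΘ, hΘ]
      change b • θ (a' • s') = _
      rw [hθ, smul_comm]
    | add x y hx hy => rw [map_add, map_add, hx, hy, map_add, smul_add]
  have hRmul : ∀ (a' : A') t, ι (Rm (LinearMap.lTensor B (mulM a') t)) =
      algebraMap A' A a' * ι (Rm t) := by
    intro a' t
    induction t using TensorProduct.induction_on with
    | zero => simp
    | tmul b s' =>
      rw [LinearMap.lTensor_tmul, hRm, hRm]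
      change ι (algebraMap B A b • ρ (a' • s')) = _
      rw [LinearMap.map_smul ι _ (ρ (a' • s')), LinearMap.map_smul ι _ (ρ s'), hρ, hρ,
        LinearMap.map_smul ι' a' s']
      simp only [smul_eq_mul, map_mul]
      ring
    | add x y hx hy => rw [map_add, map_add, map_add, hx, hy, map_add, map_add, mul_add]
  -- the set of good elements
  let S : Set A := {x | ∃ t, Θ t = 0 ∧ ι (Rm t) = x}
  have hS0 : (0 : A) ∈ S := ⟨0, map_zero _, by rw [map_zero, map_zero]⟩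
  have hSadd : ∀ x y, x ∈ S → y ∈ S → x + y ∈ S := by
    rintro _ _ ⟨t₁, h₁, rfl⟩ ⟨t₂, h₂, rfl⟩
    exact ⟨t₁ + t₂, by rw [map_add, h₁, h₂, add_zero], by rw [map_add, map_add]⟩
  have hSmul : ∀ (a x : A), x ∈ S → a * x ∈ S := by
    intro a x hx
    obtain ⟨τ, rfl⟩ := e.surjective a
    induction τ using TensorProduct.induction_on with
    | zero => rw [map_zero, zero_mul]; exact hS0
    | tmul b a' =>
      obtain ⟨t, ht, rfl⟩ := hx
      refine ⟨b • LinearMap.lTensor B (mulM a') t, ?_, ?_⟩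
      · rw [hΘsmul, hΘmul, ht, smul_zero, smul_zero]
      · rw [hRsmul, map_smul, hRmul, he, smul_eq_mul, mul_assoc]
    | add τ₁ τ₂ h₁ h₂ =>
      rw [map_add, add_mul]
      exact hSadd _ _ h₁ h₂
  have hSJ : ∀ x ∈ Ideal.map (algebraMap A' A) J', x ∈ S := by
    intro x hx
    rw [Ideal.map] at hx
    induction hx using Submodule.span_induction with
    | mem x hx =>
      obtain ⟨y, hy, rfl⟩ := hx
      obtain ⟨s', rfl⟩ : y ∈ (LinearMap.range ι' : Ideal A') := hJ' hy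
      refine ⟨1 ⊗ₜ s', ?_, ?_⟩
      · rw [hΘ, one_smul]
        exact hθ0 s' hy
      · rw [hRm, map_one, one_smul, hρ]
    | zero => exact hS0
    | add x y _ _ hx hy => exact hSadd _ _ hx hy
    | smul a x _ hx => exact hSmul a x hx
  rw [injective_iff_map_eq_zero]
  intro n hn
  obtain ⟨t, rfl⟩ := hΘs n
  rw [hΦΘ] at hn
  obtain ⟨t₂, ht₂, ht₂'⟩ := hSJ _ (hκ0 _ hn)
  have : t₂ = t := hμ ht₂'
  rw [← this]
  exact ht₂

end AlgSec

open OmegaSh PrinPart Groth.Agent.Helper18.DerLib Groth.Agent.Helper18.AffHom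
  Groth.Agent.Helper18.Rec Groth.Agent.Helper13.EffCartier Groth.Agent.Helper13.Pullback
  Groth.Agent.Helper9.GrBC1

section PB

variable {Z X Z' X' : Scheme.{u}} (i : Z ⟶ X) (i' : Z' ⟶ X') (g : X ⟶ X') (gZ : Z ⟶ Z')
  (q : X ⟶ Z) (q' : X' ⟶ Z')

theorem isPullback_sec (hq : i ≫ q = 𝟙 Z) (hq' : i' ≫ q' = 𝟙 Z') (hsq : IsPullback g q q' gZ)
    (hw : gZ ≫ i' = i ≫ g) : IsPullback gZ i i' g := by
  have hbig : IsPullback (i ≫ q) gZ gZ (i' ≫ q') := by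
    rw [hq, hq']
    exact IsPullback.of_horiz_isIso ⟨by rw [Category.id_comp, Category.comp_id]⟩
  exact (IsPullback.of_right hbig hw.symm hsq.flip).flip

theorem id_appLE_self (W : Z.Opens) (e : W ≤ (𝟙 Z : Z ⟶ Z) ⁻¹ᵁ W) :
    (𝟙 Z : Z ⟶ Z).appLE W W e = 𝟙 _ := by
  have h := Scheme.Hom.appLE_eq_app (f := (𝟙 Z : Z ⟶ Z)) (U := W)
  exact h

theorem app_appLE_sec (hq : i ≫ q = 𝟙 Z) {U : X.Opens} (hst : U ≤ q ⁻¹ᵁ (i ⁻¹ᵁ U))
    (b : Γ(Z, i ⁻¹ᵁ U)) : (i.app U).hom ((q.appLE (i ⁻¹ᵁ U) U hst).hom b) = b := by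
  have h : q.appLE (i ⁻¹ᵁ U) U hst ≫ i.appLE U (i ⁻¹ᵁ U) le_rfl = 𝟙 _ := by
    rw [Scheme.Hom.appLE_comp_appLE]
    have key : ∀ (k : Z ⟶ Z) (hk : k = 𝟙 Z) (W : Z.Opens) (e : W ≤ k ⁻¹ᵁ W),
        k.appLE W W e = 𝟙 _ := by
      rintro k rfl W e
      exact id_appLE_self W e
    exact key _ hq _ _
  have h2 := congr($h b)
  rw [CommRingCat.comp_apply, Scheme.Hom.appLE_eq_app] at h2
  exact h2

theorem exists_sec_chart (hq' : i' ≫ q' = 𝟙 Z') (z' : Z') :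
    ∃ U' : X'.Opens, IsAffineOpen U' ∧ i' z' ∈ U' ∧ U' ≤ q' ⁻¹ᵁ (i' ⁻¹ᵁ U') := by
  have hqi : ∀ y : Z', q' (i' y) = y := fun y => by
    rw [← Scheme.Hom.comp_apply, hq']
    rfl
  obtain ⟨_, ⟨V₀, hV₀, rfl⟩, hzV₀, -⟩ :=
    Z'.isBasis_affineOpens.exists_subset_of_mem_open (Set.mem_univ z') isOpen_univ
  have hx : i' z' ∈ q' ⁻¹ᵁ V₀ := by
    change q' (i' z') ∈ V₀
    rw [hqi]
    exact hzV₀
  obtain ⟨_, ⟨U₁, hU₁, rfl⟩, hxU₁, hU₁le⟩ :=
    X'.isBasis_affineOpens.exists_subset_of_mem_open hx (q' ⁻¹ᵁ V₀).2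
  have hU₁V₀ : U₁ ≤ q' ⁻¹ᵁ V₀ := hU₁le
  have hzW : z' ∈ i' ⁻¹ᵁ U₁ := hxU₁
  obtain ⟨h, hle, hzh⟩ := hV₀.exists_basicOpen_le (V := i' ⁻¹ᵁ U₁) ⟨z', hzW⟩ hzV₀
  have hzh' : z' ∈ Z'.basicOpen h := hzh
  have hbo : X'.basicOpen (q'.appLE V₀ U₁ hU₁V₀ h) = U₁ ⊓ q' ⁻¹ᵁ (Z'.basicOpen h) :=
    Scheme.basicOpen_appLE q' U₁ V₀ hU₁V₀ h
  refine ⟨X'.basicOpen (q'.appLE V₀ U₁ hU₁V₀ h), hU₁.basicOpen _, ?_, ?_⟩
  · rw [hbo]
    refine ⟨hxU₁, ?_⟩
    change q' (i' z') ∈ Z'.basicOpen h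
    rw [hqi]
    exact hzh'
  · rw [hbo]
    intro y hy
    have hy' : y ∈ U₁ ⊓ q' ⁻¹ᵁ (Z'.basicOpen h) := hy
    have h1 : q' y ∈ Z'.basicOpen h := hy'.2
    have h2 : i' (q' y) ∈ U₁ := hle h1
    have h3 : q' (i' (q' y)) ∈ Z'.basicOpen h := by
      rw [hqi]
      exact h1
    exact ⟨h2, h3⟩

end PB

section Sec

variable {Z X Z' X' : Scheme.{u}} (i : Z ⟶ X) (i' : Z' ⟶ X') [IsClosedImmersion i]
  [IsClosedImmersion i'] (g : X ⟶ X') (gZ : Z ⟶ Z') (q : X ⟶ Z) (q' : X' ⟶ Z')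

theorem exists_chart_sec (hq : i ≫ q = 𝟙 Z) (hq' : i' ≫ q' = 𝟙 Z')
    (hsq : IsPullback g q q' gZ) (hw : gZ ≫ i' = i ≫ g) (x : Z) :
    ∃ (U' : X'.Opens) (U : X.Opens), IsAffineOpen U' ∧ IsAffineOpen U ∧
      U' ≤ q' ⁻¹ᵁ (i' ⁻¹ᵁ U') ∧ U = g ⁻¹ᵁ U' ⊓ q ⁻¹ᵁ (i ⁻¹ᵁ U) ∧ x ∈ i ⁻¹ᵁ U := by
  obtain ⟨U', hU', hxU', hst'⟩ := exists_sec_chart i' q' hq' (gZ x)
  have hgi : ∀ y : Z, g (i y) = i' (gZ y) := fun y => by
    rw [← Scheme.Hom.comp_apply, ← Scheme.Hom.comp_apply, hw]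
  have hqi : ∀ y : Z, q (i y) = y := fun y => by
    rw [← Scheme.Hom.comp_apply, hq]
    rfl
  have hx : x ∈ gZ ⁻¹ᵁ (i' ⁻¹ᵁ U') := hxU'
  obtain ⟨_, ⟨V, hV, rfl⟩, hxV, hVle⟩ :=
    Z.isBasis_affineOpens.exists_subset_of_mem_open hx (gZ ⁻¹ᵁ (i' ⁻¹ᵁ U')).2
  have hVle' : V ≤ gZ ⁻¹ᵁ (i' ⁻¹ᵁ U') := hVle
  have hiU : i ⁻¹ᵁ (g ⁻¹ᵁ U' ⊓ q ⁻¹ᵁ V) = V := by
    apply le_antisymm
    · intro y hy
      have hy' : i y ∈ g ⁻¹ᵁ U' ⊓ q ⁻¹ᵁ V := hy
      have h1 : q (i y) ∈ V := hy'.2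
      rwa [hqi] at h1
    · intro y hy
      have h1 : g (i y) ∈ U' := by
        rw [hgi]
        exact hVle' hy
      have h2 : q (i y) ∈ V := by
        rw [hqi]
        exact hy
      exact ⟨h1, h2⟩
  have hUaff : IsAffineOpen (g ⁻¹ᵁ U' ⊓ q ⁻¹ᵁ V) := by
    haveI h1 : IsAffine _ := isAffineOpen_pre i' hU'
    haveI h2 : IsAffine _ := hV
    haveI h3 : IsAffine _ := hU'
    exact IsAffine.of_isIso (Scheme.Hom.isPullback_resLE hsq hVle' hst' rfl).isoPullback.hom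
  refine ⟨U', g ⁻¹ᵁ U' ⊓ q ⁻¹ᵁ V, hU', hUaff, hst', ?_, ?_⟩
  · rw [hiU]
  · rw [hiU]
    exact hxV

variable (φ : (Scheme.Modules.pullback gZ).obj (grMod i' 1) ⟶ grMod i 1)

theorem injective_chart_sec (hq : i ≫ q = 𝟙 Z) (hq' : i' ≫ q' = 𝟙 Z')
    (hsq : IsPullback g q q' gZ) (hφ : IsGrMap i i' g gZ 1 φ)
    (hker : i.ker = i'.ker.comap g) {U' : X'.Opens} {U : X.Opens}
    (hU' : IsAffineOpen U') (hU : IsAffineOpen U) (hst' : U' ≤ q' ⁻¹ᵁ (i' ⁻¹ᵁ U'))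
    (hUY : U = g ⁻¹ᵁ U' ⊓ q ⁻¹ᵁ (i ⁻¹ᵁ U)) :
    Function.Injective (φ.app (i ⁻¹ᵁ U)) := by
  have hUU' : U ≤ g ⁻¹ᵁ U' := hUY.le.trans inf_le_left
  have hst : U ≤ q ⁻¹ᵁ (i ⁻¹ᵁ U) := hUY.le.trans inf_le_right
  have hT : i ⁻¹ᵁ U ≤ gZ ⁻¹ᵁ (i' ⁻¹ᵁ U') := chart_le i i' g gZ hφ.1 hUU'
  have hiso := isIso_pushoutSection_of_isAffineOpen hsq hT hst' hUY
    (isAffineOpen_pre i' hU') (isAffineOpen_pre i hU) hU'
  have hpo : IsPushout (q'.appLE (i' ⁻¹ᵁ U') U' hst') (gZ.appLE (i' ⁻¹ᵁ U') (i ⁻¹ᵁ U) hT)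
      (g.appLE U' U hUU') (q.appLE (i ⁻¹ᵁ U) U hst) := (isIso_pushoutSection_iff ..).mp hiso
  letI aB'B : Algebra Γ(Z', i' ⁻¹ᵁ U') Γ(Z, i ⁻¹ᵁ U) :=
    (gZ.appLE (i' ⁻¹ᵁ U') (i ⁻¹ᵁ U) hT).hom.toAlgebra
  letI aB'A' : Algebra Γ(Z', i' ⁻¹ᵁ U') Γ(X', U') := (q'.appLE (i' ⁻¹ᵁ U') U' hst').hom.toAlgebra
  letI aBA : Algebra Γ(Z, i ⁻¹ᵁ U) Γ(X, U) := (q.appLE (i ⁻¹ᵁ U) U hst).hom.toAlgebra
  letI aA'A : Algebra Γ(X', U') Γ(X, U) := (g.appLE U' U hUU').hom.toAlgebra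
  letI aB'A : Algebra Γ(Z', i' ⁻¹ᵁ U') Γ(X, U) :=
    ((g.appLE U' U hUU').hom.comp (q'.appLE (i' ⁻¹ᵁ U') U' hst').hom).toAlgebra
  haveI t1 : IsScalarTower Γ(Z', i' ⁻¹ᵁ U') Γ(X', U') Γ(X, U) :=
    IsScalarTower.of_algebraMap_eq (fun x => rfl)
  have hcomm : q'.appLE (i' ⁻¹ᵁ U') U' hst' ≫ g.appLE U' U hUU' =
      gZ.appLE (i' ⁻¹ᵁ U') (i ⁻¹ᵁ U) hT ≫ q.appLE (i ⁻¹ᵁ U) U hst := by
    simp only [Scheme.Hom.appLE_comp_appLE, hsq.w]
  haveI t2 : IsScalarTower Γ(Z', i' ⁻¹ᵁ U') Γ(Z, i ⁻¹ᵁ U) Γ(X, U) :=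
    IsScalarTower.of_algebraMap_eq (fun x => congr($hcomm x))
  have hpo' : IsPushout (CommRingCat.ofHom (algebraMap Γ(Z', i' ⁻¹ᵁ U') Γ(X', U')))
      (CommRingCat.ofHom (algebraMap Γ(Z', i' ⁻¹ᵁ U') Γ(Z, i ⁻¹ᵁ U)))
      (CommRingCat.ofHom (algebraMap Γ(X', U') Γ(X, U)))
      (CommRingCat.ofHom (algebraMap Γ(Z, i ⁻¹ᵁ U) Γ(X, U))) := hpo
  haveI hP : Algebra.IsPushout Γ(Z', i' ⁻¹ᵁ U') Γ(Z, i ⁻¹ᵁ U) Γ(X', U') Γ(X, U) :=
    (CommRingCat.isPushout_iff_isPushout.mp hpo').symm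
  have hr1 : (LinearMap.range (ιl (i'.ker ^ 1) U') : Ideal Γ(X', U')) =
      RingHom.ker (i'.app U').hom := by
    rw [range_ιl (i'.ker ^ 1) hU', ideal_pow_eq i' 1 hU', pow_one]
  have h := inj_sec (A' := Γ(X', U')) (A := Γ(X, U)) (B' := Γ(Z', i' ⁻¹ᵁ U'))
    (B := Γ(Z, i ⁻¹ᵁ U)) (i.app U).hom (i'.app U').hom
    (app_appLE_sec i q hq hst) (app_appLE_sec i' q' hq' hst')
    (ιl (i'.ker ^ 1) U') (ιl (i.ker ^ 1) U) (ιl_injective (i.ker ^ 1) U)
    (ιl_injective (i'.ker ^ 1) U')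
    (fun a' ha' => by
      rw [hr1]
      exact ha')
    (fun s' => by
      have : ιl (i'.ker ^ 1) U' s' ∈ (LinearMap.range (ιl (i'.ker ^ 1) U') : Ideal Γ(X', U')) :=
        ⟨s', rfl⟩
      rw [hr1] at this
      exact this)
    (rhoC i i' g hker 1 hUU') (ιl_rhoC i i' g hker 1 hUU')
    (thetaC i i' gZ 1 (chart_le i i' g gZ hφ.1 hUU')) (thetaC_smul i i' g gZ 1 hφ.1 hUU')
    (grSect i 1 U).hom (kappa_smul i 1)
    (appLin φ (i ⁻¹ᵁ U)) (phi_thetaC i i' g gZ 1 φ hφ hker hUU')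
    ((RingHom.ker (i'.app U').hom) ^ (1 + 1))
    (by
      rw [hr1]
      exact Ideal.pow_le_self (by norm_num))
    (thetaC_eq_zero i i' gZ 1 hU' (chart_le i i' g gZ hφ.1 hUU'))
    (span_thetaC i i' gZ 1 hU' hU (chart_le i i' g gZ hφ.1 hUU'))
    (fun s hs => by
      have h1 := ιl_mem_of_grSect_eq_zero i 1 hU s hs
      rw [pow_chart i i' g hker (1 + 1) hU' hU hUU'] at h1
      exact h1)
  exact h

theorem main_sec (hq : i ≫ q = 𝟙 Z) (hq' : i' ≫ q' = 𝟙 Z') (hsq : IsPullback g q q' gZ)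
    (hφ : IsGrMap i i' g gZ 1 φ) : IsIso φ := by
  have hker : i.ker = i'.ker.comap g :=
    Groth.Agent.Helper9.PrinPart7.ker_of_isPullback i' g gZ i
      (isPullback_sec i i' g gZ q q' hq hq' hsq hφ.1)
  haveI q0 : (grMod i' 1).IsQuasicoherent := qcGr i' 1
  haveI q1 : ((Scheme.Modules.pullback gZ).obj (grMod i' 1)).IsQuasicoherent :=
    isQuasicoherent_pullback gZ (grMod i' 1)
  haveI q2 : (grMod i 1).IsQuasicoherent := qcGr i 1
  let 𝒰 : Set Z.Opens := {V | ∃ (U' : X'.Opens) (U : X.Opens), IsAffineOpen U' ∧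
    IsAffineOpen U ∧ U' ≤ q' ⁻¹ᵁ (i' ⁻¹ᵁ U') ∧ U = g ⁻¹ᵁ U' ⊓ q ⁻¹ᵁ (i ⁻¹ᵁ U) ∧ V = i ⁻¹ᵁ U}
  have hA : ∀ V ∈ 𝒰, IsAffineOpen V := by
    rintro _ ⟨U', U, hU', hU, hst', hUY, rfl⟩
    exact isAffineOpen_pre i hU
  have hcov : ∀ x : Z, ∃ V ∈ 𝒰, x ∈ V := by
    intro x
    obtain ⟨U', U, hU', hU, hst', hUY, hx⟩ := exists_chart_sec i i' g gZ q q' hq hq' hsq hφ.1 x
    exact ⟨i ⁻¹ᵁ U, ⟨U', U, hU', hU, hst', hUY, rfl⟩, hx⟩
  apply Groth.Agent.Helper18.QCBasic.isIso_of_cover φ 𝒰 hA hcov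
  rintro _ ⟨U', U, hU', hU, hst', hUY, rfl⟩
  exact ⟨injective_chart_sec i i' g gZ q q' φ hq hq' hsq hφ hker hU' hU hst' hUY,
    surjective_chart i i' g gZ 1 φ hφ hker hU' hU (hUY.le.trans inf_le_left)⟩

end Sec

end Groth.Agent.Helper9.GrBC2
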