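import Mathlib
import Groth.Prelude.Def_OmegaPn
import Groth.Prelude.Def_FlatMod2
import Groth.Agent.Lib.Helper9.GrBC2
import Groth.Agent.Lib.Helper22.Pinch2

/-!
# Base change of the graded pieces of a section with flat graded pieces

For a section `i'` of `q' : X' ⟶ Z'` (a closed immersion) whose graded pieces `Gr_k` are flat for
`k < n`, and its base change `i` along `gZ : Z ⟶ Z'`, the canonical map
`gZ^* Gr_n(i') ⟶ Gr_n(i)` is an isomorphism.
-/

set_option autoImplicit false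
set_option backward.isDefEq.respectTransparency false
set_option linter.style.haveILetI false
set_option linter.unusedSectionVars false
set_option maxRecDepth 8000
universe u
open CategoryTheory CategoryTheory.Limits AlgebraicGeometry TopologicalSpace Opposite TensorProduct

namespace Groth.Agent.Helper9.GrBC3

section AlgPow

variable {A' B' : Type u} [CommRing A'] [CommRing B'] [Algebra B' A'] (p' : A' →+* B')
  (hp' : ∀ b', p' (algebraMap B' A' b') = b')
  (B : Type u) [AddCommGroup B] [Module B' B]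

include hp' in
/-- one step: `B ⊗ I^(k+1) → B ⊗ I^k` is injective if `I^k/I^(k+1)` is flat over `B'`. -/
theorem lTensor_inclusion_injective (k : ℕ)
    (hfl : letI := p'.toAlgebra; Module.Flat B' (B' ⊗[A'] ↥((RingHom.ker p') ^ k))) :
    Function.Injective (LinearMap.lTensor B
      ((Submodule.inclusion (Ideal.pow_le_pow_right (Nat.le_succ k) :
        (RingHom.ker p') ^ (k + 1) ≤ (RingHom.ker p') ^ k)).restrictScalars B')) := by
  letI := p'.toAlgebra
  haveI := hfl
  have halg : ∀ a : A', algebraMap A' B' a = p' a := fun a => rfl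
  have hsurj : Function.Surjective (algebraMap A' B') := fun b' => ⟨algebraMap B' A' b', hp' b'⟩
  set I := RingHom.ker p' with hI
  have hkerI : RingHom.ker (algebraMap A' B') = I := rfl
  let π : ↥(I ^ k) →ₗ[B'] B' ⊗[A'] ↥(I ^ k) :=
    { toFun := fun x => (1 : B') ⊗ₜ[A'] x
      map_add' := fun x y => TensorProduct.tmul_add _ x y
      map_smul' := fun b' x => by
        rw [RingHom.id_apply, ← algebraMap_smul A' b' x, ← TensorProduct.smul_tmul,
          Algebra.smul_def, halg, hp', mul_one, TensorProduct.smul_tmul', smul_eq_mul, mul_one] }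
  have hπ : ∀ x, π x = (1 : B') ⊗ₜ[A'] x := fun x => rfl
  have hπsurj : Function.Surjective π := TensorProduct.mk_surjective A' ↥(I ^ k) B' hsurj
  have hmap : Submodule.map (I ^ k).subtype (I • (⊤ : Submodule A' ↥(I ^ k))) = I ^ (k + 1) := by
    rw [Submodule.map_smul'', Submodule.map_top, Submodule.range_subtype, pow_succ']
    rfl
  have hexact : Function.Exact
      ((Submodule.inclusion (Ideal.pow_le_pow_right (Nat.le_succ k) :
        I ^ (k + 1) ≤ I ^ k)).restrictScalars B') π := by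
    intro y
    constructor
    · intro hy
      have h1 := Groth.Agent.Helper18.CnAlg.mem_smul_top_of_one_tmul_eq_zero hsurj y hy
      rw [hkerI] at h1
      have h2 : (y : A') ∈ I ^ (k + 1) := by
        rw [← hmap]
        exact ⟨y, h1, rfl⟩
      exact ⟨⟨(y : A'), h2⟩, Subtype.ext rfl⟩
    · rintro ⟨z, rfl⟩
      have h2 : ((z : A')) ∈ Submodule.map (I ^ k).subtype (I • (⊤ : Submodule A' ↥(I ^ k))) := by
        rw [hmap]
        exact z.2
      obtain ⟨y₁, hy₁, hy₁'⟩ := h2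
      have hz : (Submodule.inclusion (Ideal.pow_le_pow_right (Nat.le_succ k) :
          I ^ (k + 1) ≤ I ^ k)).restrictScalars B' z = y₁ := Subtype.ext hy₁'.symm
      rw [hz, hπ]
      refine Submodule.smul_induction_on hy₁ ?_ ?_
      · intro a ha t _
        have ha0 : p' a = 0 := ha
        rw [← TensorProduct.smul_tmul, Algebra.smul_def, halg, ha0, zero_mul,
          TensorProduct.zero_tmul]
      · intro x y hx hy
        rw [TensorProduct.tmul_add, hx, hy, add_zero]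
  have hle : I ^ (k + 1) ≤ I ^ k := Ideal.pow_le_pow_right (Nat.le_succ k)
  exact LinearMap.lTensor_injective_of_exact_of_flat π hπsurj
    ((Submodule.inclusion hle).restrictScalars B')
    (fun a b h => Submodule.inclusion_injective hle h) hexact B

include hp' in
/-- `B ⊗ I^n → B ⊗ A'` is injective if `I^k/I^(k+1)` is flat over `B'` for `k < n`. -/
theorem lTensor_pow_subtype_injective (n : ℕ)
    (hfl : letI := p'.toAlgebra
      ∀ k < n, Module.Flat B' (B' ⊗[A'] ↥((RingHom.ker p') ^ k))) :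
    Function.Injective (LinearMap.lTensor B
      (((RingHom.ker p') ^ n).subtype.restrictScalars B')) := by
  induction n with
  | zero =>
    have hbij : Function.Bijective (((RingHom.ker p') ^ 0).subtype.restrictScalars B') := by
      constructor
      · exact Subtype.val_injective
      · intro a
        exact ⟨⟨a, by rw [pow_zero, Ideal.one_eq_top]; trivial⟩, rfl⟩
    let e := LinearEquiv.ofBijective _ hbij
    have : LinearMap.lTensor B (((RingHom.ker p') ^ 0).subtype.restrictScalars B') =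
        (LinearEquiv.lTensor B e).toLinearMap := rfl
    rw [this]
    exact (LinearEquiv.lTensor B e).injective
  | succ k ih =>
    have h1 := lTensor_inclusion_injective p' hp' B k (hfl k (Nat.lt_succ_self k))
    have h2 := ih (fun j hj => hfl j (Nat.lt_succ_of_lt hj))
    have hcomp : ((RingHom.ker p') ^ (k + 1)).subtype.restrictScalars B' =
        (((RingHom.ker p') ^ k).subtype.restrictScalars B') ∘ₗ
          ((Submodule.inclusion (Ideal.pow_le_pow_right (Nat.le_succ k) :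
            (RingHom.ker p') ^ (k + 1) ≤ (RingHom.ker p') ^ k)).restrictScalars B') := by
      ext x
      rfl
    rw [hcomp, LinearMap.lTensor_comp]
    exact h2.comp h1

end AlgPow

section Glue

variable {A' B' : Type u} [CommRing A'] [CommRing B'] [Algebra B' A'] (p' : A' →+* B')
  (hp' : ∀ b', p' (algebraMap B' A' b') = b')
  (B : Type u) [AddCommGroup B] [Module B' B]
  {M' : Type u} [AddCommGroup M'] [Module A' M'] (ι' : M' →ₗ[A'] A')

include hp' in
theorem hinjT_of_flat (hι' : Function.Injective ι') (n : ℕ)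
    (hrange : (LinearMap.range ι' : Ideal A') = (RingHom.ker p') ^ n)
    (hfl : letI := p'.toAlgebra
      ∀ k < n, Module.Flat B' (B' ⊗[A'] ↥((RingHom.ker p') ^ k))) :
    letI : Module B' M' := Module.compHom M' (algebraMap B' A')
    ∀ ι'B : M' →ₗ[B'] A', (∀ s', ι'B s' = ι' s') →
      Function.Injective (LinearMap.lTensor B ι'B) := by
  letI : Module B' M' := Module.compHom M' (algebraMap B' A')
  intro ι'B hB
  have hmem : ∀ s', ι'B s' ∈ (RingHom.ker p') ^ n := fun s' => by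
    rw [hB, ← hrange]
    exact ⟨s', rfl⟩
  let c : M' →ₗ[B'] ↥((RingHom.ker p') ^ n) :=
    { toFun := fun s' => ⟨ι'B s', hmem s'⟩
      map_add' := fun a b => Subtype.ext (map_add ι'B a b)
      map_smul' := fun b' a => Subtype.ext (map_smul ι'B b' a) }
  have hc : Function.Bijective c := by
    constructor
    · intro a b h
      apply hι'
      rw [← hB, ← hB]
      exact congrArg Subtype.val h
    · rintro ⟨x, hx⟩
      have hx' : x ∈ (LinearMap.range ι' : Ideal A') := by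
        rw [hrange]
        exact hx
      obtain ⟨s', rfl⟩ := hx'
      exact ⟨s', Subtype.ext (hB s')⟩
  let e := LinearEquiv.ofBijective c hc
  have hcomp : ι'B = (((RingHom.ker p') ^ n).subtype.restrictScalars B') ∘ₗ e.toLinearMap := by
    ext s'
    rfl
  rw [hcomp, LinearMap.lTensor_comp]
  exact (lTensor_pow_subtype_injective p' hp' B n hfl).comp (LinearEquiv.lTensor B e).injective

end Glue

section AlgSecT

variable {A' A B' B : Type u} [CommRing A'] [CommRing A] [CommRing B'] [CommRing B]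
    [Algebra B' B] [Algebra B' A'] [Algebra B A] [Algebra A' A] [Algebra B' A]
    [IsScalarTower B' B A] [IsScalarTower B' A' A] [Algebra.IsPushout B' B A' A]
    (p : A →+* B)
    (hp : ∀ b, p (algebraMap B A b) = b)
    {M' M P Q : Type u} [AddCommGroup M'] [Module A' M'] [AddCommGroup M] [Module A M]
    [AddCommGroup P] [Module B P] [AddCommGroup Q] [Module B Q]
    (ι' : M' →ₗ[A'] A') (ι : M →ₗ[A] A) (hι : Function.Injective ι)
    (ρ : M' →+ M) (hρ : ∀ s', ι (ρ s') = algebraMap A' A (ι' s'))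
    (θ : M' →+ P) (hθ : ∀ r s', θ (r • s') = p (algebraMap A' A r) • θ s')
    (κ : M →+ Q) (hκ : ∀ a s, κ (a • s) = p a • κ s)
    (Φ : P →ₗ[B] Q) (hΦ : ∀ s', Φ (θ s') = κ (ρ s'))

include hp hι hρ hθ hκ hΦ in
theorem inj_secT
    (hinjT' : letI : Module B' M' := Module.compHom M' (algebraMap B' A')
      ∀ ι'B : M' →ₗ[B'] A', (∀ s', ι'B s' = ι' s') →
        Function.Injective (LinearMap.lTensor B ι'B))
    (J' : Ideal A') (hJ' : J' ≤ (LinearMap.range ι' : Ideal A'))
    (hθ0 : ∀ s', ι' s' ∈ J' → θ s' = 0)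
    (hθspan : Submodule.span B (Set.range θ) = ⊤)
    (hκ0 : ∀ s, κ s = 0 → ι s ∈ Ideal.map (algebraMap A' A) J') : Function.Injective Φ := by
  have hAB : ∀ b' : B', algebraMap A' A (algebraMap B' A' b') =
      algebraMap B A (algebraMap B' B b') := fun b' =>
    (IsScalarTower.algebraMap_apply B' A' A b').symm.trans
      (IsScalarTower.algebraMap_apply B' B A b')
  have hθB : ∀ (b' : B') (s' : M'), θ (algebraMap B' A' b' • s') = algebraMap B' B b' • θ s' := by
    intro b' s'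
    rw [hθ, hAB, hp]
  have hρB : ∀ (b' : B') (s' : M'), ρ (algebraMap B' A' b' • s') =
      algebraMap B A (algebraMap B' B b') • ρ s' := by
    intro b' s'
    apply hι
    rw [hρ, LinearMap.map_smul ι' _ s', LinearMap.map_smul ι _ (ρ s'), hρ, smul_eq_mul, map_mul,
      hAB, smul_eq_mul]
  letI mB'M' : Module B' M' := Module.compHom M' (algebraMap B' A')
  have hsm : ∀ (b' : B') (s' : M'), b' • s' = algebraMap B' A' b' • s' := fun _ _ => rfl
  -- the B'-linear retraction of ι'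
  let ι'B : M' →ₗ[B'] A' :=
    { toFun := ι'
      map_add' := map_add ι'
      map_smul' := fun b' s' => by
        rw [hsm, LinearMap.map_smul ι' _ s', RingHom.id_apply, smul_eq_mul, Algebra.smul_def] }
  have hinjT : Function.Injective (LinearMap.lTensor B ι'B) := hinjT' ι'B (fun _ => rfl)
  let e := Algebra.IsPushout.equiv B' B A' A
  have he : ∀ (b : B) (a' : A'), e (b ⊗ₜ a') = algebraMap B A b * algebraMap A' A a' :=
    fun b a' => Algebra.IsPushout.equiv_tmul B' B A' A b a'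
  -- Θ and Rm
  let Θ : B ⊗[B'] M' →+ P := TensorProduct.liftAddHom
    (AddMonoidHom.mk' (fun b => AddMonoidHom.mk' (fun s' => b • θ s')
      (fun s t => by rw [map_add, smul_add]))
      (fun b c => by ext s'; simp [add_smul]))
    (fun b' b s' => by
      change (b' • b) • θ s' = b • θ (b' • s')
      rw [hsm, hθB, Algebra.smul_def, mul_smul, smul_comm])
  have hΘ : ∀ b s', Θ (b ⊗ₜ s') = b • θ s' := fun b s' => rfl
  let Rm : B ⊗[B'] M' →+ M := TensorProduct.liftAddHom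
    (AddMonoidHom.mk' (fun b => AddMonoidHom.mk' (fun s' => algebraMap B A b • ρ s')
      (fun s t => by rw [map_add, smul_add]))
      (fun b c => by ext s'; simp [add_smul]))
    (fun b' b s' => by
      change algebraMap B A (b' • b) • ρ s' = algebraMap B A b • ρ (b' • s')
      rw [hsm, hρB, Algebra.smul_def, map_mul, mul_smul, smul_comm])
  have hRm : ∀ b s', Rm (b ⊗ₜ s') = algebraMap B A b • ρ s' := fun b s' => rfl
  have hιR : ∀ t, ι (Rm t) = e (LinearMap.lTensor B ι'B t) := by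
    intro t
    induction t using TensorProduct.induction_on with
    | zero => simp
    | tmul b s' =>
      rw [hRm, map_smul, hρ, LinearMap.lTensor_tmul, he, smul_eq_mul]
      rfl
    | add x y hx hy => rw [map_add, map_add, hx, hy, map_add, map_add]
  have hμ : Function.Injective (fun t => ι (Rm t)) := by
    intro t₁ t₂ h
    simp only [hιR] at h
    exact hinjT (e.injective h)
  have hΘsmul : ∀ (b : B) t, Θ (b • t) = b • Θ t := by
    intro b t
    induction t using TensorProduct.induction_on with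
    | zero => simp
    | tmul b₁ s' => rw [TensorProduct.smul_tmul', hΘ, hΘ, smul_eq_mul, mul_smul]
    | add x y hx hy => rw [smul_add, map_add, hx, hy, map_add, smul_add]
  have hRsmul : ∀ (b : B) t, Rm (b • t) = algebraMap B A b • Rm t := by
    intro b t
    induction t using TensorProduct.induction_on with
    | zero => simp
    | tmul b₁ s' => rw [TensorProduct.smul_tmul', hRm, hRm, smul_eq_mul, map_mul, mul_smul]
    | add x y hx hy => rw [smul_add, map_add, hx, hy, map_add, smul_add]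
  have hΘs : ∀ n : P, ∃ t, Θ t = n := by
    intro n
    have hn : n ∈ Submodule.span B (Set.range θ) := by rw [hθspan]; trivial
    induction hn using Submodule.span_induction with
    | mem x hx =>
      obtain ⟨s', rfl⟩ := hx
      exact ⟨1 ⊗ₜ s', by rw [hΘ, one_smul]⟩
    | zero => exact ⟨0, map_zero _⟩
    | add x y _ _ hx hy =>
      obtain ⟨t₁, rfl⟩ := hx
      obtain ⟨t₂, rfl⟩ := hy
      exact ⟨t₁ + t₂, map_add _ _ _⟩
    | smul b x _ hx =>
      obtain ⟨t₁, rfl⟩ := hx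
      exact ⟨b • t₁, hΘsmul b t₁⟩
  have hΦΘ : ∀ t, Φ (Θ t) = κ (Rm t) := by
    intro t
    induction t using TensorProduct.induction_on with
    | zero => simp
    | tmul b s' => rw [hΘ, hRm, map_smul, hΦ, hκ, hp]
    | add x y hx hy => rw [map_add, map_add, hx, hy, map_add, map_add]
  -- multiplication by a' on the second factor
  let mulM : A' → (M' →ₗ[B'] M') := fun a' =>
    { toFun := fun s' => a' • s'
      map_add' := smul_add a'
      map_smul' := fun b' s' => by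
        rw [RingHom.id_apply, hsm, hsm, smul_smul, smul_smul, mul_comm] }
  have hΘmul : ∀ (a' : A') t, Θ (LinearMap.lTensor B (mulM a') t) =
      p (algebraMap A' A a') • Θ t := by
    intro a' t
    induction t using TensorProduct.induction_on with
    | zero => simp
    | tmul b s' =>
      rw [LinearMap.lTensor_tmul, hΘ, hΘ]
      change b • θ (a' • s') = _
      rw [hθ, smul_comm]
    | add x y hx hy => rw [map_add, map_add, hx, hy, map_add, smul_add]
  have hRmul : ∀ (a' : A') t, ι (Rm (LinearMap.lTensor B (mulM a') t)) =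
      algebraMap A' A a' * ι (Rm t) := by
    intro a' t
    induction t using TensorProduct.induction_on with
    | zero => simp
    | tmul b s' =>
      rw [LinearMap.lTensor_tmul, hRm, hRm]
      change ι (algebraMap B A b • ρ (a' • s')) = _
      rw [LinearMap.map_smul ι _ (ρ (a' • s')), LinearMap.map_smul ι _ (ρ s'), hρ, hρ,
        LinearMap.map_smul ι' a' s']
      simp only [smul_eq_mul, map_mul]
      ring
    | add x y hx hy => rw [map_add, map_add, map_add, hx, hy, map_add, map_add, mul_add]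
  -- the set of good elements
  let S : Set A := {x | ∃ t, Θ t = 0 ∧ ι (Rm t) = x}
  have hS0 : (0 : A) ∈ S := ⟨0, map_zero _, by rw [map_zero, map_zero]⟩
  have hSadd : ∀ x y, x ∈ S → y ∈ S → x + y ∈ S := by
    rintro _ _ ⟨t₁, h₁, rfl⟩ ⟨t₂, h₂, rfl⟩
    exact ⟨t₁ + t₂, by rw [map_add, h₁, h₂, add_zero], by rw [map_add, map_add]⟩
  have hSmul : ∀ (a x : A), x ∈ S → a * x ∈ S := by
    intro a x hx
    obtain ⟨τ, rfl⟩ := e.surjective a
    induction τ using TensorProduct.induction_on with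
    | zero => rw [map_zero, zero_mul]; exact hS0
    | tmul b a' =>
      obtain ⟨t, ht, rfl⟩ := hx
      refine ⟨b • LinearMap.lTensor B (mulM a') t, ?_, ?_⟩
      · rw [hΘsmul, hΘmul, ht, smul_zero, smul_zero]
      · rw [hRsmul, map_smul, hRmul, he, smul_eq_mul, mul_assoc]
    | add τ₁ τ₂ h₁ h₂ =>
      rw [map_add, add_mul]
      exact hSadd _ _ h₁ h₂
  have hSJ : ∀ x ∈ Ideal.map (algebraMap A' A) J', x ∈ S := by
    intro x hx
    rw [Ideal.map] at hx
    induction hx using Submodule.span_induction with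
    | mem x hx =>
      obtain ⟨y, hy, rfl⟩ := hx
      obtain ⟨s', rfl⟩ : y ∈ (LinearMap.range ι' : Ideal A') := hJ' hy
      refine ⟨1 ⊗ₜ s', ?_, ?_⟩
      · rw [hΘ, one_smul]
        exact hθ0 s' hy
      · rw [hRm, map_one, one_smul, hρ]
    | zero => exact hS0
    | add x y _ _ hx hy => exact hSadd _ _ hx hy
    | smul a x _ hx => exact hSmul a x hx
  rw [injective_iff_map_eq_zero]
  intro n hn
  obtain ⟨t, rfl⟩ := hΘs n
  rw [hΦΘ] at hn
  obtain ⟨t₂, ht₂, ht₂'⟩ := hSJ _ (hκ0 _ hn)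
  have : t₂ = t := hμ ht₂'
  rw [← this]
  exact ht₂

end AlgSecT


open OmegaSh PrinPart Groth.Agent.Helper18.DerLib Groth.Agent.Helper18.AffHom
  Groth.Agent.Helper18.Rec Groth.Agent.Helper13.EffCartier Groth.Agent.Helper13.Pullback
  Groth.Agent.Helper9.GrBC1 Groth.Agent.Helper9.GrBC2

theorem flat_transfer {A' B' : Type u} [CommRing A'] [CommRing B'] (ψ₁ ψ₂ : A' →+* B')
    (h : ψ₁ = ψ₂) (N : Type u) [AddCommGroup N] [Module A' N]
    (hf : letI := ψ₁.toAlgebra; Module.Flat B' (B' ⊗[A'] N)) :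
    letI := ψ₂.toAlgebra; Module.Flat B' (B' ⊗[A'] N) := by
  subst h
  exact hf

section SecFlat

variable {Z X Z' X' : Scheme.{u}} (i : Z ⟶ X) (i' : Z' ⟶ X') [IsClosedImmersion i]
  [IsClosedImmersion i'] (g : X ⟶ X') (gZ : Z ⟶ Z') (q : X ⟶ Z) (q' : X' ⟶ Z') (n : ℕ)

theorem flat_chart (k : ℕ) (hk : FlatMod.IsFlat (grMod i' k)) {U' : X'.Opens}
    (hU' : IsAffineOpen U') :
    letI := (i'.app U').hom.toAlgebra
    Module.Flat Γ(Z', i' ⁻¹ᵁ U')
      (Γ(Z', i' ⁻¹ᵁ U') ⊗[Γ(X', U')] ↥((RingHom.ker (i'.app U').hom) ^ k)) := by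
  haveI := qcI (i'.ker ^ k)
  haveI := qcGr i' k
  have hT : IsAffineOpen (i' ⁻¹ᵁ U') := isAffineOpen_pre i' hU'
  have h1 : Module.Flat Γ(Z', i' ⁻¹ᵁ U')
      Γ((Scheme.Modules.pullback i').obj (ClSub.idealMod (i'.ker ^ k)), i' ⁻¹ᵁ U') :=
    (Groth.Agent.Helper22.Pinch.isFlat_iff_flat_sections (grMod i' k)).1 hk _ hT
  have hmem : ∀ s, ιl (i'.ker ^ k) U' s ∈ (RingHom.ker (i'.app U').hom) ^ k := fun s => by
    rw [← ideal_pow_eq i' k hU', ← range_ιl _ hU']
    exact ⟨s, rfl⟩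
  let c : Γ(ClSub.idealMod (i'.ker ^ k), U') →ₗ[Γ(X', U')]
      ↥((RingHom.ker (i'.app U').hom) ^ k) :=
    LinearMap.codRestrict _ (ιl (i'.ker ^ k) U') hmem
  have hc : Function.Bijective c := by
    constructor
    · intro a b h
      exact ιl_injective _ U' (congrArg Subtype.val h)
    · rintro ⟨x, hx⟩
      have hx' : x ∈ (LinearMap.range (ιl (i'.ker ^ k) U') : Ideal Γ(X', U')) := by
        rw [range_ιl _ hU', ideal_pow_eq i' k hU']
        exact hx
      obtain ⟨s, rfl⟩ := hx'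
      exact ⟨s, Subtype.ext rfl⟩
  let e := LinearEquiv.ofBijective c hc
  have h2 : letI := (i'.appLE U' (i' ⁻¹ᵁ U') le_rfl).hom.toAlgebra
      Module.Flat Γ(Z', i' ⁻¹ᵁ U')
        (Γ(Z', i' ⁻¹ᵁ U') ⊗[Γ(X', U')] ↥((RingHom.ker (i'.app U').hom) ^ k)) := by
    letI := (i'.appLE U' (i' ⁻¹ᵁ U') le_rfl).hom.toAlgebra
    haveI := h1
    have h3 : Module.Flat Γ(Z', i' ⁻¹ᵁ U')
        (Γ(Z', i' ⁻¹ᵁ U') ⊗[Γ(X', U')] Γ(ClSub.idealMod (i'.ker ^ k), U')) :=
      Module.Flat.of_linearEquiv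
        (sectionsPullbackEquiv i' (ClSub.idealMod (i'.ker ^ k)) hT hU' le_rfl).symm
    haveI := h3
    exact Module.Flat.of_linearEquiv
      (TensorProduct.AlgebraTensorModule.congr
        (LinearEquiv.refl Γ(Z', i' ⁻¹ᵁ U') Γ(Z', i' ⁻¹ᵁ U')) e).symm
  exact flat_transfer _ _ (by rw [Scheme.Hom.appLE_eq_app]) _ h2

variable (φ : (Scheme.Modules.pullback gZ).obj (grMod i' n) ⟶ grMod i n)

theorem injective_chart_secflat (hq : i ≫ q = 𝟙 Z) (hq' : i' ≫ q' = 𝟙 Z')
    (hsq : IsPullback g q q' gZ) (hφ : IsGrMap i i' g gZ n φ)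
    (hker : i.ker = i'.ker.comap g) (hfl : ∀ k < n, FlatMod.IsFlat (grMod i' k))
    {U' : X'.Opens} {U : X.Opens}
    (hU' : IsAffineOpen U') (hU : IsAffineOpen U) (hst' : U' ≤ q' ⁻¹ᵁ (i' ⁻¹ᵁ U'))
    (hUY : U = g ⁻¹ᵁ U' ⊓ q ⁻¹ᵁ (i ⁻¹ᵁ U)) :
    Function.Injective (φ.app (i ⁻¹ᵁ U)) := by
  have hUU' : U ≤ g ⁻¹ᵁ U' := hUY.le.trans inf_le_left
  have hst : U ≤ q ⁻¹ᵁ (i ⁻¹ᵁ U) := hUY.le.trans inf_le_right
  have hT : i ⁻¹ᵁ U ≤ gZ ⁻¹ᵁ (i' ⁻¹ᵁ U') := chart_le i i' g gZ hφ.1 hUU'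
  have hiso := isIso_pushoutSection_of_isAffineOpen hsq hT hst' hUY
    (isAffineOpen_pre i' hU') (isAffineOpen_pre i hU) hU'
  have hpo : IsPushout (q'.appLE (i' ⁻¹ᵁ U') U' hst') (gZ.appLE (i' ⁻¹ᵁ U') (i ⁻¹ᵁ U) hT)
      (g.appLE U' U hUU') (q.appLE (i ⁻¹ᵁ U) U hst) := (isIso_pushoutSection_iff ..).mp hiso
  letI aB'B : Algebra Γ(Z', i' ⁻¹ᵁ U') Γ(Z, i ⁻¹ᵁ U) :=
    (gZ.appLE (i' ⁻¹ᵁ U') (i ⁻¹ᵁ U) hT).hom.toAlgebra
  letI aB'A' : Algebra Γ(Z', i' ⁻¹ᵁ U') Γ(X', U') := (q'.appLE (i' ⁻¹ᵁ U') U' hst').hom.toAlgebra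
  letI aBA : Algebra Γ(Z, i ⁻¹ᵁ U) Γ(X, U) := (q.appLE (i ⁻¹ᵁ U) U hst).hom.toAlgebra
  letI aA'A : Algebra Γ(X', U') Γ(X, U) := (g.appLE U' U hUU').hom.toAlgebra
  letI aB'A : Algebra Γ(Z', i' ⁻¹ᵁ U') Γ(X, U) :=
    ((g.appLE U' U hUU').hom.comp (q'.appLE (i' ⁻¹ᵁ U') U' hst').hom).toAlgebra
  haveI t1 : IsScalarTower Γ(Z', i' ⁻¹ᵁ U') Γ(X', U') Γ(X, U) :=
    IsScalarTower.of_algebraMap_eq (fun x => rfl)
  have hcomm : q'.appLE (i' ⁻¹ᵁ U') U' hst' ≫ g.appLE U' U hUU' =
      gZ.appLE (i' ⁻¹ᵁ U') (i ⁻¹ᵁ U) hT ≫ q.appLE (i ⁻¹ᵁ U) U hst := by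
    simp only [Scheme.Hom.appLE_comp_appLE, hsq.w]
  haveI t2 : IsScalarTower Γ(Z', i' ⁻¹ᵁ U') Γ(Z, i ⁻¹ᵁ U) Γ(X, U) :=
    IsScalarTower.of_algebraMap_eq (fun x => congr($hcomm x))
  have hpo' : IsPushout (CommRingCat.ofHom (algebraMap Γ(Z', i' ⁻¹ᵁ U') Γ(X', U')))
      (CommRingCat.ofHom (algebraMap Γ(Z', i' ⁻¹ᵁ U') Γ(Z, i ⁻¹ᵁ U)))
      (CommRingCat.ofHom (algebraMap Γ(X', U') Γ(X, U)))
      (CommRingCat.ofHom (algebraMap Γ(Z, i ⁻¹ᵁ U) Γ(X, U))) := hpo
  haveI hP : Algebra.IsPushout Γ(Z', i' ⁻¹ᵁ U') Γ(Z, i ⁻¹ᵁ U) Γ(X', U') Γ(X, U) :=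
    (CommRingCat.isPushout_iff_isPushout.mp hpo').symm
  have hr1 : (LinearMap.range (ιl (i'.ker ^ n) U') : Ideal Γ(X', U')) =
      (RingHom.ker (i'.app U').hom) ^ n := by
    rw [range_ιl (i'.ker ^ n) hU', ideal_pow_eq i' n hU']
  have hT0 := hinjT_of_flat (A' := Γ(X', U')) (B' := Γ(Z', i' ⁻¹ᵁ U')) (i'.app U').hom
    (app_appLE_sec i' q' hq' hst') Γ(Z, i ⁻¹ᵁ U) (ιl (i'.ker ^ n) U')
    (ιl_injective (i'.ker ^ n) U') n hr1 (fun k hk => flat_chart i' k (hfl k hk) hU')
  have h := inj_secT (A' := Γ(X', U')) (A := Γ(X, U)) (B' := Γ(Z', i' ⁻¹ᵁ U'))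
    (B := Γ(Z, i ⁻¹ᵁ U)) (i.app U).hom
    (app_appLE_sec i q hq hst)
    (ιl (i'.ker ^ n) U') (ιl (i.ker ^ n) U) (ιl_injective (i.ker ^ n) U)
    (rhoC i i' g hker n hUU') (ιl_rhoC i i' g hker n hUU')
    (thetaC i i' gZ n (chart_le i i' g gZ hφ.1 hUU')) (thetaC_smul i i' g gZ n hφ.1 hUU')
    (grSect i n U).hom (kappa_smul i n)
    (appLin φ (i ⁻¹ᵁ U)) (phi_thetaC i i' g gZ n φ hφ hker hUU')
    hT0
    ((RingHom.ker (i'.app U').hom) ^ (n + 1))
    (by
      rw [hr1]
      exact Ideal.pow_le_pow_right (Nat.le_succ n))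
    (thetaC_eq_zero i i' gZ n hU' (chart_le i i' g gZ hφ.1 hUU'))
    (span_thetaC i i' gZ n hU' hU (chart_le i i' g gZ hφ.1 hUU'))
    (fun s hs => by
      have h1 := ιl_mem_of_grSect_eq_zero i n hU s hs
      rw [pow_chart i i' g hker (n + 1) hU' hU hUU'] at h1
      exact h1)
  exact h

theorem main_secflat (hq : i ≫ q = 𝟙 Z) (hq' : i' ≫ q' = 𝟙 Z') (hsq : IsPullback g q q' gZ)
    (hφ : IsGrMap i i' g gZ n φ) (hfl : ∀ k < n, FlatMod.IsFlat (grMod i' k)) : IsIso φ := by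
  have hker : i.ker = i'.ker.comap g :=
    Groth.Agent.Helper9.PrinPart7.ker_of_isPullback i' g gZ i
      (isPullback_sec i i' g gZ q q' hq hq' hsq hφ.1)
  haveI q0 : (grMod i' n).IsQuasicoherent := qcGr i' n
  haveI q1 : ((Scheme.Modules.pullback gZ).obj (grMod i' n)).IsQuasicoherent :=
    isQuasicoherent_pullback gZ (grMod i' n)
  haveI q2 : (grMod i n).IsQuasicoherent := qcGr i n
  let 𝒰 : Set Z.Opens := {V | ∃ (U' : X'.Opens) (U : X.Opens), IsAffineOpen U' ∧
    IsAffineOpen U ∧ U' ≤ q' ⁻¹ᵁ (i' ⁻¹ᵁ U') ∧ U = g ⁻¹ᵁ U' ⊓ q ⁻¹ᵁ (i ⁻¹ᵁ U) ∧ V = i ⁻¹ᵁ U}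
  have hA : ∀ V ∈ 𝒰, IsAffineOpen V := by
    rintro _ ⟨U', U, hU', hU, hst', hUY, rfl⟩
    exact isAffineOpen_pre i hU
  have hcov : ∀ x : Z, ∃ V ∈ 𝒰, x ∈ V := by
    intro x
    obtain ⟨U', U, hU', hU, hst', hUY, hx⟩ := exists_chart_sec i i' g gZ q q' hq hq' hsq hφ.1 x
    exact ⟨i ⁻¹ᵁ U, ⟨U', U, hU', hU, hst', hUY, rfl⟩, hx⟩
  apply Groth.Agent.Helper18.QCBasic.isIso_of_cover φ 𝒰 hA hcov
  rintro _ ⟨U', U, hU', hU, hst', hUY, rfl⟩
  exact ⟨injective_chart_secflat i i' g gZ q q' n φ hq hq' hsq hφ hker hfl hU' hU hst' hUY,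
    surjective_chart i i' g gZ n φ hφ hker hU' hU (hUY.le.trans inf_le_left)⟩

end SecFlat

end Groth.Agent.Helper9.GrBC3
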