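import Mathlib

/-!
# The coaction `A → A[t]` of an `ℕ`-grading

`map_mem_of_unique`: a ring map out of a graded ring `A` which has the uniqueness property of a symmetric
algebra (ring maps out of `A` are determined by their values on `s(R)` and `jA(M)`), sending the degree `0`
generators `s r` and the degree `1` generators `jA m` to degree `0` resp. `1`, preserves all degrees.
-/

set_option autoImplicit false
set_option backward.isDefEq.respectTransparency false
universe u

noncomputable section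

namespace Groth.Agent.Helper9.GrCoact


section Coact

open DirectSum

variable {A : Type*} [CommRing A] (𝒜 : ℕ → AddSubgroup A) [GradedRing 𝒜]

/-- `a ↦ a t^e` on the degree `e` part. -/
def fam (e : ℕ) : 𝒜 e →+ Polynomial A :=
  (Polynomial.monomial e : A →ₗ[A] Polynomial A).toAddMonoidHom.comp (𝒜 e).subtype

omit [GradedRing 𝒜] in
theorem fam_apply (e : ℕ) (a : 𝒜 e) : fam 𝒜 e a = Polynomial.monomial e (a : A) := rfl

/-- `⨁ A_e → A[t]`. -/
def toPoly : (⨁ i, 𝒜 i) →+* Polynomial A :=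
  DirectSum.toSemiring (fam 𝒜) (Polynomial.monomial_zero_one)
    (fun _ _ => (Polynomial.monomial_mul_monomial _ _ _ _).symm)

theorem toPoly_of (i : ℕ) (a : 𝒜 i) :
    toPoly 𝒜 (DirectSum.of (fun i => 𝒜 i) i a) = Polynomial.monomial i (a : A) := by
  unfold toPoly
  exact DirectSum.toSemiring_of (fam 𝒜) _ _ i a

/-- the coaction `A → A[t]`, `x ↦ ∑ x_e t^e`, of an `ℕ`-grading. -/
def coact : A →+* Polynomial A :=
  (toPoly 𝒜).comp (DirectSum.decomposeRingEquiv 𝒜).toRingHom

theorem coact_apply (x : A) : coact 𝒜 x = toPoly 𝒜 (DirectSum.decompose 𝒜 x) := rfl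

theorem coact_of_mem {d : ℕ} {x : A} (hx : x ∈ 𝒜 d) : coact 𝒜 x = Polynomial.monomial d x := by
  rw [coact_apply, DirectSum.decompose_of_mem 𝒜 hx, toPoly_of]

theorem toPoly_coeff (D : ⨁ i, 𝒜 i) (e : ℕ) : (toPoly 𝒜 D).coeff e = (D e : A) := by
  classical
  induction D using DirectSum.induction_on with
  | zero => simp
  | of i a =>
    rw [toPoly_of]
    by_cases h : i = e
    · subst h
      simp [DirectSum.of_eq_same]
    · rw [DirectSum.of_eq_of_ne _ _ _ (Ne.symm h), Polynomial.coeff_monomial, if_neg h]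
      rfl
  | add x y hx hy =>
    rw [map_add, Polynomial.coeff_add, hx, hy, DirectSum.add_apply]
    rfl

theorem mem_of_coact_eq {d : ℕ} {y : A} (h : coact 𝒜 y = Polynomial.monomial d y) : y ∈ 𝒜 d := by
  have h1 := toPoly_coeff 𝒜 (DirectSum.decompose 𝒜 y) d
  rw [← coact_apply, h, Polynomial.coeff_monomial, if_pos rfl] at h1
  rw [h1]
  exact (DirectSum.decompose 𝒜 y d).2

end Coact

theorem map_mem_of_unique {R A B M : Type u} [CommRing R] [CommRing A] [CommRing B]
    (s : R →+* A) (jA : M → A)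
    (huniq : ∀ (T : Type u) [CommRing T] (φ₁ φ₂ : A →+* T), (∀ r, φ₁ (s r) = φ₂ (s r)) →
      (∀ m, φ₁ (jA m) = φ₂ (jA m)) → φ₁ = φ₂)
    (𝒜 : ℕ → AddSubgroup A) [GradedRing 𝒜] (ℬ : ℕ → AddSubgroup B) [GradedRing ℬ]
    (hs : ∀ r, s r ∈ 𝒜 0) (hj : ∀ m, jA m ∈ 𝒜 1)
    (ρ : A →+* B) (hρs : ∀ r, ρ (s r) ∈ ℬ 0) (hρj : ∀ m, ρ (jA m) ∈ ℬ 1)
    {d : ℕ} {x : A} (hx : x ∈ 𝒜 d) : ρ x ∈ ℬ d := by
  have key : (coact ℬ).comp ρ = (Polynomial.mapRingHom ρ).comp (coact 𝒜) := by
    apply huniq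
    · intro r
      simp only [RingHom.coe_comp, Function.comp_apply]
      rw [coact_of_mem ℬ (hρs r), coact_of_mem 𝒜 (hs r)]
      simp
    · intro m
      simp only [RingHom.coe_comp, Function.comp_apply]
      rw [coact_of_mem ℬ (hρj m), coact_of_mem 𝒜 (hj m)]
      simp
  have h2 := DFunLike.congr_fun key x
  simp only [RingHom.coe_comp, Function.comp_apply] at h2
  rw [coact_of_mem 𝒜 hx] at h2
  apply mem_of_coact_eq ℬ
  rw [h2]
  simp


end Groth.Agent.Helper9.GrCoact
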