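import Mathlib

/-!
# No point of `Proj` of a symmetric-algebra-like graded ring contains all degree one generators
-/

set_option autoImplicit false
set_option backward.isDefEq.respectTransparency false
universe u
open scoped HomogeneousIdeal

namespace Groth.Agent.Helper9.GrIrrel

/-- In a graded ring with the uniqueness property of a symmetric algebra (generators `s r` in degree `0`
and `jA m` in degree `1`), no point of the projective spectrum contains all the `jA m`. -/
theorem exists_not_mem {R A M : Type u} [CommRing R] [CommRing A]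
    (s : R →+* A) (jA : M → A)
    (huniq : ∀ (T : Type u) [CommRing T] (φ₁ φ₂ : A →+* T), (∀ r, φ₁ (s r) = φ₂ (s r)) →
      (∀ m, φ₁ (jA m) = φ₂ (jA m)) → φ₁ = φ₂)
    (𝒜 : ℕ → AddSubgroup A) [GradedRing 𝒜]
    (hs : ∀ r, s r ∈ 𝒜 0) (hj : ∀ m, jA m ∈ 𝒜 1)
    (w : ProjectiveSpectrum 𝒜) : ∃ m, jA m ∉ w.asHomogeneousIdeal.toIdeal := by
  by_contra hcon0
  have hcon : ∀ m, jA m ∈ w.asHomogeneousIdeal.toIdeal := fun m => by
    by_contra h
    exact hcon0 ⟨m, h⟩
  let I := w.asHomogeneousIdeal.toIdeal
  have key : (Ideal.Quotient.mk I) = (Ideal.Quotient.mk I).comp (GradedRing.projZeroRingHom 𝒜) := by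
    apply huniq
    · intro r
      simp only [RingHom.coe_comp, Function.comp_apply, GradedRing.projZeroRingHom_apply]
      rw [DirectSum.decompose_of_mem_same 𝒜 (hs r)]
    · intro m
      simp only [RingHom.coe_comp, Function.comp_apply, GradedRing.projZeroRingHom_apply]
      rw [DirectSum.decompose_of_mem_ne 𝒜 (hj m) one_ne_zero, map_zero]
      exact Ideal.Quotient.eq_zero_iff_mem.mpr (hcon m)
  apply w.not_irrelevant_le
  intro x hx
  have hx0 : GradedRing.projZeroRingHom 𝒜 x = 0 := hx
  have h1 := DFunLike.congr_fun key x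
  simp only [RingHom.coe_comp, Function.comp_apply] at h1
  rw [hx0, map_zero] at h1
  exact Ideal.Quotient.eq_zero_iff_mem.mp h1

end Groth.Agent.Helper9.GrIrrel
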