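import Mathlib
import Groth.Prelude.Def_Exal
import Groth.Agent.Lib.Helper9.Exal

set_option autoImplicit false

universe u

namespace Groth.Agent.Helper9.ExalLib

theorem formallySmooth_of_hochschild {A B : Type u} [CommRing A] [CommRing B] [Algebra A B]
    [Module.Projective A B]
    (h : ∀ (L : Type u) [AddCommGroup L] [Module B L] [Module A L] [IsScalarTower A B L]
      (f : B →ₗ[A] B →ₗ[A] L), (∀ x y : B, f x y = f y x) →
        (∀ x y z : B, f (x * y) z + z • f x y = x • f y z + f x (y * z)) →
          ∃ g : B →ₗ[A] L, ∀ x y : B, f x y = x • g y - g (x * y) + y • g x) :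
    Algebra.FormallySmooth A B := by
  rw [formallySmooth_iff]
  intro L _ _ X
  letI : Module A L := Module.compHom L (algebraMap A B)
  haveI : IsScalarTower A B L := ⟨fun a b l => by
    change (a • b) • l = (algebraMap A B a) • (b • l)
    rw [Algebra.smul_def, mul_smul]⟩
  have hpi : ∀ l, X.proj (X.incl l) = 0 := fun l => (X.isExtension.exact _).2 ⟨l, rfl⟩
  have hii : ∀ l l', X.incl l * X.incl l' = 0 := fun l l' => by
    rw [X.isExtension.mul_incl, hpi, zero_smul, map_zero]
  have hincl_smul : ∀ (a : A) (l : L), X.incl (a • l) = a • X.incl l := by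
    intro a l
    change X.incl ((algebraMap A B a) • l) = _
    rw [Algebra.smul_def, X.isExtension.mul_incl, AlgHom.commutes]
  obtain ⟨σ, hσ⟩ := Module.projective_lifting_property X.proj.toLinearMap
    (LinearMap.id : B →ₗ[A] B) X.isExtension.proj_surjective
  have hσ' : ∀ b, X.proj (σ b) = b := fun b => LinearMap.congr_fun hσ b
  have hsmul : ∀ (z : B) (l : L), X.incl (z • l) = σ z * X.incl l := by
    intro z l
    rw [X.isExtension.mul_incl, hσ']
  have hker : ∀ x y, X.proj (σ x * σ y - σ (x * y)) = 0 := by
    intro x y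
    rw [map_sub, map_mul, hσ', hσ', hσ', sub_self]
  let f0 : B → B → L := fun x y => X.kerLift _ (hker x y)
  have hf0 : ∀ x y, X.incl (f0 x y) = σ x * σ y - σ (x * y) := fun x y => X.incl_kerLift _ _
  let f : B →ₗ[A] B →ₗ[A] L := LinearMap.mk₂ A f0
    (by
      intro x x' y
      apply X.isExtension.incl_injective
      rw [map_add, hf0, hf0, hf0, add_mul, map_add, map_add, add_mul]
      ring)
    (by
      intro a x y
      apply X.isExtension.incl_injective
      rw [hincl_smul, hf0, hf0, map_smul, smul_mul_assoc, smul_mul_assoc, map_smul, smul_sub])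
    (by
      intro x y y'
      apply X.isExtension.incl_injective
      rw [map_add, hf0, hf0, hf0, mul_add, map_add, map_add, mul_add]
      ring)
    (by
      intro a x y
      apply X.isExtension.incl_injective
      rw [hincl_smul, hf0, hf0, map_smul, mul_smul_comm, mul_smul_comm, map_smul, smul_sub])
  have hf : ∀ x y, X.incl (f x y) = σ x * σ y - σ (x * y) := hf0
  obtain ⟨g, hg⟩ := h L f
    (by
      intro x y
      apply X.isExtension.incl_injective
      rw [hf, hf, mul_comm (σ x), mul_comm x])
    (by
      intro x y z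
      apply X.isExtension.incl_injective
      rw [map_add, map_add, hsmul, hsmul, hf, hf, hf, hf, mul_assoc x y z]
      ring)
  let inclₗ : L →ₗ[A] X.E :=
    { toFun := X.incl
      map_add' := map_add _
      map_smul' := hincl_smul }
  let s : B →ₗ[A] X.E := σ - inclₗ ∘ₗ g
  have hs : ∀ b, s b = σ b - X.incl (g b) := fun b => rfl
  have hs_mul : ∀ x y, s (x * y) = s x * s y := by
    intro x y
    have e1 : σ x * σ y - σ (x * y) =
        σ x * X.incl (g y) - X.incl (g (x * y)) + σ y * X.incl (g x) := by
      rw [← hf, hg, map_add, map_sub, hsmul, hsmul]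
    have e2 : X.incl (g x) * X.incl (g y) = 0 := hii _ _
    rw [hs, hs, hs]
    linear_combination (-1 : X.E) * e1 - e2
  have hs_proj : ∀ b, X.proj (s b) = b := by
    intro b
    rw [hs, map_sub, hσ', hpi, sub_zero]
  have hs_one : s 1 = 1 := by
    have h1 : s 1 * s 1 = s 1 := by rw [← hs_mul, mul_one]
    have h2 : X.proj (s 1 - 1) = 0 := by rw [map_sub, hs_proj, map_one, sub_self]
    obtain ⟨l, hl⟩ := (X.isExtension.exact _).1 h2
    have h3 : (s 1 - 1) * (s 1 - 1) = 0 := by rw [← hl]; exact hii l l
    linear_combination h1 - h3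
  exact ⟨AlgHom.ofLinearMap s hs_one hs_mul, hs_proj⟩

end Groth.Agent.Helper9.ExalLib
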