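import Mathlib

set_option autoImplicit false
universe v u
open CategoryTheory CategoryTheory.Limits

namespace Groth.Agent.Helper9

/-- An abelian category with injective resolutions has enough injectives. -/
lemma enoughInjectives_of_hasInjectiveResolutions {A : Type u} [Category.{v} A] [Abelian A]
    [HasInjectiveResolutions A] : EnoughInjectives A where
  presentation X := by
    let I : InjectiveResolution X := (HasInjectiveResolution.out (Z := X)).some
    exact ⟨{ J := I.cocomplex.X 0
             injective := I.injective 0
             f := (I.ι.f 0 : X ⟶ I.cocomplex.X 0)
             mono := inferInstanceAs (Mono (I.ι.f 0)) }⟩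

end Groth.Agent.Helper9
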