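import Mathlib
import Groth.Prelude.Def_FDesc
import Groth.Agent.Lib.Helper4.QuasiFlat
import Groth.Agent.Lib.Helper12.FlatModBC3
import Groth.Agent.Lib.Helper13.PullbackStalk
import Groth.Agent.Lib.Helper13.PullbackLocal
import Groth.Agent.Lib.Helper13.FittPullback

/-!
# Quasi-flat morphisms are stable under base change; quasi-flat + lfp ⟹ universally open
-/

set_option autoImplicit false

universe u

open CategoryTheory CategoryTheory.Limits AlgebraicGeometry TensorProduct

namespace Groth.Agent.Helper9.QFlatBC

/-- base change of a nonzero finite module along a local homomorphism is nonzero -/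
theorem nontrivial_tensor_of_isLocalHom {A B N : Type*} [CommRing A] [CommRing B]
    [IsLocalRing A] [IsLocalRing B] [Algebra A B] [IsLocalHom (algebraMap A B)]
    [AddCommGroup N] [Module A N] [Module.Finite A N] [Nontrivial N] :
    Nontrivial (B ⊗[A] N) := by
  by_contra h
  rw [not_nontrivial_iff_subsingleton] at h
  have h1 : Subsingleton (IsLocalRing.ResidueField B ⊗[A] N) :=
    (AlgebraTensorModule.cancelBaseChange A B (IsLocalRing.ResidueField B)
      (IsLocalRing.ResidueField B) N).symm.toEquiv.subsingleton
  have h3 : Nontrivial (IsLocalRing.ResidueField A ⊗[A] N) := by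
    rw [← not_subsingleton_iff_nontrivial, IsLocalRing.subsingleton_tensorProduct]
    exact not_subsingleton N
  have h4 : Nontrivial (IsLocalRing.ResidueField B ⊗[IsLocalRing.ResidueField A]
      (IsLocalRing.ResidueField A ⊗[A] N)) := inferInstance
  have h5 : Subsingleton (IsLocalRing.ResidueField B ⊗[IsLocalRing.ResidueField A]
      (IsLocalRing.ResidueField A ⊗[A] N)) :=
    (AlgebraTensorModule.cancelBaseChange A (IsLocalRing.ResidueField A)
      (IsLocalRing.ResidueField B) (IsLocalRing.ResidueField B) N).toEquiv.subsingleton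
  exact not_subsingleton _ h5


/-- quasi-flat morphisms are stable under base change -/
theorem isQuasiFlat_of_isPullback {X S X' S' : Scheme.{u}} {f : X ⟶ S} {f' : X' ⟶ S'}
    {g' : X' ⟶ X} {g : S' ⟶ S} (hc : IsPullback g' f' f g) (hf : FDesc.IsQuasiFlat f) :
    FDesc.IsQuasiFlat f' := by
  obtain ⟨M, ⟨hqc, hft⟩, hflat, hnt⟩ := hf
  haveI : M.IsQuasicoherent := hqc
  haveI : SheafOfModules.IsFiniteType (R := X.ringCatSheaf) M := hft
  refine ⟨(Scheme.Modules.pullback g').obj M,
    ⟨Groth.Agent.Helper13.Pullback.isQuasicoherent_pullback g' M,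
      Groth.Agent.Helper13.FittSheaf.isFiniteType_pullback g' M⟩,
    fun x' => Groth.Agent.Helper12.FlatModBC.isFlatOverAt_baseChange hc M x' (hflat (g' x')),
    fun x' => ?_⟩
  letI := (g'.stalkMap x').hom.toAlgebra
  obtain ⟨e⟩ := Groth.Agent.Helper13.Pullback.exists_stalk_pullback_equiv g' M x'
  haveI : Module.Finite (X.presheaf.stalk (g' x')) (M.presheaf.stalk (g' x')) :=
    Groth.Agent.Helper4.QuasiFlat.finite_stalk M hft (g' x')
  haveI : Nontrivial (M.presheaf.stalk (g' x')) := hnt (g' x')
  haveI : IsLocalHom (algebraMap (X.presheaf.stalk (g' x')) (X'.presheaf.stalk x')) :=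
    (inferInstance : IsLocalHom (g'.stalkMap x').hom)
  haveI := nontrivial_tensor_of_isLocalHom (A := X.presheaf.stalk (g' x'))
    (B := X'.presheaf.stalk x') (N := M.presheaf.stalk (g' x'))
  exact e.toEquiv.nontrivial

/-- a quasi-flat morphism locally of finite presentation is open -/
theorem isOpenMap_of_isQuasiFlat {X Y : Scheme.{u}} (f : X ⟶ Y) (hf : FDesc.IsQuasiFlat f)
    [LocallyOfFinitePresentation f] : IsOpenMap f :=
  isOpenMap_of_generalizingMap f
    (Groth.Agent.Helper4.QuasiFlat.generalizingMap_of_isQuasiFlat f hf)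

/-- a quasi-flat morphism locally of finite presentation is universally open -/
theorem universallyOpen_of_isQuasiFlat {X Y : Scheme.{u}} (f : X ⟶ Y) (hf : FDesc.IsQuasiFlat f)
    [LocallyOfFinitePresentation f] : UniversallyOpen f := by
  refine ⟨fun X' Y' i₁ i₂ f' hsq => ?_⟩
  haveI : LocallyOfFinitePresentation f' :=
    MorphismProperty.of_isPullback (P := @LocallyOfFinitePresentation) hsq.flip inferInstance
  exact isOpenMap_of_isQuasiFlat f' (isQuasiFlat_of_isPullback hsq.flip hf)

end Groth.Agent.Helper9.QFlatBC
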