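import Mathlib
import Groth.Prelude.Def_FDesc
import Groth.Agent.Lib.Helper9.QFlatBC
import Groth.Agent.Lib.Helper4.QuasiFlat
import Groth.Agent.Lib.Helper19.LimMax

/-!
# Irreducible components dominating irreducible components under quasi-flat base change (helper9)

* `isMax_of_closure_mem`, `closure_mem_of_isMax`: `closure {x}` is an irreducible component iff `x` has
  no proper generization;
* `exists_generization_of_fiber`: lifting generizations inside a fibre along `X ×_Y Y' → Y'`;
* `main4633`.
-/

set_option autoImplicit false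
universe u
open CategoryTheory CategoryTheory.Limits TopologicalSpace AlgebraicGeometry Topology

namespace Groth.Agent.Helper9.IrrDom

lemma isMax_of_closure_mem {α : Type*} [TopologicalSpace α] [T0Space α] {x : α}
    (h : closure {x} ∈ irreducibleComponents α) : Groth.Agent.Helper19.LimMax.IsMax x := by
  intro z hz
  have h1 : closure {x} ⊆ closure {z} := specializes_iff_closure_subset.1 hz
  have h2 : IsIrreducible (closure {z}) := isIrreducible_singleton.closure
  have h3 : closure {z} = closure {x} := Set.Subset.antisymm (h.2 h2 h1) h1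
  exact (inseparable_iff_closure_eq.2 h3).eq

lemma closure_mem_of_isMax {α : Type*} [TopologicalSpace α] [QuasiSober α] [T0Space α] {x : α}
    (h : Groth.Agent.Helper19.LimMax.IsMax x) : closure {x} ∈ irreducibleComponents α := by
  refine ⟨isIrreducible_singleton.closure, fun S hS hxS => ?_⟩
  have hS' : IsIrreducible (closure S) := hS.closure
  obtain ⟨s, hs⟩ := QuasiSober.sober hS' isClosed_closure
  have hsx : s ⤳ x := by
    rw [specializes_iff_mem_closure, hs.def]
    exact subset_closure (hxS (subset_closure rfl))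
  have hsx' := h s hsx
  subst hsx'
  intro y hy
  have : y ∈ closure S := subset_closure hy
  rwa [← hs.def] at this

theorem exists_generization_of_fiber {X Y Y' S K : Scheme.{u}} (f : X ⟶ Y) (g : Y' ⟶ Y)
    (a : S ⟶ X) (d : K ⟶ Y) (c : S ⟶ K) (hcd : c ≫ d = a ≫ f) [Flat c] [IsPreimmersion d]
    (ξ' : ↥(pullback f g)) (hξ' : pullback.fst f g ξ' ∈ Set.range a) (η' : Y')
    (hη' : η' ⤳ pullback.snd f g ξ') (hη'd : g η' ∈ Set.range d) :
    ∃ ζ' : ↥(pullback f g), ζ' ⤳ ξ' ∧ pullback.snd f g ζ' = η' := by
  have hw : (pullback.fst c (pullback.fst d g) ≫ a) ≫ f =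
      (pullback.snd c (pullback.fst d g) ≫ pullback.snd d g) ≫ g := by
    calc (pullback.fst c (pullback.fst d g) ≫ a) ≫ f
        = pullback.fst c (pullback.fst d g) ≫ (c ≫ d) := by rw [Category.assoc, hcd]
      _ = (pullback.fst c (pullback.fst d g) ≫ c) ≫ d := (Category.assoc _ _ _).symm
      _ = (pullback.snd c (pullback.fst d g) ≫ pullback.fst d g) ≫ d := by
          rw [pullback.condition]
      _ = pullback.snd c (pullback.fst d g) ≫ (pullback.fst d g ≫ d) := Category.assoc _ _ _
      _ = pullback.snd c (pullback.fst d g) ≫ (pullback.snd d g ≫ g) := by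
          rw [pullback.condition]
      _ = _ := (Category.assoc _ _ _).symm
  let φ : pullback c (pullback.fst d g) ⟶ pullback f g := pullback.lift _ _ hw
  have hφ₁ : φ ≫ pullback.fst f g = pullback.fst c (pullback.fst d g) ≫ a :=
    pullback.lift_fst _ _ _
  have hφ₂ : φ ≫ pullback.snd f g = pullback.snd c (pullback.fst d g) ≫ pullback.snd d g :=
    pullback.lift_snd _ _ _
  have hA : IsPullback (pullback.snd c (pullback.fst d g)) (pullback.fst c (pullback.fst d g))
      (pullback.fst d g) c := (IsPullback.of_hasPullback c (pullback.fst d g)).flip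
  have hB : IsPullback (pullback.snd d g) (pullback.fst d g) g d :=
    (IsPullback.of_hasPullback d g).flip
  have hR : IsPullback (pullback.snd f g) (pullback.fst f g) g f :=
    (IsPullback.of_hasPullback f g).flip
  have hpb : IsPullback φ (pullback.fst c (pullback.fst d g)) (pullback.fst f g) a := by
    refine IsPullback.of_right ?_ hφ₁ hR
    rw [hφ₂, ← hcd]
    exact hA.paste_horiz hB
  obtain ⟨s₀, hs₀⟩ := hξ'
  obtain ⟨z, hz₁, hz₂⟩ := Scheme.Pullback.exists_preimage_pullback (f := pullback.fst f g)
    (g := a) ξ' s₀ hs₀.symm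
  have ht : φ (hpb.isoPullback.inv z) = ξ' := by
    rw [← Scheme.Hom.comp_apply, hpb.isoPullback_inv_fst]
    exact hz₁
  have hηr : η' ∈ Set.range (pullback.snd d g) := by
    rw [Scheme.Pullback.range_snd]
    exact hη'd
  obtain ⟨ηF, hηF⟩ := hηr
  have hqt : (pullback.snd d g) (pullback.snd c (pullback.fst d g) (hpb.isoPullback.inv z)) =
      pullback.snd f g ξ' := by
    have h := congrArg (fun (h : pullback c (pullback.fst d g) ⟶ Y') =>
      (h : ↥(pullback c (pullback.fst d g)) → ↥Y') (hpb.isoPullback.inv z)) hφ₂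
    simp only [Scheme.Hom.comp_apply] at h
    rw [← h, ht]
  have hspec : ηF ⤳ pullback.snd c (pullback.fst d g) (hpb.isoPullback.inv z) := by
    rw [← (pullback.snd d g).isEmbedding.isInducing.specializes_iff, hηF, hqt]
    exact hη'
  haveI : Flat (pullback.snd c (pullback.fst d g)) := inferInstance
  obtain ⟨t₃, ht₃, hqt₃⟩ :=
    Flat.generalizingMap (f := pullback.snd c (pullback.fst d g)) hspec
  refine ⟨φ t₃, ?_, ?_⟩
  · rw [← ht]
    exact ht₃.map φ.continuous
  · have h := congrArg (fun (h : pullback c (pullback.fst d g) ⟶ Y') =>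
      (h : ↥(pullback c (pullback.fst d g)) → ↥Y') t₃) hφ₂
    simp only [Scheme.Hom.comp_apply] at h
    rw [h, hqt₃, hηF]

theorem main4633 {X Y Y' : Scheme.{u}} (f : X ⟶ Y) (g : Y' ⟶ Y)
    (hf : ∀ Z ∈ irreducibleComponents ↥X, closure (⇑f '' Z) ∈ irreducibleComponents ↥Y)
    (hg : FDesc.IsQuasiFlat g) (Z' : Set ↥(pullback f g))
    (hZ' : Z' ∈ irreducibleComponents ↥(pullback f g)) :
    closure (⇑(pullback.snd f g) '' Z') ∈ irreducibleComponents ↥Y' := by
  have hirr : IsIrreducible Z' := hZ'.1
  have hcl : IsClosed Z' := isClosed_of_mem_irreducibleComponents Z' hZ'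
  obtain ⟨ξ', hξ'⟩ := QuasiSober.sober hirr hcl
  have hξ'max : Groth.Agent.Helper19.LimMax.IsMax ξ' := isMax_of_closure_mem (by rw [hξ'.def]; exact hZ')
  have himg : closure (⇑(pullback.snd f g) '' Z') = closure {pullback.snd f g ξ'} :=
    (hξ'.image (pullback.snd f g).continuous).def.symm
  rw [himg]
  apply closure_mem_of_isMax
  have hp₁ : GeneralizingMap (pullback.fst f g) :=
    Groth.Agent.Helper4.QuasiFlat.generalizingMap_of_isQuasiFlat (pullback.fst f g)
      (Groth.Agent.Helper9.QFlatBC.isQuasiFlat_of_isPullback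
        (IsPullback.of_hasPullback f g).flip hg)
  have hξmax : Groth.Agent.Helper19.LimMax.IsMax (pullback.fst f g ξ') := by
    intro z hz
    obtain ⟨z', hz', rfl⟩ := hp₁ hz
    rw [hξ'max z' hz']
  have hymax : Groth.Agent.Helper19.LimMax.IsMax (f (pullback.fst f g ξ')) := by
    have h1 := hf (closure {pullback.fst f g ξ'}) (closure_mem_of_isMax hξmax)
    have h2 : closure (⇑f '' closure {pullback.fst f g ξ'}) =
        closure {f (pullback.fst f g ξ')} :=
      (isGenericPoint_closure.image f.continuous).def.symm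
    rw [h2] at h1
    exact isMax_of_closure_mem h1
  intro η' hη'
  have hcond : g (pullback.snd f g ξ') = f (pullback.fst f g ξ') := by
    rw [← Scheme.Hom.comp_apply, ← Scheme.Hom.comp_apply, pullback.condition]
  have hgη : g η' = f (pullback.fst f g ξ') := by
    have h1 : g η' ⤳ g (pullback.snd f g ξ') := hη'.map g.continuous
    rw [hcond] at h1
    exact hymax _ h1
  haveI : Flat (Spec.map (f.residueFieldMap (pullback.fst f g ξ'))) := by
    rw [HasRingHomProperty.Spec_iff (P := @Flat)]
    letI := (f.residueFieldMap (pullback.fst f g ξ')).hom.toAlgebra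
    show Module.Flat _ _
    infer_instance
  obtain ⟨ζ', hζ', hζ'η⟩ := exists_generization_of_fiber f g
    (X.fromSpecResidueField (pullback.fst f g ξ'))
    (Y.fromSpecResidueField (f (pullback.fst f g ξ')))
    (Spec.map (f.residueFieldMap (pullback.fst f g ξ')))
    (Scheme.Hom.SpecMap_residueFieldMap_fromSpecResidueField f (pullback.fst f g ξ')) ξ'
    (by rw [Scheme.range_fromSpecResidueField]; rfl) η' hη'
    (by rw [Scheme.range_fromSpecResidueField]; exact hgη)
  rw [← hζ'η, hξ'max ζ' hζ']

end Groth.Agent.Helper9.IrrDom
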