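import Mathlib
import Groth.Prelude.Def_CAlgX
import Groth.Agent.Lib.Helper9.JacCrit

/-!
# Jacobian criterion for adic formal smoothness of quotients, part 2:
left inverses modulo `J + I^k` for all large `k` give formal smoothness of `B/J`.
-/

set_option autoImplicit false
universe u

namespace Groth.Agent.Helper9.JacCrit

open TensorProduct KaehlerDifferential

variable {A B : Type u} [CommRing A] [CommRing B] [Algebra A B]

theorem fs_of_condQ (I J : Ideal B) (hB : CAlgX.IsAdicFormallySmooth A B I) (n₀ : ℕ)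
    (hc : ∀ k, n₀ ≤ k → CondQ A J (J ⊔ I ^ k)) :
    CAlgX.IsAdicFormallySmooth A (B ⧸ J) (I.map (Ideal.Quotient.mk J)) := by
  intro T _ _ K hK ψ hψ
  obtain ⟨k₀, hk₀⟩ := hψ
  obtain ⟨k, hk0, hkn⟩ : ∃ k, k₀ ≤ k ∧ n₀ ≤ k := ⟨max k₀ n₀, le_max_left _ _, le_max_right _ _⟩
  have hk : ∀ x ∈ (I.map (Ideal.Quotient.mk J)) ^ k, ψ x = 0 :=
    fun x hx => hk₀ x (Ideal.pow_le_pow_right hk0 hx)
  let ψ' : B →ₐ[A] T ⧸ K := ψ.comp (Ideal.Quotient.mkₐ A J)
  have hψ' : ∀ x ∈ I ^ k, ψ' x = 0 := fun x hx => hk _ (by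
    rw [← Ideal.map_pow]; exact Ideal.mem_map_of_mem _ hx)
  obtain ⟨β, hβ⟩ := hB T K hK ψ' ⟨k, hψ'⟩
  have hβmk : ∀ b, Ideal.Quotient.mk K (β b) = ψ (Ideal.Quotient.mk J b) :=
    fun b => AlgHom.congr_fun hβ b
  have hβJ : ∀ x ∈ J, β x ∈ K := fun x hx => by
    rw [← Ideal.Quotient.eq_zero_iff_mem, hβmk, Ideal.Quotient.eq_zero_iff_mem.mpr hx, map_zero]
  have hβI : ∀ x ∈ I ^ k, β x ∈ K := fun x hx => by
    rw [← Ideal.Quotient.eq_zero_iff_mem, hβmk]; exact hψ' x hx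
  have hβQ : ∀ x ∈ J ⊔ I ^ k, β x ∈ K := by
    intro x hx
    obtain ⟨a, ha, b, hb, rfl⟩ := Submodule.mem_sup.mp hx
    rw [map_add]; exact add_mem (hβJ a ha) (hβI b hb)
  have hKK : ∀ a ∈ K, ∀ b ∈ K, a * b = 0 := by
    intro a ha b hb
    have : a * b ∈ K ^ 2 := by rw [sq]; exact Ideal.mul_mem_mul ha hb
    rwa [hK] at this
  letI algBT : Algebra B T := β.toRingHom.toAlgebra
  haveI : IsScalarTower A B T := IsScalarTower.of_algebraMap_eq (fun a => (β.commutes a).symm)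
  have hsmul : ∀ (b : B) (t : T), b • t = β b * t := fun b t => Algebra.smul_def b t
  obtain ⟨ρ, hρ⟩ := hc k hkn
  let θ₀ : J →ₗ[B] K :=
    { toFun := fun x => ⟨β x, hβJ x x.2⟩
      map_add' := fun x y => Subtype.ext (by
        change β ((x : B) + (y : B)) = β x + β y
        exact map_add β _ _)
      map_smul' := fun b x => Subtype.ext (by
        change β (b * (x : B)) = b • β (x : B)
        rw [map_mul, hsmul]) }
  have hθ₀ : ∀ x : J, ((θ₀ x : K) : T) = β x := fun x => rfl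
  have hkill : ∀ q ∈ J ⊔ I ^ k, ∀ y : K, q • y = 0 := by
    intro q hq y
    apply Subtype.ext
    change q • (y : T) = 0
    rw [hsmul]
    exact hKK _ (hβQ q hq) _ y.2
  have h1 : (J • ⊤ : Submodule B J) ≤ LinearMap.ker θ₀ := by
    rw [Submodule.smul_le]
    intro r hr n _
    rw [LinearMap.mem_ker, map_smul, hkill r (Ideal.mem_sup_left hr)]
  let θ₁ : J.Cotangent →ₗ[B] K := Submodule.liftQ _ θ₀ h1
  have h2 : ((J ⊔ I ^ k) • ⊤ : Submodule B J.Cotangent) ≤ LinearMap.ker θ₁ := by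
    rw [Submodule.smul_le]
    intro r hr n _
    rw [LinearMap.mem_ker, map_smul, hkill r hr]
  let θ : (J.Cotangent ⧸ ((J ⊔ I ^ k) • ⊤ : Submodule B J.Cotangent)) →ₗ[B] K :=
    Submodule.liftQ _ θ₁ h2
  have hθ : ∀ x : J, θ (Submodule.Quotient.mk (J.toCotangent x)) = θ₀ x := fun x => rfl
  let D' : Derivation A B K := -((θ ∘ₗ ρ).compDer (D A B))
  have hD' : ∀ x : J, ((D' (x : B) : K) : T) = - β x := by
    intro x
    change ((-(θ (ρ (D A B (x : B)))) : K) : T) = - β x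
    rw [hρ x, hθ x]
    rfl
  let β' : B →ₐ[A] T := liftOfDerivationToSquareZero K hK D'
  have hβ' : ∀ b, β' b = D' b + β b := fun b => rfl
  have hβ'J : ∀ x ∈ J, β' x = 0 := by
    intro x hx
    rw [hβ', hD' ⟨x, hx⟩]
    exact neg_add_cancel _
  refine ⟨Ideal.Quotient.liftₐ J β' hβ'J, ?_⟩
  ext c
  obtain ⟨b, rfl⟩ := Ideal.Quotient.mk_surjective c
  change Ideal.Quotient.mk K (β' b) = ψ (Ideal.Quotient.mk J b)
  rw [hβ', map_add, Ideal.Quotient.eq_zero_iff_mem.mpr (D' b).2, zero_add, hβmk]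

end Groth.Agent.Helper9.JacCrit
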