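import Mathlib
import Groth.Prelude.Def_CAlgX
import Groth.Agent.Lib.Helper9.JacCrit

/-!
# Jacobian criterion for adic formal smoothness of quotients, part 3:
formal smoothness of `B/J` gives left inverses modulo `J + I^n` (Noetherian case, Artin–Rees).
-/

set_option autoImplicit false
universe u

namespace Groth.Agent.Helper9.JacCrit

open TensorProduct KaehlerDifferential

variable {A B : Type u} [CommRing A] [CommRing B] [Algebra A B]

theorem toCotangent_mem_smul_top (J 𝔞 : Ideal B) {b : B} (hb : b ∈ 𝔞 * J) (hbJ : b ∈ J) :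
    J.toCotangent ⟨b, hbJ⟩ ∈ (𝔞 • ⊤ : Submodule B J.Cotangent) := by
  have h1 : (𝔞 • ⊤ : Submodule B J).map J.subtype = 𝔞 * J := by
    rw [Submodule.map_smul'', Submodule.map_top, Submodule.range_subtype]
    rfl
  rw [← h1] at hb
  obtain ⟨y, hy, hyb⟩ := hb
  have : y = ⟨b, hbJ⟩ := Subtype.ext hyb
  rw [← this]
  exact mem_smul_top_of_mem J.toCotangent 𝔞 hy

theorem condQ_of_fs [IsNoetherianRing B] (I J : Ideal B)
    (h : CAlgX.IsAdicFormallySmooth A (B ⧸ J) (I.map (Ideal.Quotient.mk J))) (n : ℕ) :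
    CondQ A J (J ⊔ I ^ n) := by
  obtain ⟨c, hc⟩ := Ideal.exists_pow_inf_eq_pow_smul I (J : Submodule B B)
  obtain ⟨k, hkn, hkc⟩ : ∃ k, k = n + c ∧ c ≤ k := ⟨n + c, rfl, Nat.le_add_left _ _⟩
  have hAR : ∀ b, b ∈ I ^ k → b ∈ J → b ∈ I ^ n * J := by
    intro b hbI hbJ
    have h1 : b ∈ (I ^ k • ⊤ ⊓ (J : Submodule B B) : Submodule B B) := by
      refine ⟨?_, hbJ⟩
      rw [smul_eq_mul, Ideal.mul_top]
      exact hbI
    rw [hc k hkc, hkn, Nat.add_sub_cancel] at h1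
    have h2 : (I ^ n • (I ^ c • ⊤ ⊓ (J : Submodule B B)) : Submodule B B) ≤ I ^ n * J :=
      Submodule.smul_mono le_rfl inf_le_right
    exact h2 h1
  let 𝔗 : Ideal B := J ^ 2 ⊔ I ^ k
  let K : Ideal (B ⧸ 𝔗) := (J ⊔ I ^ k).map (Ideal.Quotient.mk 𝔗)
  have hK : K ^ 2 = ⊥ := by
    rw [← Ideal.map_pow, eq_bot_iff, Ideal.map_le_iff_le_comap]
    intro x hx
    rw [Ideal.mem_comap, Ideal.mem_bot, Ideal.Quotient.eq_zero_iff_mem]
    have : (J ⊔ I ^ k) ^ 2 ≤ 𝔗 := by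
      rw [sq, Ideal.sup_mul, Ideal.mul_sup, Ideal.mul_sup, ← sq]
      refine sup_le (sup_le le_sup_left (le_sup_of_le_right Ideal.mul_le_right))
        (sup_le (le_sup_of_le_right Ideal.mul_le_left) (le_sup_of_le_right Ideal.mul_le_right))
    exact this hx
  have hmkK : ∀ b ∈ J ⊔ I ^ k, Ideal.Quotient.mk K (Ideal.Quotient.mk 𝔗 b) = 0 := fun b hb =>
    Ideal.Quotient.eq_zero_iff_mem.mpr (Ideal.mem_map_of_mem _ hb)
  let ψ : B ⧸ J →ₐ[A] (B ⧸ 𝔗) ⧸ K :=
    Ideal.Quotient.liftₐ J ((Ideal.Quotient.mkₐ A K).comp (Ideal.Quotient.mkₐ A 𝔗))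
      (fun x hx => hmkK x (Ideal.mem_sup_left hx))
  have hψ : ∀ b, ψ (Ideal.Quotient.mk J b) = Ideal.Quotient.mk K (Ideal.Quotient.mk 𝔗 b) :=
    fun b => rfl
  have hψk : ∀ x ∈ (I.map (Ideal.Quotient.mk J)) ^ k, ψ x = 0 := by
    have : (I.map (Ideal.Quotient.mk J)) ^ k ≤ RingHom.ker ψ.toRingHom := by
      rw [← Ideal.map_pow, Ideal.map_le_iff_le_comap]
      intro b hb
      rw [Ideal.mem_comap, RingHom.mem_ker]
      exact hmkK b (Ideal.mem_sup_right hb)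
    exact fun x hx => this hx
  obtain ⟨χ, hχ⟩ := h (B ⧸ 𝔗) K hK ψ ⟨k, hψk⟩
  let f : B →ₐ[A] B ⧸ 𝔗 := χ.comp (Ideal.Quotient.mkₐ A J)
  have hf : ∀ b, f b = χ (Ideal.Quotient.mk J b) := fun b => rfl
  have e : (Ideal.Quotient.mkₐ A K).comp f = IsScalarTower.toAlgHom A B ((B ⧸ 𝔗) ⧸ K) := by
    ext b
    change Ideal.Quotient.mk K (χ (Ideal.Quotient.mk J b)) = _
    have := AlgHom.congr_fun hχ (Ideal.Quotient.mk J b)
    change Ideal.Quotient.mk K (χ (Ideal.Quotient.mk J b)) = _ at this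
    rw [this, hψ]
    rfl
  let D₀ : Derivation A B K := derivationToSquareZeroOfLift K hK f e
  have hD₀ : ∀ b, ((D₀ b : K) : B ⧸ 𝔗) = f b - Ideal.Quotient.mk 𝔗 b := fun b => rfl
  -- the surjection `J → K`
  let σ : J →ₗ[B] K :=
    { toFun := fun x => ⟨Ideal.Quotient.mk 𝔗 (x : B),
        Ideal.mem_map_of_mem _ (Ideal.mem_sup_left x.2)⟩
      map_add' := fun x y => Subtype.ext (by
        change Ideal.Quotient.mk 𝔗 ((x : B) + (y : B)) = _
        exact map_add _ _ _)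
      map_smul' := fun b x => Subtype.ext (by
        change Ideal.Quotient.mk 𝔗 (b * (x : B)) = b • Ideal.Quotient.mk 𝔗 (x : B)
        rw [map_mul, Algebra.smul_def]; rfl) }
  have hσ : Function.Surjective σ := by
    rintro ⟨y, hy⟩
    obtain ⟨b, hb, rfl⟩ := (Ideal.mem_map_iff_of_surjective _ Ideal.Quotient.mk_surjective).mp hy
    obtain ⟨j, hj, i, hi, rfl⟩ := Submodule.mem_sup.mp hb
    refine ⟨⟨j, hj⟩, Subtype.ext ?_⟩
    change Ideal.Quotient.mk 𝔗 j = Ideal.Quotient.mk 𝔗 (j + i)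
    rw [map_add, Ideal.Quotient.eq_zero_iff_mem.mpr (Ideal.mem_sup_right hi : i ∈ 𝔗), add_zero]
  let τ : J →ₗ[B] (J.Cotangent ⧸ ((J ⊔ I ^ n) • ⊤ : Submodule B J.Cotangent)) :=
    (Submodule.mkQ _) ∘ₗ J.toCotangent
  have hle : LinearMap.ker σ ≤ LinearMap.ker τ := by
    intro x hx
    rw [LinearMap.mem_ker] at hx ⊢
    have hx' : (x : B) ∈ 𝔗 := by
      have := congrArg Subtype.val hx
      exact Ideal.Quotient.eq_zero_iff_mem.mp this
    obtain ⟨a, ha, b, hb, hab⟩ := Submodule.mem_sup.mp hx'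
    have haJ : a ∈ J := Ideal.pow_le_self two_ne_zero ha
    have hbJ : b ∈ J := by
      have : b = (x : B) - a := by rw [← hab]; ring
      rw [this]; exact sub_mem x.2 haJ
    have hx2 : x = ⟨a, haJ⟩ + ⟨b, hbJ⟩ := Subtype.ext hab.symm
    change Submodule.Quotient.mk (J.toCotangent x) = 0
    rw [Submodule.Quotient.mk_eq_zero, hx2, map_add,
      (Ideal.toCotangent_eq_zero J ⟨a, haJ⟩).mpr ha, zero_add]
    exact Submodule.smul_mono_left le_sup_right
      (toCotangent_mem_smul_top J (I ^ n) (hAR b hb hbJ) hbJ)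
  let φ : K →ₗ[B] (J.Cotangent ⧸ ((J ⊔ I ^ n) • ⊤ : Submodule B J.Cotangent)) :=
    (Submodule.liftQ _ τ hle) ∘ₗ (σ.quotKerEquivOfSurjective hσ).symm.toLinearMap
  have hφ : ∀ x : J, φ (σ x) = τ x := by
    intro x
    have : (σ.quotKerEquivOfSurjective hσ).symm (σ x) = Submodule.Quotient.mk x := by
      rw [LinearEquiv.symm_apply_eq]
      rfl
    change Submodule.liftQ _ τ hle ((σ.quotKerEquivOfSurjective hσ).symm (σ x)) = τ x
    rw [this]
    rfl
  refine ⟨-(φ ∘ₗ D₀.liftKaehlerDifferential), fun x => ?_⟩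
  rw [LinearMap.neg_apply, LinearMap.comp_apply, Derivation.liftKaehlerDifferential_comp_D]
  have hD₀x : D₀ (x : B) = - σ x := by
    apply Subtype.ext
    rw [hD₀, hf, Ideal.Quotient.eq_zero_iff_mem.mpr x.2, map_zero, zero_sub]
    rfl
  rw [hD₀x, map_neg, neg_neg, hφ]
  rfl

end Groth.Agent.Helper9.JacCrit
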