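import Mathlib
import Groth.Prelude.Def_CAlgX
import Groth.Agent.Lib.Helper9.JacCrit
import Groth.Agent.Lib.Helper9.JacCrit2
import Groth.Agent.Lib.Helper9.JacCrit3
import Groth.Agent.Lib.Helper9.JacCrit4
import Groth.Agent.S4537
import Groth.Agent.S4544

/-!
# Jacobian criterion for adic formal smoothness of quotients (EGA 0_IV 22.6.1/22.6.2): assembly
-/

set_option autoImplicit false
universe u

namespace Groth.Agent.Helper9.JacCrit

open TensorProduct KaehlerDifferential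

variable {A B : Type u} [CommRing A] [CommRing B] [Algebra A B]

theorem sup_pow_le_sup_pow (I J : Ideal B) (k : ℕ) : (J ⊔ I) ^ k ≤ J ⊔ I ^ k := by
  have h1 : ((J ⊔ I) ^ k).map (Ideal.Quotient.mk J) ≤ (I ^ k).map (Ideal.Quotient.mk J) := by
    rw [Ideal.map_pow, Ideal.map_sup, Ideal.map_quotient_self, bot_sup_eq, Ideal.map_pow]
  have h2 := Ideal.map_le_iff_le_comap.mp h1
  rw [Ideal.comap_map_of_surjective _ Ideal.Quotient.mk_surjective, ← RingHom.ker_eq_comap_bot,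
    Ideal.mk_ker] at h2
  exact h2.trans (le_of_eq (sup_comm _ _))

/-- projectivity of `Ω/𝔄Ω` for open `𝔄` (from S4544). -/
theorem projective_of_fs (I : Ideal B) (hB : CAlgX.IsAdicFormallySmooth A B I) (𝔄 : Ideal B)
    (h𝔄 : ∃ n : ℕ, I ^ n ≤ 𝔄) : Module.Projective (B ⧸ 𝔄) ((B ⧸ 𝔄) ⊗[B] Ω[B⁄A]) := by
  refine Groth.Agent.S4544.result (⊥ : Ideal A) I ⟨1, ?_⟩ ((Groth.Agent.S4537.result I).mp hB) 𝔄 h𝔄
  rw [pow_one, Ideal.map_bot]
  exact bot_le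

theorem main [IsNoetherianRing B] (I J : Ideal B) (hB : CAlgX.IsAdicFormallySmooth A B I)
    (Q : Ideal (B ⧸ J)) (hQ : ∃ n : ℕ, (I.map (Ideal.Quotient.mk J)) ^ n ≤ Q)
    (hQ' : ∃ m : ℕ, Q ^ m ≤ I.map (Ideal.Quotient.mk J)) :
    CAlgX.IsAdicFormallySmooth A (B ⧸ J) (I.map (Ideal.Quotient.mk J)) ↔
      ∃ g : ((B ⧸ J) ⧸ Q) ⊗[B] ((B ⧸ J) ⊗[B] Ω[B⁄A]) →ₗ[(B ⧸ J) ⧸ Q]
          ((B ⧸ J) ⧸ Q) ⊗[B] (RingHom.ker (algebraMap B (B ⧸ J))).Cotangent,
        g ∘ₗ LinearMap.baseChange ((B ⧸ J) ⧸ Q) (KaehlerDifferential.kerCotangentToTensor A B (B ⧸ J)) =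
          LinearMap.id := by
  have hsurj : Function.Surjective (Algebra.ofId B ((B ⧸ J) ⧸ Q)) := by
    intro y
    obtain ⟨c, rfl⟩ := Ideal.Quotient.mk_surjective y
    obtain ⟨b, rfl⟩ := Ideal.Quotient.mk_surjective c
    exact ⟨b, rfl⟩
  rw [exists_leftInverse_iff_condQ hsurj]
  have hker : RingHom.ker (algebraMap B (B ⧸ J)) = J := Ideal.mk_ker
  rw [CondQ.congr_left hker]
  have hmem : ∀ b, b ∈ RingHom.ker (Algebra.ofId B ((B ⧸ J) ⧸ Q)) ↔ Ideal.Quotient.mk J b ∈ Q :=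
    fun b => by
      rw [RingHom.mem_ker]
      exact Ideal.Quotient.eq_zero_iff_mem
  generalize RingHom.ker (Algebra.ofId B ((B ⧸ J) ⧸ Q)) = 𝔔 at hmem ⊢
  obtain ⟨n, hn⟩ := hQ
  obtain ⟨m, hm⟩ := hQ'
  have hJ𝔔 : J ≤ 𝔔 := fun b hb => (hmem b).mpr (by
    rw [Ideal.Quotient.eq_zero_iff_mem.mpr hb]; exact Q.zero_mem)
  have hIn : ∀ k, n ≤ k → J ⊔ I ^ k ≤ 𝔔 := by
    intro k hk
    refine sup_le hJ𝔔 fun b hb => (hmem b).mpr (hn ?_)
    have : Ideal.Quotient.mk J b ∈ (I.map (Ideal.Quotient.mk J)) ^ k := by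
      rw [← Ideal.map_pow]; exact Ideal.mem_map_of_mem _ hb
    exact Ideal.pow_le_pow_right hk this
  have h𝔔m : 𝔔 ^ m ≤ J ⊔ I := by
    have h1 : (𝔔 ^ m).map (Ideal.Quotient.mk J) ≤ I.map (Ideal.Quotient.mk J) := by
      rw [Ideal.map_pow]
      refine le_trans (Ideal.pow_right_mono ?_ m) hm
      rw [Ideal.map_le_iff_le_comap]
      intro b hb
      exact (hmem b).mp hb
    have h2 := Ideal.map_le_iff_le_comap.mp h1
    rw [Ideal.comap_map_of_surjective _ Ideal.Quotient.mk_surjective, ← RingHom.ker_eq_comap_bot,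
      Ideal.mk_ker] at h2
    exact h2.trans (le_of_eq (sup_comm _ _))
  have h𝔔mk : ∀ k, 𝔔 ^ (m * k) ≤ J ⊔ I ^ k := by
    intro k
    rw [pow_mul]
    exact le_trans (Ideal.pow_right_mono h𝔔m k) (sup_pow_le_sup_pow I J k)
  constructor
  · intro h
    exact (condQ_of_fs I J h n).mono (hIn n le_rfl)
  · intro hc
    refine fs_of_condQ I J hB n fun k hk => ?_
    exact CondQ.up le_sup_left (hIn k hk) (m * k) (h𝔔mk k)
      (projective_of_fs I hB _ ⟨k, le_sup_right⟩) hc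

end Groth.Agent.Helper9.JacCrit
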