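import Mathlib
import Groth.Prelude.Def_KZero2

/-!
# Eilenberg swindle in `K₀` of a pretriangulated category
-/

set_option autoImplicit false
set_option linter.unusedSectionVars false
set_option linter.style.haveILetI false

universe u v

open CategoryTheory Limits Pretriangulated ZeroObject

namespace Groth.Agent.Helper9.K0Swindle

variable {C : Type u} [Category.{v} C] [Preadditive C] [HasZeroObject C]
  [HasShift C ℤ] [∀ n : ℤ, (shiftFunctor C n).Additive] [Pretriangulated C]

open KZero

lemma cl_triangle (T : Triangle C) (hT : T ∈ distTriang C) :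
    clTri T.obj₂ = clTri T.obj₁ + clTri T.obj₃ := by
  have h : (FreeAbelianGroup.of (⟨T.obj₂, trivial⟩ : Subtype (⊤ : ObjectProperty C)) -
      FreeAbelianGroup.of ⟨T.obj₁, trivial⟩ - FreeAbelianGroup.of ⟨T.obj₃, trivial⟩) ∈
      relTr (⊤ : ObjectProperty C) :=
    AddSubgroup.subset_closure ⟨T, trivial, trivial, trivial, hT, rfl⟩
  have h2 := (QuotientAddGroup.eq_zero_iff _).2 h
  rw [QuotientAddGroup.mk_sub, QuotientAddGroup.mk_sub, sub_sub, sub_eq_zero] at h2
  exact h2

lemma cl_zero : clTri (0 : C) = 0 := by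
  have h := cl_triangle _ (contractible_distinguished (0 : C))
  change clTri (0 : C) = clTri (0 : C) + clTri (0 : C) at h
  have : clTri (0 : C) + 0 = clTri (0 : C) + clTri (0 : C) := by rw [add_zero]; exact h
  exact (add_left_cancel this).symm

lemma cl_iso {X Y : C} (e : X ≅ Y) : clTri X = clTri Y := by
  have hT : Triangle.mk e.hom (0 : Y ⟶ (0 : C)) 0 ∈ distTriang C := by
    refine isomorphic_distinguished _ (contractible_distinguished X) _ ?_
    exact Triangle.isoMk (Triangle.mk e.hom (0 : Y ⟶ (0 : C)) 0) (contractibleTriangle X)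
      (Iso.refl X) e.symm (Iso.refl (0 : C))
      (by
        change e.hom ≫ e.inv = 𝟙 X ≫ 𝟙 X
        rw [e.hom_inv_id, Category.comp_id])
      (by
        change (0 : Y ⟶ (0 : C)) ≫ 𝟙 _ = e.inv ≫ 0
        rw [Limits.comp_zero, Limits.zero_comp])
      (by
        change (0 : (0 : C) ⟶ _) ≫ (shiftFunctor C (1 : ℤ)).map (𝟙 X) = 𝟙 _ ≫ 0
        rw [Limits.comp_zero, Limits.zero_comp])
  have h := cl_triangle _ hT
  change clTri Y = clTri X + clTri (0 : C) at h
  rw [cl_zero, add_zero] at h
  exact h.symm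

lemma cl_biprod (X Y : C) : clTri (X ⊞ Y) = clTri X + clTri Y :=
  cl_triangle _ (binaryBiproductTriangle_distinguished X Y)

lemma cl_shift_one (X : C) : clTri ((shiftFunctor C (1 : ℤ)).obj X) = -clTri X := by
  have h := cl_triangle _ (rot_of_distTriang _ (contractible_distinguished X))
  change clTri (0 : C) = clTri X + clTri ((shiftFunctor C (1 : ℤ)).obj X) at h
  rw [cl_zero] at h
  exact (neg_eq_of_add_eq_zero_right h.symm).symm

lemma cl_shift_succ (X : C) (m : ℤ) :
    clTri ((shiftFunctor C (m + 1)).obj X) = -clTri ((shiftFunctor C m).obj X) := by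
  rw [← cl_shift_one]
  exact cl_iso ((shiftFunctorAdd' C m 1 (m + 1) rfl).app X)

lemma cl_shift_add_two (X : C) (m : ℤ) :
    clTri ((shiftFunctor C (m + 2)).obj X) = clTri ((shiftFunctor C m).obj X) := by
  have h : m + 2 = (m + 1) + 1 := by ring
  rw [h, cl_shift_succ, cl_shift_succ, neg_neg]

lemma cl_shift_congr (X : C) {a b : ℤ} (h : a = b) :
    clTri ((shiftFunctor C a).obj X) = clTri ((shiftFunctor C b).obj X) := by
  subst h; rfl

lemma cl_shift_two_mul (X : C) (n : ℤ) :
    clTri ((shiftFunctor C (2 * n)).obj X) = clTri X := by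
  induction n using Int.induction_on with
  | zero => exact cl_iso ((shiftFunctorZero' C (2 * 0) (by ring)).app X)
  | succ k ih =>
    rw [cl_shift_congr X (show 2 * ((k : ℤ) + 1) = 2 * k + 2 by ring), cl_shift_add_two, ih]
  | pred k ih =>
    rw [← ih, ← cl_shift_add_two X (2 * (-(k : ℤ) - 1))]
    exact cl_shift_congr X (by ring)

end Groth.Agent.Helper9.K0Swindle
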