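import Mathlib
import Groth.Agent.Lib.Helper9.K0Swindle

/-!
# The swindle isomorphism `∐ X ≅ L ⊞ F(∐ X)`
-/

set_option autoImplicit false
set_option linter.unusedSectionVars false
set_option linter.style.haveILetI false

universe u v

open CategoryTheory Limits

namespace Groth.Agent.Helper9.K0Swindle

section Abstract

variable {C : Type u} [Category.{v} C] [Preadditive C] [HasBinaryBiproducts C]
  (F : C ⥤ C) (X : ℕ → C) [HasCoproduct X] [PreservesColimit (Discrete.functor X) F]
  (L : C) (e0 : X 0 ≅ L) (e : ∀ i, X (i + 1) ≅ F.obj (X i))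

/-- The injections of the swindle cofan. -/
noncomputable def injMap : (i : ℕ) → (X i ⟶ L ⊞ F.obj (∐ X))
  | 0 => e0.hom ≫ biprod.inl
  | (i + 1) => (e i).hom ≫ F.map (Sigma.ι X i) ≫ biprod.inr

/-- `L ⊞ F(∐ X)` is a coproduct of the family `X`. -/
noncomputable def isColimitSwindle :
    IsColimit (Cofan.mk (L ⊞ F.obj (∐ X)) (injMap F X L e0 e)) := by
  have hFP : IsColimit (Cofan.mk (F.obj (∐ X)) fun j => F.map (Sigma.ι X j) :
      Cofan fun j => F.obj (X j)) :=
    isColimitCofanMkObjOfIsColimit F X _ (coproductIsCoproduct X)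
  refine Cofan.IsColimit.mk _
    (fun s => biprod.desc (e0.inv ≫ s.inj 0)
      (Cofan.IsColimit.desc hFP (fun i => (e i).inv ≫ s.inj (i + 1)))) ?_ ?_
  · intro s i
    cases i with
    | zero =>
      change (e0.hom ≫ biprod.inl) ≫ _ = _
      rw [Category.assoc, biprod.inl_desc, Iso.hom_inv_id_assoc]
    | succ i =>
      change ((e i).hom ≫ F.map (Sigma.ι X i) ≫ biprod.inr) ≫ _ = _
      rw [Category.assoc, Category.assoc, biprod.inr_desc]
      have := Cofan.IsColimit.fac hFP (fun i => (e i).inv ≫ s.inj (i + 1)) i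
      change F.map (Sigma.ι X i) ≫ _ = _ at this
      rw [this, Iso.hom_inv_id_assoc]
  · intro s m hm
    apply biprod.hom_ext'
    · rw [biprod.inl_desc]
      have h0 := hm 0
      change (e0.hom ≫ biprod.inl) ≫ m = _ at h0
      rw [← h0, Category.assoc, Iso.inv_hom_id_assoc]
    · rw [biprod.inr_desc]
      apply Cofan.IsColimit.hom_ext hFP
      intro i
      rw [Cofan.IsColimit.fac]
      have hi := hm (i + 1)
      change ((e i).hom ≫ F.map (Sigma.ι X i) ≫ biprod.inr) ≫ m = _ at hi
      rw [← hi]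
      change F.map (Sigma.ι X i) ≫ biprod.inr ≫ m = _
      simp only [Category.assoc, Iso.inv_hom_id_assoc]

/-- The swindle isomorphism. -/
noncomputable def swindleIso : ∐ X ≅ L ⊞ F.obj (∐ X) :=
  (coproductIsCoproduct X).coconePointUniqueUpToIso (isColimitSwindle F X L e0 e)

end Abstract

section Tri

open Pretriangulated KZero

variable {C : Type u} [Category.{v} C] [Preadditive C] [HasZeroObject C]
  [HasShift C ℤ] [∀ n : ℤ, (shiftFunctor C n).Additive] [Pretriangulated C]

theorem cl_eq_zero_of_swindle (L : C) (n : ℤ)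
    [HasCoproduct (fun i : ℕ => (shiftFunctor C (2 * n * (i : ℤ))).obj L)] :
    clTri L = 0 := by
  set X : ℕ → C := fun i : ℕ => (shiftFunctor C (2 * n * (i : ℤ))).obj L with hX
  let e0 : X 0 ≅ L := (shiftFunctorZero' C (2 * n * ((0 : ℕ) : ℤ)) (by simp)).app L
  let e : ∀ i, X (i + 1) ≅ (shiftFunctor C (2 * n)).obj (X i) := fun i =>
    (shiftFunctorAdd' C (2 * n * (i : ℤ)) (2 * n) (2 * n * ((i + 1 : ℕ) : ℤ))
      (by push_cast; ring)).app L
  have iso := swindleIso (shiftFunctor C (2 * n)) X L e0 e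
  have h1 := cl_iso iso
  rw [cl_biprod, cl_shift_two_mul] at h1
  have : clTri (∐ X) + 0 = clTri L + clTri (∐ X) := by rw [add_zero]; exact h1
  rw [add_comm (clTri L)] at this
  exact (add_left_cancel this).symm

end Tri

end Groth.Agent.Helper9.K0Swindle
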