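import Mathlib
import Groth.Prelude.Def_PCoh
import Groth.Agent.Lib.Helper9.PCoh20

/-!
# Pseudo-coherence (punctual case): relative resolutions with all terms in `C₀` (S12101)
-/

set_option autoImplicit false
universe w v u
open CategoryTheory CategoryTheory.Limits

namespace Groth.Agent.Helper9.PCohLib

variable {C : Type u} [Category.{v} C] [Abelian C]

/-- A stage of the relative construction. -/
structure RStage (P : ObjectProperty C) (n : ℤ) (F : CochainComplex C ℤ) (k : ℕ) where
  G : CochainComplex C ℤ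
  w : G ⟶ F
  hP : ∀ j, P (G.X j)
  hb : ∃ b : ℤ, ∀ j, b < j → IsZero (G.X j)
  hw : IsNQI (n - k) w

variable (P : ObjectProperty C) [P.IsClosedUnderIsomorphisms] [P.ContainsZero]
  (hsum : ∀ X Y : C, P X → P Y → P (X ⨯ Y)) (hql : PCoh.IsQuasiLiftable P)

include hsum hql in
theorem RStage.exists_next (n : ℤ) {F : CochainComplex C ℤ} (hF : HasFTCones P F)
    {k : ℕ} (s : RStage P n F k) :
    ∃ (s' : RStage P n F (k + 1)) (v : s.G ⟶ s'.G), v ≫ s'.w = s.w ∧ (∀ j, Mono (v.f j)) ∧
      ∀ j, j ≠ n - k - 1 → IsIso (v.f j) := by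
  obtain ⟨G, w, hGP, hGb, hw⟩ := s
  have hw' : IsNQI (n - k - 1 + 1) w := by
    have : n - (k : ℤ) - 1 + 1 = n - k := by ring
    rwa [this]
  have hft : PCoh.IsOfFiniteType P ((CochainComplex.mappingCone w).homology (n - k - 1)) :=
    hF (n - k - 1) G w hGP hGb hw'
  obtain ⟨G', v, w', hvw, hvmono, hviso, hcok, hw'', hret⟩ :=
    exists_step' P hql (n - k - 1) w hw' hft
  refine ⟨⟨G', w', ?_, ?_, ?_⟩, v, hvw, hvmono, hviso⟩
  · intro j
    by_cases hj : j = n - k - 1
    · subst hj
      obtain ⟨r, hr⟩ := hret (n - k - 1)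
      exact prop_of_splitMono P hsum (v.f (n - k - 1)) r hr (hGP _) hcok
    · haveI := hviso j hj
      exact P.prop_of_iso (asIso (v.f j)) (hGP j)
  · obtain ⟨b, hb⟩ := hGb
    refine ⟨max b (n - k - 1), fun j hj => ?_⟩
    haveI := hviso j (by have := le_max_right b (n - k - 1); omega)
    exact (hb j (by have := le_max_left b (n - k - 1); omega)).of_iso (asIso (v.f j)).symm
  · have : n - ((k + 1 : ℕ) : ℤ) = n - k - 1 := by push_cast; ring
    rw [this]
    exact hw''

section Seq

variable (n : ℤ) {E F : CochainComplex C ℤ} (hF : HasFTCones P F) (hE : PCoh.IsStrictPCAll P E)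
  (u : E ⟶ F) (hu : IsNQI n u)

/-- The initial stage. -/
def RStage.zero : RStage P n F 0 where
  G := E
  w := u
  hP := hE.2
  hb := hE.1
  hw := by simpa using hu

/-- The sequence of stages. -/
noncomputable def rstageSeq : ∀ k : ℕ, RStage P n F k
  | 0 => RStage.zero P n hE u hu
  | (k + 1) => (RStage.exists_next P hsum hql n hF (rstageSeq k)).choose

noncomputable def rstageSeqV (k : ℕ) :
    (rstageSeq P hsum hql n hF hE u hu k).G ⟶ (rstageSeq P hsum hql n hF hE u hu (k + 1)).G :=
  (RStage.exists_next P hsum hql n hF (rstageSeq P hsum hql n hF hE u hu k)).choose_spec.choose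

theorem rstageSeqV_w (k : ℕ) :
    rstageSeqV P hsum hql n hF hE u hu k ≫ (rstageSeq P hsum hql n hF hE u hu (k + 1)).w =
      (rstageSeq P hsum hql n hF hE u hu k).w :=
  (RStage.exists_next P hsum hql n hF
    (rstageSeq P hsum hql n hF hE u hu k)).choose_spec.choose_spec.1

theorem rstageSeqV_mono (k : ℕ) (j : ℤ) :
    Mono ((rstageSeqV P hsum hql n hF hE u hu k).f j) :=
  (RStage.exists_next P hsum hql n hF
    (rstageSeq P hsum hql n hF hE u hu k)).choose_spec.choose_spec.2.1 j

theorem rstageSeqV_isIso (k : ℕ) (j : ℤ) (hj : j ≠ n - k - 1) :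
    IsIso ((rstageSeqV P hsum hql n hF hE u hu k).f j) :=
  (RStage.exists_next P hsum hql n hF
    (rstageSeq P hsum hql n hF hE u hu k)).choose_spec.choose_spec.2.2 j hj

end Seq

include hsum hql in
/-- S12101 (abstract form). -/
theorem exists_strictPCAll_factorisation (n : ℤ) {E F : CochainComplex C ℤ} (hF : HasFTCones P F)
    (hE : PCoh.IsStrictPCAll P E) (u : E ⟶ F) (hu : IsNQI n u) :
    ∃ (E' : CochainComplex C ℤ) (v : E ⟶ E') (u' : E' ⟶ F), v ≫ u' = u ∧
      PCoh.IsStrictPCAll P E' ∧ QuasiIso u' ∧ (∀ j : ℤ, Mono (v.f j)) ∧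
      (∀ j : ℤ, n ≤ j → IsIso (v.f j)) := by
  let s := rstageSeq P hsum hql n hF hE u hu
  let V := rstageSeqV P hsum hql n hF hE u hu
  let κ : ℤ → ℕ := fun q => (n - q).toNat
  have hκ : ∀ (q : ℤ) (k : ℕ), κ q ≤ k → IsIso ((V k).f q) := by
    intro q k hk
    apply rstageSeqV_isIso
    have : n - q ≤ k := by
      have := Int.self_le_toNat (n - q)
      have hk' : ((n - q).toNat : ℤ) ≤ k := by exact_mod_cast hk
      omega
    omega
  obtain ⟨E', ι, d, hιd, hvι, hιiso⟩ := exists_colimit_sequence' (fun k => (s k).G)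
    V (fun k => (s k).w) (rstageSeqV_w P hsum hql n hF hE u hu) κ hκ
  have hκmono : ∀ q q' : ℤ, q ≤ q' → κ q' ≤ κ q := by
    intro q q' h
    exact Int.toNat_le_toNat (by omega)
  have hmono : ∀ (j : ℤ) (d : ℕ) (k : ℕ), κ j ≤ k + d → Mono ((ι k).f j) := by
    intro j d
    induction d with
    | zero =>
      intro k hk
      haveI := hιiso j k (by simpa using hk)
      infer_instance
    | succ d ih =>
      intro k hk
      haveI := ih (k + 1) (by omega)
      haveI : Mono ((V k).f j) := rstageSeqV_mono P hsum hql n hF hE u hu k j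
      rw [← hvι k, HomologicalComplex.comp_f]
      exact mono_comp _ _
  have hs0 : (s 0).G = E := rfl
  refine ⟨E', ι 0, d, hιd 0, ⟨?_, fun j => ?_⟩, ?_, fun j => hmono j (κ j) 0 (by omega), fun j hj => ?_⟩
  · obtain ⟨b, hb⟩ := hE.1
    refine ⟨max b n, fun j hj => ?_⟩
    have hκj : κ j = 0 := by
      have : n - j ≤ 0 := by have := le_max_right b n; omega
      exact Int.toNat_eq_zero.2 this
    haveI := hιiso j 0 (by omega)
    exact (hb j (by have := le_max_left b n; omega)).of_iso (asIso ((ι 0).f j)).symm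
  · haveI := hιiso j (κ j) le_rfl
    exact P.prop_of_iso (asIso ((ι (κ j)).f j)) ((s (κ j)).hP j)
  · rw [quasiIso_iff]
    intro q
    rw [quasiIsoAt_iff_isIso_homologyMap]
    let k := κ (q - 1) + 1
    have h0 : IsIso ((ι k).f (q - 1)) := hιiso _ _ (by omega)
    have h1 : IsIso ((ι k).f q) := hιiso _ _ (by have := hκmono (q - 1) q (by omega); omega)
    have h2 : IsIso ((ι k).f (q + 1)) :=
      hιiso _ _ (by have := hκmono (q - 1) (q + 1) (by omega); omega)
    have hq : QuasiIsoAt (ι k) q := quasiIsoAt_of_isIso_f (ι k) q h0 h1 h2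
    rw [quasiIsoAt_iff_isIso_homologyMap] at hq
    have hwk : IsIso (HomologicalComplex.homologyMap (s k).w q) := by
      apply (s k).hw.1
      have := Int.self_le_toNat (n - (q - 1))
      have hk' : ((k : ℕ) : ℤ) = ((n - (q - 1)).toNat : ℤ) + 1 := by
        simp [k, κ]
      omega
    have : HomologicalComplex.homologyMap d q =
        inv (HomologicalComplex.homologyMap (ι k) q) ≫ HomologicalComplex.homologyMap (s k).w q := by
      rw [IsIso.eq_inv_comp, ← HomologicalComplex.homologyMap_comp, hιd]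
    rw [this]
    infer_instance
  · have hκj : κ j = 0 := Int.toNat_eq_zero.2 (by omega)
    exact hιiso j 0 (by omega)

end Groth.Agent.Helper9.PCohLib
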