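import Mathlib
import Groth.Prelude.Def_PCoh
import Groth.Agent.Lib.Helper9.PCoh21

/-!
# Perfect complexes relative to a liftable subcategory (punctual case): cones (S5609)
-/

set_option autoImplicit false
universe w v u
open CategoryTheory CategoryTheory.Limits Pretriangulated

namespace Groth.Agent.Helper9.PCohLib

variable {C : Type u} [Category.{v} C] [Abelian C]

section Perfect

variable (P : ObjectProperty C)
  (hlift : ∀ (E F : C) (u : E ⟶ F), Epi u → P F → IsSplitEpi u)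

include hlift in
theorem projective_of_hlift {X : C} (hX : P X) : Projective X := by
  refine ⟨fun {E X'} f e he => ?_⟩
  have hepi : Epi (pullback.fst f e) := inferInstance
  obtain ⟨⟨s, hs⟩⟩ := hlift _ _ (pullback.fst f e) hepi hX
  refine ⟨s ≫ pullback.snd f e, ?_⟩
  rw [Category.assoc, ← pullback.condition, ← Category.assoc, hs, Category.id_comp]

include hlift in
theorem isKProjective_of_prop (E : CochainComplex C ℤ) (b : ℤ)
    (hb : ∀ i : ℤ, b < i → IsZero (E.X i)) (hP : ∀ i : ℤ, P (E.X i)) : E.IsKProjective := by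
  haveI : E.IsStrictlyLE b := by
    rw [CochainComplex.isStrictlyLE_iff]
    exact hb
  haveI : ∀ n : ℤ, Projective (E.X n) := fun n => projective_of_hlift P hlift (hP n)
  exact CochainComplex.isKProjective_of_projective E b

open DerivedCategory in
theorem exists_map_of_isKProjective [HasDerivedCategory.{w} C] (K L : CochainComplex C ℤ)
    [K.IsKProjective] (φ : Q.obj K ⟶ Q.obj L) : ∃ g : K ⟶ L, Q.map g = φ := by
  obtain ⟨g', hg'⟩ := (CochainComplex.IsKProjective.Qh_map_bijective K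
    ((HomotopyCategory.quotient C (ComplexShape.up ℤ)).obj L)).surjective
    ((quotientCompQhIso C).hom.app K ≫ φ ≫ (quotientCompQhIso C).inv.app L)
  obtain ⟨g, rfl⟩ := (HomotopyCategory.quotient C (ComplexShape.up ℤ)).map_surjective g'
  refine ⟨g, ?_⟩
  have := quotientCompQhIso_hom_naturality g
  rw [hg'] at this
  simp only [Category.assoc, Iso.inv_hom_id_app, Category.comp_id] at this
  exact ((cancel_epi _).1 this).symm

/-- `F` has perfect amplitude in `[a, b]`. -/
def IsPerf [HasDerivedCategory.{w} C] (a b : ℤ) (F : DerivedCategory C) : Prop :=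
  ∃ E : CochainComplex C ℤ, (∀ i : ℤ, P (E.X i)) ∧ (∀ i : ℤ, i < a ∨ b < i → IsZero (E.X i)) ∧
    Nonempty (DerivedCategory.Q.obj E ≅ F)

variable {P} in
theorem IsPerf.of_iso [HasDerivedCategory.{w} C] {a b : ℤ} {F F' : DerivedCategory C}
    (h : IsPerf P a b F) (e : F ≅ F') : IsPerf P a b F' := by
  obtain ⟨E, hP, hv, ⟨e'⟩⟩ := h
  exact ⟨E, hP, hv, ⟨e' ≪≫ e⟩⟩

variable {P} in
theorem IsPerf.of_le [HasDerivedCategory.{w} C] {a b a' b' : ℤ} {F : DerivedCategory C}
    (h : IsPerf P a b F) (ha : a' ≤ a) (hb : b ≤ b') : IsPerf P a' b' F := by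
  obtain ⟨E, hP, hv, e⟩ := h
  exact ⟨E, hP, fun i hi => hv i (by omega), e⟩

include hlift in
open CochainComplex in
/-- S5609 with amplitudes. -/
theorem isPerf_obj₃ [HasDerivedCategory.{w} C] [P.IsClosedUnderIsomorphisms]
    (hsum : ∀ X Y : C, P X → P Y → P (X ⨯ Y))
    (T : Triangle (DerivedCategory C)) (hT : T ∈ distTriang _) {a₁ b₁ a₂ b₂ : ℤ}
    (h₁ : IsPerf P a₁ b₁ T.obj₁) (h₂ : IsPerf P a₂ b₂ T.obj₂) :
    IsPerf P (min (a₁ - 1) a₂) (max (b₁ - 1) b₂) T.obj₃ := by
  obtain ⟨E₁, hP₁, hv₁, ⟨e₁⟩⟩ := h₁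
  obtain ⟨E₂, hP₂, hv₂, ⟨e₂⟩⟩ := h₂
  haveI : E₁.IsKProjective := isKProjective_of_prop P hlift E₁ b₁ (fun i hi => hv₁ i (Or.inr hi)) hP₁
  obtain ⟨g, hg⟩ := exists_map_of_isKProjective E₁ E₂ (e₁.hom ≫ T.mor₁ ≫ e₂.inv)
  refine ⟨mappingCone g, fun i => prop_mappingCone_X P hsum g i (hP₁ _) (hP₂ _), fun i hi => ?_, ⟨?_⟩⟩
  · have e : (mappingCone g).X i ≅ E₁.X (i + 1) ⊞ E₂.X i :=
      HomologicalComplex.homotopyCofiber.XIsoBiprod g i (i + 1) rfl
    have h1 : IsZero (E₁.X (i + 1)) := hv₁ _ (by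
      rcases hi with hi | hi
      · left; have := min_le_left (a₁ - 1) a₂; omega
      · right; have := le_max_left (b₁ - 1) b₂; omega)
    have h2 : IsZero (E₂.X i) := hv₂ _ (by
      rcases hi with hi | hi
      · left; have := min_le_right (a₁ - 1) a₂; omega
      · right; have := le_max_right (b₁ - 1) b₂; omega)
    refine IsZero.of_iso ?_ e
    rw [IsZero.iff_id_eq_zero]
    apply biprod.hom_ext
    · rw [zero_comp]; exact h1.eq_of_tgt _ _
    · rw [zero_comp]; exact h2.eq_of_tgt _ _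
  · have hT' := DerivedCategory.mappingCone_triangle_distinguished g
    exact Triangle.π₃.mapIso (isoTriangleOfIso₁₂ _ T hT' hT e₁ e₂ (by
      change DerivedCategory.Q.map g ≫ e₂.hom = e₁.hom ≫ T.mor₁
      rw [hg]
      simp))

end Perfect

end Groth.Agent.Helper9.PCohLib
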