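import Mathlib
import Groth.Prelude.Def_PCoh
import Groth.Agent.Lib.Helper9.PCoh22

/-!
# Perfect complexes relative to a liftable subcategory (punctual case): truncation (S5610)
-/

set_option autoImplicit false
universe w v u
open CategoryTheory CategoryTheory.Limits Pretriangulated

namespace Groth.Agent.Helper9.PCohLib

variable {C : Type u} [Category.{v} C] [Abelian C]

theorem epi_d_of_exactAt (F : CochainComplex C ℤ) (c : ℤ) (h : F.ExactAt c)
    (hz : IsZero (F.X (c + 1))) : Epi (F.d (c - 1) c) := by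
  rw [HomologicalComplex.exactAt_iff' F (c - 1) c (c + 1) (by simp) (by simp)] at h
  exact h.epi_f (hz.eq_of_tgt _ _)

section Perfect

variable (P : ObjectProperty C) [P.IsClosedUnderIsomorphisms]
  (hst : ∀ (E F : C) (u : E ⟶ F), Epi u → P E → P F → P (kernel u))

include hst in
theorem exists_perf_trunc_step (a c : ℤ) (hac : a ≤ c - 1) (F : CochainComplex C ℤ)
    (hP : ∀ i : ℤ, P (F.X i)) (hvan : ∀ i : ℤ, i < a ∨ c < i → IsZero (F.X i))
    (hc : IsZero (F.homology c)) :
    ∃ (F' : CochainComplex C ℤ) (t : F' ⟶ F), QuasiIso t ∧ (∀ i : ℤ, P (F'.X i)) ∧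
      (∀ i : ℤ, i < a ∨ c - 1 < i → IsZero (F'.X i)) := by
  have hex : F.ExactAt c := (HomologicalComplex.exactAt_iff_isZero_homology F c).2 hc
  haveI hepi : Epi (F.d (c - 1) c) := epi_d_of_exactAt F c hex (hvan _ (Or.inr (by omega)))
  have hK : P (kernel (F.d (c - 1) c)) := hst _ _ _ hepi (hP _) (hP _)
  have e : F.cycles (c - 1) ≅ kernel (F.d (c - 1) c) :=
    IsLimit.conePointUniqueUpToIso (F.cyclesIsKernel (c - 1) c (by simp)) (limit.isLimit _)
  haveI : F.IsLE (c - 1) := by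
    rw [CochainComplex.isLE_iff]
    intro i hi
    by_cases hic : i = c
    · subst hic; exact hex
    · exact HomologicalComplex.ExactAt.of_isZero (hvan i (Or.inr (by omega)))
  refine ⟨F.truncLE (c - 1), F.ιTruncLE (c - 1), inferInstance, fun i => ?_, fun i hi => ?_⟩
  · rcases lt_trichotomy i (c - 1) with h | h | h
    · exact P.prop_of_iso (F.truncLEXIso (c - 1) i h).symm (hP i)
    · subst h
      exact P.prop_of_iso (F.truncLEXIsoCycles (c - 1) ≪≫ e).symm hK
    · exact P.prop_of_iso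
        ((hvan (c + 1) (Or.inr (by omega))).iso
          (CochainComplex.isZero_of_isStrictlyLE (F.truncLE (c - 1)) (c - 1) i h)) (hP _)
  · rcases hi with hi | hi
    · have hz : IsZero (F.X i) := hvan i (Or.inl hi)
      haveI : Mono ((F.ιTruncLE (c - 1)).f i) := by
        dsimp [CochainComplex.ιTruncLE]; infer_instance
      exact IsZero.of_mono ((F.ιTruncLE (c - 1)).f i) hz
    · exact CochainComplex.isZero_of_isStrictlyLE (F.truncLE (c - 1)) (c - 1) i hi

include hst in
theorem exists_perf_trunc_aux (a b : ℤ) (hab : a ≤ b) :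
    ∀ (k : ℕ) (c : ℤ) (F : CochainComplex C ℤ), a ≤ c → c ≤ b + k → (∀ i : ℤ, P (F.X i)) →
      (∀ i : ℤ, i < a ∨ c < i → IsZero (F.X i)) → (∀ i : ℤ, b < i → IsZero (F.homology i)) →
      ∃ (F' : CochainComplex C ℤ) (t : F' ⟶ F), QuasiIso t ∧ (∀ i : ℤ, P (F'.X i)) ∧
        (∀ i : ℤ, i < a ∨ min b c < i → IsZero (F'.X i)) := by
  have base : ∀ (c : ℤ) (F : CochainComplex C ℤ), c ≤ b → (∀ i : ℤ, P (F.X i)) →
      (∀ i : ℤ, i < a ∨ c < i → IsZero (F.X i)) →
      ∃ (F' : CochainComplex C ℤ) (t : F' ⟶ F), QuasiIso t ∧ (∀ i : ℤ, P (F'.X i)) ∧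
        (∀ i : ℤ, i < a ∨ min b c < i → IsZero (F'.X i)) := by
    intro c F hcb hP hvan
    refine ⟨F, 𝟙 F, inferInstance, hP, fun i hi => hvan i ?_⟩
    rw [min_eq_right hcb] at hi
    exact hi
  intro k
  induction k with
  | zero =>
    intro c F _ hcb hP hvan _
    exact base c F (by simpa using hcb) hP hvan
  | succ k ih =>
    intro c F hac hcb hP hvan hcoh
    by_cases hcb' : c ≤ b
    · exact base c F hcb' hP hvan
    · obtain ⟨F₁, t₁, ht₁, hP₁, hvan₁⟩ :=
        exists_perf_trunc_step P hst a c (by omega) F hP hvan (hcoh c (by omega))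
      have hcoh₁ : ∀ i : ℤ, b < i → IsZero (F₁.homology i) := fun i hi =>
        (hcoh i hi).of_iso (asIso (HomologicalComplex.homologyMap t₁ i))
      obtain ⟨F', t, ht, hP', hvan'⟩ := ih (c - 1) F₁ (by omega) (by push_cast at hcb; omega)
        hP₁ hvan₁ hcoh₁
      refine ⟨F', t ≫ t₁, inferInstance, hP', fun i hi => hvan' i ?_⟩
      have h1 : min b c = b := min_eq_left (by omega)
      have h2 : min b (c - 1) = b := min_eq_left (by omega)
      rw [h2]; rw [h1] at hi; exact hi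

include hst in
/-- S5610. -/
theorem exists_perf_trunc [HasDerivedCategory.{w} C] (a b c : ℤ) (hab : a ≤ b) (hac : a ≤ c)
    (F : CochainComplex C ℤ) (hP : ∀ i : ℤ, P (F.X i))
    (hvan : ∀ i : ℤ, i < a ∨ c < i → IsZero (F.X i))
    (hcoh : ∀ i : ℤ, b < i → IsZero (F.homology i)) :
    ∃ F' : CochainComplex C ℤ, (∀ i : ℤ, P (F'.X i)) ∧
      (∀ i : ℤ, i < a ∨ min b c < i → IsZero (F'.X i)) ∧
      Nonempty (DerivedCategory.Q.obj F' ≅ DerivedCategory.Q.obj F) := by
  obtain ⟨F', t, ht, hP', hvan'⟩ := exists_perf_trunc_aux P hst a b hab (c - b).toNat c F hac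
    (by have := Int.self_le_toNat (c - b); omega) hP hvan hcoh
  exact ⟨F', hP', hvan', ⟨asIso (DerivedCategory.Q.map t)⟩⟩

end Perfect

end Groth.Agent.Helper9.PCohLib
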