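import Mathlib
import Groth.Prelude.Def_PCoh
import Groth.Agent.Lib.Helper9.PCoh23

/-!
# Perfect complexes relative to a liftable subcategory (punctual case): the bottom term (S5621)
-/

set_option autoImplicit false
universe w v u
open CategoryTheory CategoryTheory.Limits Pretriangulated

namespace Groth.Agent.Helper9.PCohLib

variable {C : Type u} [Category.{v} C] [Abelian C]

section Perfect

variable (P : ObjectProperty C) [P.IsClosedUnderIsomorphisms] [P.ContainsZero]
  (hsum : ∀ X Y : C, P X → P Y → P (X ⨯ Y))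
  (hlift : ∀ (E F : C) (u : E ⟶ F), Epi u → P F → IsSplitEpi u)
  (hst : ∀ (E F : C) (u : E ⟶ F), Epi u → P E → P F → P (kernel u))

include hst in
/-- An object `A` such that `A[-a]` has perfect amplitude in `[a, b]` lies in `P`. -/
theorem prop_of_isPerf_single [HasDerivedCategory.{w} C] (a b : ℤ) (hab : a ≤ b) (A : C)
    (h : IsPerf P a b (DerivedCategory.Q.obj
      ((HomologicalComplex.single C (ComplexShape.up ℤ) a).obj A))) : P A := by
  obtain ⟨G, hGP, hGv, ⟨eG⟩⟩ := h
  have hGcoh : ∀ i : ℤ, a < i → IsZero (G.homology i) := fun i hi =>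
    (isZero_homology_single A a i (by omega)).of_iso
      ((homologyQIso G i).symm ≪≫ (DerivedCategory.homologyFunctor C i).mapIso eG ≪≫
        homologyQIso _ i)
  obtain ⟨G', hG'P, hG'v, ⟨eG'⟩⟩ := exists_perf_trunc P hst a a b le_rfl hab G hGP hGv hGcoh
  have hmin : min a b = a := min_eq_left hab
  haveI : G'.IsStrictlyGE a := by
    rw [CochainComplex.isStrictlyGE_iff]
    exact fun i hi => hG'v i (Or.inl hi)
  haveI : G'.IsStrictlyLE a := by
    rw [CochainComplex.isStrictlyLE_iff]
    exact fun i hi => hG'v i (Or.inr (by rw [hmin]; exact hi))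
  obtain ⟨M, ⟨eM⟩⟩ := G'.exists_iso_single a
  have hM : P M := P.prop_of_iso
    ((HomologicalComplex.eval C (ComplexShape.up ℤ) a).mapIso eM ≪≫
      HomologicalComplex.singleObjXSelf (ComplexShape.up ℤ) a M) (hG'P a)
  have e : A ≅ M :=
    (HomologicalComplex.singleObjHomologySelfIso (ComplexShape.up ℤ) a A).symm ≪≫
      (homologyQIso _ a).symm ≪≫
      (DerivedCategory.homologyFunctor C a).mapIso
        (eG.symm ≪≫ eG'.symm ≪≫ DerivedCategory.Q.mapIso eM) ≪≫
      homologyQIso _ a ≪≫ HomologicalComplex.singleObjHomologySelfIso (ComplexShape.up ℤ) a M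
  exact P.prop_of_iso e.symm hM

include hsum hlift hst in
/-- S5621. -/
theorem prop_bottom_of_isPerf [HasDerivedCategory.{w} C] (a b : ℤ) (hab : a ≤ b)
    (F : CochainComplex C ℤ) (hvan : ∀ i : ℤ, i < a ∨ b < i → IsZero (F.X i))
    (hP : ∀ i : ℤ, a < i → P (F.X i)) (hamp : IsPerf P a b (DerivedCategory.Q.obj F)) :
    P (F.X a) := by
  obtain ⟨F', ι, π, w, hS, hιiso, hF'a⟩ := exists_bottom_ses F a (hvan _ (Or.inl (by omega)))
  have hT := DerivedCategory.triangleOfSES_distinguished hS
  have h₁ : IsPerf P (a + 1) b (DerivedCategory.Q.obj F') := by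
    refine ⟨F', fun i => ?_, fun i hi => ?_, ⟨Iso.refl _⟩⟩
    · by_cases hi : i = a
      · subst hi; exact P.prop_of_isZero hF'a
      · haveI := hιiso i hi
        by_cases hi' : a < i
        · exact P.prop_of_iso (asIso (ι.f i)).symm (hP i hi')
        · exact P.prop_of_isZero ((hvan i (Or.inl (by omega))).of_iso (asIso (ι.f i)))
    · by_cases hia : i = a
      · subst hia; exact hF'a
      · haveI := hιiso i hia
        exact (hvan i (by omega)).of_iso (asIso (ι.f i))
  have h₃ := isPerf_obj₃ P hlift hsum _ hT h₁ hamp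
  have h₃' : IsPerf P a b (DerivedCategory.Q.obj
      ((HomologicalComplex.single C (ComplexShape.up ℤ) a).obj (F.X a))) :=
    h₃.of_le (le_min (by omega) le_rfl) (max_le (by omega) le_rfl)
  exact prop_of_isPerf_single P hst a b hab _ h₃'

end Perfect

end Groth.Agent.Helper9.PCohLib
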