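import Mathlib
import Groth.Prelude.Def_PCoh
import Groth.Agent.Lib.Helper9.PCoh24

/-!
# Perfect complexes relative to a liftable subcategory (punctual case): sums and factors (S5622)
-/

set_option autoImplicit false
universe w v u
open CategoryTheory CategoryTheory.Limits Pretriangulated

namespace Groth.Agent.Helper9.PCohLib

variable {C : Type u} [Category.{v} C] [Abelian C]

section Perfect

variable (P : ObjectProperty C) [P.IsClosedUnderIsomorphisms] [P.ContainsZero]
  (hsum : ∀ X Y : C, P X → P Y → P (X ⨯ Y))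
  (hlift : ∀ (E F : C) (u : E ⟶ F), Epi u → P F → IsSplitEpi u)
  (hst : ∀ (E F : C) (u : E ⟶ F), Epi u → P E → P F → P (kernel u))

include hlift in
theorem isQuasiLiftable_of_hlift : PCoh.IsQuasiLiftable P := by
  intro E F u hu hF
  obtain ⟨⟨s, hs⟩⟩ := hlift E F u hu hF
  exact ⟨F, s, hF, by rw [hs]; infer_instance⟩

include hst in
theorem isQuasiStable_of_hst : PCoh.IsQuasiStableUnderKernels P := by
  intro K hex hb hP
  obtain ⟨n, hn⟩ := hb
  have hlift_epi : ∀ i : ℕ, Epi (kernel.lift (K.d (i + 1) (i + 1 + 1)) (K.d i (i + 1))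
      (K.d_comp_d _ _ _)) := by
    intro i
    have hex' := hex (i + 1)
    rw [HomologicalComplex.exactAt_iff' K i (i + 1) (i + 1 + 1) (by simp) (by simp)] at hex'
    exact hex'.epi_kernelLift
  have claim : ∀ (m : ℕ) (i : ℕ), 1 ≤ i → n < i + m → P (kernel (K.d i (i + 1))) := by
    intro m
    induction m with
    | zero =>
      intro i _ hni
      have hz : IsZero (K.X i) := hn i (by omega)
      exact P.prop_of_isZero (IsZero.of_mono (kernel.ι _) hz)
    | succ m ih =>
      intro i hi hni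
      have h1 : P (kernel (K.d (i + 1) (i + 1 + 1))) := ih (i + 1) (by omega) (by omega)
      have hk := hst _ _ _ (hlift_epi i) (hP i hi) h1
      have e : kernel (kernel.lift (K.d (i + 1) (i + 1 + 1)) (K.d i (i + 1))
          (K.d_comp_d _ _ _)) ≅ kernel (K.d i (i + 1)) :=
        (kernelCompMono _ (kernel.ι _)).symm ≪≫ kernelIsoOfEq (kernel.lift_ι _ _ _)
      exact P.prop_of_iso e hk
  have h1 : P (kernel (K.d (0 + 1) (0 + 1 + 1))) := claim (n + 1) 1 le_rfl (by omega)
  have hepi := hlift_epi 0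
  have hex0 := hex 0
  rw [HomologicalComplex.exactAt_iff' K 0 0 1 (by simp) (by simp)] at hex0
  have hmono : Mono (K.d 0 1) := hex0.mono_g (by
    change K.d 0 0 = 0
    exact K.shape _ _ (by simp))
  have hmono' : Mono (kernel.lift (K.d (0 + 1) (0 + 1 + 1)) (K.d 0 (0 + 1)) (K.d_comp_d _ _ _)) :=
    mono_of_mono_fac (kernel.lift_ι _ _ _)
  have hiso : IsIso (kernel.lift (K.d (0 + 1) (0 + 1 + 1)) (K.d 0 (0 + 1)) (K.d_comp_d _ _ _)) :=
    isIso_of_mono_of_epi _
  exact isOfFiniteType_of_mem P (P.prop_of_iso (asIso (kernel.lift (K.d (0 + 1) (0 + 1 + 1))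
    (K.d 0 (0 + 1)) (K.d_comp_d _ _ _))).symm h1)

variable {P} in
theorem IsPerf.shift [HasDerivedCategory.{w} C] {a b : ℤ} {F : DerivedCategory C}
    (hF : IsPerf P a b F) (m : ℤ) :
    IsPerf P (a - m) (b - m) ((shiftFunctor (DerivedCategory C) m).obj F) := by
  obtain ⟨E, hP, hv, ⟨e⟩⟩ := hF
  refine ⟨(shiftFunctor (CochainComplex C ℤ) m).obj E, fun i => hP (i + m),
    fun i hi => hv (i + m) (by omega), ⟨?_⟩⟩
  exact ((DerivedCategory.Q (C := C)).commShiftIso m).app E ≪≫
    (shiftFunctor (DerivedCategory C) m).mapIso e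

include hsum hlift in
theorem isPerf_obj₂ [HasDerivedCategory.{w} C] (T : Triangle (DerivedCategory C))
    (hT : T ∈ distTriang _) {a b : ℤ}
    (h₁ : IsPerf P a b T.obj₁) (h₃ : IsPerf P a b T.obj₃) : IsPerf P a b T.obj₂ := by
  have hT' := inv_rot_of_distTriang T hT
  have h := isPerf_obj₃ P hlift hsum T.invRotate hT' (h₃.shift (-1)) h₁
  exact h.of_le (le_min (by omega) le_rfl) (max_le (by omega) le_rfl)

include hsum hlift in
theorem isPerf_biprod [HasDerivedCategory.{w} C] {a b : ℤ} (F' F'' : DerivedCategory C)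
    [HasBinaryBiproduct F' F''] (h' : IsPerf P a b F') (h'' : IsPerf P a b F'') :
    IsPerf P a b (F' ⊞ F'') :=
  isPerf_obj₂ P hsum hlift _ (binaryBiproductTriangle_distinguished F' F'') h' h''

omit [P.IsClosedUnderIsomorphisms] [P.ContainsZero] in
open DerivedCategory in
theorem homotopy_of_Q_map_eq [HasDerivedCategory.{w} C] {K L : CochainComplex C ℤ}
    [K.IsKProjective] (f g : K ⟶ L) (h : Q.map f = Q.map g) : Nonempty (Homotopy f g) := by
  have key : ∀ φ : K ⟶ L, Qh.map ((HomotopyCategory.quotient C (ComplexShape.up ℤ)).map φ) =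
      (quotientCompQhIso C).hom.app K ≫ Q.map φ ≫ (quotientCompQhIso C).inv.app L := by
    intro φ
    have := quotientCompQhIso_hom_naturality φ
    rw [← Category.assoc, ← this]
    simp
  have h' : Qh.map ((HomotopyCategory.quotient C (ComplexShape.up ℤ)).map f) =
      Qh.map ((HomotopyCategory.quotient C (ComplexShape.up ℤ)).map g) := by
    rw [key, key, h]
  exact ⟨HomotopyCategory.homotopyOfEq f g
    ((CochainComplex.IsKProjective.Qh_map_bijective K _).injective h')⟩

omit [P.ContainsZero] in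
theorem prop_of_retract
    (hfac : ∀ (E' E'' : C) [HasBinaryBiproduct E' E''], P (E' ⊞ E'') → P E' ∧ P E'')
    {B X : C} (s : B ⟶ X) (q : X ⟶ B) (hsq : s ≫ q = 𝟙 B) (hX : P X) : P B := by
  haveI : Epi q := epi_of_epi_fac hsq
  let S := ShortComplex.mk (kernel.ι q) q (kernel.condition q)
  have hS : S.Exact := ShortComplex.exact_kernel q
  let σ := ShortComplex.Splitting.ofExactOfSection S hS s hsq (inferInstanceAs (Mono (kernel.ι q)))
  have e : X ≅ kernel q ⊞ B := σ.isoBinaryBiproduct
  exact (hfac (kernel q) B (P.prop_of_iso e hX)).2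

omit [P.IsClosedUnderIsomorphisms] [P.ContainsZero] in
theorem exists_retract_cokernel_of_homotopy {G : CochainComplex C ℤ} (φ : G ⟶ G)
    (h : Homotopy φ (𝟙 G)) (a : ℤ) (hφ : φ.f (a - 1) = 0) :
    ∃ s : cokernel (G.d (a - 1) a) ⟶ G.X a, s ≫ cokernel.π (G.d (a - 1) a) = 𝟙 _ := by
  have hc := h.comm (a - 1)
  rw [dNext_eq h.hom (show (ComplexShape.up ℤ).Rel (a - 1) a by simp),
    prevD_eq h.hom (show (ComplexShape.up ℤ).Rel (a - 1 - 1) (a - 1) by simp), hφ,
    HomologicalComplex.id_f] at hc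
  have hd : G.d (a - 1) a ≫ h.hom a (a - 1) ≫ G.d (a - 1) a = - G.d (a - 1) a := by
    have := congrArg (fun x => x ≫ G.d (a - 1) a) hc
    simp only [zero_comp, Preadditive.add_comp, Category.assoc, HomologicalComplex.d_comp_d,
      comp_zero, add_zero, Category.id_comp] at this
    exact eq_neg_of_add_eq_zero_left this.symm
  have hr : G.d (a - 1) a ≫ (𝟙 (G.X a) + h.hom a (a - 1) ≫ G.d (a - 1) a) = 0 := by
    rw [Preadditive.comp_add, Category.comp_id, hd, add_neg_cancel]
  refine ⟨cokernel.desc (G.d (a - 1) a) _ hr, ?_⟩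
  rw [← cancel_epi (cokernel.π (G.d (a - 1) a)), cokernel.π_desc_assoc, Preadditive.add_comp,
    Category.id_comp, Category.assoc, cokernel.condition, comp_zero, add_zero, Category.comp_id]

include hsum hlift hst in
open DerivedCategory in
/-- A direct factor of an object of perfect amplitude in `[a, b]` has perfect amplitude in
`[a, b]`, when `P` is stable under direct factors. -/
theorem isPerf_of_retract [HasDerivedCategory.{w} C]
    (hfac : ∀ (E' E'' : C) [HasBinaryBiproduct E' E''], P (E' ⊞ E'') → P E' ∧ P E'')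
    {a b : ℤ} (F' F : DerivedCategory C) (i : F' ⟶ F) (p : F ⟶ F')
    (hip : i ≫ p = 𝟙 F') (hF : IsPerf P a b F) : IsPerf P a b F' := by
  obtain ⟨E, hEP, hEv, ⟨eE⟩⟩ := hF
  have hql := isQuasiLiftable_of_hlift P hlift
  have hqs := isQuasiStable_of_hst P hst
  have hPC : PCoh.IsPC P F' := fun n =>
    isNPC_of_retract P hsum hqs hql n F' F i p hip
      ⟨E, ⟨⟨b, fun j hj => hEv j (Or.inr hj)⟩, fun j _ => hEP j⟩, ⟨eE⟩⟩
  have hFz : ∀ j : ℤ, j < a ∨ b < j → IsZero ((homologyFunctor C j).obj F) := fun j hj =>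
    ((HomologicalComplex.ExactAt.of_isZero (hEv j hj)).isZero_homology).of_iso
      ((homologyFunctor C j).mapIso eE.symm ≪≫ homologyQIso E j)
  have hF'z : ∀ j : ℤ, j < a ∨ b < j → IsZero ((homologyFunctor C j).obj F') := fun j hj =>
    isZero_of_retract ((homologyFunctor C j).map i) ((homologyFunctor C j).map p)
      (by rw [← Functor.map_comp, hip]; exact (homologyFunctor C j).map_id _) (hFz j hj)
  obtain ⟨G, hGP, hGb, ⟨eG⟩⟩ := exists_strictPCAll_of_isPC P hql hsum hqs F' hPC b
    (fun j hj => hF'z j (Or.inr hj))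
  haveI : G.IsKProjective := isKProjective_of_prop P hlift G b hGb hGP
  haveI : E.IsKProjective := isKProjective_of_prop P hlift E b (fun j hj => hEv j (Or.inr hj)) hEP
  obtain ⟨ι, hι⟩ := exists_map_of_isKProjective G E (eG.hom ≫ i ≫ eE.inv)
  obtain ⟨ρ, hρ⟩ := exists_map_of_isKProjective E G (eE.hom ≫ p ≫ eG.inv)
  have hQ : Q.map (ι ≫ ρ) = Q.map (𝟙 G) := by
    rw [Q.map_comp, hι, hρ, CategoryTheory.Functor.map_id]
    simp only [Category.assoc, Iso.inv_hom_id_assoc]
    rw [reassoc_of% hip, Iso.hom_inv_id]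
  obtain ⟨h⟩ := homotopy_of_Q_map_eq (ι ≫ ρ) (𝟙 G) hQ
  have hφ : (ι ≫ ρ).f (a - 1) = 0 := by
    rw [HomologicalComplex.comp_f]
    have : ι.f (a - 1) = 0 := (hEv (a - 1) (Or.inl (by omega))).eq_of_tgt _ _
    rw [this, zero_comp]
  obtain ⟨s, hs⟩ := exists_retract_cokernel_of_homotopy (ι ≫ ρ) h a hφ
  have hB : P (cokernel (G.d (a - 1) a)) :=
    prop_of_retract P hfac s (cokernel.π _) hs (hGP a)
  haveI : G.IsGE a := by
    rw [CochainComplex.isGE_iff]
    intro j hj
    rw [HomologicalComplex.exactAt_iff_isZero_homology]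
    exact (hF'z j (Or.inl hj)).of_iso
      ((homologyQIso G j).symm ≪≫ (homologyFunctor C j).mapIso eG)
  have eop : G.opcycles a ≅ cokernel (G.d (a - 1) a) :=
    IsColimit.coconePointUniqueUpToIso (G.opcyclesIsCokernel (a - 1) a (by simp))
      (colimit.isColimit _)
  refine ⟨G.truncGE a, fun j => ?_, fun j hj => ?_,
    ⟨(asIso (Q.map (G.πTruncGE a))).symm ≪≫ eG⟩⟩
  · rcases lt_trichotomy j a with hj | hj | hj
    · exact P.prop_of_isZero (CochainComplex.isZero_of_isStrictlyGE (G.truncGE a) a j hj)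
    · subst hj
      exact P.prop_of_iso (G.truncGEXIsoOpcycles j ≪≫ eop).symm hB
    · exact P.prop_of_iso (G.truncGEXIso a j hj).symm (hGP j)
  · rcases hj with hj | hj
    · exact CochainComplex.isZero_of_isStrictlyGE (G.truncGE a) a j hj
    · by_cases hja : a < j
      · exact (hGb j hj).of_iso (G.truncGEXIso a j hja)
      · have hB0 : IsZero (cokernel (G.d (a - 1) a)) :=
          IsZero.of_epi (cokernel.π _) (hGb a (by omega))
        rcases lt_or_eq_of_le (not_lt.1 hja) with h1 | h1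
        · exact CochainComplex.isZero_of_isStrictlyGE (G.truncGE a) a j h1
        · subst h1
          exact hB0.of_iso (G.truncGEXIsoOpcycles j ≪≫ eop)

end Perfect

end Groth.Agent.Helper9.PCohLib
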