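import Mathlib
import Groth.Agent.Lib.Helper9.PCoh25

/-!
# Bounded complexes of injectives in the derived category: two-out-of-three (S11159)
-/

set_option autoImplicit false
universe w v u
open CategoryTheory CategoryTheory.Limits Pretriangulated

namespace Groth.Agent.Helper9.KInj

variable {C : Type u} [Category.{v} C] [Abelian C]

open Groth.Agent.Helper9.PCohLib

/-- The property of being injective, as an object property. -/
def injP (C : Type u) [Category.{v} C] : ObjectProperty C := fun X => Injective X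

instance : (injP C).IsClosedUnderIsomorphisms where
  of_iso e h := Injective.of_iso e h

instance : (injP C).ContainsZero where
  exists_zero := ⟨_, isZero_zero C, (isZero_zero C).injective⟩

theorem injP_prod (X Y : C) (hX : injP C X) (hY : injP C Y) : injP C (X ⨯ Y) := by
  haveI : Injective X := hX
  haveI : Injective Y := hY
  exact (inferInstance : Injective (X ⨯ Y))

open DerivedCategory in
theorem exists_map_of_isKInjective [HasDerivedCategory.{w} C] (K L : CochainComplex C ℤ)
    [L.IsKInjective] (φ : Q.obj K ⟶ Q.obj L) : ∃ g : K ⟶ L, Q.map g = φ := by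
  obtain ⟨g', hg'⟩ := (CochainComplex.IsKInjective.Qh_map_bijective
    ((HomotopyCategory.quotient C (ComplexShape.up ℤ)).obj K) L).surjective
    ((quotientCompQhIso C).hom.app K ≫ φ ≫ (quotientCompQhIso C).inv.app L)
  obtain ⟨g, rfl⟩ := (HomotopyCategory.quotient C (ComplexShape.up ℤ)).map_surjective g'
  refine ⟨g, ?_⟩
  have := quotientCompQhIso_hom_naturality g
  rw [hg'] at this
  simp only [Category.assoc, Iso.inv_hom_id_app, Category.comp_id] at this
  exact ((cancel_epi _).1 this).symm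

open CochainComplex in
theorem isInjPerf_obj₃ [HasDerivedCategory.{w} C]
    (T : Triangle (DerivedCategory C)) (hT : T ∈ distTriang _) {a₁ b₁ a₂ b₂ : ℤ}
    (h₁ : IsPerf (injP C) a₁ b₁ T.obj₁) (h₂ : IsPerf (injP C) a₂ b₂ T.obj₂) :
    IsPerf (injP C) (min (a₁ - 1) a₂) (max (b₁ - 1) b₂) T.obj₃ := by
  obtain ⟨E₁, hP₁, hv₁, ⟨e₁⟩⟩ := h₁
  obtain ⟨E₂, hP₂, hv₂, ⟨e₂⟩⟩ := h₂
  haveI : E₂.IsStrictlyGE a₂ := by
    rw [CochainComplex.isStrictlyGE_iff]
    exact fun i hi => hv₂ i (Or.inl hi)
  haveI : ∀ n : ℤ, Injective (E₂.X n) := fun n => hP₂ n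
  haveI : E₂.IsKInjective := CochainComplex.isKInjective_of_injective E₂ a₂
  obtain ⟨g, hg⟩ := exists_map_of_isKInjective E₁ E₂ (e₁.hom ≫ T.mor₁ ≫ e₂.inv)
  refine ⟨mappingCone g, fun i => prop_mappingCone_X (injP C) injP_prod g i (hP₁ _) (hP₂ _),
    fun i hi => ?_, ⟨?_⟩⟩
  · have e : (mappingCone g).X i ≅ E₁.X (i + 1) ⊞ E₂.X i :=
      HomologicalComplex.homotopyCofiber.XIsoBiprod g i (i + 1) rfl
    have h1 : IsZero (E₁.X (i + 1)) := hv₁ _ (by
      rcases hi with hi | hi
      · left; have := min_le_left (a₁ - 1) a₂; omega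
      · right; have := le_max_left (b₁ - 1) b₂; omega)
    have h2 : IsZero (E₂.X i) := hv₂ _ (by
      rcases hi with hi | hi
      · left; have := min_le_right (a₁ - 1) a₂; omega
      · right; have := le_max_right (b₁ - 1) b₂; omega)
    refine IsZero.of_iso ?_ e
    rw [IsZero.iff_id_eq_zero]
    apply biprod.hom_ext
    · rw [zero_comp]; exact h1.eq_of_tgt _ _
    · rw [zero_comp]; exact h2.eq_of_tgt _ _
  · have hT' := DerivedCategory.mappingCone_triangle_distinguished g
    exact Triangle.π₃.mapIso (isoTriangleOfIso₁₂ _ T hT' hT e₁ e₂ (by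
      change DerivedCategory.Q.map g ≫ e₂.hom = e₁.hom ≫ T.mor₁
      rw [hg]
      simp))

theorem isInjPerf_obj₂ [HasDerivedCategory.{w} C] (T : Triangle (DerivedCategory C))
    (hT : T ∈ distTriang _) {a b : ℤ}
    (h₁ : IsPerf (injP C) a b T.obj₁) (h₃ : IsPerf (injP C) a b T.obj₃) :
    IsPerf (injP C) a b T.obj₂ := by
  have hT' := inv_rot_of_distTriang T hT
  have h := isInjPerf_obj₃ T.invRotate hT' (h₃.shift (-1)) h₁
  exact h.of_le (le_min (by omega) le_rfl) (max_le (by omega) le_rfl)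

/-- Translation from the `IsStrictlyGE`/`IsStrictlyLE` formulation. -/
theorem isPerf_injP_iff [HasDerivedCategory.{w} C] (F : DerivedCategory C) :
    (∃ (I : CochainComplex C ℤ) (b c : ℤ), I.IsStrictlyGE b ∧ I.IsStrictlyLE c ∧
        (∀ n : ℤ, Injective (I.X n)) ∧ Nonempty (F ≅ DerivedCategory.Q.obj I)) ↔
      ∃ a b : ℤ, IsPerf (injP C) a b F := by
  constructor
  · rintro ⟨I, b, c, hb, hc, hI, ⟨e⟩⟩
    refine ⟨b, c, I, hI, fun i hi => ?_, ⟨e.symm⟩⟩
    rcases hi with hi | hi
    · exact CochainComplex.isZero_of_isStrictlyGE I b i hi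
    · exact CochainComplex.isZero_of_isStrictlyLE I c i hi
  · rintro ⟨a, b, I, hI, hv, ⟨e⟩⟩
    refine ⟨I, a, b, ?_, ?_, hI, ⟨e.symm⟩⟩
    · rw [CochainComplex.isStrictlyGE_iff]
      exact fun i hi => hv i (Or.inl hi)
    · rw [CochainComplex.isStrictlyLE_iff]
      exact fun i hi => hv i (Or.inr hi)

end Groth.Agent.Helper9.KInj
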