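import Mathlib
import Groth.Agent.Lib.Helper9.KInj1

/-!
# Injective amplitude (S11153, S12537)
-/

set_option autoImplicit false
universe w v u
open CategoryTheory CategoryTheory.Limits Pretriangulated

namespace Groth.Agent.Helper9.KInj

variable {C : Type u} [Category.{v} C] [Abelian C]

open DerivedCategory in
theorem homotopy_of_Q_map_eq' [HasDerivedCategory.{w} C] {K L : CochainComplex C ℤ}
    [L.IsKInjective] (f g : K ⟶ L) (h : Q.map f = Q.map g) : Nonempty (Homotopy f g) := by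
  have key : ∀ φ : K ⟶ L, Qh.map ((HomotopyCategory.quotient C (ComplexShape.up ℤ)).map φ) =
      (quotientCompQhIso C).hom.app K ≫ Q.map φ ≫ (quotientCompQhIso C).inv.app L := by
    intro φ
    have := quotientCompQhIso_hom_naturality φ
    rw [← Category.assoc, ← this]
    simp
  have h' : Qh.map ((HomotopyCategory.quotient C (ComplexShape.up ℤ)).map f) =
      Qh.map ((HomotopyCategory.quotient C (ComplexShape.up ℤ)).map g) := by
    rw [key, key, h]
  exact ⟨HomotopyCategory.homotopyOfEq f g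
    ((CochainComplex.IsKInjective.Qh_map_bijective _ L).injective h')⟩

theorem shift_d_eq (I : CochainComplex C ℤ) (m i j i' j' : ℤ) (hi : i' = i + m) (hj : j' = j + m) :
    ((shiftFunctor (CochainComplex C ℤ) m).obj I).d i j =
      (m.negOnePow : ℤˣ) • ((I.shiftFunctorObjXIso m i i' hi).hom ≫ I.d i' j' ≫
        (I.shiftFunctorObjXIso m j j' hj).inv) := by
  subst hi hj
  simp only [CochainComplex.shiftFunctor_obj_d', CochainComplex.shiftFunctorObjXIso,
    HomologicalComplex.XIsoOfEq_rfl, Iso.refl_hom, Iso.refl_inv]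
  erw [Category.id_comp, Category.comp_id]
  rfl

/-- Fact A: vanishing of `Hom(Y[0], I[m])` gives factorisation of cycles through the differential. -/
theorem exists_factor_of_hom_eq_zero [HasDerivedCategory.{w} C] (I : CochainComplex C ℤ)
    [I.IsKInjective] (Y : C) (m : ℤ)
    (h : ∀ φ : (DerivedCategory.singleFunctor C 0).obj Y ⟶
      (shiftFunctor (DerivedCategory C) m).obj (DerivedCategory.Q.obj I), φ = 0)
    (f : Y ⟶ I.X m) (hf : f ≫ I.d m (m + 1) = 0) :
    ∃ g : Y ⟶ I.X (m - 1), g ≫ I.d (m - 1) m = f := by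
  obtain ⟨e0, he0⟩ : ∃ e0 : ((shiftFunctor (CochainComplex C ℤ) m).obj I).X 0 ≅ I.X m,
      e0 = I.shiftFunctorObjXIso m 0 m (zero_add m).symm := ⟨_, rfl⟩
  obtain ⟨e1, he1⟩ : ∃ e1 : ((shiftFunctor (CochainComplex C ℤ) m).obj I).X (-1) ≅ I.X (m - 1),
      e1 = I.shiftFunctorObjXIso m (-1) (m - 1) (by ring) := ⟨_, rfl⟩
  obtain ⟨e2, he2⟩ : ∃ e2 : ((shiftFunctor (CochainComplex C ℤ) m).obj I).X 1 ≅ I.X (m + 1),
      e2 = I.shiftFunctorObjXIso m 1 (m + 1) (by ring) := ⟨_, rfl⟩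
  have hd01 : ((shiftFunctor (CochainComplex C ℤ) m).obj I).d 0 1 =
      (m.negOnePow : ℤˣ) • (e0.hom ≫ I.d m (m + 1) ≫ e2.inv) := by
    rw [he0, he2]; exact shift_d_eq I m 0 1 m (m + 1) _ _
  have hd10 : ((shiftFunctor (CochainComplex C ℤ) m).obj I).d (-1) 0 =
      (m.negOnePow : ℤˣ) • (e1.hom ≫ I.d (m - 1) m ≫ e0.inv) := by
    rw [he0, he1]; exact shift_d_eq I m (-1) 0 (m - 1) m _ _
  -- the chain map
  have hf' : ∀ k : ℤ, (ComplexShape.up ℤ).Rel 0 k →
      (f ≫ e0.inv) ≫ ((shiftFunctor (CochainComplex C ℤ) m).obj I).d 0 k = 0 := by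
    intro k hk
    obtain rfl : k = 1 := by simpa using hk.symm
    rw [hd01, Linear.comp_units_smul, Category.assoc, Iso.inv_hom_id_assoc, reassoc_of% hf,
      zero_comp, smul_zero]
  obtain ⟨F, hF⟩ : ∃ F : (HomologicalComplex.single C (ComplexShape.up ℤ) 0).obj Y ⟶
      (shiftFunctor (CochainComplex C ℤ) m).obj I,
      F = HomologicalComplex.mkHomFromSingle (f ≫ e0.inv) hf' :=
    ⟨_, rfl⟩
  have hF0 : F.f 0 = (HomologicalComplex.singleObjXSelf (ComplexShape.up ℤ) 0 Y).hom ≫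
      f ≫ e0.inv := by
    rw [hF, HomologicalComplex.mkHomFromSingle_f]
  have hQF : DerivedCategory.Q.map F = 0 := by
    have h1 := h (DerivedCategory.Q.map F ≫ ((DerivedCategory.Q (C := C)).commShiftIso m).hom.app I)
    rw [← cancel_mono (((DerivedCategory.Q (C := C)).commShiftIso m).hom.app I), zero_comp]
    exact h1
  obtain ⟨H⟩ := homotopy_of_Q_map_eq' F 0 (by rw [hQF, Functor.map_zero])
  have hc := H.comm 0
  rw [dNext_eq H.hom (show (ComplexShape.up ℤ).Rel 0 1 by simp),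
    prevD_eq H.hom (show (ComplexShape.up ℤ).Rel (-1) 0 by simp), HomologicalComplex.zero_f,
    add_zero, hF0] at hc
  have hd0 : ((HomologicalComplex.single C (ComplexShape.up ℤ) 0).obj Y).d 0 1 = 0 :=
    (HomologicalComplex.isZero_single_obj_X (ComplexShape.up ℤ) 0 Y 1 (by omega)).eq_of_tgt _ _
  rw [hd0, zero_comp, zero_add, hd10, Linear.comp_units_smul] at hc
  refine ⟨(m.negOnePow : ℤˣ) • ((HomologicalComplex.singleObjXSelf (ComplexShape.up ℤ) 0 Y).inv ≫
    H.hom 0 (-1) ≫ e1.hom), ?_⟩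
  have h2 : f = (HomologicalComplex.singleObjXSelf (ComplexShape.up ℤ) 0 Y).inv ≫
      ((m.negOnePow : ℤˣ) • (H.hom 0 (-1) ≫ e1.hom ≫ I.d (m - 1) m ≫ e0.inv)) ≫ e0.hom := by
    rw [← hc]; simp
  have h3 : ((m.negOnePow : ℤˣ) • (H.hom 0 (-1) ≫ e1.hom ≫ I.d (m - 1) m ≫ e0.inv)) ≫ e0.hom =
      (m.negOnePow : ℤˣ) • (H.hom 0 (-1) ≫ e1.hom ≫ I.d (m - 1) m) := by
    rw [Linear.units_smul_comp]
    simp
  rw [Linear.units_smul_comp, h2, h3, Linear.comp_units_smul]
  simp

/-- Fact A with flexible indices. -/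
theorem exists_factor_of_hom_eq_zero' [HasDerivedCategory.{w} C] (I : CochainComplex C ℤ)
    [I.IsKInjective] (Y : C) (m' m m'' : ℤ) (hm' : m' + 1 = m) (hm'' : m + 1 = m'')
    (h : ∀ φ : (DerivedCategory.singleFunctor C 0).obj Y ⟶
      (shiftFunctor (DerivedCategory C) m).obj (DerivedCategory.Q.obj I), φ = 0)
    (f : Y ⟶ I.X m) (hf : f ≫ I.d m m'' = 0) :
    ∃ g : Y ⟶ I.X m', g ≫ I.d m' m = f := by
  obtain rfl : m' = m - 1 := by omega
  subst hm''
  exact exists_factor_of_hom_eq_zero I Y m h f hf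

/-- Maps from an object in degree `0` to a shift of a K-injective complex whose relevant term
vanishes are zero. -/
theorem hom_single_shift_eq_zero [HasDerivedCategory.{w} C] (I : CochainComplex C ℤ)
    [I.IsKInjective] (Y : C) (i : ℤ) (hi : IsZero (I.X i))
    (φ : (DerivedCategory.singleFunctor C 0).obj Y ⟶
      (shiftFunctor (DerivedCategory C) i).obj (DerivedCategory.Q.obj I)) : φ = 0 := by
  obtain ⟨F, hF⟩ := exists_map_of_isKInjective
    ((HomologicalComplex.single C (ComplexShape.up ℤ) 0).obj Y)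
    ((shiftFunctor (CochainComplex C ℤ) i).obj I)
    (φ ≫ ((DerivedCategory.Q (C := C)).commShiftIso i).inv.app I)
  have hF0 : F = 0 := by
    refine HomologicalComplex.hom_ext _ _ (fun j => ?_)
    by_cases hj : j = 0
    · subst hj
      exact (hi.of_iso (I.shiftFunctorObjXIso i 0 i (zero_add i).symm)).eq_of_tgt _ _
    · exact (HomologicalComplex.isZero_single_obj_X (ComplexShape.up ℤ) 0 Y j hj).eq_of_src _ _
  rw [hF0, Functor.map_zero] at hF
  rw [← cancel_mono (((DerivedCategory.Q (C := C)).commShiftIso i).inv.app I), zero_comp]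
  exact hF.symm

/-- Truncating a bounded below complex of injectives with vanishing `Ext`s above `n₀`. -/
theorem exists_bounded_injective [HasDerivedCategory.{w} C] (I : CochainComplex C ℤ) (a n₀ : ℤ)
    [I.IsStrictlyGE a] (hI : ∀ n : ℤ, Injective (I.X n))
    (h : ∀ (Y : C) (i : ℤ), n₀ < i → ∀ φ : (DerivedCategory.singleFunctor C 0).obj Y ⟶
      (shiftFunctor (DerivedCategory C) i).obj (DerivedCategory.Q.obj I), φ = 0) :
    ∃ (J : CochainComplex C ℤ) (r : I ⟶ J), J.IsStrictlyGE a ∧ J.IsStrictlyLE n₀ ∧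
      (∀ n : ℤ, Injective (J.X n)) ∧ QuasiIso r := by
  haveI : ∀ n : ℤ, Injective (I.X n) := hI
  haveI : I.IsKInjective := CochainComplex.isKInjective_of_injective I a
  -- `I` is exact above `n₀`
  haveI : I.IsLE n₀ := by
    rw [CochainComplex.isLE_iff]
    intro i hi
    rw [HomologicalComplex.exactAt_iff_exact_up_to_refinements I (i - 1) i (i + 1) (by simp) (by simp)]
    intro W x₂ hx₂
    obtain ⟨g, hg⟩ := exists_factor_of_hom_eq_zero' I W (i - 1) i (i + 1) (by ring) rfl (h W i hi)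
      x₂ hx₂
    exact ⟨W, 𝟙 W, inferInstance, g, by rw [Category.id_comp, hg]⟩
  -- the cycles in degree `n₀` are injective
  obtain ⟨g, hg⟩ := exists_factor_of_hom_eq_zero' I (I.cycles (n₀ + 1)) n₀ (n₀ + 1) (n₀ + 1 + 1)
    rfl rfl (h _ (n₀ + 1) (by omega)) (I.iCycles (n₀ + 1)) (by simp)
  have h0 : I.iCycles n₀ ≫ I.toCycles n₀ (n₀ + 1) = 0 := by
    rw [← cancel_mono (I.iCycles (n₀ + 1)), Category.assoc, HomologicalComplex.toCycles_i,
      HomologicalComplex.iCycles_d, zero_comp]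
  have hρ₀ : (𝟙 (I.X n₀) - I.toCycles n₀ (n₀ + 1) ≫ g) ≫ I.d n₀ (n₀ + 1) = 0 := by
    rw [Preadditive.sub_comp, Category.id_comp, Category.assoc, hg,
      HomologicalComplex.toCycles_i, sub_self]
  obtain ⟨ρ, hρ⟩ : ∃ ρ : I.X n₀ ⟶ I.cycles n₀, I.iCycles n₀ ≫ ρ = 𝟙 _ := by
    refine ⟨I.liftCycles (𝟙 (I.X n₀) - I.toCycles n₀ (n₀ + 1) ≫ g) (n₀ + 1) (by simp) hρ₀, ?_⟩
    rw [← cancel_mono (I.iCycles n₀), Category.assoc, HomologicalComplex.liftCycles_i,
      Preadditive.comp_sub, Category.comp_id, reassoc_of% h0, zero_comp, sub_zero,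
      Category.id_comp]
  have hcyc : Injective (I.cycles n₀) :=
    ⟨fun {X Y} u v _ => ⟨Injective.factorThru (u ≫ I.iCycles n₀) v ≫ ρ, by
      rw [← Category.assoc, Injective.comp_factorThru, Category.assoc, hρ, Category.comp_id]⟩⟩
  -- the truncation
  have hJinj : ∀ n : ℤ, Injective ((I.truncLE n₀).X n) := by
    intro n
    rcases lt_trichotomy n n₀ with hn | hn | hn
    · exact Injective.of_iso (I.truncLEXIso n₀ n hn).symm (hI n)
    · subst hn
      exact Injective.of_iso (I.truncLEXIsoCycles n).symm hcyc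
    · exact (CochainComplex.isZero_of_isStrictlyLE (I.truncLE n₀) n₀ n hn).injective
  have hJa : (I.truncLE n₀).IsStrictlyGE a := by
    rw [CochainComplex.isStrictlyGE_iff]
    intro i hi
    haveI : Mono ((I.ιTruncLE n₀).f i) := by
      dsimp [CochainComplex.ιTruncLE]; infer_instance
    exact IsZero.of_mono ((I.ιTruncLE n₀).f i) (CochainComplex.isZero_of_isStrictlyGE I a i hi)
  haveI : ∀ n : ℤ, Injective ((I.truncLE n₀).X n) := hJinj
  haveI := hJa
  haveI : (I.truncLE n₀).IsKInjective := CochainComplex.isKInjective_of_injective _ a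
  haveI : IsIso (DerivedCategory.Q.map (I.ιTruncLE n₀)) := by
    rw [DerivedCategory.isIso_Q_map_iff_quasiIso]
    infer_instance
  obtain ⟨r, hr⟩ := exists_map_of_isKInjective I (I.truncLE n₀)
    (inv (DerivedCategory.Q.map (I.ιTruncLE n₀)))
  refine ⟨I.truncLE n₀, r, hJa, inferInstance, hJinj, ?_⟩
  rw [← DerivedCategory.isIso_Q_map_iff_quasiIso, hr]
  infer_instance

end Groth.Agent.Helper9.KInj
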