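import Mathlib
import Groth.Agent.Lib.Helper9.KInj2

/-!
# Vanishing of `Hom(Y[0], K[i])` for all `Y` forces exactness of `K` in degree `i` (for S12537)
-/

set_option autoImplicit false
universe w v u
open CategoryTheory CategoryTheory.Limits Pretriangulated

namespace Groth.Agent.Helper9.KInj

variable {C : Type u} [Category.{v} C] [Abelian C]

theorem exactAt_of_hom_eq_zero [HasDerivedCategory.{w} C] (K : CochainComplex C ℤ) (i : ℤ)
    (h : ∀ (Y : C) (φ : (DerivedCategory.singleFunctor C 0).obj Y ⟶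
      (shiftFunctor (DerivedCategory C) i).obj (DerivedCategory.Q.obj K)), φ = 0) :
    K.ExactAt i := by
  rw [HomologicalComplex.exactAt_iff_exact_up_to_refinements K (i - 1) i (i + 1) (by simp) (by simp)]
  intro W x₂ hx₂
  obtain ⟨e0, he0⟩ : ∃ e0 : ((shiftFunctor (CochainComplex C ℤ) i).obj K).X 0 ≅ K.X i,
      e0 = K.shiftFunctorObjXIso i 0 i (zero_add i).symm := ⟨_, rfl⟩
  obtain ⟨e1, he1⟩ : ∃ e1 : ((shiftFunctor (CochainComplex C ℤ) i).obj K).X (-1) ≅ K.X (i - 1),
      e1 = K.shiftFunctorObjXIso i (-1) (i - 1) (by ring) := ⟨_, rfl⟩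
  obtain ⟨e2, he2⟩ : ∃ e2 : ((shiftFunctor (CochainComplex C ℤ) i).obj K).X 1 ≅ K.X (i + 1),
      e2 = K.shiftFunctorObjXIso i 1 (i + 1) (by ring) := ⟨_, rfl⟩
  have hd01 : ((shiftFunctor (CochainComplex C ℤ) i).obj K).d 0 1 =
      (i.negOnePow : ℤˣ) • (e0.hom ≫ K.d i (i + 1) ≫ e2.inv) := by
    rw [he0, he2]; exact shift_d_eq K i 0 1 i (i + 1) _ _
  have hd10 : ((shiftFunctor (CochainComplex C ℤ) i).obj K).d (-1) 0 =
      (i.negOnePow : ℤˣ) • (e1.hom ≫ K.d (i - 1) i ≫ e0.inv) := by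
    rw [he0, he1]; exact shift_d_eq K i (-1) 0 (i - 1) i _ _
  have hcyc : (x₂ ≫ e0.inv) ≫ ((shiftFunctor (CochainComplex C ℤ) i).obj K).d 0 1 = 0 := by
    rw [hd01, Linear.comp_units_smul, Category.assoc, Iso.inv_hom_id_assoc, reassoc_of% hx₂,
      zero_comp, smul_zero]
  have hf' : ∀ k : ℤ, (ComplexShape.up ℤ).Rel 0 k →
      (x₂ ≫ e0.inv) ≫ ((shiftFunctor (CochainComplex C ℤ) i).obj K).d 0 k = 0 := by
    intro k hk
    obtain rfl : k = 1 := by simpa using hk.symm
    exact hcyc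
  obtain ⟨ζ, hζ⟩ : ∃ ζ : (HomologicalComplex.single C (ComplexShape.up ℤ) 0).obj W ⟶
      (shiftFunctor (CochainComplex C ℤ) i).obj K,
      ζ = HomologicalComplex.mkHomFromSingle (x₂ ≫ e0.inv) hf' := ⟨_, rfl⟩
  have hζ0 : ζ.f 0 = (HomologicalComplex.singleObjXSelf (ComplexShape.up ℤ) 0 W).hom ≫
      x₂ ≫ e0.inv := by
    rw [hζ, HomologicalComplex.mkHomFromSingle_f]
  have hQζ : DerivedCategory.Q.map ζ = 0 := by
    have h1 := h W (DerivedCategory.Q.map ζ ≫ ((DerivedCategory.Q (C := C)).commShiftIso i).hom.app K)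
    rw [← cancel_mono (((DerivedCategory.Q (C := C)).commShiftIso i).hom.app K), zero_comp]
    exact h1
  have hH : HomologicalComplex.homologyMap ζ 0 = 0 := by
    have h1 := (DerivedCategory.homologyFunctorFactors C 0).hom.naturality ζ
    rw [Functor.comp_map, hQζ, Functor.map_zero, zero_comp] at h1
    have h2 : (DerivedCategory.homologyFunctorFactors C 0).hom.app
        ((HomologicalComplex.single C (ComplexShape.up ℤ) 0).obj W) ≫
          HomologicalComplex.homologyMap ζ 0 = 0 := h1.symm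
    exact (cancel_epi ((DerivedCategory.homologyFunctorFactors C 0).hom.app
      ((HomologicalComplex.single C (ComplexShape.up ℤ) 0).obj W))).1 (h2.trans comp_zero.symm)
  have hc0 : (HomologicalComplex.singleObjXSelf (ComplexShape.up ℤ) 0 W).inv ≫
      ((HomologicalComplex.single C (ComplexShape.up ℤ) 0).obj W).d 0 1 = 0 :=
    (HomologicalComplex.isZero_single_obj_X (ComplexShape.up ℤ) 0 W 1 (by omega)).eq_of_tgt _ _
  have key : ((shiftFunctor (CochainComplex C ℤ) i).obj K).liftCycles (x₂ ≫ e0.inv) 1 (by simp) hcyc ≫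
      ((shiftFunctor (CochainComplex C ℤ) i).obj K).homologyπ 0 = 0 := by
    have h1 : ((shiftFunctor (CochainComplex C ℤ) i).obj K).liftCycles (x₂ ≫ e0.inv) 1 (by simp) hcyc =
        ((HomologicalComplex.single C (ComplexShape.up ℤ) 0).obj W).liftCycles
          (HomologicalComplex.singleObjXSelf (ComplexShape.up ℤ) 0 W).inv 1 (by simp) hc0 ≫
          HomologicalComplex.cyclesMap ζ 0 := by
      rw [← cancel_mono (((shiftFunctor (CochainComplex C ℤ) i).obj K).iCycles 0), Category.assoc,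
        HomologicalComplex.liftCycles_i, HomologicalComplex.cyclesMap_i,
        HomologicalComplex.liftCycles_i_assoc, hζ0, Iso.inv_hom_id_assoc]
    rw [h1, Category.assoc, ← HomologicalComplex.homologyπ_naturality, hH, comp_zero, comp_zero]
  obtain ⟨A', π, hπ, x₁, hx₁⟩ :=
    (((shiftFunctor (CochainComplex C ℤ) i).obj K).liftCycles_comp_homologyπ_eq_zero_iff_up_to_refinements
      (-1) 0 1 (by simp) (by simp) (x₂ ≫ e0.inv) hcyc).1 key
  refine ⟨A', π, hπ, (i.negOnePow : ℤˣ) • (x₁ ≫ e1.hom), ?_⟩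
  rw [hd10, Linear.comp_units_smul] at hx₁
  rw [← cancel_mono e0.inv, Category.assoc, hx₁]
  simp only [Linear.units_smul_comp, Category.assoc]

end Groth.Agent.Helper9.KInj
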