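import Mathlib

/-!
# Right derived functors from K-injective resolutions
-/

set_option autoImplicit false
universe w v u v' u'
open CategoryTheory CategoryTheory.Limits

namespace Groth.Agent.Helper9.KInjDer

variable {A : Type u} [Category.{v} A] [Abelian A]

/-- The property of being K-injective in the homotopy category. -/
abbrev kinj (A : Type u) [Category.{v} A] [Abelian A] :
    ObjectProperty (HomotopyCategory A (ComplexShape.up ℤ)) :=
  (HomotopyCategory.subcategoryAcyclic A).rightOrthogonal

section

variable [HasDerivedCategory.{w} A]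

lemma Qh_map_bijective (X Y : HomotopyCategory A (ComplexShape.up ℤ)) (hY : kinj A Y) :
    Function.Bijective (DerivedCategory.Qh.map : (X ⟶ Y) → _) :=
  ObjectProperty.rightOrthogonal.map_bijective_of_isTriangulated hY DerivedCategory.Qh X

lemma exists_lift {X I J : HomotopyCategory A (ComplexShape.up ℤ)} (hJ : kinj A J) (w : X ⟶ I)
    (hw : HomotopyCategory.quasiIso A (ComplexShape.up ℤ) w) (g : X ⟶ J) :
    ∃ f : I ⟶ J, w ≫ f = g := by
  haveI : IsIso (DerivedCategory.Qh.map w) :=
    Localization.inverts DerivedCategory.Qh (HomotopyCategory.quasiIso A (ComplexShape.up ℤ)) w hw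
  obtain ⟨f, hf⟩ := (Qh_map_bijective I J hJ).2
    (inv (DerivedCategory.Qh.map w) ≫ DerivedCategory.Qh.map g)
  refine ⟨f, (Qh_map_bijective X J hJ).1 ?_⟩
  rw [Functor.map_comp, hf, IsIso.hom_inv_id_assoc]

lemma lift_unique {X I J : HomotopyCategory A (ComplexShape.up ℤ)} (hJ : kinj A J) (w : X ⟶ I)
    (hw : HomotopyCategory.quasiIso A (ComplexShape.up ℤ) w) (f f' : I ⟶ J)
    (h : w ≫ f = w ≫ f') : f = f' := by
  haveI : IsIso (DerivedCategory.Qh.map w) :=
    Localization.inverts DerivedCategory.Qh (HomotopyCategory.quasiIso A (ComplexShape.up ℤ)) w hw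
  apply (Qh_map_bijective I J hJ).1
  rw [← cancel_epi (DerivedCategory.Qh.map w), ← Functor.map_comp, ← Functor.map_comp, h]

end

/-- The localizer morphism given by the inclusion of K-injective objects. -/
def Φ (A : Type u) [Category.{v} A] [Abelian A] :
    LocalizerMorphism (MorphismProperty.isomorphisms (kinj A).FullSubcategory)
      (HomotopyCategory.quasiIso A (ComplexShape.up ℤ)) where
  functor := (kinj A).ι
  map := by
    intro X Y f hf
    have hf' : IsIso f := hf
    dsimp only [MorphismProperty.inverseImage]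
    rw [HomotopyCategory.mem_quasiIso_iff]
    intro n
    infer_instance

variable (hKinj : ∀ K : CochainComplex A ℤ, ∃ (I : CochainComplex A ℤ) (f : K ⟶ I),
  I.IsKInjective ∧ QuasiIso f)

include hKinj in
lemma exists_resolution (X : HomotopyCategory A (ComplexShape.up ℤ)) :
    ∃ (I : (kinj A).FullSubcategory) (w : X ⟶ I.obj),
      HomotopyCategory.quasiIso A (ComplexShape.up ℤ) w := by
  obtain ⟨K, rfl⟩ := HomotopyCategory.quotient_obj_surjective X
  obtain ⟨I, f, hI, hf⟩ := hKinj K
  refine ⟨⟨(HomotopyCategory.quotient A (ComplexShape.up ℤ)).obj I,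
    (CochainComplex.isKInjective_iff_rightOrthogonal I).1 hI⟩,
    (HomotopyCategory.quotient A (ComplexShape.up ℤ)).map f, ?_⟩
  rw [HomotopyCategory.quotient_map_mem_quasiIso_iff]
  exact hf

include hKinj in
lemma hasRightResolutions : (Φ A).HasRightResolutions := by
  intro X
  obtain ⟨I, w, hw⟩ := exists_resolution hKinj X
  exact ⟨{ X₁ := I, w := w, hw := hw }⟩

section

variable [HasDerivedCategory.{w} A]

include hKinj in
lemma isConnected_rightResolution (X : HomotopyCategory A (ComplexShape.up ℤ)) :
    IsConnected ((Φ A).RightResolution X) := by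
  haveI : Nonempty ((Φ A).RightResolution X) := hasRightResolutions hKinj X
  apply zigzag_isConnected
  intro R R'
  obtain ⟨f, hf⟩ := exists_lift (J := R'.X₁.obj) R'.X₁.property R.w R.hw R'.w
  exact Zigzag.of_hom { f := ObjectProperty.homMk f, comm := hf }

include hKinj in
lemma arrow_hasRightResolutions : (Φ A).arrow.HasRightResolutions := by
  intro g
  obtain ⟨I, wI, hwI⟩ := exists_resolution hKinj g.left
  obtain ⟨J, wJ, hwJ⟩ := exists_resolution hKinj g.right
  obtain ⟨f, hf⟩ := exists_lift (J := J.obj) J.property wI hwI (g.hom ≫ wJ)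
  exact ⟨{ X₁ := Arrow.mk (ObjectProperty.homMk f : I ⟶ J)
           w := Arrow.homMk wI wJ hf
           hw := ⟨hwI, hwJ⟩ }⟩

include hKinj in
lemma isLocalizedEquivalence : (Φ A).IsLocalizedEquivalence := by
  haveI : ((Φ A).functor ⋙ DerivedCategory.Qh).Full := by
    constructor
    intro X Y g
    obtain ⟨f, hf⟩ := (Qh_map_bijective X.obj Y.obj Y.property).2 g
    exact ⟨ObjectProperty.homMk f, hf⟩
  haveI : ((Φ A).functor ⋙ DerivedCategory.Qh).Faithful := by
    constructor
    intro X Y f g h
    apply ((kinj A).ι).map_injective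
    exact (Qh_map_bijective X.obj Y.obj Y.property).1 h
  haveI : ((Φ A).functor ⋙ DerivedCategory.Qh).EssSurj := by
    constructor
    intro Y
    obtain ⟨I, w, hw⟩ := exists_resolution hKinj (DerivedCategory.Qh.objPreimage Y)
    haveI : IsIso (DerivedCategory.Qh.map w) :=
      Localization.inverts DerivedCategory.Qh
        (HomotopyCategory.quasiIso A (ComplexShape.up ℤ)) w hw
    exact ⟨I, ⟨(asIso (DerivedCategory.Qh.map w)).symm ≪≫ DerivedCategory.Qh.objObjPreimageIso Y⟩⟩
  haveI : ((Φ A).functor ⋙ DerivedCategory.Qh).IsEquivalence := { }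
  haveI : ((Φ A).functor ⋙ DerivedCategory.Qh).IsLocalization
      (MorphismProperty.isomorphisms (kinj A).FullSubcategory) :=
    Functor.IsLocalization.of_isEquivalence _ _ le_rfl
  exact LocalizerMorphism.IsLocalizedEquivalence.of_isLocalization_of_isLocalization (Φ A)
    DerivedCategory.Qh

include hKinj in
lemma isRightDerivabilityStructure : (Φ A).IsRightDerivabilityStructure := by
  haveI := isLocalizedEquivalence hKinj
  haveI := arrow_hasRightResolutions hKinj
  haveI : ∀ X, IsConnected ((Φ A).RightResolution X) := isConnected_rightResolution hKinj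
  exact LocalizerMorphism.IsRightDerivabilityStructure.mk' (Φ A)

variable {D' : Type u'} [Category.{v'} D']
  (F : HomotopyCategory A (ComplexShape.up ℤ) ⥤ D')

lemma derives : (Φ A).Derives F := MorphismProperty.isInvertedBy_isomorphisms _

include hKinj in
lemma hasPointwiseRightDerivedFunctor :
    F.HasPointwiseRightDerivedFunctor (HomotopyCategory.quasiIso A (ComplexShape.up ℤ)) := by
  haveI := isRightDerivabilityStructure hKinj
  exact (derives F).hasPointwiseRightDerivedFunctor

include hKinj in
lemma hasRightDerivedFunctor :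
    F.HasRightDerivedFunctor (HomotopyCategory.quasiIso A (ComplexShape.up ℤ)) := by
  haveI := hasPointwiseRightDerivedFunctor hKinj F
  infer_instance

include hKinj in
lemma isIso_unit [F.HasRightDerivedFunctor (HomotopyCategory.quasiIso A (ComplexShape.up ℤ))]
    (I : CochainComplex A ℤ) (hI : I.IsKInjective) :
    IsIso ((F.totalRightDerivedUnit DerivedCategory.Qh
      (HomotopyCategory.quasiIso A (ComplexShape.up ℤ))).app
        ((HomotopyCategory.quotient A (ComplexShape.up ℤ)).obj I)) := by
  haveI := isRightDerivabilityStructure hKinj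
  exact (derives F).isIso_of_isRightDerivedFunctor
    (F.totalRightDerivedUnit DerivedCategory.Qh (HomotopyCategory.quasiIso A (ComplexShape.up ℤ)))
    (⟨(HomotopyCategory.quotient A (ComplexShape.up ℤ)).obj I,
      (CochainComplex.isKInjective_iff_rightOrthogonal I).1 hI⟩ : (kinj A).FullSubcategory)

end

end Groth.Agent.Helper9.KInjDer
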