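import Mathlib

/-!
# Splitting idempotents in triangulated categories: algebraic lemmas
-/

set_option autoImplicit false
universe v u
open CategoryTheory CategoryTheory.Limits

namespace Groth.Agent.Helper9.Karoubi

/-- Two idempotents whose difference `δ` satisfies `δ² = 0` and `δ p δ = 0` are conjugate. -/
theorem ring_conj {R : Type*} [Ring R] (e p : R) (he : e * e = e) (hp : p * p = p)
    (hδ : (e - p) * (e - p) = 0) (hδp : (e - p) * p * (e - p) = 0) :
    ∃ a b : R, a * b = 1 ∧ b * a = 1 ∧ e * a = a * p := by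
  obtain ⟨δ, hδdef⟩ : ∃ δ, δ = e - p := ⟨_, rfl⟩
  rw [← hδdef] at hδ hδp
  have he' : e = p + δ := by rw [hδdef]; abel
  have h1 : p * δ + δ * p = δ := by
    have h : (p + δ) * (p + δ) = p + δ := by rw [← he']; exact he
    have h2 : (p + δ) * (p + δ) = p * p + (p * δ + δ * p) + δ * δ := by noncomm_ring
    rw [h2, hp, hδ, add_zero] at h
    exact add_left_cancel h
  have h2 : p * δ * p = 0 := by
    have h : p * (p * δ + δ * p) = p * δ := by rw [h1]
    rw [mul_add, ← mul_assoc, hp, ← mul_assoc] at h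
    exact add_left_cancel (a := p * δ) (by rw [h, add_zero])
  have hn : (δ * p - p * δ) * (δ * p - p * δ) = 0 := by
    have : (δ * p - p * δ) * (δ * p - p * δ) =
        (δ * p * δ) * p - δ * (p * p) * δ - p * (δ * δ) * p + p * (δ * p * δ) := by noncomm_ring
    rw [this, hp, hδ, hδp]
    simp
  refine ⟨1 + (δ * p - p * δ), 1 - (δ * p - p * δ), ?_, ?_, ?_⟩
  · have : (1 + (δ * p - p * δ)) * (1 - (δ * p - p * δ)) =
        1 - (δ * p - p * δ) * (δ * p - p * δ) := by noncomm_ring
    rw [this, hn, sub_zero]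
  · have : (1 - (δ * p - p * δ)) * (1 + (δ * p - p * δ)) =
        1 - (δ * p - p * δ) * (δ * p - p * δ) := by noncomm_ring
    rw [this, hn, sub_zero]
  · rw [he']
    have : (p + δ) * (1 + (δ * p - p * δ)) - (1 + (δ * p - p * δ)) * p =
        (p * δ * p + p * δ * p) - (p * p) * δ + δ + (δ * δ) * p - δ * p * δ - δ * (p * p) := by
      noncomm_ring
    rw [h2, hp, hδ, hδp] at this
    have h3 : (p + δ) * (1 + (δ * p - p * δ)) - (1 + (δ * p - p * δ)) * p = 0 := by
      rw [this]
      have : (0 : R) + 0 - p * δ + δ + 0 * p - 0 - δ * p = δ - (p * δ + δ * p) := by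
        noncomm_ring
      rw [this, h1, sub_self]
    exact sub_eq_zero.1 h3

variable {C : Type u} [Category.{v} C]

/-- An idempotent splits. -/
def Splits {X : C} (p : X ⟶ X) : Prop :=
  ∃ (Y : C) (i : Y ⟶ X) (e : X ⟶ Y), i ≫ e = 𝟙 Y ∧ e ≫ i = p

theorem splits_of_conj {X : C} (e p : X ⟶ X) (a b : X ⟶ X) (hab : a ≫ b = 𝟙 X)
    (hba : b ≫ a = 𝟙 X) (h : a ≫ e = p ≫ a) (hp : Splits p) : Splits e := by
  obtain ⟨Y, i, r, hir, hri⟩ := hp
  refine ⟨Y, i ≫ a, b ≫ r, ?_, ?_⟩
  · rw [Category.assoc, reassoc_of% hab, hir]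
  · rw [Category.assoc, reassoc_of% hri, ← h, reassoc_of% hba]

variable [Preadditive C]

/-- Conjugacy in a preadditive category. -/
theorem splits_of_nilpotent_diff {X : C} (e p : X ⟶ X) (he : e ≫ e = e) (hp : p ≫ p = p)
    (hδ : (e - p) ≫ (e - p) = 0) (hδp : (e - p) ≫ p ≫ (e - p) = 0) (hps : Splits p) :
    Splits e := by
  obtain ⟨a, b, hab, hba, h⟩ := ring_conj (R := End X) e p he hp hδ
    (by
      show (e - p) ≫ p ≫ (e - p) = 0
      exact hδp)
  exact splits_of_conj e p a b hba hab h hps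

theorem splits_sub {X : C} (p : X ⟶ X) (h : Splits (𝟙 X - (𝟙 X - p))) : Splits p := by
  simpa using h

end Groth.Agent.Helper9.Karoubi
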