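import Mathlib
import Groth.Agent.Lib.Helper9.Karoubi1

/-!
# Splitting idempotents in triangulated categories: triangles and bounded t-structures
-/

set_option autoImplicit false
universe v u
open CategoryTheory CategoryTheory.Limits CategoryTheory.Pretriangulated CategoryTheory.Triangulated

namespace Groth.Agent.Helper9.Karoubi

variable {C : Type u} [Category.{v} C] [Preadditive C]
  [HasZeroObject C] [HasShift C ℤ] [∀ n : ℤ, (shiftFunctor C n).Additive] [Pretriangulated C]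

/-- Lemma B: an idempotent endomorphism of a distinguished triangle `X₁ → X₂ → X₃` with
`Hom(X₁[1], X₃) = 0` whose outer components split has a split middle component. -/
theorem splits_hom₂ (T : Triangle C) (hT : T ∈ distTriang C)
    (hzero : ∀ k : (shiftFunctor C (1 : ℤ)).obj T.obj₁ ⟶ T.obj₃, k = 0)
    (φ : T ⟶ T) (hφ : φ ≫ φ = φ) (h₁ : Splits φ.hom₁) (h₃ : Splits φ.hom₃) :
    Splits φ.hom₂ := by
  have he₂ : φ.hom₂ ≫ φ.hom₂ = φ.hom₂ := congrArg TriangleMorphism.hom₂ hφ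
  obtain ⟨Y₁, i₁, r₁, hir₁, hri₁⟩ := h₁
  obtain ⟨Y₃, i₃, r₃, hir₃, hri₃⟩ := h₃
  -- the triangle on the images
  obtain ⟨Y₂, u', v', hTY⟩ := distinguished_cocone_triangle₂
    (i₃ ≫ T.mor₃ ≫ (shiftFunctor C (1 : ℤ)).map r₁)
  have hi₃ : i₃ ≫ φ.hom₃ = i₃ := by rw [← hri₃, reassoc_of% hir₃]
  have hr₁ : φ.hom₁ ≫ r₁ = r₁ := by rw [← hri₁, Category.assoc, hir₁, Category.comp_id]
  have hw : T.mor₃ ≫ (shiftFunctor C (1 : ℤ)).map φ.hom₁ = φ.hom₃ ≫ T.mor₃ := φ.comm₃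
  have huv : T.mor₁ ≫ T.mor₂ = 0 := comp_distTriang_mor_zero₁₂ T hT
  -- inclusion of triangles
  obtain ⟨i₂, hi₂u, hi₂v⟩ : ∃ i₂ : Y₂ ⟶ T.obj₂, u' ≫ i₂ = i₁ ≫ T.mor₁ ∧ v' ≫ i₃ = i₂ ≫ T.mor₂ :=
    complete_distinguished_triangle_morphism₂ _ T hTY hT i₁ i₃ (by
      show (i₃ ≫ T.mor₃ ≫ (shiftFunctor C (1 : ℤ)).map r₁) ≫ (shiftFunctor C (1 : ℤ)).map i₁ =
        i₃ ≫ T.mor₃
      rw [Category.assoc, Category.assoc, ← Functor.map_comp, hri₁, hw, reassoc_of% hi₃])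
  -- retraction of triangles
  obtain ⟨r₂, hr₂u, hr₂v⟩ : ∃ r₂ : T.obj₂ ⟶ Y₂, T.mor₁ ≫ r₂ = r₁ ≫ u' ∧ T.mor₂ ≫ r₃ = r₂ ≫ v' :=
    complete_distinguished_triangle_morphism₂ T _ hT hTY r₁ r₃ (by
      show T.mor₃ ≫ (shiftFunctor C (1 : ℤ)).map r₁ =
        r₃ ≫ i₃ ≫ T.mor₃ ≫ (shiftFunctor C (1 : ℤ)).map r₁
      rw [reassoc_of% hri₃, ← reassoc_of% hw, ← Functor.map_comp, hr₁])
  -- `θ = i₂ ≫ r₂` is an isomorphism
  have hθu : u' ≫ i₂ ≫ r₂ = u' := by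
    rw [reassoc_of% hi₂u, hr₂u, reassoc_of% hir₁]
  have hθv : (i₂ ≫ r₂) ≫ v' = v' := by
    rw [Category.assoc, ← hr₂v, ← reassoc_of% hi₂v, hir₃, Category.comp_id]
  let ψ : Triangle.mk u' v' (i₃ ≫ T.mor₃ ≫ (shiftFunctor C (1 : ℤ)).map r₁) ⟶
      Triangle.mk u' v' (i₃ ≫ T.mor₃ ≫ (shiftFunctor C (1 : ℤ)).map r₁) :=
    { hom₁ := 𝟙 _
      hom₂ := i₂ ≫ r₂
      hom₃ := 𝟙 _
      comm₁ := by
        show u' ≫ i₂ ≫ r₂ = 𝟙 _ ≫ u'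
        rw [hθu, Category.id_comp]
      comm₂ := by
        show v' ≫ 𝟙 _ = (i₂ ≫ r₂) ≫ v'
        rw [hθv, Category.comp_id]
      comm₃ := by
        show (i₃ ≫ T.mor₃ ≫ (shiftFunctor C (1 : ℤ)).map r₁) ≫
          (shiftFunctor C (1 : ℤ)).map (𝟙 Y₁) = 𝟙 Y₃ ≫ i₃ ≫ T.mor₃ ≫ (shiftFunctor C (1 : ℤ)).map r₁
        rw [CategoryTheory.Functor.map_id, Category.comp_id, Category.id_comp] }
  haveI hθ : IsIso (i₂ ≫ r₂) :=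
    isIso₂_of_isIso₁₃ ψ hTY hTY (by dsimp [ψ]; infer_instance) (by dsimp [ψ]; infer_instance)
  have hθu' : u' ≫ inv (i₂ ≫ r₂) = u' := by
    rw [IsIso.comp_inv_eq, hθu]
  have hθv' : inv (i₂ ≫ r₂) ≫ v' = v' := by
    rw [IsIso.inv_comp_eq, hθv]
  -- the split idempotent `p'`
  obtain ⟨r₂', hr₂'⟩ : ∃ r₂' : T.obj₂ ⟶ Y₂, r₂' = r₂ ≫ inv (i₂ ≫ r₂) := ⟨_, rfl⟩
  have hir₂ : i₂ ≫ r₂' = 𝟙 Y₂ := by
    rw [hr₂', ← Category.assoc, IsIso.hom_inv_id]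
  obtain ⟨p', hp'def⟩ : ∃ p' : T.obj₂ ⟶ T.obj₂, p' = r₂' ≫ i₂ := ⟨_, rfl⟩
  have hp' : p' ≫ p' = p' := by
    rw [hp'def, Category.assoc, reassoc_of% hir₂]
  have hup' : T.mor₁ ≫ p' = φ.hom₁ ≫ T.mor₁ := by
    rw [hp'def, hr₂', ← Category.assoc, ← Category.assoc, hr₂u, Category.assoc, Category.assoc,
      reassoc_of% hθu', hi₂u, reassoc_of% hri₁]
  have hp'v : p' ≫ T.mor₂ = T.mor₂ ≫ φ.hom₃ := by
    rw [hp'def, hr₂', Category.assoc, Category.assoc, ← hi₂v, reassoc_of% hθv', ← reassoc_of% hr₂v,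
      hri₃]
  -- the difference
  obtain ⟨δ, hδdef⟩ : ∃ δ : T.obj₂ ⟶ T.obj₂, δ = φ.hom₂ - p' := ⟨_, rfl⟩
  have huδ : T.mor₁ ≫ δ = 0 := by
    rw [hδdef, Preadditive.comp_sub, hup', φ.comm₁, sub_self]
  have hδv : δ ≫ T.mor₂ = 0 := by
    rw [hδdef, Preadditive.sub_comp, hp'v, φ.comm₂, sub_self]
  obtain ⟨g, hg⟩ := Triangle.yoneda_exact₂ T hT δ huδ
  have hgv : g ≫ T.mor₂ = 0 := by
    obtain ⟨k, hk⟩ := Triangle.yoneda_exact₃ T hT (g ≫ T.mor₂) (by rw [← Category.assoc, ← hg, hδv])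
    rw [hk, hzero k, comp_zero]
  obtain ⟨h, hh⟩ := Triangle.coyoneda_exact₂ T hT g hgv
  have hδ' : δ = T.mor₂ ≫ h ≫ T.mor₁ := by rw [hg, hh]
  have hδδ : δ ≫ δ = 0 := by
    rw [hδ']
    simp only [Category.assoc, reassoc_of% huv, zero_comp, comp_zero]
  have hδpδ : δ ≫ p' ≫ δ = 0 := by
    rw [hδ']
    simp only [Category.assoc, reassoc_of% hup', reassoc_of% huv, zero_comp, comp_zero]
  rw [hδdef] at hδδ hδpδ
  exact splits_of_nilpotent_diff φ.hom₂ p' he₂ hp' hδδ hδpδ ⟨Y₂, i₂, r₂', hir₂, hp'def.symm⟩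

end Groth.Agent.Helper9.Karoubi
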