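import Mathlib
import Groth.Agent.Lib.Helper9.Karoubi2

/-!
# A triangulated category with a bounded t-structure is idempotent complete
-/

set_option autoImplicit false
universe v u
open CategoryTheory CategoryTheory.Limits CategoryTheory.Pretriangulated CategoryTheory.Triangulated

namespace Groth.Agent.Helper9.Karoubi

variable {C : Type u} [Category.{v} C] [Preadditive C]
  [HasZeroObject C] [HasShift C ℤ] [∀ n : ℤ, (shiftFunctor C n).Additive] [Pretriangulated C]
  (t : TStructure C)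

/-- Lemma A: objects of amplitude zero. -/
theorem splits_one_sub_of_amplitude_zero (X : C) (b : ℤ) [t.IsGE X b] [t.IsLE X b]
    (e : X ⟶ X) (he : e ≫ e = e) : Splits (𝟙 X - e) := by
  obtain ⟨Cn, c, d, hT⟩ := distinguished_cocone_triangle e
  have h0 : e ≫ (𝟙 X - e) = 0 := by
    rw [Preadditive.comp_sub, Category.comp_id, he, sub_self]
  obtain ⟨r, hr⟩ : ∃ r : Cn ⟶ X, 𝟙 X - e = c ≫ r := Triangle.yoneda_exact₂ _ hT (𝟙 X - e) h0
  obtain ⟨s, hs⟩ : ∃ s : (t.truncGE b).obj Cn ⟶ X, (t.truncGEπ b).app Cn ≫ s = r :=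
    ⟨t.descTruncGE r b, t.π_descTruncGE r b⟩
  obtain ⟨q, hq⟩ : ∃ q : X ⟶ (t.truncGE b).obj Cn, q = c ≫ (t.truncGEπ b).app Cn := ⟨_, rfl⟩
  have hqs : q ≫ s = 𝟙 X - e := by rw [hq, Category.assoc, hs, ← hr]
  have hec : e ≫ c = 0 := comp_distTriang_mor_zero₁₂ _ hT
  have heq : e ≫ q = 0 := by rw [hq, reassoc_of% hec, zero_comp]
  have hsq : s ≫ q = 𝟙 _ := by
    apply t.from_truncGE_obj_ext
    have h1 : c ≫ ((t.truncGEπ b).app Cn ≫ s ≫ q - (t.truncGEπ b).app Cn) = 0 := by
      rw [Preadditive.comp_sub, ← hq, ← Category.assoc, ← Category.assoc, ← hq, hqs,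
        Preadditive.sub_comp, Category.id_comp, heq, sub_zero, sub_self]
    obtain ⟨n, hn⟩ : ∃ n : (shiftFunctor C (1 : ℤ)).obj X ⟶ (t.truncGE b).obj Cn,
        (t.truncGEπ b).app Cn ≫ s ≫ q - (t.truncGEπ b).app Cn = d ≫ n :=
      Triangle.yoneda_exact₃ _ hT _ h1
    haveI : t.IsLE ((shiftFunctor C (1 : ℤ)).obj X) (b - 1) := t.isLE_shift X b 1 (b - 1)
    have hn0 : n = 0 := t.zero n (b - 1) b
    rw [hn0, comp_zero] at hn
    rw [Category.comp_id]
    exact sub_eq_zero.1 hn
  exact ⟨_, s, q, hsq, hqs⟩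

theorem splits_of_amplitude_zero (X : C) (b : ℤ) [t.IsGE X b] [t.IsLE X b]
    (p : X ⟶ X) (hp : p ≫ p = p) : Splits p := by
  apply splits_sub
  apply splits_one_sub_of_amplitude_zero t X b
  rw [Preadditive.sub_comp, Preadditive.comp_sub, Preadditive.comp_sub, hp]
  simp

variable [IsTriangulated C]

theorem splits_of_bounded : ∀ (n : ℕ) (X : C) (a b : ℤ), b - a < n → t.IsGE X a → t.IsLE X b →
    ∀ p : X ⟶ X, p ≫ p = p → Splits p := by
  intro n
  induction n with
  | zero =>
    intro X a b hab hXa hXb p hp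
    have hX : IsZero X := t.isZero X b a (by push_cast at hab; omega)
    exact ⟨X, 𝟙 X, 𝟙 X, Category.comp_id _, hX.eq_of_src _ _⟩
  | succ n ih =>
    intro X a b hab hXa hXb p hp
    have hT := t.triangleLTGE_distinguished b X
    have h₁ : Splits ((t.truncLT b).map p) :=
      ih ((t.truncLT b).obj X) a (b - 1) (by push_cast at hab; omega) inferInstance inferInstance _
        (by rw [← Functor.map_comp, hp])
    have h₃ : Splits ((t.truncGE b).map p) :=
      splits_of_amplitude_zero t ((t.truncGE b).obj X) b _ (by rw [← Functor.map_comp, hp])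
    have hφ : (t.triangleLTGE b).map p ≫ (t.triangleLTGE b).map p = (t.triangleLTGE b).map p := by
      rw [← Functor.map_comp, hp]
    refine splits_hom₂ ((t.triangleLTGE b).obj X) hT (fun k => ?_) ((t.triangleLTGE b).map p) hφ
      h₁ h₃
    haveI : t.IsLE ((shiftFunctor C (1 : ℤ)).obj ((t.triangleLTGE b).obj X).obj₁) (b - 2) :=
      t.isLE_shift _ (b - 1) 1 (b - 2)
    exact t.zero k (b - 2) b

theorem isIdempotentComplete (hb : ∀ X : C, t.bounded X) : IsIdempotentComplete C := by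
  constructor
  intro X p hp
  obtain ⟨⟨a, ha⟩, ⟨b, hb'⟩⟩ := hb X
  exact splits_of_bounded t (b - a + 1).toNat X a b (by omega) ha hb' p hp

end Groth.Agent.Helper9.Karoubi
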