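import Mathlib

set_option autoImplicit false
set_option linter.style.haveILetI false

universe u

namespace Groth.Agent.Helper9.KrullLocal

open IsLocalRing

theorem ringKrullDim_le_add_fibre (A B : Type*) [CommRing A] [CommRing B] [IsLocalRing A]
    [IsLocalRing B] [IsNoetherianRing A] [IsNoetherianRing B] [Algebra A B]
    [IsLocalHom (algebraMap A B)] :
    ringKrullDim B ≤ ringKrullDim A +
      ringKrullDim (B ⧸ (maximalIdeal A).map (algebraMap A B)) := by
  have tfae := IsLocalRing.local_hom_TFAE (algebraMap A B)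
  have h04 : IsLocalHom (algebraMap A B) ↔
      (maximalIdeal B).comap (algebraMap A B) = maximalIdeal A := tfae.out 0 4
  have h02 : IsLocalHom (algebraMap A B) ↔
      (maximalIdeal A).map (algebraMap A B) ≤ maximalIdeal B := tfae.out 0 2
  have hcomap : (maximalIdeal B).comap (algebraMap A B) = maximalIdeal A := h04.1 inferInstance
  have hle : (maximalIdeal A).map (algebraMap A B) ≤ maximalIdeal B := h02.1 inferInstance
  haveI : (maximalIdeal B).LiesOver (maximalIdeal A) := ⟨hcomap.symm⟩
  have h := Ideal.height_le_height_add_of_liesOver (maximalIdeal A) (maximalIdeal B)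
  have hne : ((maximalIdeal B).map
      (Ideal.Quotient.mk ((maximalIdeal A).map (algebraMap A B)))) ≠ ⊤ := by
    intro htop
    have h1 := congrArg
      (Ideal.comap (Ideal.Quotient.mk ((maximalIdeal A).map (algebraMap A B)))) htop
    rw [Ideal.comap_map_of_surjective _ Ideal.Quotient.mk_surjective, Ideal.comap_top,
      ← RingHom.ker_eq_comap_bot, Ideal.mk_ker, sup_eq_left.2 hle] at h1
    exact (maximalIdeal.isMaximal B).ne_top h1
  have h2 := Ideal.height_le_ringKrullDim_of_ne_top hne
  rw [← IsLocalRing.maximalIdeal_height_eq_ringKrullDim (R := B),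
    ← IsLocalRing.maximalIdeal_height_eq_ringKrullDim (R := A)]
  calc ((maximalIdeal B).height : WithBot ℕ∞)
      ≤ (((maximalIdeal A).height + ((maximalIdeal B).map
          (Ideal.Quotient.mk ((maximalIdeal A).map (algebraMap A B)))).height : ℕ∞) :
            WithBot ℕ∞) := WithBot.coe_le_coe.2 h
    _ = ((maximalIdeal A).height : WithBot ℕ∞) + (((maximalIdeal B).map
          (Ideal.Quotient.mk ((maximalIdeal A).map (algebraMap A B)))).height : WithBot ℕ∞) := by
        push_cast; rfl
    _ ≤ _ := add_le_add le_rfl h2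

theorem ringKrullDim_le_of_fibre_zero (A B : Type*) [CommRing A] [CommRing B] [IsLocalRing A]
    [IsLocalRing B] [IsNoetherianRing A] [IsNoetherianRing B] [Algebra A B]
    [IsLocalHom (algebraMap A B)]
    (hdef : ringKrullDim (B ⧸ (maximalIdeal A).map (algebraMap A B)) = 0) :
    ringKrullDim B ≤ ringKrullDim A := by
  have := ringKrullDim_le_add_fibre A B
  rwa [hdef, add_zero] at this

theorem injective_of_dim_eq (A B : Type u) [CommRing A] [CommRing B] [IsLocalRing A]
    [IsLocalRing B] [IsNoetherianRing A] [IsNoetherianRing B] [Algebra A B]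
    [IsLocalHom (algebraMap A B)]
    (hdef : ringKrullDim (B ⧸ (maximalIdeal A).map (algebraMap A B)) = 0)
    [IsDomain A] (hdim : ringKrullDim A = ringKrullDim B) :
    Function.Injective (algebraMap A B) := by
  rw [injective_iff_map_eq_zero]
  intro a ha
  by_contra ha0
  set p : Ideal A := RingHom.ker (algebraMap A B) with hp
  have hpne : p ≠ ⊤ := RingHom.ker_ne_top _
  haveI : Nontrivial (A ⧸ p) := Ideal.Quotient.nontrivial_iff.mpr hpne
  haveI : IsLocalRing (A ⧸ p) :=
    IsLocalRing.of_surjective' (Ideal.Quotient.mk p) Ideal.Quotient.mk_surjective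
  haveI : IsLocalHom (Ideal.Quotient.mk p) :=
    IsLocalHom.of_surjective (Ideal.Quotient.mk p) Ideal.Quotient.mk_surjective
  letI : Algebra (A ⧸ p) B := (RingHom.kerLift (algebraMap A B)).toAlgebra
  have halg : ∀ x : A, algebraMap (A ⧸ p) B (Ideal.Quotient.mk p x) = algebraMap A B x :=
    fun x => RingHom.kerLift_mk _ x
  haveI : IsLocalHom (algebraMap (A ⧸ p) B) := ⟨by
    intro x hx
    obtain ⟨x, rfl⟩ := Ideal.Quotient.mk_surjective x
    rw [halg] at hx
    exact (IsLocalHom.map_nonunit x hx).map _⟩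
  have hmax : (maximalIdeal A).map (Ideal.Quotient.mk p) = maximalIdeal (A ⧸ p) := by
    ext x
    obtain ⟨x, rfl⟩ := Ideal.Quotient.mk_surjective x
    simp [sup_eq_left.mpr (le_maximalIdeal hpne)]
  have hmap : (maximalIdeal (A ⧸ p)).map (algebraMap (A ⧸ p) B) =
      (maximalIdeal A).map (algebraMap A B) := by
    rw [← hmax, Ideal.map_map]
    congr 1
  have h1 := ringKrullDim_le_of_fibre_zero (A ⧸ p) B (by rw [hmap]; exact hdef)
  -- dim (A/p) + 1 ≤ dim A
  have hnzd : a ∈ nonZeroDivisors A := mem_nonZeroDivisors_of_ne_zero ha0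
  have h2 := ringKrullDim_quotient_succ_le_of_nonZeroDivisor hnzd
  have hap : Ideal.span {a} ≤ p := by
    rw [Ideal.span_singleton_le_iff_mem]
    exact ha
  have h3 : ringKrullDim (A ⧸ p) ≤ ringKrullDim (A ⧸ Ideal.span {a}) :=
    ringKrullDim_le_of_surjective (Ideal.Quotient.factor hap) (Ideal.Quotient.factor_surjective hap)
  have h4 : ringKrullDim (A ⧸ p) + 1 ≤ ringKrullDim (A ⧸ p) :=
    calc ringKrullDim (A ⧸ p) + 1 ≤ ringKrullDim (A ⧸ Ideal.span {a}) + 1 := add_le_add h3 le_rfl
      _ ≤ ringKrullDim A := h2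
      _ = ringKrullDim B := hdim
      _ ≤ ringKrullDim (A ⧸ p) := h1
  have hfin : ringKrullDim (A ⧸ p) < ⊤ := ringKrullDim_lt_top
  have hbot : ringKrullDim (A ⧸ p) ≠ ⊥ := ringKrullDim_ne_bot
  obtain ⟨d, hd⟩ := WithBot.ne_bot_iff_exists.1 hbot
  rw [← hd] at h4 hfin
  have hd' : d ≠ ⊤ := by
    rintro rfl
    exact absurd hfin (by simp)
  obtain ⟨m, rfl⟩ := ENat.ne_top_iff_exists.1 hd'
  have : m + 1 ≤ m := by exact_mod_cast h4
  omega

end Groth.Agent.Helper9.KrullLocal
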