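import Mathlib

/-!
# Left invertible maps `u : M → N` with `M` finite and `N` projective (EGA 0_IV 19.1)

The "splitting ideal" `splitIdeal u = {a | ∃ w, w ∘ u = a • id}` controls left invertibility of the
localizations of `u`.
-/

set_option autoImplicit false
universe u v

namespace Groth.Agent.Helper9.LeftInv

variable {A : Type u} [CommRing A] {M N : Type u} [AddCommGroup M] [Module A M]
  [AddCommGroup N] [Module A N]

/-- A map from a finite module to a projective module factors through a retract onto a finite free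
module. -/
theorem exists_factor [Module.Finite A M] [Module.Projective A N] (u : M →ₗ[A] N) :
    ∃ (ι : Type u) (_ : Fintype ι) (ρ : N →ₗ[A] (ι → A)) (ν : (ι → A) →ₗ[A] N),
      ν ∘ₗ ρ ∘ₗ u = u := by
  classical
  obtain ⟨s, hs⟩ := Module.projective_def'.mp ‹Module.Projective A N›
  obtain ⟨T, hT⟩ := (Module.Finite.fg_top : (⊤ : Submodule A M).FG)
  let J : Finset N := T.biUnion fun t => (s (u t)).support
  have hJ : ∀ x : M, ∀ b, b ∉ J → s (u x) b = 0 := by
    intro x
    have hx : x ∈ Submodule.span A (T : Set M) := by rw [hT]; trivial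
    induction hx using Submodule.span_induction with
    | mem t ht =>
      intro b hb
      by_contra hne
      exact hb (Finset.mem_biUnion.mpr ⟨t, ht, Finsupp.mem_support_iff.mpr hne⟩)
    | zero => intro b _; simp
    | add x y _ _ hx hy => intro b hb; simp [hx b hb, hy b hb]
    | smul a x _ hx => intro b hb; simp [hx b hb]
  refine ⟨J, inferInstance, LinearMap.pi fun b : J => Finsupp.lapply b.1 ∘ₗ s,
    Fintype.linearCombination A (fun b : J => (b : N)), ?_⟩
  ext x
  have h1 : u x = Finsupp.linearCombination A id (s (u x)) := by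
    have := congrArg (fun f => f (u x)) hs
    simpa using this.symm
  simp only [LinearMap.coe_comp, Function.comp_apply, Fintype.linearCombination_apply,
    LinearMap.pi_apply, Finsupp.lapply_apply]
  conv_rhs => rw [h1, Finsupp.linearCombination_apply, Finsupp.sum]
  rw [Finset.sum_coe_sort J (fun b => (s (u x)) b • b)]
  symm
  apply Finset.sum_subset
  · intro b hb
    by_contra hbJ
    exact (Finsupp.mem_support_iff.mp hb) (hJ x b hbJ)
  · intro b _ hb
    rw [Finsupp.notMem_support_iff.mp hb, zero_smul]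

/-- The ideal of `a` such that `a • id_M` factors through `u`. -/
def splitIdeal (u : M →ₗ[A] N) : Ideal A where
  carrier := {a | ∃ w : N →ₗ[A] M, w ∘ₗ u = a • LinearMap.id}
  add_mem' := by
    rintro a b ⟨w, hw⟩ ⟨w', hw'⟩
    exact ⟨w + w', by rw [LinearMap.add_comp, hw, hw', add_smul]⟩
  zero_mem' := ⟨0, by simp⟩
  smul_mem' := by
    rintro c a ⟨w, hw⟩
    exact ⟨c • w, by rw [LinearMap.smul_comp, hw, smul_eq_mul, mul_smul]⟩

lemma mem_splitIdeal {u : M →ₗ[A] N} {a : A} :
    a ∈ splitIdeal u ↔ ∃ w : N →ₗ[A] M, w ∘ₗ u = a • LinearMap.id := Iff.rfl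

lemma one_mem_splitIdeal {u : M →ₗ[A] N} :
    (1 : A) ∈ splitIdeal u ↔ ∃ w : N →ₗ[A] M, w ∘ₗ u = LinearMap.id := by
  rw [mem_splitIdeal]; simp

section Loc

variable (S : Submonoid A) {M' N' : Type v} [AddCommGroup M'] [Module A M'] [AddCommGroup N']
  [Module A N'] (fM : M →ₗ[A] M') (fN : N →ₗ[A] N') [IsLocalizedModule S fM]
  [IsLocalizedModule S fN]

/-- If `a ∈ S` lies in the splitting ideal, the localization of `u` is left invertible. -/
theorem leftInverse_of_mem {u : M →ₗ[A] N} {u' : M' →ₗ[A] N'} (hu : u' ∘ₗ fM = fN ∘ₗ u) {a : A}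
    (haS : a ∈ S) (ha : a ∈ splitIdeal u) : ∃ w' : N' →ₗ[A] M', w' ∘ₗ u' = LinearMap.id := by
  obtain ⟨w, hw⟩ := ha
  let w₀ : N' →ₗ[A] M' := IsLocalizedModule.map S fN fM w
  have h1 : (w₀ ∘ₗ u') ∘ₗ fM = (a • LinearMap.id) ∘ₗ fM := by
    rw [LinearMap.comp_assoc, hu, ← LinearMap.comp_assoc, IsLocalizedModule.map_comp,
      LinearMap.comp_assoc, hw]
    ext x
    simp
  have h2 : w₀ ∘ₗ u' = a • LinearMap.id :=
    IsLocalizedModule.ext S fM (IsLocalizedModule.map_units fM) h1
  obtain ⟨e, he⟩ := IsLocalizedModule.map_units fM ⟨a, haS⟩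
  have he' : (e : Module.End A M') = a • LinearMap.id := by
    rw [he]; ext x; simp
  refine ⟨((e⁻¹ : (Module.End A M')ˣ) : Module.End A M') ∘ₗ w₀, ?_⟩
  rw [LinearMap.comp_assoc, h2, ← he']
  exact e.inv_mul

/-- Clearing denominators: if the localization of `u` is left invertible, some `a ∈ S` lies in the
splitting ideal. -/
theorem exists_mem_of_leftInverse [Module.Finite A M] [Module.Projective A N] {u : M →ₗ[A] N}
    {u' : M' →ₗ[A] N'} (hu : u' ∘ₗ fM = fN ∘ₗ u) (w' : N' →ₗ[A] M')
    (hw' : w' ∘ₗ u' = LinearMap.id) : ∃ a ∈ S, a ∈ splitIdeal u := by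
  classical
  obtain ⟨ι, _, ρ, ν, hfac⟩ := exists_factor u
  let y : ι → M' := fun j => w' (fN (ν (Pi.single j 1)))
  obtain ⟨s, hs⟩ := IsLocalizedModule.exist_integer_multiples_of_finite S fM y
  choose m hm using hs
  let l₀ : (ι → A) →ₗ[A] M := Fintype.linearCombination A m
  have hl₀ : ∀ c : ι → A, fM (l₀ c) = (s : A) • w' (fN (ν c)) := by
    intro c
    have hc : c = ∑ j, c j • (Pi.single j 1 : ι → A) := by
      ext i
      simp [Finset.sum_apply, Pi.single_apply]
    conv_rhs => rw [hc]
    simp only [l₀, Fintype.linearCombination_apply, map_sum, map_smul, Finset.smul_sum]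
    refine Finset.sum_congr rfl fun j _ => ?_
    rw [hm j, smul_comm]
  have hx : ∀ x : M, fM (l₀ (ρ (u x)) - (s : A) • x) = 0 := by
    intro x
    have h1 : ν (ρ (u x)) = u x := congrArg (fun f => f x) hfac
    have h2 : u' (fM x) = fN (u x) := congrArg (fun f => f x) hu
    have h3 : w' (u' (fM x)) = fM x := congrArg (fun f => f (fM x)) hw'
    rw [map_sub, hl₀, h1, ← h2, h3, map_smul, sub_self]
  have hx' : ∀ x : M, ∃ t : S, t • (l₀ (ρ (u x)) - (s : A) • x) = 0 := fun x =>
    (IsLocalizedModule.eq_zero_iff S fM).mp (hx x)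
  choose t ht using hx'
  obtain ⟨T, hT⟩ := (Module.Finite.fg_top : (⊤ : Submodule A M).FG)
  let t₀ : S := ∏ x ∈ T, t x
  have ht₀ : ∀ x ∈ T, (t₀ : A) • (l₀ (ρ (u x)) - (s : A) • x) = 0 := by
    intro x hxT
    have : t₀ = (∏ z ∈ T.erase x, t z) * t x := (Finset.prod_erase_mul T _ hxT).symm
    rw [this, Submonoid.coe_mul, mul_smul]
    have := ht x
    rw [Submonoid.smul_def] at this
    rw [this, smul_zero]
  refine ⟨(t₀ : A) * (s : A), S.mul_mem t₀.2 s.2, (t₀ : A) • (l₀ ∘ₗ ρ), ?_⟩
  have hzero : (t₀ : A) • (l₀ ∘ₗ ρ) ∘ₗ u - ((t₀ : A) * (s : A)) • LinearMap.id = 0 := by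
    apply LinearMap.ext_on_range (v := fun x : T => (x : M))
    · have : Set.range (fun x : T => (x : M)) = (T : Set M) := by
        ext z; simp
      rw [this]; exact hT
    · intro x
      have := ht₀ x.1 x.2
      simp only [LinearMap.sub_apply, LinearMap.smul_apply, LinearMap.coe_comp,
        Function.comp_apply, LinearMap.id_coe, id_eq, LinearMap.zero_apply]
      rw [smul_sub, smul_smul] at this
      exact this
  exact sub_eq_zero.mp hzero

end Loc

section LocModule

variable (S : Submonoid A)

lemma map_comp_mk (u : M →ₗ[A] N) :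
    ((LocalizedModule.map S u).restrictScalars A) ∘ₗ LocalizedModule.mkLinearMap S M
      = LocalizedModule.mkLinearMap S N ∘ₗ u := by
  ext x
  simp [LocalizedModule.mkLinearMap_apply]

/-- Left invertibility of the localization `S⁻¹u` is detected by the splitting ideal. -/
theorem leftInverse_localizedModule_iff [Module.Finite A M] [Module.Projective A N]
    (u : M →ₗ[A] N) :
    (∃ w : LocalizedModule S N →ₗ[A] LocalizedModule S M,
        w ∘ₗ ((LocalizedModule.map S u).restrictScalars A) = LinearMap.id) ↔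
      ∃ a ∈ S, a ∈ splitIdeal u := by
  constructor
  · rintro ⟨w, hw⟩
    exact exists_mem_of_leftInverse S _ _ (map_comp_mk S u) w hw
  · rintro ⟨a, haS, ha⟩
    exact leftInverse_of_mem S _ _ (map_comp_mk S u) haS ha

end LocModule

open TensorProduct

/-- If `a` is in the splitting ideal and is invertible in the field `K`, `K ⊗ u` is injective. -/
theorem injective_lTensor_of_mem (u : M →ₗ[A] N) (K : Type*) [Field K] [Algebra A K] {a : A}
    (ha : a ∈ splitIdeal u) (haK : algebraMap A K a ≠ 0) :
    Function.Injective (u.lTensor K) := by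
  obtain ⟨w, hw⟩ := ha
  have h : w.lTensor K ∘ₗ u.lTensor K = a • LinearMap.id := by
    rw [← LinearMap.lTensor_comp, hw, LinearMap.lTensor_smul, LinearMap.lTensor_id]
  intro z z' hzz'
  have h1 : a • z = a • z' := by
    have h0 := congrArg (w.lTensor K) hzz'
    have e1 := LinearMap.congr_fun h z
    have e2 := LinearMap.congr_fun h z'
    simp only [LinearMap.coe_comp, Function.comp_apply, LinearMap.smul_apply, LinearMap.id_coe,
      id_eq] at e1 e2
    rw [← e1, ← e2]; exact h0
  rw [← algebraMap_smul K a z, ← algebraMap_smul K a z'] at h1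
  exact smul_right_injective _ haK h1

/-- Over a local ring: `M` finite, `N` projective, `k ⊗ u` injective implies `u` left invertible. -/
theorem leftInverse_of_injective_lTensor_local {R : Type u} [CommRing R] [IsLocalRing R]
    {M N : Type u} [AddCommGroup M] [Module R M] [AddCommGroup N] [Module R N]
    [Module.Finite R M] [Module.Projective R N] (u : M →ₗ[R] N)
    (h : Function.Injective (u.lTensor (IsLocalRing.ResidueField R))) :
    ∃ w : N →ₗ[R] M, w ∘ₗ u = LinearMap.id := by
  obtain ⟨ι, _, ρ, ν, hfac⟩ := exists_factor u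
  have hc : Function.Injective ((ρ ∘ₗ u).lTensor (IsLocalRing.ResidueField R)) := by
    have h2 : Function.Injective ((ν ∘ₗ ρ ∘ₗ u).lTensor (IsLocalRing.ResidueField R)) := by
      rw [hfac]; exact h
    rw [LinearMap.lTensor_comp] at h2
    exact Function.Injective.of_comp h2
  obtain ⟨l', hl'⟩ :=
    (IsLocalRing.split_injective_iff_lTensor_residueField_injective (ρ ∘ₗ u)).mpr hc
  exact ⟨l' ∘ₗ ρ, by rw [LinearMap.comp_assoc]; exact hl'⟩

/-- If `κ(p) ⊗ u` is injective, some `a ∉ p` lies in the splitting ideal. -/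
theorem exists_mem_of_injective_lTensor [Module.Finite A M] [Module.Projective A N]
    (u : M →ₗ[A] N) (p : Ideal A) [p.IsPrime]
    (h : Function.Injective (u.lTensor p.ResidueField)) : ∃ a ∈ p.primeCompl, a ∈ splitIdeal u := by
  let R := Localization.AtPrime p
  let uR : R ⊗[A] M →ₗ[R] R ⊗[A] N := u.baseChange R
  have hinj : Function.Injective (uR.lTensor (IsLocalRing.ResidueField R)) := by
    let eM := AlgebraTensorModule.cancelBaseChange A R (IsLocalRing.ResidueField R)
      (IsLocalRing.ResidueField R) M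
    let eN := AlgebraTensorModule.cancelBaseChange A R (IsLocalRing.ResidueField R)
      (IsLocalRing.ResidueField R) N
    have hcomm : ∀ z, eN (uR.lTensor _ z) = u.lTensor _ (eM z) := by
      intro z
      induction z with
      | zero => simp
      | add x y hx hy => simp only [map_add, hx, hy]
      | tmul x y =>
        induction y with
        | zero => simp
        | add y y' hy hy' => simp only [tmul_add, map_add, hy, hy']
        | tmul r m => simp [eM, eN, uR]
    intro z z' hz
    apply eM.injective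
    apply h
    rw [← hcomm, ← hcomm, hz]
  obtain ⟨wR, hwR⟩ := leftInverse_of_injective_lTensor_local uR hinj
  exact exists_mem_of_leftInverse p.primeCompl (TensorProduct.mk A R M 1)
    (TensorProduct.mk A R N 1) (u := u) (u' := uR.restrictScalars A) (by ext x; simp [uR])
    (wR.restrictScalars A) (LinearMap.ext fun z => LinearMap.congr_fun hwR z)

end Groth.Agent.Helper9.LeftInv
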