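import Mathlib

/-!
# The open locus where a morphism `T ×_S Z ⟶ X` lands in an open `U ⊆ X` (for `Z/S` finite)
-/

universe u

open CategoryTheory CategoryTheory.Limits AlgebraicGeometry Opposite

namespace Groth.Agent.Helper9.MorOpenLocus

/-- For `g : Z ⟶ S` universally closed (e.g. finite), `b : T ×_S Z ⟶ X` and `U ⊆ X` open, the
set of `t₀ ∈ T` whose whole fibre in `T ×_S Z` is mapped into `U` is open. -/
theorem exists_open_locus {T Z S X : Scheme.{u}} (t : T ⟶ S) (g : Z ⟶ S) [UniversallyClosed g]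
    (b : pullback t g ⟶ X) (U : X.Opens) :
    ∃ T' : T.Opens, ∀ t₀ : T, t₀ ∈ T' ↔
      ∀ z : ↥(pullback t g), (pullback.fst t g) z = t₀ → b z ∈ U := by
  have hcl : IsClosedMap (pullback.fst t g) := (pullback.fst t g).isClosedMap
  have hC : IsClosed (((b ⁻¹ᵁ U : (pullback t g).Opens) : Set ↥(pullback t g))ᶜ) :=
    (b ⁻¹ᵁ U).isOpen.isClosed_compl
  refine ⟨⟨((pullback.fst t g) '' (((b ⁻¹ᵁ U : (pullback t g).Opens) :
    Set ↥(pullback t g))ᶜ))ᶜ, (hcl _ hC).isOpen_compl⟩, fun t₀ => ?_⟩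
  constructor
  · intro h z hz
    by_contra hzU
    exact h ⟨z, hzU, hz⟩
  · rintro h ⟨z, hzC, hz⟩
    exact hzC (h z hz)

/-- The base-change map `T'' ×_S Z ⟶ T ×_S Z` along `h : T'' ⟶ T`. -/
noncomputable abbrev bcMap {T'' T Z S : Scheme.{u}} (h : T'' ⟶ T) (t : T ⟶ S) (g : Z ⟶ S) :
    pullback (h ≫ t) g ⟶ pullback t g :=
  pullback.map (h ≫ t) g t g h (𝟙 Z) (𝟙 S) (by simp) (by simp)

@[reassoc]
lemma bcMap_fst {T'' T Z S : Scheme.{u}} (h : T'' ⟶ T) (t : T ⟶ S) (g : Z ⟶ S) :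
    bcMap h t g ≫ pullback.fst t g = pullback.fst (h ≫ t) g ≫ h :=
  pullback.lift_fst _ _ _

@[reassoc]
lemma bcMap_snd {T'' T Z S : Scheme.{u}} (h : T'' ⟶ T) (t : T ⟶ S) (g : Z ⟶ S) :
    bcMap h t g ≫ pullback.snd t g = pullback.snd (h ≫ t) g :=
  (pullback.lift_snd _ _ _).trans (Category.comp_id _)

/-- The fibre of `T'' ×_S Z ⟶ T''` over `t''` surjects onto the fibre of `T ×_S Z ⟶ T` over
`h t''`. -/
theorem exists_point_over {T'' T Z S : Scheme.{u}} (h : T'' ⟶ T) (t : T ⟶ S) (g : Z ⟶ S)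
    (t'' : T'') (z : ↥(pullback t g)) (hz : (pullback.fst t g) z = h t'') :
    ∃ z'' : ↥(pullback (h ≫ t) g), (pullback.fst (h ≫ t) g) z'' = t'' ∧
      (bcMap h t g) z'' = z := by
  obtain ⟨w, hw1, hw2⟩ := Scheme.Pullback.exists_preimage_pullback (f := h)
    (g := pullback.fst t g) t'' z hz.symm
  have key : (pullbackRightPullbackFstIso t g h).hom ≫ bcMap h t g =
      pullback.snd h (pullback.fst t g) := by
    apply pullback.hom_ext
    · rw [Category.assoc, bcMap_fst, ← Category.assoc, pullbackRightPullbackFstIso_hom_fst,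
        pullback.condition]
    · rw [Category.assoc, bcMap_snd, pullbackRightPullbackFstIso_hom_snd]
  refine ⟨(pullbackRightPullbackFstIso t g h).hom w, ?_, ?_⟩
  · rw [← Scheme.Hom.comp_apply, pullbackRightPullbackFstIso_hom_fst]; exact hw1
  · rw [← Scheme.Hom.comp_apply, key]; exact hw2

/-- A morphism `h : T'' ⟶ T` lands in the open locus of `exists_open_locus` iff the pulled-back
morphism `T'' ×_S Z ⟶ X` lands in `U`. -/
theorem range_subset_iff {T'' T Z S X : Scheme.{u}} (h : T'' ⟶ T) (t : T ⟶ S) (g : Z ⟶ S)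
    (b : pullback t g ⟶ X) (U : X.Opens) (T' : T.Opens)
    (hT' : ∀ t₀ : T, t₀ ∈ T' ↔ ∀ z : ↥(pullback t g), (pullback.fst t g) z = t₀ → b z ∈ U) :
    (∀ t'' : T'', h t'' ∈ T') ↔ ∀ z'' : ↥(pullback (h ≫ t) g), (bcMap h t g ≫ b) z'' ∈ U := by
  constructor
  · intro H z''
    have h1 : (pullback.fst t g) ((bcMap h t g) z'') = h ((pullback.fst (h ≫ t) g) z'') := by
      rw [← Scheme.Hom.comp_apply, ← Scheme.Hom.comp_apply, bcMap_fst]
    rw [Scheme.Hom.comp_apply]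
    exact (hT' _).mp (H ((pullback.fst (h ≫ t) g) z'')) _ h1
  · intro H t''
    rw [hT']
    intro z hz
    obtain ⟨z'', -, hz''⟩ := exists_point_over h t g t'' z hz
    have := H z''
    rw [Scheme.Hom.comp_apply, hz''] at this
    exact this

end Groth.Agent.Helper9.MorOpenLocus
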