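import Mathlib
import Groth.Prelude.Def_SGA3x
import Groth.Agent.Lib.Helper16.Sch.CoverTriv

/-!
# Groups of multiplicative type (finite type) are flat and locally of finite presentation

fpqc descent of `Flat` / `LocallyOfFinitePresentation` from `D_S(M)` (requested by helper19 for
S6064).  `prop_of_isMultTypeFT` is generic in the property `P`.
-/

set_option autoImplicit false
universe u

open CategoryTheory CategoryTheory.Limits AlgebraicGeometry Opposite MonoidalCategory
  CartesianMonoidalCategory MorphismProperty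

namespace Groth.Agent.Helper9.MultTypeFlat

/-- Flatness codescends along faithfully flat ring maps. -/
lemma flat_codescendsAlong_faithfullyFlat :
    RingHom.CodescendsAlong RingHom.Flat RingHom.FaithfullyFlat := by
  refine .mk _ RingHom.Flat.respectsIso fun R S T _ _ _ _ _ h h' ↦ ?_
  rw [RingHom.flat_algebraMap_iff] at h' ⊢
  rw [RingHom.faithfullyFlat_algebraMap_iff] at h
  exact Module.Flat.of_flat_tensorProduct R T S

/-- fpqc descent of flatness. -/
theorem flat_descendsAlong : DescendsAlong @Flat (@Surjective ⊓ @Flat ⊓ @QuasiCompact) :=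
  HasRingHomProperty.descendsAlong_flat flat_codescendsAlong_faithfullyFlat

section Generic

variable (P : MorphismProperty Scheme.{u}) [IsZariskiLocalAtTarget P] [P.IsStableUnderBaseChange]

lemma snd_comp_iff {X S T T' : Scheme.{u}} (h : X ⟶ S) (b : T ⟶ S) (a : T' ⟶ T) :
    P (pullback.snd h (a ≫ b)) ↔ P (pullback.snd (pullback.snd h b) a) := by
  rw [← pullbackLeftPullbackSndIso_hom_snd h b a, P.cancel_left_of_respectsIso]

lemma of_base {X S T T' : Scheme.{u}} (h : X ⟶ S) (b : T ⟶ S) (a : T' ⟶ T)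
    (hb : P (pullback.snd h b)) : P (pullback.snd h (a ≫ b)) :=
  (snd_comp_iff P h b a).mpr (P.pullback_snd _ _ hb)

lemma of_descent (Q : MorphismProperty Scheme.{u}) [P.DescendsAlong Q]
    {X S T T' : Scheme.{u}} (h : X ⟶ S) (b : T ⟶ S) (q : T' ⟶ T) (hq : Q q)
    (H : P (pullback.snd h (q ≫ b))) : P (pullback.snd h b) :=
  MorphismProperty.of_pullback_snd_of_descendsAlong (P := P) (Q := Q) hq
    ((snd_comp_iff P h b q).mp H)

lemma restrict_iff {X S : Scheme.{u}} (g : X ⟶ S) (V : S.Opens) :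
    P (g ∣_ V) ↔ P (pullback.snd g V.ι) := by
  have : g ∣_ V = (pullbackRestrictIsoRestrict g V).inv ≫ pullback.snd g V.ι := rfl
  rw [this, P.cancel_left_of_respectsIso]

lemma of_local {X S T : Scheme.{u}} (h : X ⟶ S) (t : T ⟶ S)
    (H : ∀ x : T, ∃ U : T.Opens, x ∈ U ∧ P (pullback.snd h (U.ι ≫ t))) :
    P (pullback.snd h t) := by
  apply IsZariskiLocalAtTarget.of_forall_exists_morphismRestrict
  intro x
  obtain ⟨U, hxU, hU⟩ := H x
  refine ⟨U, hxU, ?_⟩
  rw [restrict_iff P]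
  exact (snd_comp_iff P h t U.ι).mp hU

lemma of_grpIso {S T : Scheme.{u}} (H : Over S) [GrpObj H] (t : T ⟶ S) (M : Type)
    [AddCommGroup M] (hM : P (Red.DS T M).hom)
    (e : Grp.mk (Red.bc t H) ≅ Grp.mk (Red.DS T M)) : P (pullback.snd H.hom t) := by
  have e' : Red.bc t H ≅ Red.DS T M := (Grp.forget _).mapIso e
  have hw : e'.hom.left ≫ (Red.DS T M).hom = (Red.bc t H).hom := Over.w e'.hom
  haveI : IsIso e'.hom.left := inferInstanceAs (IsIso ((CategoryTheory.Over.forget _).map e'.hom))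
  have h1 : P (e'.hom.left ≫ (Red.DS T M).hom) := (P.cancel_left_of_respectsIso _ _).mpr hM
  rw [hw] at h1
  exact h1

/-- A property of morphisms which is Zariski-local on the target, stable under base change and
descends along fpqc covers holds for groups of multiplicative type of finite type as soon as it
holds for the diagonalisable groups `D_T(M)`. -/
theorem prop_of_isMultTypeFT [P.DescendsAlong (@Surjective ⊓ @Flat ⊓ @QuasiCompact)]
    (hDS : ∀ (T : Scheme.{u}) (M : Type) [AddCommGroup M], AddGroup.FG M → P (Red.DS T M).hom)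
    {S : Scheme.{u}} (H : Over S) [GrpObj H] (hH : SGA3x.IsMultTypeFT H) : P H.hom := by
  obtain ⟨S', f, hfl, hsurj, hqc, hloc⟩ := hH
  haveI := hfl
  apply IsZariskiLocalAtTarget.of_forall_exists_morphismRestrict
  intro s
  obtain ⟨V, hV, hsV, -⟩ := exists_isAffineOpen_mem_and_subset (x := s) (U := ⊤) (by trivial)
  refine ⟨V, hsV, ?_⟩
  rw [restrict_iff P]
  obtain ⟨W, hWc, hW⟩ := hqc V hV
  obtain ⟨q, hq, hqfl, hqsurj, hqqc⟩ :=
    Groth.Agent.Helper16.CoverTriv.exists_lift f V hV W hWc hW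
  refine of_descent P (@Surjective ⊓ @Flat ⊓ @QuasiCompact) H.hom V.ι q
    ⟨⟨hqsurj, hqfl⟩, hqqc⟩ ?_
  rw [hq]
  apply of_local P
  intro w
  obtain ⟨U, hwU, M, instM, hMfg, ⟨e⟩⟩ := hloc w.1
  refine ⟨W.ι ⁻¹ᵁ U, hwU, ?_⟩
  have hrange : Set.range ((W.ι ⁻¹ᵁ U).ι ≫ W.ι).base ⊆ Set.range U.ι.base := by
    rintro _ ⟨x, rfl⟩
    rw [Scheme.Opens.range_ι]
    exact x.2
  have hj : IsOpenImmersion.lift U.ι ((W.ι ⁻¹ᵁ U).ι ≫ W.ι) hrange ≫ U.ι =
      (W.ι ⁻¹ᵁ U).ι ≫ W.ι := IsOpenImmersion.lift_fac _ _ _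
  have h1 : P (pullback.snd H.hom (U.ι ≫ f)) :=
    of_grpIso P H (U.ι ≫ f) M (hDS _ M hMfg) e
  have h2 := of_base P H.hom (U.ι ≫ f)
    (IsOpenImmersion.lift U.ι ((W.ι ⁻¹ᵁ U).ι ≫ W.ι) hrange) h1
  have h3 : IsOpenImmersion.lift U.ι ((W.ι ⁻¹ᵁ U).ι ≫ W.ι) hrange ≫ (U.ι ≫ f) =
      (W.ι ⁻¹ᵁ U).ι ≫ W.ι ≫ f := by
    rw [← Category.assoc, hj, Category.assoc]
  rw [h3] at h2
  exact h2

end Generic

/-- (FLF), with (DSF) as a hypothesis. -/
theorem flat_lfp_of_isMultTypeFT_of_DS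
    (hDS : ∀ (T : Scheme.{u}) (M : Type) [AddCommGroup M], AddGroup.FG M →
      Flat (Red.DS T M).hom ∧ LocallyOfFinitePresentation (Red.DS T M).hom)
    {S : Scheme.{u}} (H : Over S) [GrpObj H] (hH : SGA3x.IsMultTypeFT H) :
    Flat H.hom ∧ LocallyOfFinitePresentation H.hom := by
  haveI := flat_descendsAlong
  exact ⟨prop_of_isMultTypeFT @Flat (fun T M _ hM => (hDS T M hM).1) H hH,
    prop_of_isMultTypeFT @LocallyOfFinitePresentation (fun T M _ hM => (hDS T M hM).2) H hH⟩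

end Groth.Agent.Helper9.MultTypeFlat
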