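import Mathlib
import Groth.Agent.S0016
import Groth.Agent.Lib.Helper13.ResAmple
import Groth.Agent.Lib.Helper13.InvTwist
import Groth.Agent.Lib.Helper13.InvTensor
import Groth.Agent.Lib.Helper13.TensorFunctor
import Groth.Agent.Lib.Helper13.TensorPow
import Groth.Agent.Lib.Helper13.QAffAcyc
import Groth.Agent.Lib.Helper13.ResFinLocFree
import Groth.Agent.Lib.Helper13.LocFree2
import Groth.Agent.Lib.Helper13.AmpleBasis
import Groth.Agent.Lib.Lead.KerFree2
import Groth.Agent.Lib.Helper9.PowKill

/-!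
# Vanishing of higher cohomology of coherent modules from vanishing for negative twists
(helper9)

`main`: `L` ample with tensor inverse `M` on a locally Noetherian scheme; if `H^i(X, M^m) = 0` for
`i > r`, `m ≥ m₀`, then `H^i(X, F) = 0` for all coherent `F` and `i > r`.
-/

set_option autoImplicit false
universe u
open CategoryTheory CategoryTheory.Limits AlgebraicGeometry Opposite TopologicalSpace
open Groth.Agent.Helper13.QCoh Groth.Agent.Helper13.FinType Groth.Agent.Helper13.Tensor
open Groth.Agent.Helper13.Inv Groth.Agent.Helper13.GlobGen Groth.Agent.Helper13.LocFree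
open Groth.Agent.Helper13

namespace Groth.Agent.Helper9.NegVan

variable {X : Scheme.{u}}

/-- the underlying abelian sheaf, as a functor on `X.Modules` (with its own category instance). -/
noncomputable def toShAb (X : Scheme.{u}) :
    X.Modules ⥤ Sheaf (Opens.grothendieckTopology X) AddCommGrpCat.{u} where
  obj M := Coh.toAb M
  map {M N} f := (SheafOfModules.toSheaf X.ringCatSheaf).map f
  map_id M := (SheafOfModules.toSheaf X.ringCatSheaf).map_id M
  map_comp f g := (SheafOfModules.toSheaf X.ringCatSheaf).map_comp f g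

instance instAdditiveToShAb : (toShAb X).Additive where
  map_add {M N f g} := by
    change (SheafOfModules.toSheaf X.ringCatSheaf).map (f + g) = _
    exact (SheafOfModules.toSheaf X.ringCatSheaf).map_add

/-- `H^i(X, -)` as a functor on `O_X`-modules. -/
noncomputable abbrev Hfun (X : Scheme.{u}) (i : ℕ) : X.Modules ⥤ AddCommGrpCat.{u} :=
  toShAb X ⋙
    (Sheaf.functorH (Opens.grothendieckTopology X) i :
      Sheaf (Opens.grothendieckTopology X) AddCommGrpCat.{u} ⥤ AddCommGrpCat.{u})

theorem isZero_Hfun_iff (M : X.Modules) (i : ℕ) :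
    IsZero ((Hfun X i).obj M) ↔ Subsingleton (Coh.HH X M i) :=
  ⟨fun h => AddCommGrpCat.subsingleton_of_isZero h,
    fun h => by
      haveI : Subsingleton ↑((Hfun X i).obj M) := h
      exact AddCommGrpCat.isZero_of_subsingleton _⟩

/-- `H^i(X, - ⊗ N)` as a functor. -/
noncomputable abbrev Psi (N : X.Modules) (i : ℕ) : X.Modules ⥤ AddCommGrpCat.{u} :=
  Groth.Agent.Helper13.TensorFunctor.tensorRight N ⋙ Hfun X i

/-- `H^i(O^m ⊗ N) = 0` when `H^i(N) = 0`. -/
theorem subsingleton_HH_free_tensor (N : X.Modules) (m i : ℕ)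
    (h : Subsingleton (Coh.HH X N i)) :
    Subsingleton (Coh.HH X (CohB1.tensorMod (FlatMod.freeMod X m) N) i) := by
  have hO : IsZero ((Psi N i).obj (Coh.structureModule X)) := by
    have h1 : IsZero ((Hfun X i).obj N) := (isZero_Hfun_iff N i).2 h
    exact IsZero.of_iso h1 ((Hfun X i).mapIso (Tensor.lid N))
  have hid : 𝟙 ((Psi N i).obj (FlatMod.freeMod X m)) =
      ∑ j : Fin m, (Psi N i).map (LocFree.π m j) ≫ (Psi N i).map (LocFree.ι m j) := by
    rw [← CategoryTheory.Functor.map_id, ← LocFree.total m, Functor.map_sum]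
    simp only [Functor.map_comp]
  have hz : IsZero ((Psi N i).obj (FlatMod.freeMod X m)) := by
    rw [IsZero.iff_id_eq_zero, hid]
    refine Finset.sum_eq_zero fun j _ => ?_
    rw [hO.eq_of_tgt ((Psi N i).map (LocFree.π m j)) 0, zero_comp]
  exact (isZero_Hfun_iff _ i).1 hz

/-- resolution by sums of negative twists. -/
theorem exists_epi_twist [CompactSpace X] (L M : X.Modules) (hL : CohB1.IsAmple L)
    (e : CohB1.tensorMod M L ≅ Coh.structureModule X) (G : X.Modules)
    [G.IsQuasicoherent] [SheafOfModules.IsFiniteType (R := X.ringCatSheaf) G] (m₀ : ℕ) :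
    ∃ (n m : ℕ) (π : CohB1.tensorMod (FlatMod.freeMod X m) (CohB1.tensorPow M n) ⟶ G),
      m₀ ≤ n ∧ Epi π := by
  obtain ⟨n₀, hn₀⟩ := exists_isGloballyGenerated_twist L hL G
  obtain ⟨n, hn1, hn2⟩ : ∃ n, n₀ ≤ n ∧ m₀ ≤ n :=
    ⟨max n₀ m₀, le_max_left _ _, le_max_right _ _⟩
  have hLn : PicF.IsInvertible (CohB1.tensorPow L n) := isInvertible_tensorPow L hL.1 n
  haveI : (CohB1.tensorPow L n).IsQuasicoherent := isQuasicoherent_of_isInvertible _ hLn
  haveI : SheafOfModules.IsFiniteType (R := X.ringCatSheaf) (CohB1.tensorPow L n) :=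
    isFiniteType_of_isInvertible _ hLn
  haveI : SheafOfModules.IsFiniteType (R := X.ringCatSheaf)
      (CohB1.tensorMod G (CohB1.tensorPow L n)) := isFiniteType_tensorMod _ _
  have hgg := (isGloballyGenerated_iff _).1 (hn₀ n hn1)
  obtain ⟨m, t, ht⟩ := Groth.Agent.Helper13.FinGlobGen.exists_fin_genOn
    (CohB1.tensorMod G (CohB1.tensorPow L n)) hgg
  haveI := Groth.Agent.Helper13.InvTwist.epi_descSec_of_genOn _ t ht
  haveI := Groth.Agent.Helper13.InvTwist.epi_map_id
    (descSec (CohB1.tensorMod G (CohB1.tensorPow L n)) t) (CohB1.tensorPow M n)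
  let eLM : CohB1.tensorMod (CohB1.tensorPow L n) (CohB1.tensorPow M n) ≅
      Coh.structureModule X :=
    (Tensor.powTensor L M n).symm ≪≫ Tensor.powIso (Tensor.braid L M ≪≫ e) n ≪≫ Tensor.powUnit n
  let untw : CohB1.tensorMod (CohB1.tensorMod G (CohB1.tensorPow L n)) (CohB1.tensorPow M n) ≅
      G :=
    Tensor.assoc G _ _ ≪≫ Tensor.mapIso (Iso.refl G) eLM ≪≫ Tensor.rid G
  exact ⟨n, m, Tensor.map (descSec _ t) (𝟙 _) ≫ untw.hom, hn2, epi_comp _ _⟩

theorem main [IsLocallyNoetherian X] (L M : X.Modules) (hL : CohB1.IsAmple L)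
    (hM : ClSub.IsInverseOf M L) (r : ℕ)
    (hneg : ∃ m₀ : ℕ, ∀ m : ℕ, m₀ ≤ m → ∀ i : ℕ, r < i →
      Subsingleton (Coh.HH X (CohB1.tensorPow M m) i))
    (F : X.Modules) (hF : Coh.IsCoh F) (i : ℕ) (hi : r < i) :
    Subsingleton (Coh.HH X F i) := by
  haveI : CompactSpace X := hL.2.1
  haveI := Groth.Agent.Helper13.Ample.quasiSeparatedSpace_of_isAmple L hL
  obtain ⟨e⟩ := hM
  obtain ⟨m₀, hm₀⟩ := hneg
  obtain ⟨d, hd⟩ := Groth.Agent.S0016.result X
  have hMinv : PicF.IsInvertible M := isInvertible_of_tensor_iso M L e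
  have key : ∀ a : ℕ, ∀ j : ℕ, r < j → d ≤ j + a → ∀ G : X.Modules, Coh.IsCoh G →
      Subsingleton (Coh.HH X G j) := by
    intro a
    induction a with
    | zero =>
      intro j _ hdj G hG
      exact hd G hG.1 j (by simpa using hdj)
    | succ a ih =>
      intro j hj hdj G hG
      haveI : G.IsQuasicoherent := hG.1
      haveI : SheafOfModules.IsFiniteType (R := X.ringCatSheaf) G := hG.2
      obtain ⟨n, m, π, hn, hπ⟩ := exists_epi_twist L M hL e G m₀
      haveI := hπ
      have hE : FlatMod.IsFinLocFree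
          (CohB1.tensorMod (FlatMod.freeMod X m) (CohB1.tensorPow M n)) :=
        Groth.Agent.Helper13.InvTwist.isFinLocFree_tensor_invertible _ _
          (isFinLocFree_freeMod m) (isInvertible_tensorPow M hMinv n)
      haveI hEq : (CohB1.tensorMod (FlatMod.freeMod X m) (CohB1.tensorPow M n)).IsQuasicoherent :=
        Groth.Agent.Helper13.ResFinLocFree.isQuasicoherent_of_isFinLocFree _ hE
      haveI hEfp : SheafOfModules.IsFinitePresentation (R := X.ringCatSheaf)
          (CohB1.tensorMod (FlatMod.freeMod X m) (CohB1.tensorPow M n)) :=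
        Groth.Agent.Helper13.LocFree.isFinitePresentation_of_isFinLocFree _ hE
      have hEcoh : Coh.IsCoh (CohB1.tensorMod (FlatMod.freeMod X m) (CohB1.tensorPow M n)) :=
        ⟨hEq, inferInstance⟩
      have hK : Coh.IsCoh (kernel π) := Groth.Agent.Lead.KerFree.isCoh_kernel hEcoh hG π
      have hS : (ShortComplex.mk (kernel.ι π) π (kernel.condition π)).ShortExact :=
        { exact := ShortComplex.exact_of_f_is_kernel _ (kernelIsKernel π) }
      exact Groth.Agent.Helper13.QAffAcyc.HH_right _ hS j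
        (subsingleton_HH_free_tensor _ m j (hm₀ n hn j hj))
        (ih (j + 1) (by omega) (by omega) _ hK)
  exact key d i hi (by omega) F hF

end Groth.Agent.Helper9.NegVan
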