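import Mathlib
import Groth.Prelude.Def_W4c5algebraiztannakaNis
import Groth.Prelude.Def_FlatMod2
import Groth.Agent.Lib.Helper13.ResAffine
import Groth.Agent.Lib.Helper13.PullbackTilde
import Groth.Agent.Lib.Helper26.TildeGen2

/-!
# Generation of a module from generation on a Nisnevich cover of bounded length (helper9)

If `f : U ⟶ Spec R` admits sections over the strata of a chain of closed subsets of length `m`
and `f^* M~` is generated by `N` global sections, then the finite module `M` is generated by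
`N * m` elements.  (Nakayama + induction on the length; neither etaleness nor constructibility nor
qcqs-ness of `U` is used.)
-/

set_option autoImplicit false
universe u
open CategoryTheory CategoryTheory.Limits AlgebraicGeometry Opposite TopologicalSpace TensorProduct
open Groth.Agent.Helper13.QCoh Groth.Agent.Helper13.FinType Groth.Agent.Helper13.LocFree

namespace Groth.Agent.Helper9.NisGen

/-- an epimorphism `O^n → M~` on `Spec R` gives `n` generators of `M` -/
theorem exists_gens_of_epi_top (R : CommRingCat.{u}) (M : ModuleCat.{u} R) (n : ℕ)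
    (φ : FlatMod.freeMod (Spec R) n ⟶ AlgebraicGeometry.tilde M) (hφ : Epi φ) :
    ∃ x : Fin n → M, Submodule.span R (Set.range x) = ⊤ := by
  let N : (Spec R).Modules := AlgebraicGeometry.tilde M
  let D : (Spec R).Opens := PrimeSpectrum.basicOpen (1 : R)
  let e := freeULiftIsoFreeMod (X := Spec R) n
  have he : IsIso e.hom := Iso.isIso_hom e
  let ψ : SheafOfModules.free (R := (Spec R).ringCatSheaf) (ULift.{u} (Fin n)) ⟶ N :=
    e.hom ≫ φ
  have he' : Epi e.hom := @IsIso.epi_of_iso _ _ _ _ e.hom he
  have hψ : Epi ψ := @epi_comp _ _ _ _ _ e.hom he' φ hφ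
  let s : ULift.{u} (Fin n) → SheafOfModules.sections N := (SheafOfModules.freeHomEquiv N) ψ
  have hs : (SheafOfModules.freeHomEquiv N).symm s = ψ := Equiv.symm_apply_apply _ _
  have h1 : GenOn N ⊤ (fun i => secOn N (s i) ⊤) := by
    rw [← epi_iff_genOn_top, hs]
    exact hψ
  have h2 := LocGenOn.of_genOn h1
  have hle : D ≤ ⊤ := le_top
  have h4 := LocGenOn.mono h2 hle
  have h5 := GenOn.of_locGenOn h4
  have haff : IsAffineOpen D := IsAffineOpen.Spec_basicOpen (1 : R)
  have h6 := span_eq_top_of_genOn (AlgebraicGeometry.tilde M) haff _ h5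
  let σ : Fin n → Γ(AlgebraicGeometry.tilde M, D) := fun j =>
    resFam (AlgebraicGeometry.tilde M) (fun i => (id (secOn N (s i) ⊤) :
      Γ(AlgebraicGeometry.tilde M, ⊤))) hle (ULift.up j)
  have hσ : Submodule.span Γ(Spec R, D) (Set.range σ) = ⊤ := by
    rw [← h6]
    congr 1
    ext t
    constructor
    · rintro ⟨j, rfl⟩
      exact ⟨ULift.up j, rfl⟩
    · rintro ⟨⟨j⟩, rfl⟩
      exact ⟨j, rfl⟩
  have hst : IsScalarTower R Γ(Spec R, D) Γ(AlgebraicGeometry.tilde M, D) := inferInstance
  have hloc : IsLocalizedModule (Submonoid.powers (1 : R)) (tilde.toOpen M D).hom :=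
    inferInstanceAs (IsLocalizedModule.Away (1 : R)
      (tilde.toOpen M (PrimeSpectrum.basicOpen (1 : R))).hom)
  obtain ⟨x, hx⟩ := @Groth.Agent.Helper26.TildeGen.exists_lifts R _ (1 : R) Γ(Spec R, D) _ _ _ M
    Γ(AlgebraicGeometry.tilde M, D) _ _ _ _ _ hst (tilde.toOpen M D).hom hloc n σ hσ
  refine ⟨x, ?_⟩
  rw [eq_top_iff]
  intro y _
  obtain ⟨k, hk⟩ := hx y
  simpa using hk

section Alg

variable {R : Type u} [CommRing R] (M : Type u) [AddCommGroup M] [Module R M]

/-- generators of `M/JM` lift to generators of `M` modulo `J M` -/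
theorem exists_lift_gens (J : Ideal R) {K : ℕ} (y' : Fin K → (R ⧸ J) ⊗[R] M)
    (h : Submodule.span (R ⧸ J) (Set.range y') = ⊤) :
    ∃ y : Fin K → M, Submodule.span R (Set.range y) ⊔ J • (⊤ : Submodule R M) = ⊤ := by
  have hsurj : Function.Surjective (TensorProduct.mk R (R ⧸ J) M 1) :=
    TensorProduct.mk_surjective R M (R ⧸ J) Ideal.Quotient.mk_surjective
  choose y hy using fun j => hsurj (y' j)
  refine ⟨y, ?_⟩
  have h2 : Submodule.span R (Set.range y') = ⊤ := by
    rw [← Submodule.restrictScalars_span R (R ⧸ J) Ideal.Quotient.mk_surjective, h]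
    rfl
  let e := TensorProduct.quotTensorEquivQuotSMul M J
  have h3 : (Submodule.span R (Set.range y)).map (J • (⊤ : Submodule R M)).mkQ = ⊤ := by
    rw [Submodule.map_span, ← Set.range_comp]
    have hc : ((J • (⊤ : Submodule R M)).mkQ ∘ y) = e ∘ y' := by
      funext j
      simp only [Function.comp_apply]
      rw [← hy j]
      simp [e]
    rw [hc, Set.range_comp]
    have h4 : Submodule.span R ((fun a => e a) '' Set.range y') =
        (Submodule.span R (Set.range y')).map e.toLinearMap := by
      rw [Submodule.map_span]; rfl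
    rw [h4, h2, Submodule.map_top, LinearMap.range_eq_top]
    exact e.surjective
  rw [Submodule.map_mkQ_eq_top] at h3
  rw [sup_comm]
  exact h3

/-- base change of a presentation `O_U^N ↠ f^* M~` along a closed subscheme of the base -/
theorem exists_epi_bc {U : Scheme.{u}} (f : U ⟶ Spec (CommRingCat.of R)) (N : ℕ)
    (φ : FlatMod.freeMod U N ⟶
      (Scheme.Modules.pullback f).obj (tilde (ModuleCat.of R M))) (hφ : Epi φ)
    (J : Ideal R) {U' : Scheme.{u}} (p : U' ⟶ U) (f' : U' ⟶ Spec (CommRingCat.of (R ⧸ J)))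
    (h : p ≫ f = f' ≫ Spec.map (CommRingCat.ofHom (algebraMap R (R ⧸ J)))) :
    ∃ ψ : FlatMod.freeMod U' N ⟶ (Scheme.Modules.pullback f').obj
        (tilde (ModuleCat.of (R ⧸ J) ((R ⧸ J) ⊗[R] M))), Epi ψ := by
  haveI : (Scheme.Modules.pullback p).PreservesEpimorphisms :=
    Functor.preservesEpimorphisms_of_adjunction (Scheme.Modules.pullbackPushforwardAdjunction p)
  haveI := hφ
  have h1 : Epi ((Scheme.Modules.pullback p).map φ) := inferInstance
  refine ⟨(Groth.Agent.Helper13.ResAffine.pullbackFreeModIso p N).inv ≫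
      (Scheme.Modules.pullback p).map φ ≫
      (Scheme.Modules.pullbackComp p f).hom.app (tilde (ModuleCat.of R M)) ≫
      (Scheme.Modules.pullbackCongr h).hom.app (tilde (ModuleCat.of R M)) ≫
      (Scheme.Modules.pullbackComp f'
        (Spec.map (CommRingCat.ofHom (algebraMap R (R ⧸ J))))).inv.app (tilde (ModuleCat.of R M)) ≫
      (Scheme.Modules.pullback f').map
        (Groth.Agent.Helper13.Pullback.pullbackTildeIso' R (R ⧸ J) M).hom, ?_⟩
  infer_instance

/-- pulling a presentation `O_U^N ↠ f^* M~` back along a section over a closed subscheme of the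
base -/
theorem exists_epi_sec {U : Scheme.{u}} (f : U ⟶ Spec (CommRingCat.of R)) (N : ℕ)
    (φ : FlatMod.freeMod U N ⟶
      (Scheme.Modules.pullback f).obj (tilde (ModuleCat.of R M))) (hφ : Epi φ)
    (J : Ideal R) (s : Spec (CommRingCat.of (R ⧸ J)) ⟶ U)
    (h : s ≫ f = Spec.map (CommRingCat.ofHom (algebraMap R (R ⧸ J)))) :
    ∃ ψ : FlatMod.freeMod (Spec (CommRingCat.of (R ⧸ J))) N ⟶
        tilde (ModuleCat.of (R ⧸ J) ((R ⧸ J) ⊗[R] M)), Epi ψ := by
  haveI : (Scheme.Modules.pullback s).PreservesEpimorphisms :=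
    Functor.preservesEpimorphisms_of_adjunction (Scheme.Modules.pullbackPushforwardAdjunction s)
  haveI := hφ
  have h1 : Epi ((Scheme.Modules.pullback s).map φ) := inferInstance
  refine ⟨(Groth.Agent.Helper13.ResAffine.pullbackFreeModIso s N).inv ≫
      (Scheme.Modules.pullback s).map φ ≫
      (Scheme.Modules.pullbackComp s f).hom.app (tilde (ModuleCat.of R M)) ≫
      (Scheme.Modules.pullbackCongr h).hom.app (tilde (ModuleCat.of R M)) ≫
      (Groth.Agent.Helper13.Pullback.pullbackTildeIso' R (R ⧸ J) M).hom, ?_⟩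
  infer_instance

end Alg

end Groth.Agent.Helper9.NisGen
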