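import Mathlib
import Groth.Agent.Lib.Helper9.NisGen

set_option autoImplicit false
universe u
open CategoryTheory CategoryTheory.Limits AlgebraicGeometry Opposite TopologicalSpace TensorProduct

namespace Groth.Agent.Helper9.NisGen

theorem span_append_eq_top {R : Type*} [CommRing R] {M : Type*} [AddCommGroup M] [Module R M]
    {a b c : ℕ} (h : c = a + b) (y : Fin a → M) (x : Fin b → M)
    (hxy : Submodule.span R (Set.range y) ⊔ Submodule.span R (Set.range x) = ⊤) :
    Submodule.span R (Set.range fun i : Fin c => Fin.append y x (Fin.cast h i)) = ⊤ := by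
  subst h
  rw [eq_top_iff, ← hxy]
  refine sup_le (Submodule.span_le.2 ?_) (Submodule.span_le.2 ?_)
  · rintro _ ⟨j, rfl⟩
    exact Submodule.subset_span ⟨Fin.castAdd b j, by simp⟩
  · rintro _ ⟨j, rfl⟩
    exact Submodule.subset_span ⟨Fin.natAdd a j, by simp⟩

open W4c5algebraiztannaka in
/-- the induction on the length of the chain -/
theorem main_aux (m : ℕ) : ∀ (R : Type u) [CommRing R] (M : Type u) [AddCommGroup M] [Module R M]
    [Module.Finite R M] {U : Scheme.{u}} (f : U ⟶ Spec (CommRingCat.of R)) (N : ℕ)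
    (Z : ℕ → Set ↥(Spec (CommRingCat.of R))) (_ : Z 0 = ∅) (_ : Z m = Set.univ)
    (_ : ∀ k, IsClosed (Z k))
    (_ : ∀ k, k < m → HasSectOver f (Z (k + 1) \ Z k))
    (φ : FlatMod.freeMod U N ⟶ (Scheme.Modules.pullback f).obj (tilde (ModuleCat.of R M)))
    (_ : Epi φ),
    ∃ s : Fin (N * m) → M, Submodule.span R (Set.range s) = ⊤ := by
  induction m with
  | zero =>
    intro R _ M _ _ _ U f N Z hZ0 hZm hcl hsec φ hφ
    have hemp : IsEmpty (PrimeSpectrum R) := by
      constructor
      intro x
      have hx : (x : ↥(Spec (CommRingCat.of R))) ∈ Z 0 := by rw [hZm]; trivial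
      rw [hZ0] at hx
      exact hx
    have hR : Subsingleton R := by
      by_contra hne
      rw [not_subsingleton_iff_nontrivial] at hne
      exact hemp.false (Classical.arbitrary (PrimeSpectrum R))
    haveI : Subsingleton M := Module.subsingleton R M
    exact ⟨fun _ => 0, Subsingleton.elim _ _⟩
  | succ m ih =>
    intro R _ M _ _ _ U f N Z hZ0 hZm hcl hsec φ hφ
    obtain ⟨T, g, s, hg, hrange, hsg⟩ := hsec 0 (Nat.succ_pos m)
    have hr1 : Set.range (fun t : T => g t) = Z 1 := by
      rw [hrange, hZ0]; simp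
    haveI := hg
    have hcg : IsClosedImmersion g :=
      IsClosedImmersion.of_isPreimmersion g (by
        change IsClosed (Set.range (fun t : T => g t))
        rw [hr1]; exact hcl 1)
    obtain ⟨I, e, hge⟩ := IsClosedImmersion.Spec_iff.mp hcg
    let s' : Spec (CommRingCat.of (R ⧸ I)) ⟶ U := e.inv ≫ s
    have hs' : s' ≫ f = Spec.map (CommRingCat.ofHom (algebraMap R (R ⧸ I))) := by
      rw [Category.assoc, hsg, hge, Iso.inv_hom_id_assoc]
    -- generators modulo `I`
    obtain ⟨ψ, hψ⟩ := exists_epi_sec M f N φ hφ I s' hs'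
    obtain ⟨y0, hy0⟩ := exists_gens_of_epi_top (CommRingCat.of (R ⧸ I))
      (ModuleCat.of (R ⧸ I) ((R ⧸ I) ⊗[R] M)) N ψ hψ
    obtain ⟨x, hx⟩ := exists_lift_gens M I y0 hy0
    -- Nakayama
    set P := Submodule.span R (Set.range x) with hP
    have htop : (⊤ : Submodule R (M ⧸ P)) ≤ I • ⊤ := by
      have h1 : Submodule.map P.mkQ (I • (⊤ : Submodule R M)) = ⊤ := by
        rw [Submodule.map_mkQ_eq_top]; exact hx
      rw [Submodule.map_smul'', Submodule.map_top, Submodule.range_mkQ] at h1
      exact h1.ge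
    obtain ⟨r, hrI, hr0⟩ := Submodule.exists_sub_one_mem_and_smul_eq_zero_of_fg_of_le_smul I
      (⊤ : Submodule R (M ⧸ P)) Module.Finite.fg_top htop
    have hrP : ∀ y : M, r • y ∈ P := by
      intro y
      have h1 := hr0 (P.mkQ y) trivial
      rwa [← map_smul, Submodule.mkQ_apply, Submodule.Quotient.mk_eq_zero] at h1
    -- base change to `R ⧸ (r)`
    let J : Ideal R := Ideal.span {r}
    let q' : CommRingCat.of R ⟶ CommRingCat.of (R ⧸ J) :=
      CommRingCat.ofHom (algebraMap R (R ⧸ J))
    let f' := pullback.snd f (Spec.map q')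
    let p := pullback.fst f (Spec.map q')
    obtain ⟨ψ', hψ'⟩ := exists_epi_bc M f N φ hφ J p f' pullback.condition
    let Z' : ℕ → Set ↥(Spec (CommRingCat.of (R ⧸ J))) := fun k => (Spec.map q') ⁻¹' (Z (k + 1))
    have hZ'0 : Z' 0 = ∅ := by
      ext x'
      simp only [Z', Set.mem_preimage, Set.mem_empty_iff_false, iff_false]
      intro hx'
      have hmem : (Spec.map q') x' ∈ Set.range (fun t : T => g t) := by rw [hr1]; exact hx'
      obtain ⟨t, ht⟩ := hmem
      have ht' : (Spec.map (CommRingCat.ofHom (Ideal.Quotient.mk I))) (e.hom t) =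
          (Spec.map q') x' := by
        rw [← ht]
        change _ = g t
        rw [hge]
        rfl
      have hr : r ∈ ((Spec.map q') x').asIdeal := by
        change (algebraMap R (R ⧸ J)) r ∈ x'.asIdeal
        have : (algebraMap R (R ⧸ J)) r = 0 :=
          Ideal.Quotient.eq_zero_iff_mem.2 (Ideal.mem_span_singleton_self r)
        rw [this]; exact zero_mem _
      have hr' : r - 1 ∈ ((Spec.map q') x').asIdeal := by
        rw [← ht']
        change (Ideal.Quotient.mk I) (r - 1) ∈ (e.hom t).asIdeal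
        rw [Ideal.Quotient.eq_zero_iff_mem.2 hrI]; exact zero_mem _
      have h1 : (1 : R) ∈ ((Spec.map q') x').asIdeal := by
        have := Ideal.sub_mem _ hr hr'
        simpa using this
      exact ((Spec.map q') x').isPrime.ne_top ((Ideal.eq_top_iff_one _).2 h1)
    have hZ'm : Z' m = Set.univ := by
      simp only [Z']; rw [hZm]; rfl
    have hcl' : ∀ k, IsClosed (Z' k) := fun k => (hcl (k + 1)).preimage (Spec.map q').continuous
    have hsec' : ∀ k, k < m → HasSectOver f' (Z' (k + 1) \ Z' k) := by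
      intro k hk
      obtain ⟨T₁, g₁, s₁, hg₁, hrange₁, hsg₁⟩ := hsec (k + 1) (Nat.succ_lt_succ hk)
      haveI := hg₁
      refine ⟨pullback g₁ (Spec.map q'), pullback.snd g₁ (Spec.map q'),
        pullback.lift (pullback.fst g₁ (Spec.map q') ≫ s₁) (pullback.snd g₁ (Spec.map q'))
          (by rw [Category.assoc, hsg₁, pullback.condition]), inferInstance, ?_,
        pullback.lift_snd _ _ _⟩
      have h1 := Scheme.Pullback.range_snd g₁ (Spec.map q')
      change Set.range ⇑(pullback.snd g₁ (Spec.map q')) = _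
      rw [h1]
      change (Spec.map q') ⁻¹' (Set.range fun t : T₁ => g₁ t) = _
      rw [hrange₁]
      rfl
    obtain ⟨y', hy'⟩ := ih (R ⧸ J) ((R ⧸ J) ⊗[R] M) f' N Z' hZ'0 hZ'm hcl' hsec' ψ' hψ'
    obtain ⟨y, hy⟩ := exists_lift_gens M J y' hy'
    -- combine
    have hJP : J • (⊤ : Submodule R M) ≤ P := by
      rw [Submodule.smul_le]
      intro a ha n _
      obtain ⟨c, rfl⟩ := Ideal.mem_span_singleton'.1 ha
      rw [mul_smul]
      exact P.smul_mem c (hrP n)
    refine ⟨fun i => Fin.append y x (Fin.cast (Nat.mul_succ N m) i), ?_⟩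
    refine span_append_eq_top (Nat.mul_succ N m) y x ?_
    rw [eq_top_iff, ← hy]
    exact sup_le le_sup_left (hJP.trans le_sup_right)

end Groth.Agent.Helper9.NisGen
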