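import Groth.Agent.Lib.Helper19.NormEx.Defs

/-!
# (CD) for helper19's S15384: the affine "finite free" test objects are cover dense for the fppf topology
-/

set_option autoImplicit false
universe u
open CategoryTheory CategoryTheory.Limits AlgebraicGeometry Opposite

namespace Groth.Agent.Helper9.NormCD

open Groth.Agent.Helper19.NormEx

variable {X X' : Scheme.{u}} (f : X' ⟶ X)

/-- (CD) cover density of the full subcategory `FreeAff f` of `Over X` for the fppf topology. -/
theorem isCoverDense [IsFinite f] [Flat f] [LocallyOfFinitePresentation f] :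
    (FreeAff f).ι.IsCoverDense (QuotSh.J Scheme.fppfPrecoverage X) := by
  refine ⟨fun T => ?_⟩
  choose U hU hpU hfree using Groth.Agent.Helper19.NormUniq.exists_free_open f T
  rw [GrothendieckTopology.mem_over_iff]
  have hmem : Presieve.ofArrows (fun p : T.left => ((U p : T.left.Opens) : Scheme.{u}))
      (fun p => (U p).ι) ∈ Scheme.fppfPrecoverage T.left := by
    show _ ∈ Scheme.precoverage (@Flat ⊓ @LocallyOfFinitePresentation) T.left
    rw [Scheme.ofArrows_mem_precoverage_iff]
    refine ⟨fun x => ⟨x, ?_⟩, fun p => ⟨inferInstance, inferInstance⟩⟩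
    simpa using hpU x
  refine GrothendieckTopology.superset_covering _ ?_
    (Precoverage.generate_mem_toGrothendieck hmem)
  rw [Sieve.generate_le_iff]
  rintro V g ⟨p⟩
  rw [Sieve.overEquiv_iff]
  have hobj : FreeAff f (Over.mk ((U p).ι ≫ T.hom)) := ⟨hU p, hfree p⟩
  exact Presieve.in_coverByImage (FreeAff f).ι
    (Y := (⟨Over.mk ((U p).ι ≫ T.hom), hobj⟩ : (FreeAff f).FullSubcategory))
    (Over.homMk (U p).ι rfl : Over.mk ((U p).ι ≫ T.hom) ⟶ T)

end Groth.Agent.Helper9.NormCD
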