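import Groth.Agent.Lib.Helper9.PBasis2

/-!
# p-bases III: user-facing statements on derivations and differentials
-/

set_option autoImplicit false
set_option linter.unusedSectionVars false
universe u v

namespace Groth.Agent.Helper9.PBasis

open EGA41 TrivSqZeroExt

section

variable {p : ℕ} [hp : Fact p.Prime] {A B : Type u} [CommRing A] [CommRing B] [Algebra A B]
  {ι : Type u} {x : ι → B} {L : Type v} [AddCommGroup L] [Module B L]

attribute [local instance] oppModule

local instance : IsCentralScalar B L := ⟨fun _ _ => rfl⟩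

variable [Module A L] [IsScalarTower A B L]

/-- The ring map `a ↦ (a, D a)`. -/
def twist (D : Derivation ℤ A L) : A →+* TrivSqZeroExt B L where
  toFun a := inl (algebraMap A B a) + inr (D a)
  map_one' := by simp
  map_mul' a b := by
    ext
    · simp
    · simp [add_comm, algebraMap_smul]
  map_zero' := by simp
  map_add' a b := by
    ext
    · simp
    · simp

lemma der_pow_p [CharP B p] (D : Derivation ℤ B L) (b : B) : D (b ^ p) = 0 := by
  rw [Derivation.leibniz_pow, ← Nat.cast_smul_eq_nsmul B, CharP.cast_eq_zero, zero_smul]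

/-- EGA 0_IV 21.2.3 (ii): extension of derivations along `B^p ⊆ A ⊆ B` with a `p`-basis. -/
theorem existsUnique_der_of_ext [CharP B p] (hinj : Function.Injective (algebraMap A B))
    (hpow : ∀ b : B, b ^ p ∈ Set.range (algebraMap A B)) (hx : IsPBasis p A x)
    (D : Derivation ℤ A L) (hD : ∀ (a : A) (b : B), algebraMap A B a = b ^ p → D a = 0)
    (y : ι → L) :
    ∃! D' : Derivation ℤ B L, (∀ a : A, D' (algebraMap A B a) = D a) ∧ ∀ i, D' (x i) = y i := by
  let e := equivA (p := p) hinj hpow
  let g : pPowerSubalgebra p A B →+* TrivSqZeroExt B L := (twist D).comp e.symm.toRingHom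
  have hge : ∀ a, g (e a) = inl (algebraMap A B a) + inr (D a) := fun a => by simp [g, twist]
  have hg : ∀ c, (g c).fst = c := fun c => by
    obtain ⟨a, rfl⟩ := e.surjective c
    rw [hge]; simp [e, coe_equivA]
  have hgp : ∀ i, g (xpow p A x i) = inl (x i ^ p) := fun i => by
    obtain ⟨a, ha⟩ := e.surjective (xpow p A x i)
    have ha' : algebraMap A B a = x i ^ p := by rw [← coe_equivA hinj hpow, ha]; rfl
    rw [← ha, hge, hD a (x i) ha', ha']; simp
  obtain ⟨D', h1, h2⟩ := exists_der hx g hg hgp y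
  have h1' : ∀ a : A, D' (algebraMap A B a) = D a := fun a => by
    rw [← coe_equivA hinj hpow, h1, hge]; simp
  refine ⟨D', ⟨h1', h2⟩, fun D'' hD'' => der_ext hx (fun c => ?_) (fun i => ?_)⟩
  · obtain ⟨a, rfl⟩ := e.surjective c
    rw [coe_equivA, hD''.1, h1']
  · rw [hD''.2, h2]

/-- EGA 0_IV 21.2.5: `A`-derivations of `B` are freely determined on a `p`-basis. -/
theorem existsUnique_der [CharP B p] (hx : IsPBasis p A x) (y : ι → L) :
    ∃! D : Derivation A B L, ∀ i, D (x i) = y i := by
  let g : pPowerSubalgebra p A B →+* TrivSqZeroExt B L :=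
    (inlHom B L).comp (pPowerSubalgebra p A B).val.toRingHom
  obtain ⟨D₀, h1, h2⟩ := exists_der hx g (fun c => by simp [g]) (fun i => by simp [g]) y
  have h0 : ∀ a : A, D₀ (algebraMap A B a) = 0 := fun a => by
    have := h1 (algebraMap A (pPowerSubalgebra p A B) a)
    simpa [g] using this
  let D₁ : Derivation A B L := Derivation.mk'
    { toFun := D₀
      map_add' := map_add D₀
      map_smul' := fun a b => by
        simp only [RingHom.id_apply]
        rw [Algebra.smul_def, D₀.leibniz, h0, smul_zero, add_zero, algebraMap_smul] }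
    (fun a b => D₀.leibniz a b)
  refine ⟨D₁, h2, fun D' hD' => ?_⟩
  have hres : ∀ D : Derivation A B L, ∀ b : B, D (b ^ p) = 0 := fun D b => by
    rw [Derivation.leibniz_pow, ← Nat.cast_smul_eq_nsmul B, CharP.cast_eq_zero, zero_smul]
  have key : D'.restrictScalars ℤ = D₁.restrictScalars ℤ := der_ext hx (fun c => ?_) (fun i => ?_)
  · ext b
    exact congrArg (fun D => D b) key
  · have : Set.EqOn D' D₁ (Algebra.adjoin A (Set.range fun b : B => b ^ p)) :=
      Derivation.eqOn_adjoin (by rintro _ ⟨b, rfl⟩; rw [hres, hres])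
    exact this c.2
  · change D' (x i) = D₀ (x i)
    rw [hD', h2]

/-- EGA 0_IV 21.2.5: the differentials of a `p`-basis form a basis of `Ω_{B/A}`. -/
theorem exists_basis_kaehler [CharP B p] (hx : IsPBasis p A x) :
    ∃ b : Module.Basis ι B (Ω[B⁄A]), ∀ i, b i = KaehlerDifferential.D A B (x i) := by
  classical
  obtain ⟨D₁, hD₁, -⟩ := existsUnique_der (L := ι →₀ B) hx (fun i => Finsupp.single i 1)
  let Φ : Ω[B⁄A] →ₗ[B] (ι →₀ B) := D₁.liftKaehlerDifferential
  let Ψ : (ι →₀ B) →ₗ[B] Ω[B⁄A] :=
    Finsupp.linearCombination B (fun i => KaehlerDifferential.D A B (x i))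
  have hΦ : ∀ i, Φ (KaehlerDifferential.D A B (x i)) = Finsupp.single i 1 := fun i => by
    rw [Derivation.liftKaehlerDifferential_comp_D, hD₁]
  have hΨ : ∀ i, Ψ (Finsupp.single i 1) = KaehlerDifferential.D A B (x i) := fun i => by
    simp [Ψ]
  have h1 : Ψ ∘ₗ Φ = LinearMap.id := by
    apply Derivation.liftKaehlerDifferential_unique
    obtain ⟨D₂, -, huniq⟩ := existsUnique_der (L := Ω[B⁄A]) hx
      (fun i => KaehlerDifferential.D A B (x i))
    rw [huniq ((Ψ ∘ₗ Φ).compDer (KaehlerDifferential.D A B)) (fun i => by simp [hΦ, hΨ]),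
      huniq (LinearMap.id.compDer (KaehlerDifferential.D A B)) (fun i => by simp)]
  have h2 : Φ ∘ₗ Ψ = LinearMap.id := by
    apply Finsupp.lhom_ext'
    intro i
    apply LinearMap.ext_ring
    simp [hΦ, hΨ]
  let e : Ω[B⁄A] ≃ₗ[B] (ι →₀ B) := LinearEquiv.ofLinear Φ Ψ h2 h1
  refine ⟨Module.Basis.ofRepr e, fun i => ?_⟩
  rw [Module.Basis.apply_eq_iff]
  change Φ _ = _
  exact hΦ i

end

end Groth.Agent.Helper9.PBasis
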