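import Groth.Agent.Lib.Helper9.PBasis4

/-!
# p-bases V: generation from differentials in the finite type case (EGA 0_IV 21.1.7)
-/

set_option autoImplicit false
set_option linter.unusedSectionVars false
universe u v

namespace Groth.Agent.Helper9.PBasis

open EGA41 TensorProduct

section

variable {p : ℕ} [hp : Fact p.Prime] {A B : Type u} [CommRing A] [CommRing B] [Algebra A B]

/-- If `B₁ ⊆ B` is a subalgebra with `B^p ⊆ B₁`, `B` of finite type over `B₁` and `Ω_{B/B₁} = 0`
then `B₁ = B`. -/
theorem eq_top_of_subsingleton_kaehler [CharP B p] {R : Type u} [CommRing R] [Algebra R B]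
    (B₁ : Subalgebra R B) (hpow : ∀ b : B, b ^ p ∈ B₁) [Algebra.FiniteType B₁ B]
    [Subsingleton (Ω[B⁄B₁])] : B₁ = ⊤ := by
  -- integrality and finiteness
  haveI : Algebra.IsIntegral B₁ B := ⟨fun b =>
    IsIntegral.of_pow hp.out.pos (by
      have : b ^ p = algebraMap B₁ B ⟨b ^ p, hpow b⟩ := rfl
      rw [this]; exact isIntegral_algebraMap)⟩
  haveI : Module.Finite B₁ B := Algebra.IsIntegral.finite
  -- the diagonal ideal is idempotent, finitely generated and nil
  let I := KaehlerDifferential.ideal B₁ B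
  have hidem : IsIdempotentElem I := (Ideal.cotangent_subsingleton_iff I).mp
    (inferInstanceAs (Subsingleton (Ω[B⁄B₁])))
  obtain ⟨e, he, hI⟩ := (Ideal.isIdempotentElem_iff_of_fg I
    (KaehlerDifferential.ideal_fg B₁ B)).mp hidem
  -- characteristic p in the tensor product
  have hinj : Function.Injective (algebraMap B (B ⊗[B₁] B)) := by
    intro a b hab
    have := congrArg (Algebra.TensorProduct.lmul' (S := B) B₁) hab
    simpa [Algebra.TensorProduct.algebraMap_apply] using this
  haveI : CharP (B ⊗[B₁] B) p := charP_of_injective_algebraMap hinj p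
  have hnil : ∀ b : B, ((1 : B) ⊗ₜ[B₁] b - b ⊗ₜ[B₁] (1 : B)) ^ p = 0 := by
    intro b
    rw [sub_pow_char, Algebra.TensorProduct.tmul_pow, Algebra.TensorProduct.tmul_pow, one_pow]
    have : b ^ p = (⟨b ^ p, hpow b⟩ : B₁) • (1 : B) := by
      rw [Subalgebra.smul_def, smul_eq_mul, mul_one]
    rw [this, TensorProduct.tmul_smul, TensorProduct.smul_tmul', sub_self]
  have hIle : I ≤ nilradical (B ⊗[B₁] B) := by
    change KaehlerDifferential.ideal B₁ B ≤ _
    rw [← KaehlerDifferential.span_range_eq_ideal, Ideal.span_le]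
    rintro _ ⟨b, rfl⟩
    exact ⟨p, hnil b⟩
  have he0 : e = 0 := by
    have hemem : e ∈ I := by rw [hI]; exact Ideal.mem_span_singleton_self e
    obtain ⟨n, hn⟩ := hIle hemem
    rcases Nat.eq_zero_or_pos n with rfl | hpos
    · rw [pow_zero] at hn
      have : e = e * 1 := (mul_one e).symm
      rw [this, hn, mul_zero]
    · rw [← he.pow_succ_eq (n - 1), Nat.sub_add_cancel hpos, hn]
  have hI0 : I = ⊥ := by rw [hI, he0]; simp
  -- B₁ → B is an epimorphism
  have hepi : Algebra.IsEpi B₁ B := (Algebra.isEpi_iff_forall_one_tmul_eq B₁ B).mpr fun b => by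
    have : (1 : B) ⊗ₜ[B₁] b - b ⊗ₜ[B₁] (1 : B) ∈ I :=
      KaehlerDifferential.one_smul_sub_smul_one_mem_ideal B₁ b
    rw [hI0, Ideal.mem_bot, sub_eq_zero] at this
    exact this
  have hsurj := (Algebra.isEpi_iff_surjective_algebraMap_of_finite (R := B₁) (A := B)).mp hepi
  rw [eq_top_iff]
  intro b _
  obtain ⟨c, rfl⟩ := hsurj b
  exact c.2

/-- EGA 0_IV 21.1.7, (c) ⇒ (a). -/
theorem adjoin_eq_top_of_span_eq_top [CharP B p] {ι : Type u} (x : ι → B)
    (hft : Algebra.FiniteType (pPowerSubalgebra p A B) B)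
    (hspan : Submodule.span B (Set.range fun i => KaehlerDifferential.D A B (x i)) = ⊤) :
    Algebra.adjoin (pPowerSubalgebra p A B) (Set.range x) = ⊤ := by
  set B₁ := Algebra.adjoin (pPowerSubalgebra p A B) (Set.range x) with hB₁
  haveI : Algebra.FiniteType B₁ B :=
    Algebra.FiniteType.of_restrictScalars_finiteType (pPowerSubalgebra p A B) B₁ B
  have hpow : ∀ b : B, b ^ p ∈ B₁ := fun b => by
    have : b ^ p = algebraMap (pPowerSubalgebra p A B) B ⟨b ^ p, Algebra.subset_adjoin ⟨b, rfl⟩⟩ :=
      rfl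
    rw [this]
    exact Subalgebra.algebraMap_mem _ _
  haveI : Subsingleton (Ω[B⁄B₁]) := by
    -- the composite Ω[B/A] → Ω[B/A'] → Ω[B/B₁] is surjective and kills the generators
    let f₁ := KaehlerDifferential.map A (pPowerSubalgebra p A B) B B
    let f₂ := KaehlerDifferential.map (pPowerSubalgebra p A B) B₁ B B
    have hs₁ : Function.Surjective f₁ := KaehlerDifferential.map_surjective A _ B
    have hs₂ : Function.Surjective f₂ := KaehlerDifferential.map_surjective _ _ B
    have hzero : ∀ ω : Ω[B⁄A], f₂ (f₁ ω) = 0 := by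
      intro ω
      have hω : ω ∈ Submodule.span B (Set.range fun i => KaehlerDifferential.D A B (x i)) := by
        rw [hspan]; trivial
      induction hω using Submodule.span_induction with
      | mem ω hω =>
        obtain ⟨i, rfl⟩ := hω
        simp only [f₁, f₂, KaehlerDifferential.map_D, Algebra.algebraMap_self, RingHom.id_apply]
        have : x i = algebraMap B₁ B ⟨x i, Algebra.subset_adjoin ⟨i, rfl⟩⟩ := rfl
        rw [this, Derivation.map_algebraMap]
      | zero => simp
      | add a b _ _ ha hb => rw [map_add, map_add, ha, hb, add_zero]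
      | smul c a _ ha => rw [map_smul, map_smul, ha, smul_zero]
    refine ⟨fun a b => ?_⟩
    obtain ⟨a', rfl⟩ := hs₂ a
    obtain ⟨a'', rfl⟩ := hs₁ a'
    obtain ⟨b', rfl⟩ := hs₂ b
    obtain ⟨b'', rfl⟩ := hs₁ b'
    rw [hzero, hzero]
  exact eq_top_of_subsingleton_kaehler B₁ hpow

end

end Groth.Agent.Helper9.PBasis
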