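import Groth.Agent.Lib.Helper9.PBasis5

/-!
# EGA 0_IV 21.1.7 (general exponent): radicial finite type algebras with `Ω = 0` are quotients
-/

set_option autoImplicit false
set_option linter.unusedSectionVars false
universe u v

namespace Groth.Agent.Helper9.PBasis

open TensorProduct

theorem surjective_of_subsingleton_kaehler (p : ℕ) [hp : Fact p.Prime] {A B : Type u} [CommRing A]
    [CommRing B] [Algebra A B] [CharP B p] [Algebra.FiniteType A B] (s : ℕ)
    (hpow : ∀ b : B, b ^ p ^ s ∈ Set.range (algebraMap A B)) [Subsingleton (Ω[B⁄A])] :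
    Function.Surjective (algebraMap A B) := by
  haveI : Algebra.IsIntegral A B := ⟨fun b =>
    IsIntegral.of_pow (pow_pos hp.out.pos s) (by
      obtain ⟨a, ha⟩ := hpow b
      rw [← ha]; exact isIntegral_algebraMap)⟩
  haveI : Module.Finite A B := Algebra.IsIntegral.finite
  let I := KaehlerDifferential.ideal A B
  have hidem : IsIdempotentElem I := (Ideal.cotangent_subsingleton_iff I).mp
    (inferInstanceAs (Subsingleton (Ω[B⁄A])))
  obtain ⟨e, he, hI⟩ := (Ideal.isIdempotentElem_iff_of_fg I
    (KaehlerDifferential.ideal_fg A B)).mp hidem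
  have hinj : Function.Injective (algebraMap B (B ⊗[A] B)) := by
    intro a b hab
    have := congrArg (Algebra.TensorProduct.lmul' (S := B) A) hab
    simpa [Algebra.TensorProduct.algebraMap_apply] using this
  haveI : CharP (B ⊗[A] B) p := charP_of_injective_algebraMap hinj p
  have hnil : ∀ b : B, ((1 : B) ⊗ₜ[A] b - b ⊗ₜ[A] (1 : B)) ^ p ^ s = 0 := by
    intro b
    rw [sub_pow_char_pow, Algebra.TensorProduct.tmul_pow, Algebra.TensorProduct.tmul_pow, one_pow]
    obtain ⟨a, ha⟩ := hpow b
    have : b ^ p ^ s = a • (1 : B) := by rw [← ha, Algebra.smul_def, mul_one]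
    rw [this, TensorProduct.tmul_smul, TensorProduct.smul_tmul', sub_self]
  have hIle : I ≤ nilradical (B ⊗[A] B) := by
    change KaehlerDifferential.ideal A B ≤ _
    rw [← KaehlerDifferential.span_range_eq_ideal, Ideal.span_le]
    rintro _ ⟨b, rfl⟩
    exact ⟨p ^ s, hnil b⟩
  have he0 : e = 0 := by
    have hemem : e ∈ I := by rw [hI]; exact Ideal.mem_span_singleton_self e
    obtain ⟨n, hn⟩ := hIle hemem
    rcases Nat.eq_zero_or_pos n with rfl | hpos
    · rw [pow_zero] at hn
      have : e = e * 1 := (mul_one e).symm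
      rw [this, hn, mul_zero]
    · rw [← he.pow_succ_eq (n - 1), Nat.sub_add_cancel hpos, hn]
  have hI0 : I = ⊥ := by rw [hI, he0]; simp
  have hepi : Algebra.IsEpi A B := (Algebra.isEpi_iff_forall_one_tmul_eq A B).mpr fun b => by
    have : (1 : B) ⊗ₜ[A] b - b ⊗ₜ[A] (1 : B) ∈ I :=
      KaehlerDifferential.one_smul_sub_smul_one_mem_ideal A b
    rw [hI0, Ideal.mem_bot, sub_eq_zero] at this
    exact this
  exact (Algebra.isEpi_iff_surjective_algebraMap_of_finite (R := A) (A := B)).mp hepi

end Groth.Agent.Helper9.PBasis
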