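import Groth.Agent.Lib.Helper9.PBasis5

/-!
# p-bases of field extensions (EGA 0_IV 21.4)
-/

set_option autoImplicit false
set_option linter.unusedSectionVars false
universe u v

namespace Groth.Agent.Helper9.PBasis

open EGA41 Polynomial

section

variable {p : ℕ} [hp : Fact p.Prime] {k K : Type u} [Field k] [Field K] [Algebra k K] [CharP K p]

/-- A subalgebra of `K` containing `K^p` is stable under inverses. -/
lemma inv_mem_of_pow_mem {R : Type u} [CommRing R] [Algebra R K] (F : Subalgebra R K)
    (hF : ∀ b : K, b ^ p ∈ F) {a : K} (ha : a ∈ F) : a⁻¹ ∈ F := by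
  rcases eq_or_ne a 0 with rfl | h0
  · simpa using ha
  · have : a⁻¹ = (a⁻¹) ^ p * a ^ (p - 1) := by
      rw [inv_pow, eq_inv_mul_iff_mul_eq₀ (pow_ne_zero _ h0)]
      conv_lhs => rw [← Nat.sub_add_cancel hp.out.one_le, pow_succ]
      rw [mul_inv_cancel_right₀ h0]
    rw [this]
    exact mul_mem (hF _) (pow_mem ha _)

lemma isField_of_pow_mem {R : Type u} [CommRing R] [Algebra R K] (F : Subalgebra R K)
    (hF : ∀ b : K, b ^ p ∈ F) : IsField F where
  exists_pair_ne := ⟨0, 1, zero_ne_one⟩
  mul_comm := mul_comm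
  mul_inv_cancel := fun {a} ha => ⟨⟨(a : K)⁻¹, inv_mem_of_pow_mem F hF a.2⟩, Subtype.ext
    (mul_inv_cancel₀ (fun h => ha (Subtype.ext h)))⟩

/-- Lemma E: if `K^p ⊆ F` and `s ∉ F` then `1, s, …, s^(p-1)` are linearly independent over `F`. -/
theorem linearIndependent_pow_of_notMem {R : Type u} [CommRing R] [Algebra R K]
    (F : Subalgebra R K) (hF : ∀ b : K, b ^ p ∈ F) {s : K} (hs : s ∉ F) :
    LinearIndependent F (fun j : Fin p => s ^ (j : ℕ)) := by
  letI : Field F := (isField_of_pow_mem F hF).toField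
  let a : F := ⟨s ^ p, hF s⟩
  have hirr : Irreducible (X ^ p - C a : F[X]) := by
    apply X_pow_sub_C_irreducible_of_prime hp.out
    intro b hb
    apply hs
    have h1 : (b : K) ^ p = s ^ p := congrArg Subtype.val hb
    have h2 : (b : K) = s := frobenius_inj K p h1
    rw [← h2]
    exact b.2
  have hmin : minpoly F s = X ^ p - C a := by
    symm
    apply minpoly.eq_of_irreducible_of_monic hirr
    · simp only [map_sub, map_pow, aeval_X, aeval_C]
      exact sub_self _
    · exact monic_X_pow_sub_C a hp.out.ne_zero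
  have hdeg : (minpoly F s).natDegree = p := by
    rw [hmin, natDegree_X_pow_sub_C]
  have := linearIndependent_pow (K := F) s
  rw [hdeg] at this
  exact this

lemma pow_mem_adjoin {ι : Type u} (x : ι → K) (b : K) :
    b ^ p ∈ Algebra.adjoin (pPowerSubalgebra p k K) (Set.range x) := by
  have : b ^ p = algebraMap (pPowerSubalgebra p k K) K ⟨b ^ p, Algebra.subset_adjoin ⟨b, rfl⟩⟩ :=
    rfl
  rw [this]
  exact Subalgebra.algebraMap_mem _ _

/-- K1: adjoining an element outside `k'[x]` to a `p`-independent family keeps it `p`-independent. -/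
theorem isPIndependent_option {ι : Type u} {x : ι → K} (hx : IsPIndependent p k x) {s : K}
    (hs : s ∉ Algebra.adjoin (pPowerSubalgebra p k K) (Set.range x)) :
    IsPIndependent p k (fun o : Option ι => o.elim s x) := by
  classical
  set F := Algebra.adjoin (pPowerSubalgebra p k K) (Set.range x) with hFdef
  have hF : ∀ b : K, b ^ p ∈ F := pow_mem_adjoin x
  let mF : RIdx p ι → F := fun e => ⟨pMonomial x e.1,
    Subalgebra.prod_mem F fun i _ => pow_mem (Algebra.subset_adjoin (Set.mem_range_self i)) _⟩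
  have hb : LinearIndependent (pPowerSubalgebra p k K) mF := by
    apply LinearIndependent.of_comp (Subalgebra.val F).toLinearMap
    exact hx
  have hc := linearIndependent_pow_of_notMem F hF hs
  have h := linearIndependent_smul hb hc
  let g : RIdx p (Option ι) → RIdx p ι × Fin p := fun e' =>
    (⟨e'.1.some, fun i => e'.2 (some i)⟩, ⟨e'.1 none, e'.2 none⟩)
  have hg : Function.Injective g := by
    intro e' e'' hee
    apply Subtype.ext
    ext o
    cases o with
    | none => exact congrArg (fun q => (q.2 : ℕ)) hee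
    | some i => exact congrArg (fun q => q.1.1 i) hee
  have := h.comp g hg
  unfold IsPIndependent
  convert this using 1
  ext e'
  simp only [Function.comp_apply]
  rw [Subalgebra.smul_def, smul_eq_mul]
  unfold pMonomial
  rw [Finsupp.prod_option_index _ _ (fun _ => pow_zero _) (fun _ _ _ => pow_add _ _ _)]
  simp [g, mF, mul_comm, pMonomial]

variable (p k) in
/-- `p`-independence of a subset of `K`. -/
def SetIndep (T : Set K) : Prop := IsPIndependent p k (Subtype.val : T → K)

lemma SetIndep.mono {T T' : Set K} (h : T ⊆ T') (hT' : SetIndep p k T') : SetIndep p k T :=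
  isPIndependent_comp hT' (Set.inclusion h) (Set.inclusion_injective h)

lemma SetIndep.ins {T : Set K} (hT : SetIndep p k T) {s : K}
    (hs : s ∉ Algebra.adjoin (pPowerSubalgebra p k K) T) : SetIndep p k (insert s T) := by
  classical
  have hs' : s ∉ Algebra.adjoin (pPowerSubalgebra p k K) (Set.range (Subtype.val : T → K)) := by
    rwa [Subtype.range_coe]
  have h := isPIndependent_option hT hs'
  let f : ↥(insert s T) → Option T := fun a => if h : (a : K) ∈ T then some ⟨a, h⟩ else none
  have hf : (fun o : Option T => o.elim s Subtype.val) ∘ f = Subtype.val := by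
    ext a
    simp only [Function.comp_apply, f]
    split_ifs with h
    · rfl
    · exact ((Set.mem_insert_iff.mp a.2).resolve_right h).symm
  have hfinj : Function.Injective f := by
    apply Function.Injective.of_comp (f := fun o : Option T => o.elim s Subtype.val)
    rw [hf]
    exact Subtype.val_injective
  have := isPIndependent_comp h f hfinj
  unfold SetIndep
  rw [← hf]
  exact this

lemma SetIndep.sUnion {c : Set (Set K)} (hc : IsChain (· ⊆ ·) c) (hne : c.Nonempty)
    (h : ∀ T ∈ c, SetIndep p k T) : SetIndep p k (⋃₀ c) := by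
  classical
  apply isPIndependent_of_finset
  intro J
  have hfin : ((J.image Subtype.val : Finset K) : Set K).Finite := Finset.finite_toSet _
  have hsub : ((J.image Subtype.val : Finset K) : Set K) ⊆ ⋃₀ c := by
    intro a ha
    simp only [Finset.coe_image, Set.mem_image] at ha
    obtain ⟨b, -, rfl⟩ := ha
    exact b.2
  obtain ⟨T, hT, hJT⟩ := hc.directedOn.exists_mem_subset_of_finite_of_subset_sUnion hne hfin hsub
  let f : J → T := fun j => ⟨j.1.1, hJT (by
    simp only [Finset.coe_image, Set.mem_image]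
    exact ⟨j.1, j.2, rfl⟩)⟩
  have hf : Function.Injective f := fun a b hab => by
    apply Subtype.ext
    apply Subtype.ext
    exact congrArg (fun t : T => (t : K)) hab
  exact isPIndependent_comp (h T hT) f hf

/-- Zorn: between a `p`-independent `L` and any `S₀ ⊇ L` there is a `p`-independent `T` with
`S₀ ⊆ k'[T]`. -/
theorem exists_setIndep_adjoin (L S₀ : Set K) (hLS : L ⊆ S₀) (hL : SetIndep p k L) :
    ∃ T : Set K, L ⊆ T ∧ T ⊆ S₀ ∧ SetIndep p k T ∧
      S₀ ⊆ Algebra.adjoin (pPowerSubalgebra p k K) T := by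
  have H : ∀ c ⊆ {T : Set K | L ⊆ T ∧ T ⊆ S₀ ∧ SetIndep p k T}, IsChain (· ⊆ ·) c → c.Nonempty →
      ∃ ub ∈ {T : Set K | L ⊆ T ∧ T ⊆ S₀ ∧ SetIndep p k T}, ∀ s ∈ c, s ⊆ ub := by
    intro c hcS hc hne
    refine ⟨⋃₀ c, ⟨?_, ?_, ?_⟩, fun T hT => Set.subset_sUnion_of_mem hT⟩
    · obtain ⟨T, hT⟩ := hne
      exact (hcS hT).1.trans (Set.subset_sUnion_of_mem hT)
    · exact Set.sUnion_subset fun T hT => (hcS hT).2.1
    · exact SetIndep.sUnion hc hne fun T hT => (hcS hT).2.2
  obtain ⟨T, hLT, hmax⟩ := zorn_subset_nonempty {T : Set K | L ⊆ T ∧ T ⊆ S₀ ∧ SetIndep p k T}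
    H L ⟨subset_rfl, hLS, hL⟩
  refine ⟨T, hLT, hmax.prop.2.1, hmax.prop.2.2, fun s hs => ?_⟩
  by_contra hcon
  have hins : insert s T ∈ {T : Set K | L ⊆ T ∧ T ⊆ S₀ ∧ SetIndep p k T} :=
    ⟨hLT.trans (Set.subset_insert _ _), Set.insert_subset hs hmax.prop.2.1,
      hmax.prop.2.2.ins hcon⟩
  have := hmax.le_of_ge hins (Set.subset_insert _ _)
  exact hcon (Algebra.subset_adjoin (this (Set.mem_insert _ _)))

/-- EGA 0_IV 21.4.2: existence of `p`-bases between a `p`-free subset and a system of
`p`-generators. -/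
theorem exists_pBasis_between (S₀ L : Set K) (hLS : L ⊆ S₀)
    (hS : IsPGenerating p k (Subtype.val : S₀ → K))
    (hL : IsPIndependent p k (Subtype.val : L → K)) :
    ∃ T : Set K, L ⊆ T ∧ T ⊆ S₀ ∧ IsPBasis p k (Subtype.val : T → K) := by
  obtain ⟨T, h1, h2, h3, h4⟩ := exists_setIndep_adjoin L S₀ hLS hL
  refine ⟨T, h1, h2, h3, ?_⟩
  rw [isPGenerating_iff_adjoin, Subtype.range_coe] at hS ⊢
  rw [eq_top_iff, ← hS]
  exact Algebra.adjoin_le h4

end

end Groth.Agent.Helper9.PBasis
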