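import Groth.Agent.Lib.Helper9.PBasisField

/-!
# p-bases of field extensions II: criteria (EGA 0_IV 21.4.3, 21.4.5)
-/

set_option autoImplicit false
set_option linter.unusedSectionVars false
universe u v

namespace Groth.Agent.Helper9.PBasis

open EGA41 Polynomial

section

variable {p : ℕ} [hp : Fact p.Prime] {k K : Type u} [Field k] [Field K] [Algebra k K] [CharP K p]

/-- The field generated over `k` by `K^p` and `Y` is the ring `k[K^p][Y]`. -/
theorem mem_intermediateField_adjoin_iff (Y : Set K) (z : K) :
    z ∈ IntermediateField.adjoin k ((Set.range fun y : K => y ^ p) ∪ Y) ↔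
      z ∈ Algebra.adjoin (pPowerSubalgebra p k K) Y := by
  constructor
  · intro hz
    let F := Algebra.adjoin (pPowerSubalgebra p k K) Y
    have hF : ∀ b : K, b ^ p ∈ F := fun b => by
      have : b ^ p = algebraMap (pPowerSubalgebra p k K) K
          ⟨b ^ p, Algebra.subset_adjoin ⟨b, rfl⟩⟩ := rfl
      rw [this]
      exact Subalgebra.algebraMap_mem _ _
    let F' : IntermediateField k K := Subalgebra.toIntermediateField (F.restrictScalars k)
      (fun x hx => inv_mem_of_pow_mem F hF hx)
    have hle : IntermediateField.adjoin k ((Set.range fun y : K => y ^ p) ∪ Y) ≤ F' := by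
      rw [IntermediateField.adjoin_le_iff]
      rintro y (⟨b, rfl⟩ | hy)
      · exact hF b
      · exact Algebra.subset_adjoin hy
    exact hle hz
  · intro hz
    induction hz using Algebra.adjoin_induction with
    | mem y hy => exact IntermediateField.subset_adjoin _ _ (Or.inr hy)
    | algebraMap c =>
      have h1 : (c : K) ∈ Algebra.adjoin k ((Set.range fun y : K => y ^ p) ∪ Y) :=
        Algebra.adjoin_mono Set.subset_union_left c.2
      exact IntermediateField.algebra_adjoin_le_adjoin k _ h1
    | add a b _ _ ha hb => exact add_mem ha hb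
    | mul a b _ _ ha hb => exact mul_mem ha hb

/-- The empty family is `p`-independent. -/
lemma isPIndependent_of_isEmpty {ι : Type u} [IsEmpty ι] (x : ι → K) : IsPIndependent p k x := by
  unfold IsPIndependent
  haveI : Subsingleton (RIdx p ι) := ⟨fun a b => Subtype.ext (Subsingleton.elim _ _)⟩
  apply LinearIndependent.of_subsingleton' (zer p)
  intro r hr
  have h1 : pMonomial x (zer p (ι := ι)).1 = 1 := pMonomial_zero x
  rw [h1, Subalgebra.smul_def, smul_eq_mul, mul_one] at hr
  exact Subtype.ext hr

lemma injective_of_isPIndependent {ι : Type u} {x : ι → K} (hx : IsPIndependent p k x) :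
    Function.Injective x := by
  intro a b hab
  have h := hx.injective (a₁ := sgl p a) (a₂ := sgl p b) (by
    simp only [sgl, pMonomial_single, pow_one]; exact hab)
  have h2 := congrArg (fun e : RIdx p ι => e.1 a) h
  simp only [sgl, Finsupp.single_eq_same] at h2
  by_contra hne
  rw [Finsupp.single_eq_of_ne hne] at h2
  exact one_ne_zero h2

/-- EGA 0_IV 21.4.3, direction ⇒. -/
theorem notMem_adjoin_of_isPIndependent {ι : Type u} {x : ι → K} (hx : IsPIndependent p k x)
    (a : ι) : x a ∉ Algebra.adjoin (pPowerSubalgebra p k K) (x '' {b | b ≠ a}) := by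
  intro hmem
  let x' : {b // b ≠ a} → K := fun b => x b
  have hrange : x '' {b | b ≠ a} = Set.range x' := by
    ext z
    constructor
    · rintro ⟨b, hb, rfl⟩
      exact ⟨⟨b, hb⟩, rfl⟩
    · rintro ⟨b, rfl⟩
      exact ⟨b.1, b.2, rfl⟩
  rw [hrange, ← Subalgebra.mem_toSubmodule, adjoin_eq_span] at hmem
  let s : Set (RIdx p ι) := Set.range (pushIdx (p := p) (Subtype.val : {b // b ≠ a} → ι)
    Subtype.val_injective)
  have hs : (Set.range fun e : RIdx p {b // b ≠ a} => pMonomial x' e.1) =
      (fun e : RIdx p ι => pMonomial x e.1) '' s := by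
    ext z
    constructor
    · rintro ⟨e, rfl⟩
      exact ⟨_, ⟨e, rfl⟩, pMonomial_pushIdx _ Subtype.val_injective x e⟩
    · rintro ⟨_, ⟨e, rfl⟩, rfl⟩
      exact ⟨e, (pMonomial_pushIdx _ Subtype.val_injective x e).symm⟩
  rw [hs] at hmem
  have hnot : sgl p a ∉ s := by
    rintro ⟨e, he⟩
    have := congrArg (fun e : RIdx p ι => e.1 a) he
    simp only [sgl, pushIdx, Finsupp.single_eq_same] at this
    rw [Finsupp.mapDomain_of_notMem_range] at this
    · exact zero_ne_one this
    · rintro ⟨b, hb⟩
      exact b.2 hb
  have hxa : x a = pMonomial x (sgl p a).1 := by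
    simp [sgl, pMonomial_single]
  rw [hxa] at hmem
  exact hx.notMem_span_image hnot hmem

/-- EGA 0_IV 21.4.3, direction ⇐. -/
theorem isPIndependent_of_notMem_adjoin {ι : Type u} {x : ι → K}
    (h : ∀ a, x a ∉ Algebra.adjoin (pPowerSubalgebra p k K) (x '' {b | b ≠ a})) :
    IsPIndependent p k x := by
  classical
  apply isPIndependent_of_finset
  intro J
  induction J using Finset.induction_on with
  | empty => exact isPIndependent_of_isEmpty _
  | insert a J' ha IH =>
    have hnot : x a ∉ Algebra.adjoin (pPowerSubalgebra p k K)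
        (Set.range fun j : J' => x j) := by
      intro hmem
      refine h a (Algebra.adjoin_mono ?_ hmem)
      rintro _ ⟨j, rfl⟩
      exact ⟨j.1, fun hja => ha (hja ▸ j.2), rfl⟩
    have h1 := isPIndependent_option IH hnot
    let f : ↥(insert a J') → Option J' := fun j =>
      if hj : j.1 ∈ J' then some ⟨j.1, hj⟩ else none
    have hf : (fun o : Option J' => o.elim (x a) fun j : J' => x j) ∘ f =
        fun j : ↥(insert a J') => x j := by
      ext j
      simp only [Function.comp_apply, f]
      split_ifs with hj
      · rfl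
      · have : j.1 = a := (Finset.mem_insert.mp j.2).resolve_right hj
        simp [this]
    have hfinj : Function.Injective f := by
      intro j j' hjj'
      simp only [f] at hjj'
      apply Subtype.ext
      split_ifs at hjj' with h1 h2 h2
      · exact congrArg (fun j : J' => j.1) (Option.some.inj hjj')
      · rw [(Finset.mem_insert.mp j.2).resolve_right h1,
          (Finset.mem_insert.mp j'.2).resolve_right h2]
    have := isPIndependent_comp h1 f hfinj
    rw [hf] at this
    exact this

/-- EGA 0_IV 21.4.3. -/
theorem isPIndependent_iff_notMem {ι : Type u} (x : ι → K) :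
    IsPIndependent p k x ↔
      ∀ a : ι, x a ∉ IntermediateField.adjoin k
        ((Set.range fun y : K => y ^ p) ∪ x '' {b | b ≠ a}) := by
  simp only [mem_intermediateField_adjoin_iff]
  exact ⟨fun hx a => notMem_adjoin_of_isPIndependent hx a, isPIndependent_of_notMem_adjoin⟩

end

end Groth.Agent.Helper9.PBasis
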