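import Groth.Agent.Lib.Helper9.PBasisField2

/-!
# p-bases of field extensions III: differentials (EGA 0_IV 21.4.5)
-/

set_option autoImplicit false
set_option linter.unusedSectionVars false
universe u v

namespace Groth.Agent.Helper9.PBasis

open EGA41

section

variable {p : ℕ} [hp : Fact p.Prime] {k K : Type u} [Field k] [Field K] [Algebra k K] [CharP K p]

lemma isPGenerating_univ : IsPGenerating p k (Subtype.val : ↥(Set.univ : Set K) → K) := by
  rw [isPGenerating_iff_adjoin, Subtype.range_coe, Algebra.adjoin_univ]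

/-- every `p`-independent family is part of a `p`-basis (as sets) -/
lemma exists_pBasis_of_setIndep {L : Set K} (hL : SetIndep p k L) :
    ∃ T : Set K, L ⊆ T ∧ IsPBasis p k (Subtype.val : T → K) := by
  obtain ⟨T, h1, -, h3⟩ := exists_pBasis_between (p := p) (k := k) Set.univ L (Set.subset_univ _)
    isPGenerating_univ hL
  exact ⟨T, h1, h3⟩

lemma setIndep_range {ι : Type u} {x : ι → K} (hx : IsPIndependent p k x) :
    SetIndep p k (Set.range x) := by
  have hinj := injective_of_isPIndependent hx
  unfold SetIndep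
  rw [← isPIndependent_equiv (Subtype.val : Set.range x → K) (Equiv.ofInjective x hinj)]
  exact hx

/-- (1) ⇒ -/
theorem linearIndependent_D_of_isPIndependent {ι : Type u} {x : ι → K}
    (hx : IsPIndependent p k x) :
    LinearIndependent K (fun i => KaehlerDifferential.D k K (x i)) := by
  obtain ⟨T, hT, hbasis⟩ := exists_pBasis_of_setIndep (setIndep_range hx)
  obtain ⟨b, hb⟩ := exists_basis_kaehler hbasis
  let g : ι → T := fun i => ⟨x i, hT (Set.mem_range_self i)⟩
  have hg : Function.Injective g := fun i j hij =>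
    injective_of_isPIndependent hx (congrArg (fun t : T => (t : K)) hij)
  have h2 : (fun i => KaehlerDifferential.D k K (x i)) = b ∘ g := by
    ext i
    exact (hb (g i)).symm
  rw [h2]
  exact b.linearIndependent.comp g hg

/-- (1) ⇐ -/
theorem isPIndependent_of_linearIndependent_D {ι : Type u} {x : ι → K}
    (hx : LinearIndependent K (fun i => KaehlerDifferential.D k K (x i))) :
    IsPIndependent p k x := by
  apply isPIndependent_of_notMem_adjoin
  intro a hmem
  have h1 := der_mem_span (KaehlerDifferential.D k K) _ hmem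
  rw [← Set.image_comp] at h1
  exact hx.notMem_span_image (s := {b | b ≠ a}) (fun h => h rfl) h1

/-- (2) ⇒ -/
theorem span_D_eq_top_of_isPGenerating {ι : Type u} {x : ι → K} (hx : IsPGenerating p k x) :
    Submodule.span K (Set.range fun i => KaehlerDifferential.D k K (x i)) = ⊤ := by
  rw [isPGenerating_iff_adjoin] at hx
  rw [eq_top_iff, ← KaehlerDifferential.span_range_derivation, Submodule.span_le]
  rintro _ ⟨b, rfl⟩
  have hb : b ∈ Algebra.adjoin (pPowerSubalgebra p k K) (Set.range x) := by
    rw [hx]; trivial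
  have := der_mem_span (KaehlerDifferential.D k K) (Set.range x) hb
  rw [← Set.range_comp] at this
  exact this

/-- (2) ⇐ -/
theorem isPGenerating_of_span_D_eq_top {ι : Type u} {x : ι → K}
    (hx : Submodule.span K (Set.range fun i => KaehlerDifferential.D k K (x i)) = ⊤) :
    IsPGenerating p k x := by
  classical
  rw [isPGenerating_iff_adjoin]
  by_contra hne
  obtain ⟨s, hs⟩ : ∃ s : K, s ∉ Algebra.adjoin (pPowerSubalgebra p k K) (Set.range x) := by
    by_contra hall
    exact hne (eq_top_iff.mpr fun z _ => by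
      by_contra hz
      exact hall ⟨z, hz⟩)
  have hempty : SetIndep p k (∅ : Set K) := isPIndependent_of_isEmpty _
  obtain ⟨T, -, hTx, hTind, hxT⟩ := exists_setIndep_adjoin (p := p) (k := k) ∅ (Set.range x)
    (Set.empty_subset _) hempty
  have hsT : s ∉ Algebra.adjoin (pPowerSubalgebra p k K) T := fun h =>
    hs (Algebra.adjoin_mono hTx h)
  obtain ⟨T', hT', hbasis⟩ := exists_pBasis_of_setIndep (hTind.ins hsT)
  obtain ⟨D₁, hD₁, -⟩ := existsUnique_der (L := K) hbasis
    (fun t => if (t : K) = s then (1 : K) else 0)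
  have hD₁s : D₁ s = 1 := by
    have := hD₁ ⟨s, hT' (Set.mem_insert _ _)⟩
    simpa using this
  have hD₁T : ∀ t ∈ T, D₁ t = 0 := fun t ht => by
    have := hD₁ ⟨t, hT' (Set.mem_insert_of_mem _ ht)⟩
    have hts : t ≠ s := fun h => hsT (h ▸ Algebra.subset_adjoin ht)
    simpa [hts] using this
  have hD₁x : ∀ i, D₁ (x i) = 0 := fun i => by
    have h1 := der_mem_span D₁ T (hxT (Set.mem_range_self i))
    have h2 : D₁ '' T ⊆ {0} := by
      rintro _ ⟨t, ht, rfl⟩
      exact hD₁T t ht
    have h3 := Submodule.span_mono h2 h1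
    rw [Submodule.span_singleton_eq_bot.mpr rfl] at h3
    exact h3
  have hzero : D₁.liftKaehlerDifferential = 0 := by
    apply LinearMap.ext_on_range hx
    intro i
    rw [Derivation.liftKaehlerDifferential_comp_D, hD₁x, LinearMap.zero_apply]
  have : D₁ s = 0 := by
    rw [← Derivation.liftKaehlerDifferential_comp_D, hzero, LinearMap.zero_apply]
  rw [hD₁s] at this
  exact one_ne_zero this

/-- EGA 0_IV 21.4.5. -/
theorem pBasis_criteria {ι : Type u} (x : ι → K) :
    (IsPIndependent p k x ↔ LinearIndependent K (fun i => KaehlerDifferential.D k K (x i))) ∧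
    (IsPGenerating p k x ↔
      Submodule.span K (Set.range fun i => KaehlerDifferential.D k K (x i)) = ⊤) ∧
    (IsPBasis p k x ↔
      ∃ b : Module.Basis ι K (Ω[K⁄k]), ∀ i, b i = KaehlerDifferential.D k K (x i)) := by
  refine ⟨⟨linearIndependent_D_of_isPIndependent, isPIndependent_of_linearIndependent_D⟩,
    ⟨span_D_eq_top_of_isPGenerating, isPGenerating_of_span_D_eq_top⟩, ⟨fun h => ?_, ?_⟩⟩
  · refine ⟨Module.Basis.mk (linearIndependent_D_of_isPIndependent h.1)
      (span_D_eq_top_of_isPGenerating h.2).ge, fun i => ?_⟩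
    rw [Module.Basis.mk_apply]
  · rintro ⟨b, hb⟩
    have hfun : (fun i => KaehlerDifferential.D k K (x i)) = b := by
      ext i; exact (hb i).symm
    refine ⟨isPIndependent_of_linearIndependent_D ?_, isPGenerating_of_span_D_eq_top ?_⟩
    · rw [hfun]; exact b.linearIndependent
    · rw [hfun]; exact b.span_eq

end

end Groth.Agent.Helper9.PBasis
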