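import Mathlib
import Groth.Prelude.Def_EGA41
import Groth.Agent.Lib.Helper9.PBasis4
import Groth.Agent.Lib.Helper9.PBasis3

/-!
# The imperfection module `Υ_{B/A}` when `B^p ⊆ A ⊆ B` has a p-basis (EGA 0_IV 21.3)
-/

set_option autoImplicit false
set_option linter.unusedSectionVars false
universe u v

namespace Groth.Agent.Helper9.PBasis

open EGA41 TensorProduct

section

variable {p : ℕ} [hp : Fact p.Prime] {A B : Type u} [CommRing A] [CommRing B] [Algebra A B]
  [CharP B p]

/-- The "Frobenius" `B → A`, `b ↦ b^p`, when `B^p ⊆ A ⊆ B`. -/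
noncomputable def frobDown (hinj : Function.Injective (algebraMap A B))
    (hpow : ∀ b : B, b ^ p ∈ Set.range (algebraMap A B)) : B →+* A where
  toFun b := (hpow b).choose
  map_one' := hinj (by rw [(hpow 1).choose_spec, one_pow, map_one])
  map_mul' b c := hinj (by
    rw [(hpow _).choose_spec, map_mul, (hpow b).choose_spec, (hpow c).choose_spec, mul_pow])
  map_zero' := hinj (by rw [(hpow 0).choose_spec, zero_pow hp.out.ne_zero, map_zero])
  map_add' b c := hinj (by
    rw [(hpow _).choose_spec, map_add, (hpow b).choose_spec, (hpow c).choose_spec, add_pow_char])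

lemma algebraMap_frobDown (hinj : Function.Injective (algebraMap A B))
    (hpow : ∀ b : B, b ^ p ∈ Set.range (algebraMap A B)) (b : B) :
    algebraMap A B (frobDown hinj hpow b) = b ^ p := (hpow b).choose_spec

variable {ι : Type u} {x : ι → B}

/-- The kernel of `B ⊗_A Ω_{A/ℤ} → Ω_{B/ℤ}` is spanned by the `1 ⊗ d(x_i^p)`. -/
theorem imperfection_le_span (hinj : Function.Injective (algebraMap A B))
    (hpow : ∀ b : B, b ^ p ∈ Set.range (algebraMap A B)) (hx : IsPBasis p A x) (x' : ι → A)
    (hx' : ∀ i, algebraMap A B (x' i) = x i ^ p) :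
    LinearMap.ker (KaehlerDifferential.mapBaseChange ℤ A B) ≤
      Submodule.span B (Set.range fun i => (1 : B) ⊗ₜ[A] KaehlerDifferential.D ℤ A (x' i)) := by
  haveI : CharP A p := RingHom.charP (algebraMap A B) hinj p
  set N := Submodule.span B (Set.range fun i => (1 : B) ⊗ₜ[A] KaehlerDifferential.D ℤ A (x' i))
    with hN
  let f : Ω[A⁄ℤ] →ₗ[A] (B ⊗[A] Ω[A⁄ℤ]) ⧸ N :=
    (N.mkQ.restrictScalars A) ∘ₗ (TensorProduct.mk A B Ω[A⁄ℤ] 1)
  let D₀ : Derivation ℤ A ((B ⊗[A] Ω[A⁄ℤ]) ⧸ N) := f.compDer (KaehlerDifferential.D ℤ A)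
  have hD₀ : ∀ a, D₀ a = N.mkQ ((1 : B) ⊗ₜ[A] KaehlerDifferential.D ℤ A a) := fun a => rfl
  have hclaim : ∀ b : B, D₀ (frobDown hinj hpow b) = 0 := by
    intro b
    have hb : b ∈ Algebra.adjoin (pPowerSubalgebra p A B) (Set.range x) := by
      rw [(isPGenerating_iff_adjoin x).mp hx.2]; trivial
    induction hb using Algebra.adjoin_induction with
    | mem b hb =>
      obtain ⟨i, rfl⟩ := hb
      have : frobDown hinj hpow (x i) = x' i := hinj (by rw [algebraMap_frobDown, hx'])
      rw [this, hD₀]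
      exact (Submodule.Quotient.mk_eq_zero _).mpr (Submodule.subset_span ⟨i, rfl⟩)
    | algebraMap c =>
      obtain ⟨a, ha⟩ := Algebra.mem_bot.mp (pPower_le_bot hpow c.2)
      have : frobDown hinj hpow (algebraMap _ B c) = a ^ p :=
        hinj (by rw [algebraMap_frobDown, map_pow, ha]; rfl)
      rw [this]
      exact der_pow_p (p := p) D₀ a
    | add b c _ _ hb hc => rw [map_add, map_add, hb, hc, add_zero]
    | mul b c _ _ hb hc => rw [map_mul, Derivation.leibniz, hb, hc, smul_zero, smul_zero, add_zero]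
  have hD : ∀ (a : A) (b : B), algebraMap A B a = b ^ p → D₀ a = 0 := by
    intro a b hab
    have : a = frobDown hinj hpow b := hinj (by rw [algebraMap_frobDown, hab])
    rw [this]
    exact hclaim b
  obtain ⟨D', ⟨hD'1, -⟩, -⟩ := existsUnique_der_of_ext hinj hpow hx D₀ hD (fun _ => 0)
  let ρ : Ω[B⁄ℤ] →ₗ[B] (B ⊗[A] Ω[A⁄ℤ]) ⧸ N := D'.liftKaehlerDifferential
  let g₁ : Ω[A⁄ℤ] →ₗ[A] (B ⊗[A] Ω[A⁄ℤ]) ⧸ N :=
    ((ρ ∘ₗ KaehlerDifferential.mapBaseChange ℤ A B).restrictScalars A) ∘ₗ
      (TensorProduct.mk A B Ω[A⁄ℤ] 1)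
  have hg₁ : ∀ ω, g₁ ω = ρ (KaehlerDifferential.mapBaseChange ℤ A B ((1 : B) ⊗ₜ[A] ω)) :=
    fun ω => rfl
  have hf : ∀ ω, f ω = N.mkQ ((1 : B) ⊗ₜ[A] ω) := fun ω => rfl
  have hgf : ∀ ω, g₁ ω = f ω := by
    intro ω
    have hω : ω ∈ Submodule.span A (Set.range (KaehlerDifferential.D ℤ A)) := by
      rw [KaehlerDifferential.span_range_derivation]; trivial
    induction hω using Submodule.span_induction with
    | mem ω hω =>
      obtain ⟨a, rfl⟩ := hω
      rw [hg₁, hf, KaehlerDifferential.mapBaseChange_tmul, one_smul, KaehlerDifferential.map_D]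
      change D'.liftKaehlerDifferential (KaehlerDifferential.D ℤ B (algebraMap A B a)) = _
      rw [Derivation.liftKaehlerDifferential_comp_D, hD'1, hD₀]
    | zero => rw [map_zero, map_zero]
    | add ω ω' _ _ h h' => rw [map_add, map_add, h, h']
    | smul a ω _ h => rw [map_smul, map_smul, h]
  have hcomp : ∀ u, ρ (KaehlerDifferential.mapBaseChange ℤ A B u) = N.mkQ u := by
    intro u
    induction u with
    | zero => simp
    | add u u' h h' => rw [map_add, map_add, map_add, h, h']
    | tmul b ω =>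
      have hb : b ⊗ₜ[A] ω = b • ((1 : B) ⊗ₜ[A] ω) := by
        rw [TensorProduct.smul_tmul', smul_eq_mul, mul_one]
      rw [hb, map_smul, map_smul, map_smul, ← hg₁, ← hf, hgf]
  intro u hu
  have : N.mkQ u = 0 := by rw [← hcomp, LinearMap.mem_ker.mp hu, map_zero]
  exact (Submodule.Quotient.mk_eq_zero N).mp this

end

section LI

open TrivSqZeroExt

variable {p : ℕ} [hp : Fact p.Prime] {R A B : Type u} [CommRing R] [CommRing A] [CommRing B]
  [Algebra R A] [Algebra A B] [Algebra R B] [IsScalarTower R A B] [CharP B p] [IsReduced B]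
  {ι κ : Type u} {x : ι → B}

attribute [local instance] oppModule

local instance instCentralAux : IsCentralScalar A (ι →₀ B) := ⟨fun _ _ => rfl⟩

/-- The elements `1 ⊗ d(x_i^p)` are linearly independent in `B ⊗_A Ω_{A/ℤ}`. -/
theorem linearIndependent_tmul_D (hinj : Function.Injective (algebraMap A B))
    (hpow : ∀ b : B, b ^ p ∈ Set.range (algebraMap A B))
    (hR : Set.range (algebraMap R B) = Set.range fun b : B => b ^ p)
    (hx : IsPBasis p A x) (x' : ι → A) (hx' : ∀ i, algebraMap A B (x' i) = x i ^ p)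
    (y : κ → A) (hy : IsPBasis p R y) :
    LinearIndependent B (fun i => (1 : B) ⊗ₜ[A] KaehlerDifferential.D ℤ A (x' i)) := by
  classical
  haveI : CharP A p := RingHom.charP (algebraMap A B) hinj p
  obtain ⟨E, hE, -⟩ := existsUnique_der (L := ι →₀ B) hx (fun i => Finsupp.single i 1)
  let Fr : (ι →₀ B) →+ (ι →₀ B) := Finsupp.mapRange.addMonoidHom (frobenius B p).toAddMonoidHom
  have hFr_apply : ∀ (l : ι →₀ B) (i : ι), Fr l i = l i ^ p := fun l i => rfl
  have hFr : ∀ (c : B) (l : ι →₀ B), Fr (c • l) = c ^ p • Fr l := by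
    intro c l; ext i
    rw [hFr_apply, Finsupp.smul_apply, Finsupp.smul_apply, hFr_apply, smul_eq_mul, smul_eq_mul,
      mul_pow]
  let φ := frobDown hinj hpow
  have hφ : ∀ b, algebraMap A B (φ b) = b ^ p := algebraMap_frobDown hinj hpow
  have hφsmul : ∀ (b : B) (l : ι →₀ B), φ b • l = b ^ p • l := by
    intro b l
    rw [← algebraMap_smul B (φ b) l, hφ]
  have hθ : ∀ b c, Fr (E (b * c)) = φ b • Fr (E c) + φ c • Fr (E b) := by
    intro b c
    rw [Derivation.leibniz, map_add, hFr, hFr, hφsmul, hφsmul]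
  let θ : B →+* TrivSqZeroExt A (ι →₀ B) :=
    { toFun := fun b => inl (φ b) + inr (Fr (E b))
      map_one' := by simp
      map_mul' := fun b c => by
        ext1
        · simp
        · simp [hFr, hφsmul, add_comm]
      map_zero' := by simp
      map_add' := fun b c => by
        ext1
        · simp
        · simp }
  have hθfst : ∀ b, (θ b).fst = φ b := fun b => by simp [θ]
  have hθsnd : ∀ b, (θ b).snd = Fr (E b) := fun b => by simp [θ]
  -- p-th roots of elements of `R[A^p]`
  have hS : ∀ c : pPowerSubalgebra p R A, ∃ b : B, b ^ p = algebraMap A B c := by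
    rintro ⟨c, hc⟩
    unfold pPowerSubalgebra at hc
    induction hc using Algebra.adjoin_induction with
    | mem a ha =>
      obtain ⟨a, rfl⟩ := ha
      exact ⟨algebraMap A B a, by simp [map_pow]⟩
    | algebraMap r =>
      have : algebraMap R B r ∈ Set.range (fun b : B => b ^ p) := hR ▸ ⟨r, rfl⟩
      obtain ⟨b, hb⟩ := this
      exact ⟨b, hb.trans (IsScalarTower.algebraMap_apply R A B r)⟩
    | add c c' _ _ h h' =>
      obtain ⟨b, hb⟩ := h
      obtain ⟨b', hb'⟩ := h'
      exact ⟨b + b', by rw [add_pow_char, hb, hb']; simp⟩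
    | mul c c' _ _ h h' =>
      obtain ⟨b, hb⟩ := h
      obtain ⟨b', hb'⟩ := h'
      exact ⟨b * b', by rw [mul_pow, hb, hb']; simp⟩
  have hFinj : ∀ b b' : B, b ^ p = b' ^ p → b = b' := fun b b' h => frobenius_inj B p h
  let root : pPowerSubalgebra p R A →+* B :=
    { toFun := fun c => (hS c).choose
      map_one' := hFinj _ _ (by rw [(hS 1).choose_spec]; simp)
      map_mul' := fun c c' => hFinj _ _ (by
        rw [(hS _).choose_spec, mul_pow, (hS c).choose_spec, (hS c').choose_spec]; simp)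
      map_zero' := hFinj _ _ (by rw [(hS 0).choose_spec, zero_pow hp.out.ne_zero]; simp)
      map_add' := fun c c' => hFinj _ _ (by
        rw [(hS _).choose_spec, add_pow_char, (hS c).choose_spec, (hS c').choose_spec]; simp) }
  have hroot : ∀ c, root c ^ p = algebraMap A B c := fun c => (hS c).choose_spec
  have hroot_eq : ∀ (c : pPowerSubalgebra p R A) (b : B), b ^ p = algebraMap A B c → root c = b :=
    fun c b hb => hFinj _ _ (by rw [hroot, hb])
  let g : pPowerSubalgebra p R A →+* TrivSqZeroExt A (ι →₀ B) := θ.comp root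
  have hg : ∀ c, (g c).fst = c := by
    intro c
    change (θ (root c)).fst = c
    rw [hθfst]
    exact hinj (by rw [hφ, hroot])
  have hgp : ∀ j, g (xpow p R y j) = inl (y j ^ p) := by
    intro j
    have h1 : root (xpow p R y j) = algebraMap A B (y j) :=
      hroot_eq _ _ (by rw [← map_pow]; rfl)
    change θ (root (xpow p R y j)) = _
    rw [h1]
    ext1
    · rw [hθfst, fst_inl]
      exact hinj (by rw [hφ, map_pow])
    · rw [hθsnd, snd_inl, Derivation.map_algebraMap, map_zero]
  obtain ⟨Dt, hDt1, -⟩ := exists_der (A := R) (B := A) (L := ι →₀ B) hy g hg hgp (fun _ => 0)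
  have hDt : ∀ i, Dt (x' i) = Finsupp.single i 1 := by
    intro i
    have hmem : x' i ∈ pPowerSubalgebra p R A := by
      have : x i ^ p ∈ Set.range (algebraMap R B) := hR ▸ ⟨x i, rfl⟩
      obtain ⟨r, hr⟩ := this
      have : x' i = algebraMap R A r := hinj (by
        rw [hx', ← IsScalarTower.algebraMap_apply, hr])
      rw [this]
      exact Subalgebra.algebraMap_mem _ r
    have h1 := hDt1 ⟨x' i, hmem⟩
    have hroot' : root ⟨x' i, hmem⟩ = x i := hroot_eq _ _ (hx' i).symm
    change Dt (x' i) = (θ (root ⟨x' i, hmem⟩)).snd at h1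
    rw [h1, hθsnd, hroot', hE]
    ext k
    rw [hFr_apply]
    by_cases hk : i = k
    · subst hk; simp
    · simp [Finsupp.single_apply, hk, hp.out.ne_zero]
  let Ψ : B ⊗[A] Ω[A⁄ℤ] →ₗ[B] (ι →₀ B) := LinearMap.liftBaseChange B Dt.liftKaehlerDifferential
  apply LinearIndependent.of_comp Ψ
  have : Ψ ∘ (fun i => (1 : B) ⊗ₜ[A] KaehlerDifferential.D ℤ A (x' i)) =
      fun i => Finsupp.single i (1 : B) := by
    funext i
    simp [Ψ, hDt]
  rw [this, ← Finsupp.coe_basisSingleOne]
  exact (Finsupp.basisSingleOne (R := B) (ι := ι)).linearIndependent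

end LI

section Final

variable {p : ℕ} [hp : Fact p.Prime] {R A B : Type u} [CommRing R] [CommRing A] [CommRing B]
  [Algebra R A] [Algebra A B] [Algebra R B] [IsScalarTower R A B] [CharP B p] [IsReduced B]
  {ι κ : Type u} {x : ι → B}

/-- membership in a span inside a submodule -/
lemma mem_span_range_of_coe {S M I : Type*} [Ring S] [AddCommGroup M] [Module S M]
    (P : Submodule S M) (v : I → P) (u : P)
    (h : (u : M) ∈ Submodule.span S (Set.range fun i => (v i : M))) :
    u ∈ Submodule.span S (Set.range v) := by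
  have h1 : Submodule.map P.subtype (Submodule.span S (Set.range v)) =
      Submodule.span S (Set.range fun i => (v i : M)) := by
    rw [Submodule.map_span, ← Set.range_comp]
    rfl
  rw [← h1] at h
  obtain ⟨u', hu', hu'u⟩ := h
  have : u' = u := Subtype.ext hu'u
  rwa [← this]

/-- EGA 0_IV 21.3.?: the `1 ⊗ d(x_i^p)` form a basis of `Υ_{B/A}`. -/
theorem exists_basis_imperfection (hinj : Function.Injective (algebraMap A B))
    (hpow : ∀ b : B, b ^ p ∈ Set.range (algebraMap A B))
    (hR : Set.range (algebraMap R B) = Set.range fun b : B => b ^ p)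
    (hx : IsPBasis p A x) (x' : ι → A) (hx' : ∀ i, algebraMap A B (x' i) = x i ^ p)
    (y : κ → A) (hy : IsPBasis p R y) :
    ∃ b : Module.Basis ι B (EGA41.imperfection ℤ A B),
      ∀ i, (b i : B ⊗[A] Ω[A⁄ℤ]) = (1 : B) ⊗ₜ[A] KaehlerDifferential.D ℤ A (x' i) := by
  have hmem : ∀ i, (1 : B) ⊗ₜ[A] KaehlerDifferential.D ℤ A (x' i) ∈ EGA41.imperfection ℤ A B := by
    intro i
    change _ ∈ LinearMap.ker _
    rw [LinearMap.mem_ker, KaehlerDifferential.mapBaseChange_tmul, one_smul,
      KaehlerDifferential.map_D, hx']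
    exact der_pow_p (p := p) (KaehlerDifferential.D ℤ B) (x i)
  let v : ι → EGA41.imperfection ℤ A B := fun i => ⟨_, hmem i⟩
  have hli : LinearIndependent B v := by
    apply LinearIndependent.of_comp (EGA41.imperfection ℤ A B).subtype
    exact linearIndependent_tmul_D hinj hpow hR hx x' hx' y hy
  have hsp : ⊤ ≤ Submodule.span B (Set.range v) := by
    intro u _
    apply mem_span_range_of_coe
    exact imperfection_le_span hinj hpow hx x' hx' u.2
  exact ⟨Module.Basis.mk hli hsp, fun i => by rw [Module.Basis.mk_apply]⟩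

end Final

end Groth.Agent.Helper9.PBasis
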