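import Mathlib
import Groth.Prelude.Def_PCoh
import Groth.Agent.Lib.Helper9.PCoh25
import Groth.Agent.S5617

/-!
# Pseudo-coherence (punctual case): functoriality under a triangulated functor (S5620)
-/

set_option autoImplicit false
universe w w' v v' u u'
open CategoryTheory CategoryTheory.Limits Pretriangulated

namespace Groth.Agent.Helper9.PCohLib

section Functoriality

open DerivedCategory

variable {C : Type u} [Category.{v} C] [Abelian C] [HasDerivedCategory.{w} C]
  {C' : Type u'} [Category.{v'} C'] [Abelian C'] [HasDerivedCategory.{w'} C']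
  (U : DerivedCategory C ⥤ DerivedCategory C') [U.CommShift ℤ] [U.IsTriangulated]

omit [U.IsTriangulated] in
theorem acyclic_map_of_acyclic (b : ℤ)
    (hii : ∀ F : DerivedCategory C, (∀ i : ℤ, 0 < i → IsZero ((homologyFunctor C i).obj F)) →
      ∀ i : ℤ, b < i → IsZero ((homologyFunctor C' i).obj (U.obj F)))
    (j : ℤ) (F : DerivedCategory C) (hF : ∀ i : ℤ, j < i → IsZero ((homologyFunctor C i).obj F)) :
    ∀ i : ℤ, j + b < i → IsZero ((homologyFunctor C' i).obj (U.obj F)) := by
  intro i hi
  have h1 : ∀ i : ℤ, 0 < i → IsZero ((homologyFunctor C i).obj (F⟦j⟧)) := fun i hi =>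
    (hF (j + i) (by omega)).of_iso (((homologyFunctor C 0).shiftIso j i (j + i) rfl).app F)
  have h2 := hii (F⟦j⟧) h1 (i - j) (by omega)
  have e1 : U.obj (F⟦j⟧) ≅ (U.obj F)⟦j⟧ := (U.commShiftIso j).app F
  have e2 : (homologyFunctor C' (i - j)).obj ((U.obj F)⟦j⟧) ≅ (homologyFunctor C' i).obj (U.obj F) :=
    ((homologyFunctor C' 0).shiftIso j (i - j) i (by omega)).app _
  exact h2.of_iso (e2.symm ≪≫ (homologyFunctor C' (i - j)).mapIso e1.symm)

variable (P : ObjectProperty C) [P.IsClosedUnderIsomorphisms] [P.ContainsZero]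
  (hsum : ∀ X Y : C, P X → P Y → P (X ⨯ Y))
  (hqs : PCoh.IsQuasiStableUnderKernels P) (hql : PCoh.IsQuasiLiftable P)
  (P' : ObjectProperty C') [P'.IsClosedUnderIsomorphisms] [P'.ContainsZero]
  (hsum' : ∀ X Y : C', P' X → P' Y → P' (X ⨯ Y))
  (hqs' : PCoh.IsQuasiStableUnderKernels P') (hql' : PCoh.IsQuasiLiftable P')

include hql' in
theorem isNPC_of_acyclic_ge (N : ℤ) (G : DerivedCategory C')
    (h : ∀ i : ℤ, N ≤ i → IsZero ((homologyFunctor C' i).obj G)) : IsNPC P' N G :=
  isNPC_of_finiteType_homology P' hql' N G (fun i hi => h i hi.le)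
    (isOfFiniteType_of_mem P' (P'.prop_of_isZero (h N le_rfl)))

include hsum' hqs' hql' in
theorem isNPC_map_aux (a b N m : ℤ) (hN : m + b ≤ N)
    (hi : ∀ E : C, P E → IsNPC P' a (U.obj ((DerivedCategory.singleFunctor C 0).obj E)))
    (hii : ∀ F : DerivedCategory C, (∀ i : ℤ, 0 < i → IsZero ((homologyFunctor C i).obj F)) →
      ∀ i : ℤ, b < i → IsZero ((homologyFunctor C' i).obj (U.obj F))) :
    ∀ (k : ℕ) (F : CochainComplex C ℤ), (∀ i : ℤ, m - 1 + k < i → IsZero (F.X i)) →
      (∀ i : ℤ, m ≤ i → P (F.X i)) → (k = 0 ∨ m - 1 + k + a ≤ N) →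
      IsNPC P' N (U.obj (Q.obj F)) := by
  intro k
  induction k with
  | zero =>
    intro F hb _ _
    have hac : ∀ i : ℤ, m - 1 < i → IsZero ((homologyFunctor C i).obj (Q.obj F)) := fun i hi =>
      ((HomologicalComplex.ExactAt.of_isZero (hb i (by push_cast; omega))).isZero_homology).of_iso
        (homologyQIso F i)
    have hac' := acyclic_map_of_acyclic U b hii (m - 1) (Q.obj F) hac
    exact isNPC_of_acyclic_ge P' hql' N _ (fun i hi => hac' i (by omega))
  | succ k ih =>
    intro F hb hP hk
    have hk' : m + k + a ≤ N := by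
      rcases hk with h | h
      · omega
      · push_cast at h; omega
    obtain ⟨X₃, f, g, zero, hS, hiso, hz⟩ := exists_top_ses F (m + k) (hb _ (by push_cast; omega))
    have hT := DerivedCategory.triangleOfSES_distinguished hS
    have hT' := U.map_distinguished _ hT
    have h3 : IsNPC P' N (U.obj (Q.obj X₃)) := by
      apply ih
      · intro i hi
        by_cases hik : i = m + k
        · subst hik; exact hz
        · haveI := hiso i hik
          exact (hb i (by push_cast; omega)).of_iso (asIso (g.f i)).symm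
      · intro i hi
        by_cases hik : i = m + k
        · subst hik; exact P.prop_of_isZero hz
        · haveI := hiso i hik
          exact P.prop_of_iso (asIso (g.f i)) (hP i hi)
      · by_cases hk0 : k = 0
        · exact Or.inl hk0
        · right; omega
    have h1 : IsNPC P' N (U.obj (Q.obj
        ((HomologicalComplex.single C (ComplexShape.up ℤ) (m + k)).obj (F.X (m + k))))) := by
      have hiA := hi (F.X (m + k)) (hP _ (by omega))
      have e : Q.obj ((HomologicalComplex.single C (ComplexShape.up ℤ) (m + k)).obj (F.X (m + k))) ≅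
          ((DerivedCategory.singleFunctor C 0).obj (F.X (m + k)))⟦-(m + k)⟧ :=
        (((DerivedCategory.singleFunctors C).shiftIso (-(m + k)) (m + k) 0 (by omega)).app
          (F.X (m + k))).symm
      have e' := U.mapIso e ≪≫ (U.commShiftIso (-(m + (k : ℤ)))).app _
      have h := hiA.shift P' (-(m + (k : ℤ)))
      exact (h.of_le P' (by omega)).of_iso P' e'.symm
    exact isNPC_obj₂ P' hsum' hqs' hql' _ hT' h1 h3

include hsum hqs hql hsum' hqs' hql' in
/-- S5620. -/
theorem isNPC_map (a b : ℤ)
    (hi : ∀ E : C, P E → IsNPC P' a (U.obj ((DerivedCategory.singleFunctor C 0).obj E)))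
    (hii : ∀ F : DerivedCategory C, (∀ i : ℤ, 0 < i → IsZero ((homologyFunctor C i).obj F)) →
      ∀ i : ℤ, b < i → IsZero ((homologyFunctor C' i).obj (U.obj F)))
    (m n : ℤ) (F : DerivedCategory C) (hF : IsNPC P m F)
    (hac : ∀ i : ℤ, n < i → IsZero ((homologyFunctor C i).obj F)) :
    IsNPC P' (max (m + b) (n + a)) (U.obj F) ∧
      ∀ i : ℤ, n + b < i → IsZero ((homologyFunctor C' i).obj (U.obj F)) := by
  have hac' := acyclic_map_of_acyclic U b hii n F hac
  refine ⟨?_, hac'⟩
  by_cases hnm : n < m
  · apply isNPC_of_acyclic_ge P' hql'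
    intro i hi'
    have := le_max_left (m + b) (n + a)
    exact hac' i (by omega)
  · obtain ⟨E, ⟨-, hEP⟩, hEz, ⟨e⟩⟩ := Groth.Agent.S5617.result P hsum hqs hql m (n + 1) (by omega) F hF
      (fun i hi' => hac i (by omega))
    have h := isNPC_map_aux U P P' hsum' hqs' hql' a b (max (m + b) (n + a)) m (le_max_left _ _) hi hii
      (n - m + 1).toNat E (fun i hi' => hEz i (by
        have := Int.toNat_of_nonneg (show 0 ≤ n - m + 1 by omega)
        omega)) hEP (Or.inr (by
        have := Int.toNat_of_nonneg (show 0 ≤ n - m + 1 by omega)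
        have := le_max_right (m + b) (n + a)
        omega))
    exact h.of_iso P' (U.mapIso e)

end Functoriality

end Groth.Agent.Helper9.PCohLib
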