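import Mathlib
import Groth.Prelude.Def_PCoh
import Groth.Agent.Lib.Helper9.PCoh26

/-!
# Pseudo-coherence (punctual case): the coherent case (S5608)
-/

set_option autoImplicit false
universe w v u
open CategoryTheory CategoryTheory.Limits Pretriangulated

namespace Groth.Agent.Helper9.PCohLib

variable {C : Type u} [Category.{v} C] [Abelian C]

/-- All morphisms from objects of `P` to `A` have kernels of finite type. -/
def HasFTKernels (P : ObjectProperty C) (A : C) : Prop :=
  ∀ (E : C) (u : E ⟶ A), P E → PCoh.IsOfFiniteType P (kernel u)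

section Coh

variable (P : ObjectProperty C) [P.IsClosedUnderIsomorphisms] [P.ContainsZero]

omit [P.IsClosedUnderIsomorphisms] [P.ContainsZero] in
theorem hasFTKernels_of_mono {A B : C} (i : A ⟶ B) [Mono i] (hB : HasFTKernels P B) :
    HasFTKernels P A := fun E u hE =>
  isOfFiniteType_of_iso P (kernelCompMono u i) (hB E (u ≫ i) hE)

omit [P.IsClosedUnderIsomorphisms] [P.ContainsZero] in
theorem hasFTKernels_of_iso {A B : C} (e : A ≅ B) (hB : HasFTKernels P B) :
    HasFTKernels P A := hasFTKernels_of_mono P e.hom hB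

variable (hsum : ∀ X Y : C, P X → P Y → P (X ⨯ Y)) (hql : PCoh.IsQuasiLiftable P)

include hsum hql in
omit [P.ContainsZero] in
theorem hasFTKernels_cokernel {A E' : C} (j : E' ⟶ A) (hE' : P E') (hA : HasFTKernels P A) :
    HasFTKernels P (cokernel j) := by
  intro E₀ u hE₀
  -- lift along the epimorphism `π : A ⟶ cokernel j`
  have hfst : Epi (pullback.fst u (cokernel.π j)) := inferInstance
  obtain ⟨E₁, v, hE₁, hv⟩ := hql _ _ (pullback.fst u (cokernel.π j)) hfst hE₀
  obtain ⟨q, hq⟩ : ∃ q : E₁ ⟶ E₀, q = v ≫ pullback.fst u (cokernel.π j) := ⟨_, rfl⟩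
  obtain ⟨w, hw⟩ : ∃ w : E₁ ⟶ A, w = v ≫ pullback.snd u (cokernel.π j) := ⟨_, rfl⟩
  have hqw : w ≫ cokernel.π j = q ≫ u := by
    rw [hq, hw, Category.assoc, Category.assoc, pullback.condition]
  haveI : Epi q := by rw [hq]; exact hv
  obtain ⟨φ, hφd⟩ : ∃ φ : E₁ ⊞ E' ⟶ A, φ = biprod.fst ≫ w + biprod.snd ≫ j := ⟨_, rfl⟩
  have hK : PCoh.IsOfFiniteType P (kernel φ) :=
    hA _ φ (P.prop_of_iso (biprod.isoProd _ _).symm (hsum _ _ hE₁ hE'))
  have hφ : kernel.ι φ ≫ biprod.fst ≫ w = - (kernel.ι φ ≫ biprod.snd ≫ j) := by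
    have h : kernel.ι φ ≫ (biprod.fst ≫ w + biprod.snd ≫ j) = 0 := by
      rw [← hφd]; exact kernel.condition φ
    rw [Preadditive.comp_add] at h
    exact eq_neg_of_add_eq_zero_left h
  have hfac : (kernel.ι φ ≫ biprod.fst ≫ q) ≫ u = 0 := by
    calc (kernel.ι φ ≫ biprod.fst ≫ q) ≫ u
        = (kernel.ι φ ≫ biprod.fst ≫ w) ≫ cokernel.π j := by
          simp only [Category.assoc, hqw]
      _ = 0 := by
          rw [hφ, Preadditive.neg_comp, Category.assoc, Category.assoc, cokernel.condition,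
            comp_zero, comp_zero, neg_zero]
  obtain ⟨t, ht⟩ : ∃ t : kernel φ ⟶ kernel u, t ≫ kernel.ι u = kernel.ι φ ≫ biprod.fst ≫ q :=
    ⟨kernel.lift u _ hfac, kernel.lift_ι _ _ _⟩
  suffices Epi t from isOfFiniteType_of_epi P t hK
  rw [epi_iff_surjective_up_to_refinements]
  intro T y
  have hy' : (y ≫ kernel.ι u) ≫ u = 0 := by rw [Category.assoc, kernel.condition, comp_zero]
  obtain ⟨T₁, π₁, hπ₁, x₁, hx₁⟩ := surjective_up_to_refinements_of_epi q (y ≫ kernel.ι u)
  have hx₁w : (x₁ ≫ w) ≫ cokernel.π j = 0 := by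
    rw [Category.assoc, hqw, ← Category.assoc, ← hx₁, Category.assoc, hy', comp_zero]
  have hex : (ShortComplex.mk j (cokernel.π j) (cokernel.condition j)).Exact :=
    ShortComplex.exact_cokernel j
  obtain ⟨T₂, π₂, hπ₂, z, hz⟩ := hex.exact_up_to_refinements (x₁ ≫ w) hx₁w
  have hz' : π₂ ≫ x₁ ≫ w = z ≫ j := hz
  have hlift : biprod.lift (π₂ ≫ x₁) (-z) ≫ φ = 0 := by
    rw [hφd, Preadditive.comp_add, biprod.lift_fst_assoc, biprod.lift_snd_assoc,
      Preadditive.neg_comp, Category.assoc, hz', add_neg_cancel]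
  refine ⟨T₂, π₂ ≫ π₁, epi_comp _ _, kernel.lift φ _ hlift, ?_⟩
  rw [← cancel_mono (kernel.ι u)]
  simp only [Category.assoc]
  rw [ht, kernel.lift_ι_assoc, biprod.lift_fst_assoc, hx₁, Category.assoc]

variable (hcoh : ∀ (X E : C) (u : E ⟶ X), P X → P E → PCoh.IsOfFiniteType P (kernel u))

include hcoh in
omit [P.ContainsZero] in
theorem isQuasiStable_of_hcoh : PCoh.IsQuasiStableUnderKernels P := by
  intro K hex _ hP
  have hepi : Epi (kernel.lift (K.d 1 2) (K.d 0 1) (K.d_comp_d _ _ _)) := by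
    have hex' := hex 1
    rw [HomologicalComplex.exactAt_iff' K 0 1 2 (by simp) (by simp)] at hex'
    exact hex'.epi_kernelLift
  have hex0 := hex 0
  rw [HomologicalComplex.exactAt_iff' K 0 0 1 (by simp) (by simp)] at hex0
  have hmono : Mono (K.d 0 1) := hex0.mono_g (by
    change K.d 0 0 = 0
    exact K.shape _ _ (by simp))
  have hmono' : Mono (kernel.lift (K.d 1 2) (K.d 0 1) (K.d_comp_d _ _ _)) :=
    mono_of_mono_fac (kernel.lift_ι _ _ _)
  have hiso : IsIso (kernel.lift (K.d 1 2) (K.d 0 1) (K.d_comp_d _ _ _)) :=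
    isIso_of_mono_of_epi _
  exact isOfFiniteType_of_iso P (asIso (kernel.lift (K.d 1 2) (K.d 0 1) (K.d_comp_d _ _ _))).symm
    (hcoh _ _ (K.d 1 2) (hP 2 (by omega)) (hP 1 le_rfl))

end Coh

section Derived

open DerivedCategory

variable [HasDerivedCategory.{w} C] (P : ObjectProperty C) [P.IsClosedUnderIsomorphisms]
  [P.ContainsZero] (hsum : ∀ X Y : C, P X → P Y → P (X ⨯ Y)) (hql : PCoh.IsQuasiLiftable P)
  (hcoh : ∀ (X E : C) (u : E ⟶ X), P X → P E → PCoh.IsOfFiniteType P (kernel u))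

include hql in
theorem isNPC_zero_single_of_finiteType (A : C) (hA : PCoh.IsOfFiniteType P A) :
    IsNPC P 0 ((DerivedCategory.singleFunctor C 0).obj A) := by
  have e : ∀ i, (homologyFunctor C i).obj ((DerivedCategory.singleFunctor C 0).obj A) ≅
      ((HomologicalComplex.single C (ComplexShape.up ℤ) 0).obj A).homology i := fun i =>
    homologyQIso _ i
  apply isNPC_of_finiteType_homology P hql 0
  · intro i hi
    exact (isZero_homology_single A 0 i (by omega)).of_iso (e i)
  · exact isOfFiniteType_of_iso P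
      ((e 0).trans (HomologicalComplex.singleObjHomologySelfIso (ComplexShape.up ℤ) 0 A)).symm hA

include hsum hql hcoh in
theorem isNPC_single_of_coh : ∀ (k : ℕ) (A : C), PCoh.IsOfFiniteType P A → HasFTKernels P A →
    IsNPC P (-(k : ℤ)) ((DerivedCategory.singleFunctor C 0).obj A) := by
  intro k
  induction k with
  | zero =>
    intro A hA _
    simpa using isNPC_zero_single_of_finiteType P hql A hA
  | succ k ih =>
    intro A hA hA'
    have hqs := isQuasiStable_of_hcoh P hcoh
    obtain ⟨E₀, π, hE₀, hπ⟩ := hA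
    let S : ShortComplex C := ShortComplex.mk (kernel.ι π) π (kernel.condition π)
    have hS : S.ShortExact := { exact := ShortComplex.exact_kernel π }
    have hK : PCoh.IsOfFiniteType P (kernel π) := hA' E₀ π hE₀
    have hK' : HasFTKernels P (kernel π) :=
      hasFTKernels_of_mono P (kernel.ι π) (fun E u hE => hcoh E₀ E u hE₀ hE)
    have h1 := ih (kernel π) hK hK'
    have hT := hS.singleTriangle_distinguished
    have hn : -(((k + 1 : ℕ) : ℤ)) + 1 = -(k : ℤ) := by push_cast; ring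
    have h2 : IsNPC P (-(((k + 1 : ℕ) : ℤ))) ((DerivedCategory.singleFunctor C 0).obj E₀) :=
      isNPC_Q_single_of_mem P _ 0 E₀ hE₀
    exact isNPC_obj₃ P hsum hqs hql hS.singleTriangle hT (by rw [hn]; exact h1) h2

include hsum hql hcoh in
/-- S5608, `⇐`. -/
theorem isNPC_of_coh_homology (n b : ℤ) (F : DerivedCategory C)
    (hb : ∀ i : ℤ, b < i → IsZero ((homologyFunctor C i).obj F))
    (hn : PCoh.IsOfFiniteType P ((homologyFunctor C n).obj F))
    (hF : ∀ i : ℤ, n < i → PCoh.IsOfFiniteType P ((homologyFunctor C i).obj F) ∧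
      HasFTKernels P ((homologyFunctor C i).obj F)) : IsNPC P n F := by
  have hqs := isQuasiStable_of_hcoh P hcoh
  apply isNPC_of_homology P hsum hqs hql n b F hb
  intro i hi
  rcases hi.lt_or_eq with h | h
  · have h1 := isNPC_single_of_coh P hsum hql hcoh (i - n).toNat _ (hF i h).1 (hF i h).2
    have e : -(((i - n).toNat : ℕ) : ℤ) = n - i := by
      have := Int.toNat_of_nonneg (show 0 ≤ i - n by omega)
      omega
    rw [e] at h1
    exact h1
  · subst h
    rw [sub_self]
    exact isNPC_zero_single_of_finiteType P hql _ hn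

include hsum hql hcoh in
/-- S5608, `⇒`. -/
theorem coh_homology_of_isNPC (n : ℤ) (F : DerivedCategory C) (hF : IsNPC P n F) :
    PCoh.IsOfFiniteType P ((homologyFunctor C n).obj F) ∧
      ∀ i : ℤ, n < i → PCoh.IsOfFiniteType P ((homologyFunctor C i).obj F) ∧
        HasFTKernels P ((homologyFunctor C i).obj F) := by
  obtain ⟨E, ⟨-, hEP⟩, ⟨e⟩⟩ := hF
  have hX : ∀ i, (homologyFunctor C i).obj F ≅ E.homology i := fun i =>
    (homologyFunctor C i).mapIso e.symm ≪≫ homologyQIso E i
  have hZ : ∀ i, n ≤ i → PCoh.IsOfFiniteType P (E.cycles i) := fun i hi =>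
    isOfFiniteType_of_iso P
      (IsLimit.conePointUniqueUpToIso (limit.isLimit _) (E.cyclesIsKernel i (i + 1) (by simp)))
      (hcoh _ _ (E.d i (i + 1)) (hEP _ (by omega)) (hEP i hi))
  have hH : ∀ i, n ≤ i → PCoh.IsOfFiniteType P (E.homology i) := fun i hi =>
    isOfFiniteType_of_epi P (E.homologyπ i) (hZ i hi)
  have hZ' : ∀ i, n ≤ i → HasFTKernels P (E.cycles i) := fun i hi =>
    hasFTKernels_of_mono P (E.iCycles i) (fun E' u hE' => hcoh _ _ u (hEP i hi) hE')
  have hH' : ∀ i, n < i → HasFTKernels P (E.homology i) := fun i hi => by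
    have ecok : E.homology i ≅ cokernel (E.toCycles (i - 1) i) :=
      IsColimit.coconePointUniqueUpToIso (E.homologyIsCokernel (i - 1) i (by simp))
        (colimit.isColimit _)
    exact hasFTKernels_of_iso P ecok
      (hasFTKernels_cokernel P hsum hql (E.toCycles (i - 1) i) (hEP _ (by omega)) (hZ' i hi.le))
  exact ⟨isOfFiniteType_of_iso P (hX n).symm (hH n le_rfl), fun i hi =>
    ⟨isOfFiniteType_of_iso P (hX i).symm (hH i hi.le), hasFTKernels_of_iso P (hX i) (hH' i hi)⟩⟩

end Derived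

end Groth.Agent.Helper9.PCohLib
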