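import Mathlib
import Groth.Prelude.Def_PCoh
import Groth.Agent.Lib.Helper9.PCoh27

/-!
# Pseudo-coherence (punctual case): finite presentations and `(-n)`-pseudo-coherence (S12102)
-/

set_option autoImplicit false
universe w v u
open CategoryTheory CategoryTheory.Limits Pretriangulated

namespace Groth.Agent.Helper9.PCohLib

variable {C : Type u} [Category.{v} C] [Abelian C]

section Aug

variable (K : ChainComplex C ℕ) {X : C} (f : K.X 0 ⟶ X) (w : K.d 1 0 ≫ f = 0)

theorem augment_exactAt_zero (hf : Epi f) : (ChainComplex.augment K f w).ExactAt 0 := by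
  rw [HomologicalComplex.exactAt_iff' _ 1 0 0 (by simp) (by simp)]
  rw [ShortComplex.exact_iff_epi _ ((ChainComplex.augment K f w).shape 0 0 (by simp))]
  exact hf

theorem augment_exactAt_one_iff :
    (ChainComplex.augment K f w).ExactAt 1 ↔ (ShortComplex.mk (K.d 1 0) f w).Exact := by
  rw [HomologicalComplex.exactAt_iff' _ 2 1 0 (by simp) (by simp)]
  rfl

theorem augment_exactAt_succ_succ_iff (j : ℕ) :
    (ChainComplex.augment K f w).ExactAt (j + 2) ↔ K.ExactAt (j + 1) := by
  rw [HomologicalComplex.exactAt_iff' _ (j + 3) (j + 2) (j + 1) (by simp) (by simp),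
    HomologicalComplex.exactAt_iff' K (j + 2) (j + 1) j (by simp) (by simp)]
  rfl

theorem truncate_exactAt_succ_iff (j : ℕ) :
    (ChainComplex.truncate.obj K).ExactAt (j + 1) ↔ K.ExactAt (j + 2) := by
  rw [HomologicalComplex.exactAt_iff' _ (j + 2) (j + 1) j (by simp) (by simp),
    HomologicalComplex.exactAt_iff' K (j + 3) (j + 2) (j + 1) (by simp) (by simp)]
  rfl

theorem epi_d_one_zero_of_exactAt (h : K.ExactAt 0) : Epi (K.d 1 0) := by
  rw [HomologicalComplex.exactAt_iff' K 1 0 0 (by simp) (by simp)] at h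
  exact (ShortComplex.exact_iff_epi _ (K.shape 0 0 (by simp))).1 h

theorem epi_toCycles_of_exactAt (j : ℕ) (h : K.ExactAt j) : Epi (K.toCycles (j + 1) j) :=
  Preadditive.epi_of_isZero_cokernel' _ (K.homologyIsCokernel (j + 1) j (by simp)) h.isZero_homology

theorem shortExact_cycles (j : ℕ) (h : K.ExactAt j) :
    (ShortComplex.mk (K.iCycles (j + 1)) (K.toCycles (j + 1) j)
      (by rw [← cancel_mono (K.iCycles j), Category.assoc, K.toCycles_i, K.iCycles_d,
        zero_comp])).ShortExact := by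
  haveI := epi_toCycles_of_exactAt K j h
  refine ShortComplex.ShortExact.mk' ?_ (inferInstance : Mono (K.iCycles (j + 1)))
    (inferInstance : Epi (K.toCycles (j + 1) j))
  apply ShortComplex.exact_of_f_is_kernel
  exact KernelFork.IsLimit.ofι' _ _ (fun {A} k hk => ⟨K.liftCycles k j (by simp) (by
      rw [← K.toCycles_i (j + 1) j, ← Category.assoc]
      erw [hk]
      rw [zero_comp]), K.liftCycles_i _ _ _ _⟩)

end Aug

section Derived

open DerivedCategory

variable [HasDerivedCategory.{w} C] (P : ObjectProperty C) [P.IsClosedUnderIsomorphisms]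
  [P.ContainsZero] (hsum : ∀ X Y : C, P X → P Y → P (X ⨯ Y))
  (hqs : PCoh.IsQuasiStableUnderKernels P) (hql : PCoh.IsQuasiLiftable P)

include hsum hqs hql

/-- The cycles of a partial `P`-resolution are pseudo-coherent of the expected order. -/
theorem isNPC_single_cycles (K : ChainComplex C ℕ) (n : ℕ) (hex : ∀ j : ℕ, j ≤ n → K.ExactAt j)
    (hP : ∀ j : ℕ, 1 ≤ j → j ≤ n + 1 → P (K.X j)) :
    ∀ (m j : ℕ), m + j = n →
      IsNPC P (-(m : ℤ)) ((DerivedCategory.singleFunctor C 0).obj (K.cycles j)) := by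
  intro m
  induction m with
  | zero =>
    intro j hj
    haveI := epi_toCycles_of_exactAt K j (hex j (by omega))
    simpa using isNPC_zero_single_of_finiteType P hql _
      ⟨K.X (j + 1), K.toCycles (j + 1) j, hP _ (by omega) (by omega), inferInstance⟩
  | succ m ih =>
    intro j hj
    have hS := shortExact_cycles K j (hex j (by omega))
    have h1 := ih (j + 1) (by omega)
    have hT := hS.singleTriangle_distinguished
    have hn : -(((m + 1 : ℕ) : ℤ)) + 1 = -(m : ℤ) := by push_cast; ring
    have h2 : IsNPC P (-(((m + 1 : ℕ) : ℤ)))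
        ((DerivedCategory.singleFunctor C 0).obj (K.X (j + 1))) :=
      isNPC_Q_single_of_mem P _ 0 _ (hP _ (by omega) (by omega))
    exact isNPC_obj₃ P hsum hqs hql hS.singleTriangle hT (by rw [hn]; exact h1) h2

/-- S12102 (⇒). -/
theorem isNPC_of_chain (F : C) (n : ℕ) (K : ChainComplex C ℕ) (e : K.X 0 ≅ F)
    (hex : ∀ j : ℕ, j ≤ n → K.ExactAt j)
    (hP : ∀ j : ℕ, 1 ≤ j → j ≤ n + 1 → P (K.X j)) :
    IsNPC P (-(n : ℤ)) ((DerivedCategory.singleFunctor C 0).obj F) := by
  have h := isNPC_single_cycles P hsum hqs hql K n hex hP n 0 (by omega)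
  haveI : IsIso (K.iCycles 0) := K.isIso_iCycles 0 0 (by simp) (K.shape _ _ (by simp))
  exact h.of_iso P ((DerivedCategory.singleFunctor C 0).mapIso (asIso (K.iCycles 0) ≪≫ e))

/-- S12102 (⇐). -/
theorem exists_chain_of_isNPC : ∀ (n : ℕ) (F : C),
    IsNPC P (-(n : ℤ)) ((DerivedCategory.singleFunctor C 0).obj F) →
    ∃ K : ChainComplex C ℕ, Nonempty (K.X 0 ≅ F) ∧ (∀ j : ℕ, j ≤ n → K.ExactAt j) ∧
        (∀ j : ℕ, n + 1 < j → IsZero (K.X j)) ∧ (∀ j : ℕ, 1 ≤ j → j ≤ n + 1 → P (K.X j)) := by
  intro n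
  induction n with
  | zero =>
    intro F hF
    obtain ⟨E, π, hE, hπ⟩ := finiteType_of_isNPC_single P hqs F (by simpa using hF)
    haveI := hπ
    have w1 : (HomologicalComplex.zero : ChainComplex C ℕ).d 1 0 ≫
        (0 : (HomologicalComplex.zero : ChainComplex C ℕ).X 0 ⟶ E) = 0 := comp_zero
    have w2 : (0 : (HomologicalComplex.zero : ChainComplex C ℕ).X 0 ⟶ E) ≫ π = 0 := zero_comp
    refine ⟨ChainComplex.augment (ChainComplex.augment HomologicalComplex.zero
      (0 : (HomologicalComplex.zero : ChainComplex C ℕ).X 0 ⟶ E) w1) π w2, ⟨Iso.refl _⟩, ?_, ?_, ?_⟩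
    · intro j hj
      obtain rfl : j = 0 := by omega
      exact augment_exactAt_zero (ChainComplex.augment HomologicalComplex.zero
        (0 : (HomologicalComplex.zero : ChainComplex C ℕ).X 0 ⟶ E) w1) π w2 hπ
    · intro j hj
      obtain ⟨i, rfl⟩ : ∃ i, j = i + 2 := ⟨j - 2, by omega⟩
      exact isZero_zero C
    · intro j h1 h2
      obtain rfl : j = 1 := by omega
      exact hE
  | succ n ih =>
    intro F hF
    have hF0 : IsNPC P 0 ((DerivedCategory.singleFunctor C 0).obj F) :=
      hF.of_le P (by push_cast; omega)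
    obtain ⟨E, π, hE, hπ⟩ := finiteType_of_isNPC_single P hqs F hF0
    haveI := hπ
    let S : ShortComplex C := ShortComplex.mk (kernel.ι π) π (kernel.condition π)
    have hS : S.ShortExact := { exact := ShortComplex.exact_kernel π }
    have hT := hS.singleTriangle_distinguished
    have h2 : IsNPC P (-(((n + 1 : ℕ) : ℤ)) + 1) ((DerivedCategory.singleFunctor C 0).obj E) :=
      isNPC_Q_single_of_mem P _ 0 E hE
    have h1 : IsNPC P (-(((n + 1 : ℕ) : ℤ)) + 1)
        ((DerivedCategory.singleFunctor C 0).obj (kernel π)) :=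
      isNPC_obj₁ P hsum hqs hql hS.singleTriangle hT h2 hF
    have hn : -(((n + 1 : ℕ) : ℤ)) + 1 = -(n : ℤ) := by push_cast; ring
    rw [hn] at h1
    obtain ⟨K', ⟨e⟩, hex, hz, hP'⟩ := ih (kernel π) h1
    let f : K'.X 1 ⟶ E := K'.d 1 0 ≫ e.hom ≫ kernel.ι π
    have w1 : (ChainComplex.truncate.obj K').d 1 0 ≫ f = 0 := by
      show K'.d 2 1 ≫ K'.d 1 0 ≫ _ = 0
      rw [← Category.assoc, K'.d_comp_d, zero_comp]
    have w2 : f ≫ π = 0 := by simp [f]
    refine ⟨ChainComplex.augment (ChainComplex.augment (ChainComplex.truncate.obj K') f w1) π w2,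
      ⟨Iso.refl _⟩, ?_, ?_, ?_⟩
    · intro j hj
      rcases Nat.lt_or_ge j 3 with h | h
      · interval_cases j
        · exact augment_exactAt_zero (ChainComplex.augment (ChainComplex.truncate.obj K') f w1) π w2 hπ
        · refine (augment_exactAt_one_iff
            (ChainComplex.augment (ChainComplex.truncate.obj K') f w1) π w2).2 ?_
          show (ShortComplex.mk f π w2).Exact
          haveI : Epi (K'.d 1 0) := epi_d_one_zero_of_exactAt K' (hex 0 (by omega))
          let φ : ShortComplex.mk f π w2 ⟶ ShortComplex.mk (kernel.ι π) π (kernel.condition π) :=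
            { τ₁ := K'.d 1 0 ≫ e.hom, τ₂ := 𝟙 _, τ₃ := 𝟙 _, comm₁₂ := by simp [f],
              comm₂₃ := by simp }
          haveI : Epi φ.τ₁ := (inferInstance : Epi (K'.d 1 0 ≫ e.hom))
          haveI : IsIso φ.τ₂ := (inferInstance : IsIso (𝟙 E))
          haveI : Mono φ.τ₃ := (inferInstance : Mono (𝟙 F))
          exact (ShortComplex.exact_iff_of_epi_of_isIso_of_mono φ).2 (ShortComplex.exact_kernel π)
        · refine (augment_exactAt_succ_succ_iff
            (ChainComplex.augment (ChainComplex.truncate.obj K') f w1) π w2 0).2 ?_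
          refine (augment_exactAt_one_iff (ChainComplex.truncate.obj K') f w1).2 ?_
          show (ShortComplex.mk (K'.d 2 1) f w1).Exact
          have hK1 := (HomologicalComplex.exactAt_iff' K' 2 1 0 (by simp) (by simp)).1
            (hex 1 (by omega))
          let φ : K'.sc' 2 1 0 ⟶ ShortComplex.mk (K'.d 2 1) f w1 :=
            { τ₁ := 𝟙 _, τ₂ := 𝟙 _, τ₃ := e.hom ≫ kernel.ι π,
              comm₁₂ := by
                show 𝟙 (K'.X 2) ≫ K'.d 2 1 = K'.d 2 1 ≫ 𝟙 (K'.X 1)
                rw [Category.id_comp, Category.comp_id]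
              comm₂₃ := by
                show 𝟙 (K'.X 1) ≫ f = K'.d 1 0 ≫ e.hom ≫ kernel.ι π
                rw [Category.id_comp] }
          haveI : Epi φ.τ₁ := (inferInstance : Epi (𝟙 (K'.X 2)))
          haveI : IsIso φ.τ₂ := (inferInstance : IsIso (𝟙 (K'.X 1)))
          haveI : Mono φ.τ₃ := (inferInstance : Mono (e.hom ≫ kernel.ι π))
          exact (ShortComplex.exact_iff_of_epi_of_isIso_of_mono φ).1 hK1
      · obtain ⟨i, rfl⟩ : ∃ i, j = i + 3 := ⟨j - 3, by omega⟩
        refine (augment_exactAt_succ_succ_iff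
          (ChainComplex.augment (ChainComplex.truncate.obj K') f w1) π w2 (i + 1)).2 ?_
        refine (augment_exactAt_succ_succ_iff (ChainComplex.truncate.obj K') f w1 i).2 ?_
        refine (truncate_exactAt_succ_iff K' i).2 ?_
        exact hex (i + 2) (by omega)
    · intro j hj
      obtain ⟨i, rfl⟩ : ∃ i, j = i + 2 := ⟨j - 2, by omega⟩
      exact hz (i + 1) (by omega)
    · intro j h1 h2
      rcases Nat.lt_or_ge j 2 with h | h
      · obtain rfl : j = 1 := by omega
        exact hE
      · obtain ⟨i, rfl⟩ : ∃ i, j = i + 2 := ⟨j - 2, by omega⟩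
        exact hP' (i + 1) (by omega) (by omega)

end Derived

end Groth.Agent.Helper9.PCohLib
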