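import Mathlib
import Groth.Prelude.Def_EGA41
import Groth.Agent.Lib.Helper9.PFiltered2
import Groth.Agent.Lib.Helper9.PRoot

/-!
# Decreasing filtered families of subfields and admissible subfields (EGA 0_IV 21.8.3, (a) ⇔ (b))
-/

set_option autoImplicit false
universe u

namespace Groth.Agent.Helper9.PFiltered

open EGA41 Polynomial Groth.Agent.Helper9.PBasis IntermediateField KaehlerDifferential TensorProduct
  Groth.Agent.Helper9.AdmCofinite

theorem iInf_eq_iff_admissible (p : ℕ) [hp : Fact p.Prime] {k₀ K : Type u}
    [Field k₀] [Field K] [Algebra k₀ K] [CharP K p]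
    {ι : Type u} [Preorder ι] [IsDirected ι (· ≤ ·)] [Nonempty ι]
    (k : ι → IntermediateField k₀ K) (hk : Antitone k) :
    (⨅ i, k i ⊔ IntermediateField.adjoin k₀ (Set.range fun y : K => y ^ p)) =
        IntermediateField.adjoin k₀ (Set.range fun y : K => y ^ p) ↔
      ∀ (L : Type u) [Field L] [Algebra K L] [Algebra k₀ L] [IsScalarTower k₀ K L],
        Module.Finite L (EGA41.imperfection k₀ K L) →
          ∃ i, ∀ ω ∈ EGA41.imperfection k₀ K L,
            ((KaehlerDifferential.map k₀ (k i) K K).restrictScalars K).baseChange L ω = 0 →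
              ω = 0 := by
  classical
  constructor
  · intro H L _ _ _ _ hfin
    obtain ⟨T, hT⟩ := exists_pBasis p k₀ K
    obtain ⟨F, hF⟩ := exists_finset_support hT L (EGA41.imperfection k₀ K L)
    have hFi : IsPIndependent p k₀ (fun t : F => ((t : T) : K)) :=
      isPIndependent_comp hT.1 (Subtype.val : F → T) Subtype.val_injective
    obtain ⟨i, hi⟩ := exists_isPIndependent k hk H (fun t : F => ((t : T) : K)) hFi
    exact ⟨i, fun ω hω h0 => eq_zero_of_support hT L (k i) F hi ω (hF ω hω) h0⟩
  · intro hR
    apply le_antisymm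
    · intro z hzmem
      by_contra hz
      have hirr : Irreducible (X ^ p - C z : K[X]) := by
        apply X_pow_sub_C_irreducible_of_prime hp.out
        intro b hb
        apply hz
        rw [← hb]
        exact IntermediateField.subset_adjoin _ _ ⟨b, rfl⟩
      haveI : Fact (Irreducible (X ^ p - C z : K[X])) := ⟨hirr⟩
      have hr : (AdjoinRoot.root (X ^ p - C z : K[X])) ^ p =
          algebraMap K (AdjoinRoot (X ^ p - C z : K[X])) z := by
        have := AdjoinRoot.eval₂_root (X ^ p - C z : K[X])
        rw [eval₂_sub, eval₂_pow, eval₂_X, eval₂_C, sub_eq_zero] at this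
        exact this
      have hle := Groth.Agent.Helper9.PRoot.imperfection_le_span (p := p) (k₀ := k₀) z hz
        (L := AdjoinRoot (X ^ p - C z : K[X])) (AdjoinRoot.root _) hr AdjoinRoot.adjoinRoot_eq_top
      haveI : CharP (AdjoinRoot (X ^ p - C z : K[X])) p :=
        charP_of_injective_algebraMap (algebraMap K (AdjoinRoot (X ^ p - C z : K[X]))).injective p
      have hfin : Module.Finite (AdjoinRoot (X ^ p - C z : K[X]))
          (EGA41.imperfection k₀ K (AdjoinRoot (X ^ p - C z : K[X]))) :=
        Submodule.finiteDimensional_of_le hle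
      obtain ⟨i, hi⟩ := hR (AdjoinRoot (X ^ p - C z : K[X])) hfin
      have hmem : (1 : AdjoinRoot (X ^ p - C z : K[X])) ⊗ₜ[K] D k₀ K z ∈
          EGA41.imperfection k₀ K (AdjoinRoot (X ^ p - C z : K[X])) := by
        change mapBaseChange k₀ K (AdjoinRoot (X ^ p - C z : K[X])) _ = 0
        rw [mapBaseChange_tmul, one_smul, KaehlerDifferential.map_D, ← hr, Derivation.leibniz_pow,
          ← Nat.cast_smul_eq_nsmul (AdjoinRoot (X ^ p - C z : K[X])), CharP.cast_eq_zero _ p,
          zero_smul]
      have h0 : ((KaehlerDifferential.map k₀ (k i) K K).restrictScalars K).baseChange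
          (AdjoinRoot (X ^ p - C z : K[X]))
          ((1 : AdjoinRoot (X ^ p - C z : K[X])) ⊗ₜ[K] D k₀ K z) = 0 := by
        rw [LinearMap.baseChange_tmul]
        have : ((KaehlerDifferential.map k₀ (k i) K K).restrictScalars K) (D k₀ K z) =
            D (k i) K z := KaehlerDifferential.map_D k₀ (k i) K K z
        rw [this, D_eq_zero_of_mem_sup (p := p) (k i)
          ((iInf_le (fun i => k i ⊔ IntermediateField.adjoin k₀
            (Set.range fun y : K => y ^ p)) i) hzmem), TensorProduct.tmul_zero]
      have h1 := hi _ hmem h0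
      have h2 : D k₀ K z = 0 := by
        apply Module.Flat.tensorProduct_mk_injective K Ω[K⁄k₀] (AdjoinRoot (X ^ p - C z : K[X]))
        rw [map_zero]
        exact h1
      exact hz (mem_of_D_eq_zero (p := p) h2)
    · exact le_iInf fun i => le_sup_right

end Groth.Agent.Helper9.PFiltered
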