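import Mathlib
import Groth.Prelude.Def_EGA41
import Groth.Agent.Lib.Helper9.PFiltered2
import Groth.Agent.Lib.Helper9.Imperf

/-!
# Decreasing filtered families of subfields, part 4: passage to an extension with finite
imperfection module (EGA 0_IV 21.8.5)
-/

set_option autoImplicit false
set_option linter.unusedSectionVars false
set_option linter.style.haveILetI false

universe u

namespace Groth.Agent.Helper9.PFiltered

open EGA41 IntermediateField KaehlerDifferential TensorProduct

section LinAlg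

variable {F X ι : Type*} [Field F] [AddCommGroup X] [Module F X] [Preorder ι]
  [IsDirected ι (· ≤ ·)] [Nonempty ι]

lemma exists_inf_eq_bot (M : ι → Submodule F X) (hM : Antitone M) (h : ⨅ i, M i = ⊥)
    (V : Submodule F X) [FiniteDimensional F V] : ∃ i, V ⊓ M i = ⊥ := by
  classical
  obtain ⟨i₀, hi₀⟩ : ∃ i₀, ∀ i, Module.finrank F ↥(V ⊓ M i₀) ≤ Module.finrank F ↥(V ⊓ M i) := by
    let f : ι → ℕ := fun i => Module.finrank F ↥(V ⊓ M i)
    obtain ⟨n, ⟨i₀, rfl⟩, hmin⟩ :=
      WellFounded.has_min Nat.lt_wfRel.wf (Set.range f) (Set.range_nonempty f)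
    exact ⟨i₀, fun i => not_lt.mp (hmin _ ⟨i, rfl⟩)⟩
  refine ⟨i₀, ?_⟩
  rw [eq_bot_iff, ← h]
  refine le_iInf fun i => ?_
  obtain ⟨j, hij, hi₀j⟩ := exists_ge_ge i i₀
  have h1 : V ⊓ M j ≤ V ⊓ M i₀ := inf_le_inf_left V (hM hi₀j)
  have h2 : V ⊓ M j = V ⊓ M i₀ := Submodule.eq_of_le_of_finrank_le h1 (hi₀ j)
  have h3 : V ⊓ M i₀ ≤ M j := h2 ▸ inf_le_right
  exact h3.trans (hM hij)

lemma finite_comap_of_finite_ker {F : Type*} {X Y : Type u} [Field F] [AddCommGroup X]
    [Module F X] [AddCommGroup Y] [Module F Y] (φ : X →ₗ[F] Y)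
    [Module.Finite F (LinearMap.ker φ)] (N : Submodule F Y) [Module.Finite F N] :
    Module.Finite F (N.comap φ) := by
  let g : N.comap φ →ₗ[F] Y := φ.domRestrict (N.comap φ)
  have hrange : LinearMap.range g ≤ N := by
    rintro _ ⟨w, rfl⟩
    exact w.2
  have hker : LinearMap.ker g = (LinearMap.ker φ).comap (N.comap φ).subtype := by
    ext w
    rfl
  have hle : LinearMap.ker φ ≤ N.comap φ := by
    intro s hs
    rw [Submodule.mem_comap, LinearMap.mem_ker.mp hs]
    exact Submodule.zero_mem _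
  haveI : Module.Finite F (LinearMap.range g) :=
    Module.Finite.of_injective (Submodule.inclusion hrange) (Submodule.inclusion_injective _)
  rw [← Module.rank_lt_aleph0_iff, ← LinearMap.rank_range_add_rank_ker g, hker,
    (Submodule.comapSubtypeEquivOfLe hle).rank_eq]
  exact Cardinal.add_lt_aleph0 (Module.rank_lt_aleph0 F _) (Module.rank_lt_aleph0 F _)

end LinAlg

section Tensor

variable {K L : Type*} [Field K] [Field L] [Algebra K L] {X Y : Type*} [AddCommGroup X]
  [Module K X] [AddCommGroup Y] [Module K Y]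

lemma exists_fg_mem_baseChange (z : L ⊗[K] X) :
    ∃ V : Submodule K X, V.FG ∧ z ∈ V.baseChange L := by
  induction z using TensorProduct.induction_on with
  | zero => exact ⟨⊥, Submodule.fg_bot, Submodule.zero_mem _⟩
  | tmul l x =>
    exact ⟨Submodule.span K {x}, Submodule.fg_span_singleton x,
      Submodule.tmul_mem_baseChange_of_mem l (Submodule.mem_span_singleton_self x)⟩
  | add z₁ z₂ h₁ h₂ =>
    obtain ⟨V₁, hV₁, hz₁⟩ := h₁
    obtain ⟨V₂, hV₂, hz₂⟩ := h₂
    exact ⟨V₁ ⊔ V₂, hV₁.sup hV₂, Submodule.add_mem _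
      (Submodule.baseChange_mono L le_sup_left hz₁) (Submodule.baseChange_mono L le_sup_right hz₂)⟩

lemma exists_fg_le_baseChange (W : Submodule L (L ⊗[K] X)) (hW : W.FG) :
    ∃ V : Submodule K X, V.FG ∧ W ≤ V.baseChange L := by
  induction W, hW using Submodule.fg_induction with
  | singleton z =>
    obtain ⟨V, hV, hz⟩ := exists_fg_mem_baseChange (K := K) (L := L) z
    exact ⟨V, hV, (Submodule.span_singleton_le_iff_mem _ _).mpr hz⟩
  | sup W₁ W₂ _ _ h₁ h₂ =>
    obtain ⟨V₁, hV₁, hW₁⟩ := h₁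
    obtain ⟨V₂, hV₂, hW₂⟩ := h₂
    exact ⟨V₁ ⊔ V₂, hV₁.sup hV₂, sup_le (hW₁.trans (Submodule.baseChange_mono L le_sup_left))
      (hW₂.trans (Submodule.baseChange_mono L le_sup_right))⟩

lemma baseChange_inf_ker_eq_bot (ψ : X →ₗ[K] Y) (V : Submodule K X)
    (h : V ⊓ LinearMap.ker ψ = ⊥) :
    V.baseChange L ⊓ LinearMap.ker (ψ.baseChange L) = ⊥ := by
  rw [eq_bot_iff]
  rintro z ⟨hz1, hz2⟩
  obtain ⟨z', rfl⟩ := hz1
  have hinj : Function.Injective (ψ ∘ₗ V.subtype) := by
    rw [← LinearMap.ker_eq_bot, LinearMap.ker_comp, eq_bot_iff]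
    intro v hv
    have hv' : (v : X) ∈ V ⊓ LinearMap.ker ψ := ⟨v.2, hv⟩
    rw [h] at hv'
    exact Subtype.ext ((Submodule.mem_bot K).mp hv')
  have hinj' : Function.Injective ((ψ ∘ₗ V.subtype).baseChange L) := by
    rw [LinearMap.baseChange_eq_ltensor]
    exact Module.Flat.lTensor_preserves_injective_linearMap _ hinj
  have h0 : (ψ ∘ₗ V.subtype).baseChange L z' = 0 := by
    rw [LinearMap.baseChange_comp]
    exact hz2
  have hz' : z' = 0 := hinj' (h0.trans (map_zero _).symm)
  rw [hz', map_zero]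
  exact Submodule.zero_mem _

end Tensor

section Main

variable {p : ℕ} [hp : Fact p.Prime] {k₀ K L : Type u} [Field k₀] [Field K] [Field L]
  [Algebra k₀ K] [Algebra K L] [Algebra k₀ L] [IsScalarTower k₀ K L] [CharP K p] [CharP L p]

theorem iInf_eq_of_finite_imperfection
    {ι : Type*} [Preorder ι] [IsDirected ι (· ≤ ·)] [Nonempty ι]
    (k : ι → IntermediateField k₀ K) (hk : Antitone k)
    (h : (⨅ i, k i ⊔ IntermediateField.adjoin k₀ (Set.range fun y : K => y ^ p)) =
      IntermediateField.adjoin k₀ (Set.range fun y : K => y ^ p))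
    [Module.Finite L (EGA41.imperfection k₀ K L)] :
    (⨅ i, (k i).map (IsScalarTower.toAlgHom k₀ K L) ⊔
        IntermediateField.adjoin k₀ (Set.range fun y : L => y ^ p)) =
      IntermediateField.adjoin k₀ (Set.range fun y : L => y ^ p) := by
  classical
  have hk' : Antitone (fun i => (k i).map (IsScalarTower.toAlgHom k₀ K L)) :=
    fun i j hij => IntermediateField.map_mono _ (hk hij)
  rw [iInf_eq_iff_forall (p := p) (fun i => (k i).map (IsScalarTower.toAlgHom k₀ K L)) hk']
  have HK := (iInf_eq_iff_forall (p := p) k hk).mp h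
  intro ω hω
  -- the kernels on the `K`-side
  let M : ι → Submodule K Ω[K⁄k₀] := fun i =>
    Submodule.span K ((fun c : K => D k₀ K c) '' (k i : Set K))
  have hM : Antitone M := fun i j hij => Submodule.span_mono (Set.image_mono (hk hij))
  have hMker : ∀ i, M i = LinearMap.ker (KaehlerDifferential.map k₀ (k i) K K) := by
    intro i
    apply le_antisymm
    · rw [Submodule.span_le]
      rintro _ ⟨c, hc, rfl⟩
      rw [SetLike.mem_coe, LinearMap.mem_ker, KaehlerDifferential.map_D]
      change D (k i) K (algebraMap (k i) K ⟨c, hc⟩) = 0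
      exact Derivation.map_algebraMap _ _
    · intro η hη
      have h1 := Imperf.mem_span_of_map_eq_zero (a := k₀) (b := k i) η hη
      refine (Submodule.span_mono ?_) h1
      rintro _ ⟨x, rfl⟩
      exact ⟨(x : K), x.2, rfl⟩
  have hMinf : ⨅ i, M i = ⊥ := by
    rw [eq_bot_iff]
    intro η hη
    rw [Submodule.mem_iInf] at hη
    have : η = 0 := HK η fun i => by
      have := hη i
      rw [hMker i] at this
      exact this
    rw [this]
    exact Submodule.zero_mem _
  -- the finite-dimensional subspace `W'`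
  set φ := mapBaseChange k₀ K L with hφdef
  set W' : Submodule L (L ⊗[K] Ω[K⁄k₀]) := (Submodule.span L {ω}).comap φ with hW'
  haveI : Module.Finite L (LinearMap.ker φ) :=
    (inferInstance : Module.Finite L (EGA41.imperfection k₀ K L))
  have hW'fin : Module.Finite L W' := finite_comap_of_finite_ker φ (Submodule.span L {ω})
  obtain ⟨V, hVfg, hWV⟩ := exists_fg_le_baseChange (K := K) (L := L) W'
    (Module.Finite.iff_fg.mp hW'fin)
  haveI : FiniteDimensional K V := Module.Finite.iff_fg.mpr hVfg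
  obtain ⟨i₀, hi₀⟩ := exists_inf_eq_bot M hM hMinf V
  have hbot := baseChange_inf_ker_eq_bot (L := L) (KaehlerDifferential.map k₀ (k i₀) K K) V
    (by rw [← hMker i₀]; exact hi₀)
  -- `ω` comes from the kernel of `L ⊗ ψ_{i₀}`
  have hωmem : ω ∈ (LinearMap.ker ((KaehlerDifferential.map k₀ (k i₀) K K).baseChange L)).map φ := by
    have h1 := Imperf.mem_span_of_map_eq_zero (a := k₀)
      (b := (k i₀).map (IsScalarTower.toAlgHom k₀ K L)) (K := L) ω (hω i₀)
    refine (Submodule.span_le.mpr ?_) h1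
    rintro _ ⟨⟨x, c, hc, rfl⟩, rfl⟩
    refine ⟨(1 : L) ⊗ₜ[K] D k₀ K c, ?_, ?_⟩
    · rw [SetLike.mem_coe, LinearMap.mem_ker, LinearMap.baseChange_tmul,
        KaehlerDifferential.map_D]
      have : D (k i₀) K (algebraMap K K c) = 0 := by
        change D (k i₀) K (algebraMap (k i₀) K ⟨c, hc⟩) = 0
        exact Derivation.map_algebraMap _ _
      rw [this, TensorProduct.tmul_zero]
    · rw [hφdef, mapBaseChange_tmul, one_smul, KaehlerDifferential.map_D]
      rfl
  obtain ⟨s, hs, hsω⟩ := hωmem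
  have hsW : s ∈ W' := by
    rw [hW', Submodule.mem_comap, hsω]
    exact Submodule.mem_span_singleton_self ω
  have hs0 : s ∈ V.baseChange L ⊓
      LinearMap.ker ((KaehlerDifferential.map k₀ (k i₀) K K).baseChange L) := ⟨hWV hsW, hs⟩
  rw [hbot] at hs0
  rw [← hsω, (Submodule.mem_bot L).mp hs0, map_zero]

end Main

end Groth.Agent.Helper9.PFiltered
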