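import Mathlib

/-!
# Standard charts of projective space (ring level)

For `A = R[X_0..X_n]` with its standard grading, the degree zero part of `A[1/X_i]` is a polynomial
ring in `n` variables over `R`.
-/

set_option backward.isDefEq.respectTransparency false

namespace Groth.Agent.Helper9.PN

open MvPolynomial HomogeneousLocalization

universe u

attribute [local instance] MvPolynomial.gradedAlgebra

theorem eval₂_mul_of_isHomogeneous {R S σ : Type*} [CommRing R] [CommRing S] (φ : R →+* S)
    (g : σ → S) (u : S) {a : MvPolynomial σ R} {k : ℕ} (ha : a.IsHomogeneous k) :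
    eval₂ φ (fun j => g j * u) a = eval₂ φ g a * u ^ k := by
  rw [eval₂_eq, eval₂_eq, Finset.sum_mul]
  refine Finset.sum_congr rfl fun d hd => ?_
  have hdk : d.degree = k := by
    by_contra h
    exact (mem_support_iff.mp hd) (ha.coeff_eq_zero h)
  rw [mul_assoc]
  congr 1
  simp_rw [mul_pow]
  rw [Finset.prod_mul_distrib, Finset.prod_pow_eq_pow_sum, ← Finsupp.degree_apply, hdk]

section Chart

variable (R : Type u) [CommRing R] (n : ℕ)

/-- The standard grading on `R[X_0..X_n]`. -/
abbrev grading : ℕ → Submodule R (MvPolynomial (Fin (n + 1)) R) :=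
  homogeneousSubmodule (Fin (n + 1)) R

variable {n}

theorem X_mem (j : Fin (n + 1)) : (X j : MvPolynomial (Fin (n + 1)) R) ∈ grading R n 1 :=
  isHomogeneous_X R j

variable (i : Fin (n + 1))

/-- The structure map `R → (A_{X_i})_0`. -/
noncomputable def toAway :
    R →+* Away (grading R n) (X i : MvPolynomial (Fin (n + 1)) R) :=
  (fromZeroRingHom (grading R n) _).comp (algebraMap R (grading R n 0))

theorem val_toAway (r : R) :
    (toAway R i r).val =
      algebraMap (MvPolynomial (Fin (n + 1)) R)
        (Localization.Away (X i : MvPolynomial (Fin (n + 1)) R)) (C r) := by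
  rw [← Localization.mk_one_eq_algebraMap]
  rfl

/-- The element `X_j / X_i` of the chart ring. -/
noncomputable def mkX (j : Fin (n + 1)) :
    Away (grading R n) (X i : MvPolynomial (Fin (n + 1)) R) :=
  Away.mk (grading R n) (X_mem R i) 1 (X j) (by simpa using X_mem R j)

theorem mk_spec {k : ℕ} (a : MvPolynomial (Fin (n + 1)) R) (ha : a ∈ grading R n (k • 1)) :
    algebraMap (MvPolynomial (Fin (n + 1)) R)
        (Localization.Away (X i : MvPolynomial (Fin (n + 1)) R)) ((X i) ^ k) *
      (Away.mk (grading R n) (X_mem R i) k a ha).val =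
    algebraMap (MvPolynomial (Fin (n + 1)) R)
        (Localization.Away (X i : MvPolynomial (Fin (n + 1)) R)) a := by
  rw [Away.val_mk, Localization.mk_eq_mk']
  exact IsLocalization.mk'_spec' _ a
    (⟨X i ^ k, ⟨k, rfl⟩⟩ : Submonoid.powers (X i : MvPolynomial (Fin (n + 1)) R))

/-- Dehomogenization with respect to `X_i`. -/
noncomputable def dh : MvPolynomial (Fin (n + 1)) R →+* MvPolynomial (Fin n) R :=
  eval₂Hom C (@Fin.insertNth n (fun _ => MvPolynomial (Fin n) R) i 1 (fun j => X j))

theorem dh_X_self : dh R i (X i) = 1 := by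
  simp [dh]

theorem dh_X_succAbove (l : Fin n) : dh R i (X (i.succAbove l)) = X l := by
  simp [dh]

theorem dh_C (r : R) : dh R i (C r) = C r := by
  simp [dh]

theorem isUnit_dh_X : IsUnit (dh R i (X i)) := by
  rw [dh_X_self]; exact isUnit_one

/-- The evaluation map from the chart ring to the polynomial ring in `n` variables. -/
noncomputable def ev :
    Away (grading R n) (X i : MvPolynomial (Fin (n + 1)) R) →+* MvPolynomial (Fin n) R :=
  (IsLocalization.Away.lift (S := Localization.Away (X i : MvPolynomial (Fin (n + 1)) R))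
      (X i : MvPolynomial (Fin (n + 1)) R) (g := dh R i) (isUnit_dh_X R i)).comp
    (algebraMap _ (Localization.Away (X i : MvPolynomial (Fin (n + 1)) R)))

theorem ev_apply (z : Away (grading R n) (X i : MvPolynomial (Fin (n + 1)) R)) :
    ev R i z = IsLocalization.Away.lift
      (S := Localization.Away (X i : MvPolynomial (Fin (n + 1)) R))
      (X i : MvPolynomial (Fin (n + 1)) R) (g := dh R i) (isUnit_dh_X R i) z.val := rfl

theorem ev_mk {k : ℕ} (a : MvPolynomial (Fin (n + 1)) R) (ha : a ∈ grading R n (k • 1)) :
    ev R i (Away.mk (grading R n) (X_mem R i) k a ha) = dh R i a := by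
  have h := congrArg (IsLocalization.Away.lift
      (S := Localization.Away (X i : MvPolynomial (Fin (n + 1)) R))
      (X i : MvPolynomial (Fin (n + 1)) R) (g := dh R i) (isUnit_dh_X R i)) (mk_spec R i a ha)
  rw [map_mul, IsLocalization.Away.lift_eq, IsLocalization.Away.lift_eq, map_pow, dh_X_self,
    one_pow, one_mul] at h
  rw [ev_apply]
  exact h

theorem ev_toAway (r : R) : ev R i (toAway R i r) = C r := by
  rw [ev_apply, val_toAway, IsLocalization.Away.lift_eq, dh_C]

/-- The map from the polynomial ring in `n` variables to the chart ring. -/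
noncomputable def psi :
    MvPolynomial (Fin n) R →+* Away (grading R n) (X i : MvPolynomial (Fin (n + 1)) R) :=
  eval₂Hom (toAway R i) (fun l => mkX R i (i.succAbove l))

theorem psi_C (r : R) : psi R i (C r) = toAway R i r := by
  simp [psi]

theorem psi_X (l : Fin n) : psi R i (X l) = mkX R i (i.succAbove l) := by
  simp [psi]

theorem ev_psi (p : MvPolynomial (Fin n) R) : ev R i (psi R i p) = p := by
  have : (ev R i).comp (psi R i) = RingHom.id _ := by
    apply MvPolynomial.ringHom_ext
    · intro r
      rw [RingHom.comp_apply, psi_C, ev_toAway, RingHom.id_apply]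
    · intro l
      rw [RingHom.comp_apply, psi_X, mkX, ev_mk, dh_X_succAbove, RingHom.id_apply]
  exact RingHom.congr_fun this p

theorem psi_dh {k : ℕ} (a : MvPolynomial (Fin (n + 1)) R) (ha : a ∈ grading R n (k • 1)) :
    psi R i (dh R i a) = Away.mk (grading R n) (X_mem R i) k a ha := by
  apply HomogeneousLocalization.val_injective
  have ha' : a.IsHomogeneous k := by simpa using ha
  let L := Localization.Away (X i : MvPolynomial (Fin (n + 1)) R)
  let u : L := IsLocalization.Away.invSelf (X i : MvPolynomial (Fin (n + 1)) R)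
  have hu : algebraMap (MvPolynomial (Fin (n + 1)) R) L (X i) * u = 1 :=
    IsLocalization.Away.mul_invSelf _
  have hΘ : ((algebraMap (Away (grading R n) (X i : MvPolynomial (Fin (n + 1)) R)) L).comp
      ((psi R i).comp (dh R i))) =
      eval₂Hom ((algebraMap (MvPolynomial (Fin (n + 1)) R) L).comp C)
        (fun j => algebraMap (MvPolynomial (Fin (n + 1)) R) L (X j) * u) := by
    apply MvPolynomial.ringHom_ext
    · intro r
      rw [RingHom.comp_apply, RingHom.comp_apply, dh_C, psi_C, eval₂Hom_C,
        HomogeneousLocalization.algebraMap_apply, val_toAway, RingHom.comp_apply]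
    · intro j
      rw [RingHom.comp_apply, RingHom.comp_apply, eval₂Hom_X',
        HomogeneousLocalization.algebraMap_apply]
      obtain rfl | ⟨l, rfl⟩ := Fin.eq_self_or_eq_succAbove i j
      · rw [dh_X_self, map_one, HomogeneousLocalization.val_one, hu]
      · rw [dh_X_succAbove, psi_X]
        have h1 := mk_spec R i (k := 1) (X (i.succAbove l)) (by simpa using X_mem R (i.succAbove l))
        rw [pow_one] at h1
        calc (mkX R i (i.succAbove l)).val
            = (algebraMap (MvPolynomial (Fin (n + 1)) R) L (X i) * u) *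
                (mkX R i (i.succAbove l)).val := by rw [hu, one_mul]
          _ = u * (algebraMap (MvPolynomial (Fin (n + 1)) R) L (X i) *
                (mkX R i (i.succAbove l)).val) := by ring
          _ = algebraMap (MvPolynomial (Fin (n + 1)) R) L (X (i.succAbove l)) * u := by
                rw [mkX, h1, mul_comm]
  have h2 := RingHom.congr_fun hΘ a
  rw [RingHom.comp_apply, RingHom.comp_apply, HomogeneousLocalization.algebraMap_apply] at h2
  rw [h2, coe_eval₂Hom, eval₂_mul_of_isHomogeneous _ _ _ ha']
  have h3 : eval₂ ((algebraMap (MvPolynomial (Fin (n + 1)) R) L).comp C)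
      (fun j => algebraMap (MvPolynomial (Fin (n + 1)) R) L (X j)) a =
      algebraMap (MvPolynomial (Fin (n + 1)) R) L a := by
    have : eval₂Hom ((algebraMap (MvPolynomial (Fin (n + 1)) R) L).comp C)
        (fun j => algebraMap (MvPolynomial (Fin (n + 1)) R) L (X j)) =
        algebraMap (MvPolynomial (Fin (n + 1)) R) L := by
      apply MvPolynomial.ringHom_ext
      · intro r; rw [eval₂Hom_C, RingHom.comp_apply]
      · intro j; rw [eval₂Hom_X']
    exact RingHom.congr_fun this a
  rw [h3]
  have h4 := mk_spec R i a ha
  calc algebraMap (MvPolynomial (Fin (n + 1)) R) L a * u ^ k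
      = (algebraMap (MvPolynomial (Fin (n + 1)) R) L (X i ^ k) *
          (Away.mk (grading R n) (X_mem R i) k a ha).val) * u ^ k := by rw [h4]
    _ = (algebraMap (MvPolynomial (Fin (n + 1)) R) L (X i) * u) ^ k *
          (Away.mk (grading R n) (X_mem R i) k a ha).val := by rw [map_pow]; ring
    _ = (Away.mk (grading R n) (X_mem R i) k a ha).val := by rw [hu, one_pow, one_mul]

theorem psi_bijective : Function.Bijective (psi R i) := by
  refine ⟨Function.LeftInverse.injective (ev_psi R i), fun z => ?_⟩
  obtain ⟨k, a, ha, rfl⟩ := Away.mk_surjective (grading R n) (X_mem R i) z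
  exact ⟨dh R i a, psi_dh R i a ha⟩

theorem toAway_eq : toAway R i = (psi R i).comp (algebraMap R (MvPolynomial (Fin n) R)) := by
  ext r
  rw [RingHom.comp_apply, MvPolynomial.algebraMap_eq, psi_C]

theorem smooth_toAway : (toAway R i).Smooth := by
  rw [toAway_eq]
  have h1 : (algebraMap R (MvPolynomial (Fin n) R)).Smooth :=
    RingHom.smooth_algebraMap.mpr { }
  exact h1.comp (RingHom.Smooth.of_bijective (psi_bijective R i))

end Chart

end Groth.Agent.Helper9.PN
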