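import Mathlib
import Groth.Agent.Lib.Helper9.PN1

/-!
# Projective space over a ring is smooth and proper
-/

set_option backward.isDefEq.respectTransparency false

namespace Groth.Agent.Helper9.PN

open MvPolynomial HomogeneousLocalization AlgebraicGeometry CategoryTheory Limits

universe u

attribute [local instance] MvPolynomial.gradedAlgebra

variable (R : Type u) [CommRing R] (n : ℕ)

/-- Projective `n`-space over `R`. -/
noncomputable abbrev PS : Scheme.{u} := Proj (grading R n)

/-- The structure morphism of projective space. -/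
noncomputable def π : PS R n ⟶ Spec (CommRingCat.of R) :=
  Proj.toSpecZero (grading R n) ≫
    Spec.map (CommRingCat.ofHom (algebraMap R (grading R n 0)))

/-- The standard chart `D_+(X_i) → P^n`. -/
noncomputable abbrev chart (i : Fin (n + 1)) :
    Spec (CommRingCat.of (Away (grading R n) (X i : MvPolynomial (Fin (n + 1)) R))) ⟶ PS R n :=
  Proj.awayι (grading R n) (X i) (X_mem R i) one_pos

instance : IsScalarTower R (grading R n 0) (MvPolynomial (Fin (n + 1)) R) :=
  IsScalarTower.of_algebraMap_eq' (R := R) (S := ↥(grading R n 0))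
    (A := MvPolynomial (Fin (n + 1)) R) rfl

instance : Algebra.FiniteType (grading R n 0) (MvPolynomial (Fin (n + 1)) R) :=
  Algebra.FiniteType.of_restrictScalars_finiteType R _ _

theorem surjective_algebraMap_zero : Function.Surjective (algebraMap R (grading R n 0)) := by
  intro x
  have hx : (x : MvPolynomial (Fin (n + 1)) R) ∈ homogeneousSubmodule (Fin (n + 1)) R 0 := x.2
  rw [homogeneousSubmodule_zero, Submodule.mem_one] at hx
  obtain ⟨r, hr⟩ := hx
  exact ⟨r, Subtype.ext hr⟩

theorem adjoin_X_eq_top :
    Algebra.adjoin (grading R n 0)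
      (Set.range fun i : Fin (n + 1) => (X i : MvPolynomial (Fin (n + 1)) R)) = ⊤ := by
  rw [eq_top_iff]
  rintro p -
  induction p using MvPolynomial.induction_on with
  | C r =>
    exact Subalgebra.algebraMap_mem _ (algebraMap R (grading R n 0) r)
  | add p q hp hq => exact add_mem hp hq
  | mul_X p i hp => exact mul_mem hp (Algebra.subset_adjoin ⟨i, rfl⟩)

theorem isProper_π : IsProper (π R n) := by
  haveI : IsClosedImmersion (Spec.map (CommRingCat.ofHom (algebraMap R (grading R n 0)))) :=
    IsClosedImmersion.spec_of_surjective _ (surjective_algebraMap_zero R n)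
  unfold π
  infer_instance

theorem chart_π (i : Fin (n + 1)) :
    chart R n i ≫ π R n = Spec.map (CommRingCat.ofHom (toAway R i)) := by
  unfold π
  rw [← Category.assoc, Proj.awayι_toSpecZero, ← Spec.map_comp]
  rfl

theorem smooth_π : Smooth (π R n) := by
  have hcov : ⨆ i : Fin (n + 1), Proj.basicOpen (grading R n)
      (X i : MvPolynomial (Fin (n + 1)) R) = ⊤ :=
    Proj.iSup_basicOpen_eq_top' (grading R n) (fun i => X i) (fun i => ⟨1, X_mem R i⟩)
      (adjoin_X_eq_top R n)
  rw [IsZariskiLocalAtSource.iff_of_iSup_eq_top (P := @Smooth) _ hcov]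
  intro i
  rw [← MorphismProperty.cancel_left_of_respectsIso (P := @Smooth)
    (Proj.basicOpenIsoSpec (grading R n) (X i) (X_mem R i) one_pos).inv, ← Category.assoc,
    Proj.basicOpenIsoSpec_inv_ι, chart_π, HasRingHomProperty.Spec_iff (P := @Smooth)]
  exact smooth_toAway R i

end Groth.Agent.Helper9.PN
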