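import Mathlib
import Groth.Agent.Lib.Helper9.PN2

/-!
# Affine finite type morphisms embed into projective space over the base
-/

set_option backward.isDefEq.respectTransparency false

namespace Groth.Agent.Helper9.PN

open MvPolynomial HomogeneousLocalization AlgebraicGeometry CategoryTheory Limits

universe u

attribute [local instance] MvPolynomial.gradedAlgebra

theorem main {Y U₀ V₀ : Scheme.{u}} [IsAffine U₀] [IsAffine V₀] [TopologicalSpace.NoetherianSpace U₀]
    (w : U₀ ⟶ V₀) [LocallyOfFiniteType w] (j : V₀ ⟶ Y) [IsOpenImmersion j] :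
    ∃ (W P : Scheme.{u}) (g : U₀ ⟶ W) (h : W ⟶ P) (k : P ⟶ Y),
      IsOpenImmersion g ∧ IsClosedImmersion h ∧ Smooth k ∧ IsProper k ∧ g ≫ h ≫ k = w ≫ j := by
  classical
  have hT : IsTerminal (Spec (CommRingCat.of (ULift.{u} ℤ))) := specULiftZIsTerminal
  have hft : (w.appTop).hom.FiniteType :=
    (HasRingHomProperty.iff_of_isAffine (P := @LocallyOfFiniteType)).mp inferInstance
  letI alg : Algebra Γ(V₀, ⊤) Γ(U₀, ⊤) := (w.appTop).hom.toAlgebra
  have hft' : Algebra.FiniteType Γ(V₀, ⊤) Γ(U₀, ⊤) := hft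
  obtain ⟨n, F, hF⟩ := Algebra.FiniteType.iff_quotient_mvPolynomial''.mp hft'
  let b : Fin n → Γ(U₀, ⊤) := fun l => F (X l)
  let χ : ULift.{u} ℤ →+* Γ(U₀, ⊤) :=
    (Int.castRingHom _).comp (ULift.ringEquiv : ULift.{u} ℤ ≃+* ℤ).toRingHom
  let θ : Away (grading (ULift.{u} ℤ) n) (X 0 : MvPolynomial (Fin (n + 1)) (ULift.{u} ℤ)) →+*
      Γ(U₀, ⊤) := (eval₂Hom χ b).comp (ev (ULift.{u} ℤ) 0)
  have hθ : ∀ l, θ (mkX (ULift.{u} ℤ) 0 ((0 : Fin (n + 1)).succAbove l)) = b l := fun l => by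
    simp only [θ, RingHom.comp_apply, mkX, ev_mk, dh_X_succAbove, eval₂Hom_X']
  let a₀ : U₀ ⟶ Spec (CommRingCat.of
      (Away (grading (ULift.{u} ℤ) n) (X 0 : MvPolynomial (Fin (n + 1)) (ULift.{u} ℤ)))) :=
    U₀.toSpecΓ ≫ Spec.map (CommRingCat.ofHom θ)
  let t : Y ⟶ Spec (CommRingCat.of (ULift.{u} ℤ)) := hT.from Y
  haveI := smooth_π (ULift.{u} ℤ) n
  haveI := isProper_π (ULift.{u} ℤ) n
  let c : U₀ ⟶ pullback (chart (ULift.{u} ℤ) n 0 ≫ π (ULift.{u} ℤ) n) (j ≫ t) :=
    pullback.lift a₀ w (hT.hom_ext _ _)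
  let o : pullback (chart (ULift.{u} ℤ) n 0 ≫ π (ULift.{u} ℤ) n) (j ≫ t) ⟶
      pullback (π (ULift.{u} ℤ) n) t :=
    pullback.map (chart (ULift.{u} ℤ) n 0 ≫ π (ULift.{u} ℤ) n) (j ≫ t) (π (ULift.{u} ℤ) n) t
      (chart (ULift.{u} ℤ) n 0) j (𝟙 _) (Category.comp_id _) (Category.comp_id _)
  haveI : IsOpenImmersion o := by
    dsimp only [o]; infer_instance
  have hc : Function.Surjective (c.appTop) := by
    let S : Subring Γ(U₀, ⊤) := (c.appTop).hom.range
    have hS1 : ∀ x : Γ(V₀, ⊤), (w.appTop).hom x ∈ S := fun x => by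
      have e1 : w.appTop = (pullback.snd (chart (ULift.{u} ℤ) n 0 ≫ π (ULift.{u} ℤ) n)
          (j ≫ t)).appTop ≫ c.appTop := by
        rw [← Scheme.Hom.comp_appTop, pullback.lift_snd]
      rw [e1]
      exact ⟨_, rfl⟩
    have hS2 : ∀ z, θ z ∈ S := fun z => by
      have h1 : a₀.appTop = (pullback.fst (chart (ULift.{u} ℤ) n 0 ≫ π (ULift.{u} ℤ) n)
          (j ≫ t)).appTop ≫ c.appTop := by
        rw [← Scheme.Hom.comp_appTop, pullback.lift_fst]
      have h2 : a₀.appTop = (Scheme.ΓSpecIso _).hom ≫ CommRingCat.ofHom θ := by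
        simp only [a₀, Scheme.Hom.comp_appTop, Scheme.toSpecΓ_appTop, Scheme.ΓSpecIso_naturality]
      have h3 : θ z = (a₀.appTop).hom ((Scheme.ΓSpecIso _).inv.hom z) := by
        rw [h2]; simp
      rw [h3, h1]
      exact ⟨_, rfl⟩
    have hS3 : ∀ p : MvPolynomial (Fin n) Γ(V₀, ⊤), F p ∈ S := fun p => by
      induction p using MvPolynomial.induction_on with
      | C x =>
        have : F (C x) = (w.appTop).hom x := by
          rw [← MvPolynomial.algebraMap_eq, AlgHom.commutes]; rfl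
        rw [this]; exact hS1 x
      | add p q hp hq => rw [map_add]; exact add_mem hp hq
      | mul_X p l hp =>
        rw [map_mul]
        refine mul_mem hp ?_
        rw [show F (X l) = b l from rfl, ← hθ l]
        exact hS2 _
    intro y
    obtain ⟨p, rfl⟩ := hF y
    exact RingHom.mem_range.mp (hS3 p)
  haveI : IsClosedImmersion c := IsClosedImmersion.of_surjective_of_isAffine c hc
  haveI : IsImmersion (c ≫ o) := inferInstance
  haveI : QuasiCompact (c ≫ o) := inferInstance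
  obtain ⟨W, g, h, hg, hh, hgh⟩ :=
    IsImmersion.isImmersion_iff_exists_of_quasiCompact.mp ‹IsImmersion (c ≫ o)›
  refine ⟨W, pullback (π (ULift.{u} ℤ) n) t, g, h, pullback.snd _ _, hg, hh, inferInstance,
    inferInstance, ?_⟩
  have ho : o ≫ pullback.snd _ _ = pullback.snd _ _ ≫ j := pullback.lift_snd _ _ _
  rw [← Category.assoc, hgh, Category.assoc, ho, ← Category.assoc, pullback.lift_snd]

end Groth.Agent.Helper9.PN
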