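import Mathlib
import Groth.Prelude.Def_OmegaPn

/-!
# Principal parts: basic sectionwise computations (order `0`, transition maps `P^m → P^n`)
-/

set_option autoImplicit false
set_option linter.unusedSectionVars false
universe u
open CategoryTheory CategoryTheory.Limits AlgebraicGeometry TopologicalSpace Opposite

namespace Groth.Agent.Helper9.PrinPart0

open OmegaSh PrinPart

section Basic

variable {X Y Z : Scheme.{u}}

theorem map_congr' (M : X.Modules) {A B : X.Opens} (i j : op A ⟶ op B) (x : Γ(M, A)) :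
    M.presheaf.map i x = M.presheaf.map j x := by
  rw [Subsingleton.elim i j]

theorem map_map' (M : X.Modules) {A B C : X.Opens} (i : op A ⟶ op B) (j : op B ⟶ op C)
    (k : op A ⟶ op C) (x : Γ(M, A)) :
    M.presheaf.map j (M.presheaf.map i x) = M.presheaf.map k x := by
  rw [← ConcreteCategory.comp_apply, ← Functor.map_comp, Subsingleton.elim (i ≫ j) k]

theorem map_self' (M : X.Modules) {A : X.Opens} (i : op A ⟶ op A) (x : Γ(M, A)) :
    M.presheaf.map i x = x := by
  rw [Subsingleton.elim i (𝟙 _), M.presheaf.map_id]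
  rfl

theorem map_bijective_of_eq (M : X.Modules) {A B : X.Opens} (h : A = B) (i : op A ⟶ op B) :
    Function.Bijective (M.presheaf.map i) := by
  subst h
  refine ⟨fun x y hxy => ?_, fun y => ⟨y, map_self' M i y⟩⟩
  rwa [map_self', map_self'] at hxy

theorem hom_naturality {M N : X.Modules} (φ : M ⟶ N) {U V : X.Opens} (i : op U ⟶ op V)
    (x : Γ(M, U)) :
    φ.app V (M.presheaf.map i x) = N.presheaf.map i (φ.app U x) := by
  have h := φ.mapPresheaf.naturality i
  exact congr($h x)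

theorem iso_hom_inv_app {M N : X.Modules} (e : M ≅ N) (U : X.Opens) (x : Γ(N, U)) :
    e.hom.app U (e.inv.app U x) = x := by
  rw [← ConcreteCategory.comp_apply, ← Scheme.Modules.Hom.comp_app, e.inv_hom_id]
  rfl

theorem iso_inv_hom_app {M N : X.Modules} (e : M ≅ N) (U : X.Opens) (x : Γ(M, U)) :
    e.inv.app U (e.hom.app U x) = x := by
  rw [← ConcreteCategory.comp_apply, ← Scheme.Modules.Hom.comp_app, e.hom_inv_id]
  rfl

theorem app_bijective_of_isIso {M N : X.Modules} (φ : M ⟶ N) [IsIso φ] (U : X.Opens) :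
    Function.Bijective (φ.app U) :=
  Function.bijective_iff_has_inverse.mpr
    ⟨(inv φ).app U, fun x => iso_inv_hom_app (asIso φ) U x,
      fun x => iso_hom_inv_app (asIso φ) U x⟩

theorem rFIP_hom_app (a : X ⟶ Y) [IsOpenImmersion a] (F : Y.Modules) (W : Y.Opens) (s : Γ(F, W)) :
    (((Scheme.Modules.restrictFunctorIsoPullback a).hom.app F).app (a ⁻¹ᵁ W)
      (F.presheaf.map (homOfLE (a.image_preimage_le W)).op s) :
        Γ((Scheme.Modules.pullback a).obj F, a ⁻¹ᵁ W)) = pullSect a F W s := by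
  have h1 := Adjunction.unit_leftAdjointUniq_hom_app (Scheme.Modules.restrictAdjunction a)
    (Scheme.Modules.pullbackPushforwardAdjunction a) F
  have h2 := congr($(congrArg (fun φ => Scheme.Modules.Hom.app φ W) h1) s)
  exact h2

/-- Pulling sections back along an isomorphism is bijective. -/
theorem pullSect_bijective (a : X ⟶ Y) [IsIso a] (F : Y.Modules) (W : Y.Opens) :
    Function.Bijective (pullSect a F W) := by
  have hW : W = a ''ᵁ (a ⁻¹ᵁ W) := by
    rw [Scheme.Hom.image_preimage_eq_opensRange_inf, Scheme.Hom.opensRange_of_isIso, top_inf_eq]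
  have h1 := map_bijective_of_eq F hW (homOfLE (a.image_preimage_le W)).op
  have h2 := app_bijective_of_isIso
    ((Scheme.Modules.restrictFunctorIsoPullback a).hom.app F) (a ⁻¹ᵁ W)
  have h3 : (fun s => pullSect a F W s) =
      fun s => (((Scheme.Modules.restrictFunctorIsoPullback a).hom.app F).app (a ⁻¹ᵁ W)
        (F.presheaf.map (homOfLE (a.image_preimage_le W)).op s) :
          Γ((Scheme.Modules.pullback a).obj F, a ⁻¹ᵁ W)) := by
    funext s
    exact (rFIP_hom_app a F W s).symm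
  change Function.Bijective (fun s => pullSect a F W s)
  rw [h3]
  exact h2.comp h1

theorem pullbackComp_inv_app (f : X ⟶ Y) (g : Y ⟶ Z) (G : Z.Modules) (V : Z.Opens) (m : Γ(G, V)) :
    (((Scheme.Modules.pullbackComp f g).inv.app G).app ((f ≫ g) ⁻¹ᵁ V)
      (pullSect (f ≫ g) G V m) :
        Γ((Scheme.Modules.pullback f).obj ((Scheme.Modules.pullback g).obj G), f ⁻¹ᵁ (g ⁻¹ᵁ V))) =
      pullSect f ((Scheme.Modules.pullback g).obj G) (g ⁻¹ᵁ V) (pullSect g G V m) := by
  have h1 := unit_conjugateEquiv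
    ((Scheme.Modules.pullbackPushforwardAdjunction g).comp
      (Scheme.Modules.pullbackPushforwardAdjunction f))
    (Scheme.Modules.pullbackPushforwardAdjunction (f ≫ g))
    (Scheme.Modules.pullbackComp f g).inv G
  rw [Scheme.Modules.conjugateEquiv_pullbackComp_inv] at h1
  have h2 := congr($(congrArg (fun φ => Scheme.Modules.Hom.app φ V) h1) m)
  exact h2.symm

theorem pullbackComp_hom_app (f : X ⟶ Y) (g : Y ⟶ Z) (G : Z.Modules) (V : Z.Opens) (m : Γ(G, V)) :
    ((Scheme.Modules.pullbackComp f g).hom.app G).app (f ⁻¹ᵁ (g ⁻¹ᵁ V))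
      (pullSect f ((Scheme.Modules.pullback g).obj G) (g ⁻¹ᵁ V) (pullSect g G V m)) =
      pullSect (f ≫ g) G V m := by
  rw [← pullbackComp_inv_app f g G V m]
  exact iso_hom_inv_app ((Scheme.Modules.pullbackComp f g).app G) _ _

theorem pullbackCongr_hom_app {p q : X ⟶ Y} (h : p = q) (G : Y.Modules) (V : Y.Opens) (m : Γ(G, V))
    (hle : p ⁻¹ᵁ V ≤ q ⁻¹ᵁ V) :
    ((Scheme.Modules.pullbackCongr h).hom.app G).app (p ⁻¹ᵁ V) (pullSect p G V m) =
      ((Scheme.Modules.pullback q).obj G).presheaf.map (homOfLE hle).op (pullSect q G V m) := by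
  subst h
  have h1 : (Scheme.Modules.pullbackCongr (rfl : p = p)).hom.app G = 𝟙 _ := by
    simp [Scheme.Modules.pullbackCongr]
  rw [h1]
  have h2 : (homOfLE hle).op = 𝟙 (op (p ⁻¹ᵁ V)) := rfl
  rw [h2, CategoryTheory.Functor.map_id]
  rfl

end Basic

section General

variable {A B X : Scheme.{u}} (w : A ⟶ B) (p q : B ⟶ X) (p' q' : A ⟶ X)
  (hp : w ≫ p = p') (hq : w ≫ q = q') (F : X.Modules)

/-- The map `p_* q^* F ⟶ p'_* q'^* F` induced by `w` with `w ≫ p = p'`, `w ≫ q = q'`. -/
noncomputable def rhoG :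
    (Scheme.Modules.pushforward p).obj ((Scheme.Modules.pullback q).obj F) ⟶
      (Scheme.Modules.pushforward p').obj ((Scheme.Modules.pullback q').obj F) :=
  (Scheme.Modules.pushforward p).map
      ((Scheme.Modules.pullbackPushforwardAdjunction w).unit.app
        ((Scheme.Modules.pullback q).obj F)) ≫
    (Scheme.Modules.pushforwardComp w p).hom.app _ ≫
    (Scheme.Modules.pushforwardCongr hp).hom.app _ ≫
    (Scheme.Modules.pushforward p').map
      ((Scheme.Modules.pullbackComp w q).hom.app F ≫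
        (Scheme.Modules.pullbackCongr hq).hom.app F)

theorem rhoG_app (U : X.Opens) (e : p ⁻¹ᵁ U ≤ q ⁻¹ᵁ U) (e' : p' ⁻¹ᵁ U ≤ q' ⁻¹ᵁ U) (t : Γ(F, U)) :
    (rhoG w p q p' q' hp hq F).app U
      (((Scheme.Modules.pullback q).obj F).presheaf.map (homOfLE e).op (pullSect q F U t)) =
    ((Scheme.Modules.pullback q').obj F).presheaf.map (homOfLE e').op (pullSect q' F U t) := by
  subst hp hq
  obtain ⟨k, hk⟩ : ∃ k : op (w ⁻¹ᵁ (p ⁻¹ᵁ U)) ⟶ op ((w ≫ p) ⁻¹ᵁ U),
      ∀ x : Γ((Scheme.Modules.pullback q).obj F, p ⁻¹ᵁ U),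
      (rhoG w p q (w ≫ p) (w ≫ q) rfl rfl F).app U x =
        ((Scheme.Modules.pullbackCongr (rfl : w ≫ q = w ≫ q)).hom.app F).app ((w ≫ p) ⁻¹ᵁ U)
          (((Scheme.Modules.pullbackComp w q).hom.app F).app ((w ≫ p) ⁻¹ᵁ U)
            (((Scheme.Modules.pullback w).obj ((Scheme.Modules.pullback q).obj F)).presheaf.map k
              (pullSect w ((Scheme.Modules.pullback q).obj F) (p ⁻¹ᵁ U) x))) :=
    ⟨_, fun x => rfl⟩
  rw [hk, pullSect_map, map_map' _ _ _ (homOfLE (show (w ≫ p) ⁻¹ᵁ U ≤ w ⁻¹ᵁ (q ⁻¹ᵁ U) from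
    w.preimage_mono e)).op]
  have n1 := hom_naturality
    (M := (Scheme.Modules.pullback w).obj ((Scheme.Modules.pullback q).obj F))
    ((Scheme.Modules.pullbackComp w q).hom.app F)
    (homOfLE (show (w ≫ p) ⁻¹ᵁ U ≤ w ⁻¹ᵁ (q ⁻¹ᵁ U) from w.preimage_mono e)).op
    (pullSect w ((Scheme.Modules.pullback q).obj F) (q ⁻¹ᵁ U) (pullSect q F U t))
  rw [n1, pullbackComp_hom_app]
  have n2 := hom_naturality
    ((Scheme.Modules.pullbackCongr (rfl : w ≫ q = w ≫ q)).hom.app F)
    (homOfLE (show (w ≫ p) ⁻¹ᵁ U ≤ (w ≫ q) ⁻¹ᵁ U from e')).op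
    (pullSect (w ≫ q) F U t)
  refine n2.trans ?_
  rw [pullbackCongr_hom_app rfl F U t le_rfl, map_map' _ _ _ (homOfLE e').op]

end General

section Diag

variable {X S : Scheme.{u}} (f : X ⟶ S)

theorem isIso_inclusion_of_eq {I J : X.IdealSheafData} (h : I ≤ J) (e : I = J) :
    IsIso (Scheme.IdealSheafData.inclusion h) := by
  subst e
  have : Scheme.IdealSheafData.inclusion h = 𝟙 _ := Scheme.IdealSheafData.inclusion_id I
  rw [this]
  infer_instance

theorem isIso_toInfNbhd_zero {Y : Scheme.{u}} (i : Y ⟶ X) [IsClosedImmersion i] :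
    IsIso (toInfNbhd i 0) := by
  have : IsIso (Scheme.IdealSheafData.inclusion (ker_pow_succ_le i 0)) :=
    isIso_inclusion_of_eq _ (pow_one _)
  unfold toInfNbhd
  infer_instance

instance isIso_toNbhd_zero : IsIso (toNbhd f 0) := isIso_toInfNbhd_zero (diagCl f)

instance isIso_pr2_zero : IsIso (pr2 f 0) := by
  have h : IsIso (toNbhd f 0 ≫ pr2 f 0) := by
    rw [toNbhd_pr2]; infer_instance
  exact IsIso.of_isIso_comp_left (toNbhd f 0) (pr2 f 0)

theorem pr2_eq_pr1_zero : pr2 f 0 = pr1 f 0 := by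
  rw [← cancel_epi (toNbhd f 0), toNbhd_pr1, toNbhd_pr2]

/-- `d^0 : F → P^0(F)` is bijective on sections. -/
theorem dP_zero_bijective (F : X.Modules) (U : X.Opens) :
    Function.Bijective (dP f 0 F U) := by
  have h1 : Function.Bijective (pullSect (pr2 f 0) F U) := pullSect_bijective _ F U
  have h2 := map_bijective_of_eq ((Scheme.Modules.pullback (pr2 f 0)).obj F)
    (preimage_pr1 f 0 U).symm (homOfLE (preimage_pr1 f 0 U).le).op
  exact h2.comp h1

end Diag

end Groth.Agent.Helper9.PrinPart0
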