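import Mathlib
import Groth.Prelude.Def_OmegaPn
import Groth.Agent.Lib.Helper9.PrinPart0
import Groth.Agent.Lib.Helper9.PrinPart2
import Groth.Agent.Lib.Helper13.PbUnit
import Groth.Agent.Lib.Helper13.PbGen
import Groth.Agent.Lib.Helper18.ConormalImm

/-!
# Principal parts: sections over affine opens of the product (core lemma)
-/

set_option autoImplicit false
set_option linter.unusedSectionVars false
set_option backward.isDefEq.respectTransparency false
universe u
open CategoryTheory CategoryTheory.Limits AlgebraicGeometry TopologicalSpace Opposite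

namespace Groth.Agent.Helper9.PrinPart9

open OmegaSh PrinPart Groth.Agent.Helper9.PrinPart0 Groth.Agent.Helper13

section Ring

theorem mem_ker_pow_iff {R R' S S' : Type*} [CommRing R] [CommRing R'] [CommRing S] [CommRing S']
    (e : R ≃+* R') (g : R →+* S) (g' : R' →+* S') (h : ∀ x, g x = 0 ↔ g' (e x) = 0) (n : ℕ)
    (x : R) : x ∈ (RingHom.ker g) ^ n ↔ e x ∈ (RingHom.ker g') ^ n := by
  have h1 : RingHom.ker g = (RingHom.ker g').comap e := by
    ext y
    rw [Ideal.mem_comap, RingHom.mem_ker, RingHom.mem_ker]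
    exact h y
  have h2 : ((RingHom.ker g').comap e) ^ n = ((RingHom.ker g') ^ n).comap e := by
    rw [← Ideal.map_symm, ← Ideal.map_symm, Ideal.map_pow]
  rw [h1, h2, Ideal.mem_comap]

end Ring

section Unit

variable {X Y : Scheme.{u}} (g : X ⟶ Y)

theorem pullbackUnitHom_app_pullSect (U : Y.Opens) (c : Γ(Y, U)) :
    (PbUnit.pullbackUnitHom g).app (g ⁻¹ᵁ U)
      (pullSect g (Coh.structureModule Y) U (strSect Y U c)) =
        strSect X (g ⁻¹ᵁ U) (g.app U c) := by
  have h3 : (Scheme.Modules.pullbackPushforwardAdjunction g).homEquiv _ _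
      (PbUnit.pullbackUnitHom g) = SheafOfModules.unitToPushforwardObjUnit g.toRingCatSheafHom :=
    SheafOfModules.pullbackPushforwardAdjunction_homEquiv_pullbackObjUnitToUnit _
  have h4 := PbGen.homEquiv_app g (Coh.structureModule Y) (PbUnit.pullbackUnitHom g) U
    (strSect Y U c)
  rw [h3] at h4
  exact h4.symm.trans rfl

end Unit

section Theta

variable {X S : Scheme.{u}} (f : X ⟶ S) (n : ℕ)

/-- sections of `P^n` over `U` as functions on the infinitesimal neighbourhood. -/
noncomputable def theta (U : X.Opens) : Γ(P f n, U) →+ Γ(nbhd f n, pr1 f n ⁻¹ᵁ U) :=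
  (fnSect (nbhd f n) (pr1 f n ⁻¹ᵁ U)).comp
    ((PbUnit.pullbackUnitHom (pr2 f n)).app (pr1 f n ⁻¹ᵁ U)).hom

theorem theta_bijective (U : X.Opens) : Function.Bijective (theta f n U) :=
  app_bijective_of_isIso (PbUnit.pullbackUnitHom (pr2 f n)) (pr1 f n ⁻¹ᵁ U)

theorem theta_smul (U : X.Opens) (a : Γ(X, U)) (y : Γ(P f n, U)) :
    theta f n U (a • y) = (pr1 f n).app U a * theta f n U y := by
  have h := Scheme.Modules.Hom.app_smul (PbUnit.pullbackUnitHom (pr2 f n)) ((pr1 f n).app U a)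
    (show Γ((Scheme.Modules.pullback (pr2 f n)).obj (Coh.structureModule X), pr1 f n ⁻¹ᵁ U) from y)
  exact h

theorem theta_dn (U : X.Opens) (c : Γ(X, U)) :
    theta f n U (dn f n U c) =
      (pr2 f n).appLE U (pr1 f n ⁻¹ᵁ U) (preimage_pr1 f n U).le c := by
  have h1 := hom_naturality (PbUnit.pullbackUnitHom (pr2 f n))
    (homOfLE (preimage_pr1 f n U).le).op
    (pullSect (pr2 f n) (Coh.structureModule X) U (strSect X U c))
  rw [pullbackUnitHom_app_pullSect] at h1
  exact h1

end Theta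

section Core

variable {X S : Scheme.{u}} (f : X ⟶ S) (n : ℕ)

theorem nbhdι_app_surjective {Q : (pullback f f).Opens} (hQ : IsAffineOpen Q)
    (hQW : Q ≤ (pullback.diagonal f).coborderRange) :
    Function.Surjective ((nbhdι f n).app Q) := by
  have hQ' : IsAffineOpen ((pullback.diagonal f).coborderRange.ι ⁻¹ᵁ Q) :=
    Helper18.ConormalImm.isAffineOpen_preimage_coborder _ hQ hQW
  have h1 : Function.Surjective
      ((infNbhdι (diagCl f) n).app ((pullback.diagonal f).coborderRange.ι ⁻¹ᵁ Q)) :=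
    Scheme.IdealSheafData.subschemeι_app_surjective _ ⟨_, hQ'⟩
  haveI : IsIso ((pullback.diagonal f).coborderRange.ι.app Q) :=
    Scheme.Hom.isIso_app _ Q (by rw [Scheme.Opens.opensRange_ι]; exact hQW)
  have h2 : Function.Surjective ((pullback.diagonal f).coborderRange.ι.app Q) :=
    ((ConcreteCategory.isIso_iff_bijective _).1 inferInstance).2
  intro y
  obtain ⟨x, hx⟩ := h1 y
  obtain ⟨q, hq⟩ := h2 x
  refine ⟨q, ?_⟩
  rw [← hx, ← hq]
  rfl

theorem nbhdι_app_eq_zero_iff {Q : (pullback f f).Opens} (hQ : IsAffineOpen Q)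
    (hQW : Q ≤ (pullback.diagonal f).coborderRange) (q : Γ(pullback f f, Q)) :
    (nbhdι f n).app Q q = 0 ↔
      q ∈ RingHom.ker ((pullback.diagonal f).app Q).hom ^ (n + 1) := by
  have hQ' : IsAffineOpen ((pullback.diagonal f).coborderRange.ι ⁻¹ᵁ Q) :=
    Helper18.ConormalImm.isAffineOpen_preimage_coborder _ hQ hQW
  haveI : IsIso ((pullback.diagonal f).coborderRange.ι.app Q) :=
    Scheme.Hom.isIso_app _ Q (by rw [Scheme.Opens.opensRange_ι]; exact hQW)
  let e : Γ(pullback f f, Q) ≃+*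
      Γ((pullback.diagonal f).coborderRange, (pullback.diagonal f).coborderRange.ι ⁻¹ᵁ Q) :=
    (asIso ((pullback.diagonal f).coborderRange.ι.app Q)).commRingCatIsoToRingEquiv
  have he : ∀ x, e x = (pullback.diagonal f).coborderRange.ι.app Q x := fun _ => rfl
  -- the kernel of the closed immersion of the neighbourhood
  have hk : RingHom.ker ((infNbhdι (diagCl f) n).app
      ((pullback.diagonal f).coborderRange.ι ⁻¹ᵁ Q)).hom =
      RingHom.ker ((diagCl f).app ((pullback.diagonal f).coborderRange.ι ⁻¹ᵁ Q)).hom ^ (n + 1) := by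
    have h1 := Scheme.IdealSheafData.ker_subschemeι_app ((diagCl f).ker ^ (n + 1)) ⟨_, hQ'⟩
    have h2 : ((diagCl f).ker ^ (n + 1)).ideal ⟨_, hQ'⟩ = ((diagCl f).ker.ideal ⟨_, hQ'⟩) ^ (n + 1) :=
      rfl
    have h3 := Scheme.Hom.ker_apply (diagCl f) ⟨_, hQ'⟩
    rw [h2, h3] at h1
    exact h1
  -- compare the diagonal with its coborder lift
  have hΔ : ∀ x, ((pullback.diagonal f).app Q).hom x = 0 ↔
      ((diagCl f).app ((pullback.diagonal f).coborderRange.ι ⁻¹ᵁ Q)).hom (e x) = 0 := by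
    intro x
    have h1 := Scheme.Hom.congr_app ((pullback.diagonal f).liftCoborder_ι).symm Q
    have h2 : (pullback.diagonal f).app Q x = (X.presheaf.map (eqToHom
        (by rw [(pullback.diagonal f).liftCoborder_ι] :
          (pullback.diagonal f) ⁻¹ᵁ Q =
            ((pullback.diagonal f).liftCoborder ≫ (pullback.diagonal f).coborderRange.ι) ⁻¹ᵁ Q)).op)
        ((diagCl f).app ((pullback.diagonal f).coborderRange.ι ⁻¹ᵁ Q) (e x)) := by
      rw [h1]
      rfl
    have hinj : Function.Injective (X.presheaf.map (eqToHom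
        (by rw [(pullback.diagonal f).liftCoborder_ι] :
          (pullback.diagonal f) ⁻¹ᵁ Q =
            ((pullback.diagonal f).liftCoborder ≫ (pullback.diagonal f).coborderRange.ι) ⁻¹ᵁ Q)).op) :=
      ((ConcreteCategory.isIso_iff_bijective _).1 inferInstance).1
    change (pullback.diagonal f).app Q x = 0 ↔ _
    rw [h2]
    constructor
    · intro h
      apply hinj
      rw [h, map_zero]
    · intro h
      change (diagCl f).app _ (e x) = 0 at h
      rw [h, map_zero]
  have key := mem_ker_pow_iff e ((pullback.diagonal f).app Q).hom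
    ((diagCl f).app ((pullback.diagonal f).coborderRange.ι ⁻¹ᵁ Q)).hom hΔ (n + 1) q
  rw [key, ← hk, RingHom.mem_ker]
  rfl

theorem nbhdι_appLE_surjective {Q : (pullback f f).Opens} (hQ : IsAffineOpen Q)
    (hQW : Q ≤ (pullback.diagonal f).coborderRange) (Z : (nbhd f n).Opens)
    (hZ : Z = nbhdι f n ⁻¹ᵁ Q) :
    Function.Surjective ((nbhdι f n).appLE Q Z hZ.le) := by
  subst hZ
  rw [Scheme.Hom.appLE_eq_app]
  exact nbhdι_app_surjective f n hQ hQW

theorem nbhdι_appLE_eq_zero_iff {Q : (pullback f f).Opens} (hQ : IsAffineOpen Q)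
    (hQW : Q ≤ (pullback.diagonal f).coborderRange) (Z : (nbhd f n).Opens)
    (hZ : Z = nbhdι f n ⁻¹ᵁ Q) (q : Γ(pullback f f, Q)) :
    (nbhdι f n).appLE Q Z hZ.le q = 0 ↔
      q ∈ RingHom.ker ((pullback.diagonal f).app Q).hom ^ (n + 1) := by
  subst hZ
  rw [Scheme.Hom.appLE_eq_app]
  exact nbhdι_app_eq_zero_iff f n hQ hQW q

/-- when the diagonal is a closed immersion its coborder is everything. -/
theorem coborderRange_eq_top [IsClosedImmersion (pullback.diagonal f)] :
    (pullback.diagonal f).coborderRange = ⊤ := by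
  apply Opens.ext
  exact (pullback.diagonal f).isClosedEmbedding.isClosed_range.coborder_eq

theorem pr1_appLE (U : X.Opens) (Q : (pullback f f).Opens) (hU : Q ≤ pullback.fst f f ⁻¹ᵁ U)
    (Z : (nbhd f n).Opens) (hZ : Z ≤ nbhdι f n ⁻¹ᵁ Q) (hZ' : Z ≤ pr1 f n ⁻¹ᵁ U) :
    (pullback.fst f f).appLE U Q hU ≫ (nbhdι f n).appLE Q Z hZ = (pr1 f n).appLE U Z hZ' :=
  Scheme.Hom.appLE_comp_appLE _ _ _ _ _ _ _

theorem pr2_appLE (U : X.Opens) (Q : (pullback f f).Opens) (hU : Q ≤ pullback.snd f f ⁻¹ᵁ U)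
    (Z : (nbhd f n).Opens) (hZ : Z ≤ nbhdι f n ⁻¹ᵁ Q) (hZ' : Z ≤ pr2 f n ⁻¹ᵁ U) :
    (pullback.snd f f).appLE U Q hU ≫ (nbhdι f n).appLE Q Z hZ = (pr2 f n).appLE U Z hZ' :=
  Scheme.Hom.appLE_comp_appLE _ _ _ _ _ _ _

end Core

end Groth.Agent.Helper9.PrinPart9
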