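import Mathlib
import Groth.Prelude.Def_OmegaPn
import Groth.Agent.Lib.Helper9.PrinPart9
import Groth.Agent.Lib.Helper13.SubSheaf
import Groth.Agent.Lib.Helper18.OmegaSec

/-!
# Principal parts: `P^n(F)` is generated by the image of `d^n`
-/

set_option autoImplicit false
set_option linter.unusedSectionVars false
set_option backward.isDefEq.respectTransparency false
universe u
open CategoryTheory CategoryTheory.Limits AlgebraicGeometry TopologicalSpace Opposite TensorProduct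

namespace Groth.Agent.Helper9.PrinPart11

open OmegaSh PrinPart Groth.Agent.Helper9.PrinPart0 Groth.Agent.Helper9.PrinPart2
  Groth.Agent.Helper9.PrinPart9 Groth.Agent.Helper13 Groth.Agent.Helper18.OmegaSec

section Loc

variable {X : Scheme.{u}}

theorem eq_of_locally (G : X.Modules) (U : X.Opens) (g1 g2 : Γ(G, U))
    (h : ∀ x ∈ U, ∃ (U' : X.Opens) (hU' : U' ≤ U), x ∈ U' ∧
      G.presheaf.map (homOfLE hU').op g1 = G.presheaf.map (homOfLE hU').op g2) : g1 = g2 := by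
  have h' : ∀ x : U, ∃ (U' : X.Opens) (hU' : U' ≤ U), x.1 ∈ U' ∧
      G.presheaf.map (homOfLE hU').op g1 = G.presheaf.map (homOfLE hU').op g2 :=
    fun x => h x.1 x.2
  choose W hW hxW hg using h'
  refine TopCat.Sheaf.eq_of_locally_eq' ⟨G.presheaf, G.isSheaf⟩ W U
    (fun x => homOfLE (hW x)) ?_ g1 g2 ?_
  · intro x hx
    exact Opens.mem_iSup.2 ⟨⟨x, hx⟩, hxW ⟨x, hx⟩⟩
  · intro x
    exact hg x

end Loc

section K1

variable {X S : Scheme.{u}} (f : X ⟶ S) (n : ℕ)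

theorem diag_appLE_surj (U : X.Opens) :
    Function.Surjective ((pullback.diagonal f).appLE (WD f U) U (le_diag_preimage f U)) :=
  fun a => ⟨(pullback.fst f f).appLE U (WD f U) inf_le_left a, congr($(fst_appLE_diag f U) a)⟩

theorem range_morphismRestrict {X Y : Scheme.{u}} (g : X ⟶ Y) (Q : Y.Opens) :
    Set.range (g ∣_ Q) = Subtype.val ⁻¹' Set.range g := by
  ext ⟨y, hy⟩
  constructor
  · rintro ⟨x, hx⟩
    refine ⟨x.1, ?_⟩
    have h := morphismRestrict_base_coe g Q x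
    rw [hx] at h
    exact h.symm
  · rintro ⟨x, hx⟩
    have hx' : g x = y := hx
    have hxQ : x ∈ g ⁻¹ᵁ Q := by
      show g x ∈ Q
      rw [hx']
      exact hy
    refine ⟨⟨x, hxQ⟩, Subtype.ext ?_⟩
    rw [morphismRestrict_base_coe]
    exact hx'

theorem WD_le_coborderRange {U : X.Opens} {V : S.Opens} (hU : IsAffineOpen U)
    (hV : IsAffineOpen V) (e : U ≤ f ⁻¹ᵁ V) :
    WD f U ≤ (pullback.diagonal f).coborderRange := by
  have hQ : IsAffineOpen (WD f U) := isAffineOpen_WD f hU hV e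
  haveI : IsAffine ((WD f U : (pullback f f).Opens) : Scheme) := hQ
  have hU' : IsAffineOpen ((pullback.diagonal f) ⁻¹ᵁ (WD f U)) := by
    rw [diag_preimage_WD]
    exact hU
  haveI : IsAffine (((pullback.diagonal f) ⁻¹ᵁ (WD f U) : X.Opens) : Scheme) := hU'
  have hs : Function.Surjective ((pullback.diagonal f ∣_ WD f U).appTop) := by
    have h0 := diag_appLE_surj f U
    have h1 := (Scheme.Hom.appLE_congr (pullback.diagonal f) (le_diag_preimage f U)
      (Scheme.Opens.ι_image_top (WD f U)).symm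
      (show U = ((pullback.diagonal f) ⁻¹ᵁ (WD f U)).ι ''ᵁ
          ((pullback.diagonal f ∣_ WD f U) ⁻¹ᵁ ⊤) by
        rw [Scheme.Hom.preimage_top, Scheme.Opens.ι_image_top, diag_preimage_WD])
      (fun φ => Function.Surjective φ)).1 h0
    show Function.Surjective ((pullback.diagonal f ∣_ WD f U).app ⊤)
    rw [morphismRestrict_app']
    exact h1
  haveI : IsClosedImmersion (pullback.diagonal f ∣_ WD f U) :=
    IsClosedImmersion.of_surjective_of_isAffine _ hs
  have hcl : IsClosed ((Subtype.val : ↥(WD f U) → ↥(pullback f f)) ⁻¹'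
      Set.range (pullback.diagonal f)) := by
    rw [← range_morphismRestrict]
    exact (pullback.diagonal f ∣_ WD f U).isClosedEmbedding.isClosed_range
  have h2 := ((WD f U).isOpen.isOpenEmbedding_subtypeVal).coborder_preimage
    (Set.range (pullback.diagonal f))
  have h2' : (Set.univ : Set ↥(WD f U)) = (Subtype.val : ↥(WD f U) → ↥(pullback f f)) ⁻¹'
      coborder (Set.range (pullback.diagonal f)) := hcl.coborder_eq.symm.trans h2
  intro x hx
  have h3 : (⟨x, hx⟩ : ↥(WD f U)) ∈ (Subtype.val : ↥(WD f U) → ↥(pullback f f)) ⁻¹'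
      coborder (Set.range (pullback.diagonal f)) := by
    rw [← h2']
    exact Set.mem_univ _
  exact h3

theorem preimage_WD (U : X.Opens) : pr1 f n ⁻¹ᵁ U = nbhdι f n ⁻¹ᵁ (WD f U) := by
  ext x
  have h2 : x ∈ pr2 f n ⁻¹ᵁ U ↔ x ∈ pr1 f n ⁻¹ᵁ U := by rw [preimage_pr1]
  constructor
  · intro h
    exact ⟨h, h2.2 h⟩
  · intro h
    exact h.1

/-- products `fst^#(b) · snd^#(b')` on `U ×_V U`. -/
def prodSetWD (U : X.Opens) : Set Γ(pullback f f, WD f U) :=
  {q' | ∃ b b' : Γ(X, U), q' = (pullback.fst f f).appLE U (WD f U) inf_le_left b *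
    (pullback.snd f f).appLE U (WD f U) inf_le_right b'}

theorem mem_closure_WD {U : X.Opens} {V : S.Opens} (hU : IsAffineOpen U) (hV : IsAffineOpen V)
    (e : U ≤ f ⁻¹ᵁ V) (q : Γ(pullback f f, WD f U)) :
    q ∈ AddSubgroup.closure (prodSetWD f U) := by
  letI := algUV f e
  have hl : CommRingCat.ofHom (Algebra.TensorProduct.includeLeftRingHom :
      Γ(X, U) →+* Γ(X, U) ⊗[Γ(S, V)] Γ(X, U)) ≫ (betaIso f hU hV e).inv =
      (pullback.fst f f).appLE U (WD f U) inf_le_left := by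
    unfold betaIso
    exact IsPushout.inl_isoIsPushout_inv _ _ _ _
  have hr : CommRingCat.ofHom (Algebra.TensorProduct.includeRight.toRingHom :
      Γ(X, U) →+* Γ(X, U) ⊗[Γ(S, V)] Γ(X, U)) ≫ (betaIso f hU hV e).inv =
      (pullback.snd f f).appLE U (WD f U) inf_le_right := by
    unfold betaIso
    exact IsPushout.inr_isoIsPushout_inv _ _ _ _
  have key : ∀ τ : Γ(X, U) ⊗[Γ(S, V)] Γ(X, U),
      (betaIso f hU hV e).inv τ ∈ AddSubgroup.closure (prodSetWD f U) := by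
    intro τ
    induction τ using TensorProduct.induction_on with
    | zero =>
      rw [map_zero]
      exact AddSubgroup.zero_mem _
    | tmul b b' =>
      apply AddSubgroup.subset_closure
      refine ⟨b, b', ?_⟩
      have h1 : (b ⊗ₜ[Γ(S, V)] b' : Γ(X, U) ⊗[Γ(S, V)] Γ(X, U)) =
          (b ⊗ₜ[Γ(S, V)] 1) * (1 ⊗ₜ[Γ(S, V)] b') := by
        rw [Algebra.TensorProduct.tmul_mul_tmul, mul_one, one_mul]
      rw [h1, map_mul, ← hl, ← hr]
      rfl
    | add x y hx hy =>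
      rw [map_add]
      exact AddSubgroup.add_mem _ hx hy
  have h := key ((betaIso f hU hV e).hom q)
  rwa [Iso.hom_inv_id_apply] at h

/-- products `p1^#(b) · p2^#(b')` on the infinitesimal neighbourhood. -/
def prodSet (U : X.Opens) : Set Γ(nbhd f n, pr1 f n ⁻¹ᵁ U) :=
  {r' | ∃ b b' : Γ(X, U), r' = (pr1 f n).app U b *
    (pr2 f n).appLE U (pr1 f n ⁻¹ᵁ U) (preimage_pr1 f n U).le b'}

theorem K1 {U : X.Opens} {V : S.Opens} (hU : IsAffineOpen U) (hV : IsAffineOpen V)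
    (e : U ≤ f ⁻¹ᵁ V) (r : Γ(nbhd f n, pr1 f n ⁻¹ᵁ U)) :
    r ∈ AddSubgroup.closure (prodSet f n U) := by
  have hQ := isAffineOpen_WD f hU hV e
  have hQW := WD_le_coborderRange f hU hV e
  have hZ := preimage_WD f n U
  obtain ⟨q, rfl⟩ := nbhdι_appLE_surjective f n hQ hQW _ hZ r
  have hq := mem_closure_WD f hU hV e q
  refine AddSubgroup.closure_induction
    (p := fun q _ => (nbhdι f n).appLE (WD f U) (pr1 f n ⁻¹ᵁ U) hZ.le q ∈
      AddSubgroup.closure (prodSet f n U)) ?_ ?_ ?_ ?_ hq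
  · rintro _ ⟨b, b', rfl⟩
    apply AddSubgroup.subset_closure
    refine ⟨b, b', ?_⟩
    rw [map_mul]
    have h1 := pr1_appLE f n U (WD f U) inf_le_left (pr1 f n ⁻¹ᵁ U) hZ.le le_rfl
    have h2 := pr2_appLE f n U (WD f U) inf_le_right (pr1 f n ⁻¹ᵁ U) hZ.le
      (preimage_pr1 f n U).le
    rw [Scheme.Hom.appLE_eq_app] at h1
    rw [← h1, ← h2]
    rfl
  · rw [map_zero]
    exact AddSubgroup.zero_mem _
  · intro x y _ _ hx hy
    rw [map_add]
    exact AddSubgroup.add_mem _ hx hy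
  · intro x _ hx
    rw [map_neg]
    exact AddSubgroup.neg_mem _ hx

end K1

section Gen

variable {X S : Scheme.{u}} (f : X ⟶ S) (n : ℕ) (F G : X.Modules)

/-- `p2^* F` on the infinitesimal neighbourhood. -/
noncomputable abbrev M2 : (nbhd f n).Modules := (Scheme.Modules.pullback (pr2 f n)).obj F

/-- multiply a section of `p2^* F` over `p1⁻¹ U'` by a function on the neighbourhood and regard the
result as a section of `P^n(F)` over `U'`. -/
noncomputable def rsm (U' : X.Opens) (r : Γ(nbhd f n, pr1 f n ⁻¹ᵁ U'))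
    (y : Γ(M2 f n F, pr1 f n ⁻¹ᵁ U')) : Γ(PMod f n F, U') :=
  (show Γ(M2 f n F, pr1 f n ⁻¹ᵁ U') from r • y)

theorem rsm_add (U' : X.Opens) (r : Γ(nbhd f n, pr1 f n ⁻¹ᵁ U'))
    (y y' : Γ(M2 f n F, pr1 f n ⁻¹ᵁ U')) :
    rsm f n F U' r (y + y') = rsm f n F U' r y + rsm f n F U' r y' :=
  smul_add r y y'

theorem rsm_zero (U' : X.Opens) (r : Γ(nbhd f n, pr1 f n ⁻¹ᵁ U')) :
    rsm f n F U' r (0 : Γ(M2 f n F, pr1 f n ⁻¹ᵁ U')) = 0 :=
  (smul_zero r : r • (0 : Γ(M2 f n F, pr1 f n ⁻¹ᵁ U')) = 0)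

theorem rsm_smul_right (U' : X.Opens) (r ρ : Γ(nbhd f n, pr1 f n ⁻¹ᵁ U'))
    (y : Γ(M2 f n F, pr1 f n ⁻¹ᵁ U')) :
    rsm f n F U' r (ρ • y) = rsm f n F U' (r * ρ) y :=
  (mul_smul r ρ y).symm

theorem rsm_one (U' : X.Opens) (y : Γ(M2 f n F, pr1 f n ⁻¹ᵁ U')) :
    rsm f n F U' 1 y = (show Γ(PMod f n F, U') from y) :=
  one_smul _ y

theorem rsm_add_left (U' : X.Opens) (r r' : Γ(nbhd f n, pr1 f n ⁻¹ᵁ U'))
    (y : Γ(M2 f n F, pr1 f n ⁻¹ᵁ U')) :
    rsm f n F U' (r + r') y = rsm f n F U' r y + rsm f n F U' r' y :=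
  add_smul r r' y

theorem rsm_zero_left (U' : X.Opens) (y : Γ(M2 f n F, pr1 f n ⁻¹ᵁ U')) :
    rsm f n F U' 0 y = 0 :=
  zero_smul _ y

theorem rsm_neg_left (U' : X.Opens) (r : Γ(nbhd f n, pr1 f n ⁻¹ᵁ U'))
    (y : Γ(M2 f n F, pr1 f n ⁻¹ᵁ U')) :
    rsm f n F U' (-r) y = -rsm f n F U' r y :=
  neg_smul r y

theorem rsm_mul_pr1 (U' : X.Opens) (b : Γ(X, U')) (r : Γ(nbhd f n, pr1 f n ⁻¹ᵁ U'))
    (y : Γ(M2 f n F, pr1 f n ⁻¹ᵁ U')) :
    rsm f n F U' ((pr1 f n).app U' b * r) y = b • rsm f n F U' r y :=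
  mul_smul ((pr1 f n).app U' b) r y

theorem rsm_res {U' U'' : X.Opens} (e : U'' ≤ U') (r : Γ(nbhd f n, pr1 f n ⁻¹ᵁ U'))
    (y : Γ(M2 f n F, pr1 f n ⁻¹ᵁ U')) :
    (PMod f n F).presheaf.map (homOfLE e).op (rsm f n F U' r y) =
      rsm f n F U'' ((nbhd f n).presheaf.map (homOfLE ((pr1 f n).preimage_mono e)).op r)
        ((M2 f n F).presheaf.map (homOfLE ((pr1 f n).preimage_mono e)).op y) :=
  Scheme.Modules.map_smul (M2 f n F) (homOfLE ((pr1 f n).preimage_mono e)) r y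

theorem rsm_pr2_pullSect (U' : X.Opens) (b' : Γ(X, U')) (t : Γ(F, U')) :
    rsm f n F U' ((pr2 f n).appLE U' (pr1 f n ⁻¹ᵁ U') (preimage_pr1 f n U').le b')
      ((M2 f n F).presheaf.map (homOfLE (preimage_pr1 f n U').le).op
        (pullSect (pr2 f n) F U' t)) = dP f n F U' (b' • t) := by
  rw [dP_apply, pullSect_smul]
  exact (Scheme.Modules.map_smul (M2 f n F) (homOfLE (preimage_pr1 f n U').le)
    ((pr2 f n).app U' b') (pullSect (pr2 f n) F U' t)).symm

/-- sections of `p2^* F` on which `a` and `b` agree after multiplication by any function. -/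
noncomputable def eqSub (a b : PMod f n F ⟶ G) :
    PresheafOfModules.Submodule (M2 f n F).val where
  obj Z :=
    { carrier := {s | ∀ (U' : X.Opens) (h : pr1 f n ⁻¹ᵁ U' ≤ Z.unop)
        (r : Γ(nbhd f n, pr1 f n ⁻¹ᵁ U')),
        a.app U' (rsm f n F U' r ((M2 f n F).presheaf.map (homOfLE h).op s)) =
          b.app U' (rsm f n F U' r ((M2 f n F).presheaf.map (homOfLE h).op s))}
      add_mem' := by
        intro s s' hs hs' U' h r
        rw [map_add, rsm_add, map_add, map_add, hs U' h r, hs' U' h r]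
      zero_mem' := by
        intro U' h r
        rw [map_zero, rsm_zero, map_zero, map_zero]
      smul_mem' := by
        intro ρ s hs U' h r
        have h1 : (M2 f n F).presheaf.map (homOfLE h).op (ρ • s) =
            ((nbhd f n).presheaf.map (homOfLE h).op ρ) •
              (M2 f n F).presheaf.map (homOfLE h).op s :=
          Scheme.Modules.map_smul (M2 f n F) (homOfLE h) ρ s
        have e1 := congrArg (fun z => a.app U' (rsm f n F U' r z)) h1
        have e2 := congrArg (fun z => b.app U' (rsm f n F U' r z)) h1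
        have e3 := hs U' h (r * (nbhd f n).presheaf.map (homOfLE h).op ρ)
        rw [← rsm_smul_right] at e3
        exact e1.trans (e3.trans e2.symm) }
  map := by
    intro Z Z' i s hs U' h r
    rcases Z with ⟨Zu⟩
    rcases Z' with ⟨Zu'⟩
    have h1 : (M2 f n F).presheaf.map (homOfLE h).op ((M2 f n F).presheaf.map i s) =
        (M2 f n F).presheaf.map (homOfLE (h.trans i.unop.le)).op s :=
      map_map' _ _ _ _ _
    have e1 := congrArg (fun z => a.app U' (rsm f n F U' r z)) h1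
    have e2 := congrArg (fun z => b.app U' (rsm f n F U' r z)) h1
    have e3 := hs U' (h.trans i.unop.le) r
    exact e1.trans (e3.trans e2.symm)

theorem isLocalSub_eqSub (a b : PMod f n F ⟶ G) :
    FinType.IsLocalSub (M2 f n F) (eqSub f n F G a b) := by
  intro Z s h U' hU' r
  apply eq_of_locally G U'
  intro x hx
  have hz : toNbhd f n x ∈ pr1 f n ⁻¹ᵁ U' := by
    show pr1 f n (toNbhd f n x) ∈ U'
    rw [pr1_toNbhd_apply]
    exact hx
  obtain ⟨W, hWZ, hzW, hsW⟩ := h (toNbhd f n x) (hU' hz)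
  obtain ⟨t, ht, htW⟩ := (pr1_isInducing f n).isOpen_iff.1 W.isOpen
  have hU1 : pr1 f n ⁻¹ᵁ (⟨t, ht⟩ : X.Opens) = W := Opens.ext htW
  have hxU1 : x ∈ (⟨t, ht⟩ : X.Opens) := by
    have h1 : toNbhd f n x ∈ pr1 f n ⁻¹ᵁ (⟨t, ht⟩ : X.Opens) := by
      rw [hU1]
      exact hzW
    have h2 : pr1 f n (toNbhd f n x) ∈ (⟨t, ht⟩ : X.Opens) := h1
    rwa [pr1_toNbhd_apply] at h2
  have e' : (⟨t, ht⟩ : X.Opens) ⊓ U' ≤ U' := inf_le_right
  have hle : pr1 f n ⁻¹ᵁ ((⟨t, ht⟩ : X.Opens) ⊓ U') ≤ W := by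
    rw [← hU1]
    exact (pr1 f n).preimage_mono inf_le_left
  refine ⟨(⟨t, ht⟩ : X.Opens) ⊓ U', e', ⟨hxU1, hx⟩, ?_⟩
  rw [← hom_naturality a (homOfLE e').op, ← hom_naturality b (homOfLE e').op, rsm_res]
  have h1 : (M2 f n F).presheaf.map (homOfLE ((pr1 f n).preimage_mono e')).op
      ((M2 f n F).presheaf.map (homOfLE hU').op s) =
      (M2 f n F).presheaf.map (homOfLE hle).op ((M2 f n F).presheaf.map (homOfLE hWZ).op s) :=
    (map_map' _ _ _ (homOfLE (((pr1 f n).preimage_mono e').trans hU')).op _).trans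
      (map_map' _ _ _ (homOfLE (((pr1 f n).preimage_mono e').trans hU')).op _).symm
  rw [h1]
  exact hsW _ hle _

theorem pullSect_mem_eqSub (a b : PMod f n F ⟶ G)
    (hab : ∀ (U : X.Opens) (t : Γ(F, U)), a.app U (dP f n F U t) = b.app U (dP f n F U t))
    (W : X.Opens) (t : Γ(F, W)) :
    pullSect (pr2 f n) F W t ∈ (eqSub f n F G a b).obj (op (pr2 f n ⁻¹ᵁ W)) := by
  intro U' hU' r
  have hUW : U' ≤ W := by
    intro x hx
    have h1 : toNbhd f n x ∈ pr1 f n ⁻¹ᵁ U' := by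
      show pr1 f n (toNbhd f n x) ∈ U'
      rw [pr1_toNbhd_apply]
      exact hx
    have h2 : pr2 f n (toNbhd f n x) ∈ W := hU' h1
    have h3 : pr2 f n (toNbhd f n x) = x := by
      rw [← pr1_apply, pr1_toNbhd_apply]
    rw [← h3]
    exact h2
  apply eq_of_locally G U'
  intro x hx
  obtain ⟨V, hV, hfxV, -⟩ := Opens.isBasis_iff_nbhd.1 S.isBasis_affineOpens
    (show f x ∈ (⊤ : S.Opens) from trivial)
  obtain ⟨U'', hU''aff, hxU'', hU''le⟩ := Opens.isBasis_iff_nbhd.1 X.isBasis_affineOpens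
    (show x ∈ U' ⊓ f ⁻¹ᵁ V from ⟨hx, hfxV⟩)
  have e' : U'' ≤ U' := hU''le.trans inf_le_left
  have e1 : pr1 f n ⁻¹ᵁ U'' ≤ pr2 f n ⁻¹ᵁ U'' := (preimage_pr1 f n U'').le
  have hU''W : U'' ≤ W := e'.trans hUW
  refine ⟨U'', e', hxU'', ?_⟩
  rw [← hom_naturality a (homOfLE e').op, ← hom_naturality b (homOfLE e').op, rsm_res]
  have hm : (M2 f n F).presheaf.map (homOfLE ((pr1 f n).preimage_mono e')).op
      ((M2 f n F).presheaf.map (homOfLE hU').op (pullSect (pr2 f n) F W t)) =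
      (M2 f n F).presheaf.map (homOfLE e1).op
        (pullSect (pr2 f n) F U'' (F.presheaf.map (homOfLE hU''W).op t)) := by
    rw [pullSect_map]
    exact (map_map' _ _ _ (homOfLE (((pr1 f n).preimage_mono e').trans hU')).op _).trans
      (map_map' _ _ _ (homOfLE (((pr1 f n).preimage_mono e').trans hU')).op _).symm
  rw [hm]
  have key : ∀ r'' : Γ(nbhd f n, pr1 f n ⁻¹ᵁ U''),
      a.app U'' (rsm f n F U'' r'' ((M2 f n F).presheaf.map (homOfLE e1).op
        (pullSect (pr2 f n) F U'' (F.presheaf.map (homOfLE hU''W).op t)))) =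
      b.app U'' (rsm f n F U'' r'' ((M2 f n F).presheaf.map (homOfLE e1).op
        (pullSect (pr2 f n) F U'' (F.presheaf.map (homOfLE hU''W).op t)))) := by
    intro r''
    have hmem := K1 f n hU''aff hV (hU''le.trans inf_le_right) r''
    refine AddSubgroup.closure_induction
      (p := fun r'' _ => a.app U'' (rsm f n F U'' r'' ((M2 f n F).presheaf.map (homOfLE e1).op
        (pullSect (pr2 f n) F U'' (F.presheaf.map (homOfLE hU''W).op t)))) =
      b.app U'' (rsm f n F U'' r'' ((M2 f n F).presheaf.map (homOfLE e1).op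
        (pullSect (pr2 f n) F U'' (F.presheaf.map (homOfLE hU''W).op t))))) ?_ ?_ ?_ ?_ hmem
    · rintro _ ⟨b₀, b', rfl⟩
      rw [rsm_mul_pr1, rsm_pr2_pullSect, Scheme.Modules.Hom.app_smul,
        Scheme.Modules.Hom.app_smul, hab]
    · rw [rsm_zero_left, map_zero, map_zero]
    · intro x y _ _ hx hy
      rw [rsm_add_left, map_add, map_add, hx, hy]
    · intro x _ hx
      rw [rsm_neg_left, map_neg, map_neg, hx]
  exact key _

/-- a local family of submodules of `u^* A` containing all pulled back sections is everything. -/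
theorem mem_of_isLocalSub_of_pullSect {X Y : Scheme.{u}} (u : Y ⟶ X) (A : X.Modules)
    (T : PresheafOfModules.Submodule ((Scheme.Modules.pullback u).obj A).val)
    (hT : FinType.IsLocalSub _ T)
    (hη : ∀ (U : X.Opens) (a : Γ(A, U)), PbGen.ηsec u A U a ∈ T.obj (op (u ⁻¹ᵁ U)))
    (V : Y.Opens) (t : Γ((Scheme.Modules.pullback u).obj A, V)) : t ∈ T.obj (op V) := by
  let N := (Scheme.Modules.pullback u).obj A
  let ι := FinType.subsheafι N T hT
  let π := cokernel.π ι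
  have hπ : π = 0 := by
    apply ((Scheme.Modules.pullbackPushforwardAdjunction u).homEquiv A _).injective
    apply Scheme.Modules.hom_ext
    intro U
    ext a
    rw [PbGen.homEquiv_app]
    obtain ⟨s, hs⟩ := FinType.exists_of_mem N T hT _ _ (hη U a)
    rw [← hs]
    have h0 : ι ≫ π = 0 := cokernel.condition ι
    have h1 := congrArg (fun φ => φ.app (u ⁻¹ᵁ U) s) h0
    have h2 : ((Scheme.Modules.pullbackPushforwardAdjunction u).homEquiv A (cokernel ι)
        (0 : N ⟶ cokernel ι)).app U a = 0 := by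
      rw [PbGen.homEquiv_app]
      rfl
    rw [h2]
    exact h1
  haveI hEι : Epi ι := Abelian.epi_of_cokernel_π_eq_zero ι hπ
  have hIso : IsIso ι := isIso_of_mono_of_epi ι
  have h1 : IsIso (ι.app V) := inferInstance
  have hsurj : Function.Surjective (ι.app V) :=
    ((ConcreteCategory.isIso_iff_bijective (ι.app V)).1 h1).2
  obtain ⟨t', rfl⟩ := hsurj t
  exact FinType.subsheafι_app_mem N T hT V t'

theorem main5958 (a b : PMod f n F ⟶ G)
    (h : ∀ (U : X.Opens) (t : Γ(F, U)), a.app U (dP f n F U t) = b.app U (dP f n F U t)) :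
    a = b := by
  have hall := mem_of_isLocalSub_of_pullSect (pr2 f n) F (eqSub f n F G a b)
    (isLocalSub_eqSub f n F G a b) (fun U t => pullSect_mem_eqSub f n F G a b h U t)
  apply Scheme.Modules.hom_ext
  intro U
  ext s
  have h1 := hall (pr1 f n ⁻¹ᵁ U) s U le_rfl 1
  rw [map_self', rsm_one] at h1
  exact h1

end Gen

section Epi

theorem main5981 {X Y Z : Scheme.{u}} (f : X ⟶ Y) (g : Y ⟶ Z) (n : ℕ)
    (φ : (Scheme.Modules.pullback (𝟙 X)).obj (P (f ≫ g) n) ⟶ P f n)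
    (hφ : IsPMap (f ≫ g) f (𝟙 X) n φ) : Epi φ := by
  apply Abelian.epi_of_cokernel_π_eq_zero
  apply main5958 f n (Coh.structureModule X) _ (cokernel.π φ) 0
  intro U t
  have h := hφ U t
  have h0 : φ ≫ cokernel.π φ = 0 := cokernel.condition φ
  have h1 := congrArg (fun ψ => ψ.app (𝟙 X ⁻¹ᵁ U)
    (pullSect (𝟙 X) (P (f ≫ g) n) U (dn (f ≫ g) n U t))) h0
  have h3 : (cokernel.π φ).app (𝟙 X ⁻¹ᵁ U) (φ.app (𝟙 X ⁻¹ᵁ U)
      (pullSect (𝟙 X) (P (f ≫ g) n) U (dn (f ≫ g) n U t))) = 0 := h1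
  rw [h] at h3
  exact h3

theorem main5977 {X Y Z : Scheme.{u}} (f : Y ⟶ Z) (j : X ⟶ Y) [IsClosedImmersion j] (n : ℕ)
    (φ : (Scheme.Modules.pullback j).obj (P f n) ⟶ P (j ≫ f) n)
    (hφ : IsPMap f (j ≫ f) j n φ) : Epi φ := by
  apply Abelian.epi_of_cokernel_π_eq_zero
  apply main5958 (j ≫ f) n (Coh.structureModule X) _ (cokernel.π φ) 0
  intro U' t
  show (cokernel.π φ).app U' (dP (j ≫ f) n (Coh.structureModule X) U' t) = 0
  apply eq_of_locally _ U'
  intro x hx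
  obtain ⟨t0, ht0, htU⟩ := j.isClosedEmbedding.isEmbedding.isInducing.isOpen_iff.1 U'.isOpen
  have hV0 : j ⁻¹ᵁ (⟨t0, ht0⟩ : Y.Opens) = U' := Opens.ext htU
  have hjx : j x ∈ (⟨t0, ht0⟩ : Y.Opens) := by
    have h1 : x ∈ j ⁻¹ᵁ (⟨t0, ht0⟩ : Y.Opens) := by
      rw [hV0]
      exact hx
    exact h1
  obtain ⟨V, hV, hjxV, hVV0⟩ := Opens.isBasis_iff_nbhd.1 Y.isBasis_affineOpens hjx
  have e' : j ⁻¹ᵁ V ≤ U' := by
    rw [← hV0]
    exact j.preimage_mono hVV0
  refine ⟨j ⁻¹ᵁ V, e', hjxV, ?_⟩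
  obtain ⟨b, hb⟩ := j.app_surjective V hV ((X.presheaf.map (homOfLE e').op) t)
  rw [map_zero, ← hom_naturality (cokernel.π φ) (homOfLE e').op, ← dP_map]
  have h := hφ V b
  have h0 : φ ≫ cokernel.π φ = 0 := cokernel.condition φ
  have h1 := congrArg (fun ψ => ψ.app (j ⁻¹ᵁ V) (pullSect j (P f n) V (dn f n V b))) h0
  have h3 : (cokernel.π φ).app (j ⁻¹ᵁ V) (φ.app (j ⁻¹ᵁ V)
      (pullSect j (P f n) V (dn f n V b))) = 0 := h1
  rw [h, hb] at h3
  exact h3

end Epi

end Groth.Agent.Helper9.PrinPart11
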