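import Mathlib
import Groth.Prelude.Def_OmegaPn
import Groth.Agent.Lib.Helper9.PrinPart11
import Groth.Agent.Lib.Helper13.FreeMod

/-!
# Differential operators of order at most one: linear part plus derivation
-/

set_option autoImplicit false
set_option linter.unusedSectionVars false
set_option backward.isDefEq.respectTransparency false
universe u
open CategoryTheory CategoryTheory.Limits AlgebraicGeometry TopologicalSpace Opposite TensorProduct

namespace Groth.Agent.Helper9.PrinPart12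

open OmegaSh PrinPart Groth.Agent.Helper9.PrinPart0 Groth.Agent.Helper9.PrinPart2
  Groth.Agent.Helper9.PrinPart9 Groth.Agent.Helper9.PrinPart11 Groth.Agent.Helper13
  Groth.Agent.Helper18.OmegaSec

section Ring

theorem presheaf_map_injective_of_eq (X : Scheme.{u}) {A B : X.Opens} (h : A = B)
    (i : op A ⟶ op B) : Function.Injective (X.presheaf.map i) := by
  subst h
  have hi : i = 𝟙 _ := Subsingleton.elim _ _
  rw [hi, X.presheaf.map_id]
  exact fun _ _ h => h

theorem eq_zero_of_locally_ring (N : Scheme.{u}) (Z : N.Opens) (g : Γ(N, Z))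
    (h : ∀ z ∈ Z, ∃ (Z' : N.Opens) (hZ' : Z' ≤ Z), z ∈ Z' ∧
      N.presheaf.map (homOfLE hZ').op g = 0) : g = 0 := by
  have h0 := eq_of_locally (Coh.structureModule N) Z (strSect N Z g) 0 (fun z hz => by
    obtain ⟨Z', hZ', hz', hg⟩ := h z hz
    refine ⟨Z', hZ', hz', ?_⟩
    rw [map_zero]
    exact hg)
  exact h0

theorem appLE_congr_hom {N S : Scheme.{u}} {g h : N ⟶ S} (e : g = h) (V : S.Opens) (Z : N.Opens)
    (hZ : Z ≤ g ⁻¹ᵁ V) : g.appLE V Z hZ = h.appLE V Z (e ▸ hZ) := by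
  subst e
  rfl

theorem comp_appLE_apply {N X S : Scheme.{u}} (p : N ⟶ X) (f : X ⟶ S) (V : S.Opens) (Z : N.Opens)
    (e : Z ≤ p ⁻¹ᵁ (f ⁻¹ᵁ V)) (c : Γ(S, V)) :
    p.appLE (f ⁻¹ᵁ V) Z e (f.app V c) = (p ≫ f).appLE V Z e c := by
  have h := Scheme.Hom.appLE_comp_appLE p f V (f ⁻¹ᵁ V) Z le_rfl e
  rw [Scheme.Hom.appLE_eq_app] at h
  exact congr($h c)

end Ring

section Aff

variable {X S : Scheme.{u}} (f : X ⟶ S)

theorem diag_app_snd_sub_fst {U : X.Opens} (a : Γ(X, U)) :
    (pullback.diagonal f).app (WD f U)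
      ((pullback.snd f f).appLE U (WD f U) inf_le_right a -
        (pullback.fst f f).appLE U (WD f U) inf_le_left a) = 0 := by
  apply presheaf_map_injective_of_eq X (diag_preimage_WD f U) (homOfLE (le_diag_preimage f U)).op
  rw [map_zero, map_sub, map_sub]
  have h1 : X.presheaf.map (homOfLE (le_diag_preimage f U)).op
      ((pullback.diagonal f).app (WD f U)
        ((pullback.fst f f).appLE U (WD f U) inf_le_left a)) = a :=
    congr($(fst_appLE_diag f U) a)
  have h2 : X.presheaf.map (homOfLE (le_diag_preimage f U)).op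
      ((pullback.diagonal f).app (WD f U)
        ((pullback.snd f f).appLE U (WD f U) inf_le_right a)) = a :=
    congr($(snd_appLE_diag f U) a)
  rw [h1, h2, sub_self]

theorem diff_mul_diff_affine {U : X.Opens} {V : S.Opens} (hU : IsAffineOpen U)
    (hV : IsAffineOpen V) (e : U ≤ f ⁻¹ᵁ V) (a b : Γ(X, U)) :
    ((pr2 f 1).appLE U (pr1 f 1 ⁻¹ᵁ U) (preimage_pr1 f 1 U).le a - (pr1 f 1).app U a) *
    ((pr2 f 1).appLE U (pr1 f 1 ⁻¹ᵁ U) (preimage_pr1 f 1 U).le b - (pr1 f 1).app U b) = 0 := by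
  have hQ := isAffineOpen_WD f hU hV e
  have hQW := WD_le_coborderRange f hU hV e
  have hZ := preimage_WD f 1 U
  have h1 := pr1_appLE f 1 U (WD f U) inf_le_left (pr1 f 1 ⁻¹ᵁ U) hZ.le le_rfl
  have h2 := pr2_appLE f 1 U (WD f U) inf_le_right (pr1 f 1 ⁻¹ᵁ U) hZ.le (preimage_pr1 f 1 U).le
  rw [Scheme.Hom.appLE_eq_app] at h1
  have h3 : ∀ c : Γ(X, U), (pr2 f 1).appLE U (pr1 f 1 ⁻¹ᵁ U) (preimage_pr1 f 1 U).le c -
      (pr1 f 1).app U c = (nbhdι f 1).appLE (WD f U) (pr1 f 1 ⁻¹ᵁ U) hZ.le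
        ((pullback.snd f f).appLE U (WD f U) inf_le_right c -
          (pullback.fst f f).appLE U (WD f U) inf_le_left c) := by
    intro c
    rw [map_sub, ← h1, ← h2]
    rfl
  rw [h3, h3, ← map_mul, nbhdι_appLE_eq_zero_iff f 1 hQ hQW _ hZ,
    show (1 + 1 : ℕ) = 2 from rfl, pow_two]
  apply Ideal.mul_mem_mul
  · rw [RingHom.mem_ker]
    exact diag_app_snd_sub_fst f a
  · rw [RingHom.mem_ker]
    exact diag_app_snd_sub_fst f b

theorem diff_mul_diff (U : X.Opens) (a b : Γ(X, U)) :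
    ((pr2 f 1).appLE U (pr1 f 1 ⁻¹ᵁ U) (preimage_pr1 f 1 U).le a - (pr1 f 1).app U a) *
    ((pr2 f 1).appLE U (pr1 f 1 ⁻¹ᵁ U) (preimage_pr1 f 1 U).le b - (pr1 f 1).app U b) = 0 := by
  apply eq_zero_of_locally_ring
  intro z hz
  have hx : pr1 f 1 z ∈ U := hz
  obtain ⟨V, hV, hfxV, -⟩ := Opens.isBasis_iff_nbhd.1 S.isBasis_affineOpens
    (show f (pr1 f 1 z) ∈ (⊤ : S.Opens) from trivial)
  obtain ⟨U'', hU''aff, hxU'', hU''le⟩ := Opens.isBasis_iff_nbhd.1 X.isBasis_affineOpens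
    (show pr1 f 1 z ∈ U ⊓ f ⁻¹ᵁ V from ⟨hx, hfxV⟩)
  have e' : U'' ≤ U := hU''le.trans inf_le_left
  refine ⟨pr1 f 1 ⁻¹ᵁ U'', (pr1 f 1).preimage_mono e', hxU'', ?_⟩
  rw [map_mul, map_sub, map_sub]
  have key := diff_mul_diff_affine f hU''aff hV (hU''le.trans inf_le_right)
    (X.presheaf.map (homOfLE e').op a) (X.presheaf.map (homOfLE e').op b)
  have r1 : ∀ c : Γ(X, U), (nbhd f 1).presheaf.map (homOfLE ((pr1 f 1).preimage_mono e')).op
      ((pr1 f 1).app U c) = (pr1 f 1).app U'' (X.presheaf.map (homOfLE e').op c) := by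
    intro c
    have h := (pr1 f 1).naturality (homOfLE e').op
    exact (congr($h c)).symm
  have r2 : ∀ c : Γ(X, U), (nbhd f 1).presheaf.map (homOfLE ((pr1 f 1).preimage_mono e')).op
      ((pr2 f 1).appLE U (pr1 f 1 ⁻¹ᵁ U) (preimage_pr1 f 1 U).le c) =
      (pr2 f 1).appLE U'' (pr1 f 1 ⁻¹ᵁ U'') (preimage_pr1 f 1 U'').le
        (X.presheaf.map (homOfLE e').op c) := by
    intro c
    have h1 := Scheme.Hom.appLE_map (pr2 f 1) (preimage_pr1 f 1 U).le
      (homOfLE ((pr1 f 1).preimage_mono e')).op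
    have h2 := Scheme.Hom.map_appLE (pr2 f 1) (preimage_pr1 f 1 U'').le (homOfLE e').op
    exact (congr($h1 c)).trans (congr($h2 c)).symm
  rw [r1, r1, r2, r2]
  exact key

end Aff

section Main

variable {X S : Scheme.{u}} (f : X ⟶ S) (G : X.Modules)

theorem dn_map {U U' : X.Opens} (e : U' ≤ U) (x : Γ(X, U)) (n : ℕ) :
    dn f n U' (X.presheaf.map (homOfLE e).op x) =
      (P f n).presheaf.map (homOfLE e).op (dn f n U x) :=
  dP_map f n (Coh.structureModule X) e (strSect X U x)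

/-- `a ↦ d^1 a − a · 1`. -/
noncomputable def kappa (U : X.Opens) : Γ(X, U) →+ Γ(P f 1, U) :=
  AddMonoidHom.mk' (fun a => dn f 1 U a - a • dn f 1 U 1) (by
    intro a b
    rw [map_add, add_smul]
    abel)

theorem kappa_apply (U : X.Opens) (a : Γ(X, U)) :
    kappa f U a = dn f 1 U a - a • dn f 1 U 1 := rfl

theorem theta_kappa (U : X.Opens) (a : Γ(X, U)) :
    theta f 1 U (kappa f U a) =
      (pr2 f 1).appLE U (pr1 f 1 ⁻¹ᵁ U) (preimage_pr1 f 1 U).le a - (pr1 f 1).app U a := by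
  rw [kappa_apply, map_sub, theta_smul, theta_dn, theta_dn, map_one, mul_one]

theorem kappa_mul (U : X.Opens) (a b : Γ(X, U)) :
    kappa f U (a * b) = a • kappa f U b + b • kappa f U a := by
  apply (theta_bijective f 1 U).1
  rw [map_add, theta_smul, theta_smul, theta_kappa, theta_kappa, theta_kappa, map_mul, map_mul]
  have h := diff_mul_diff f U a b
  linear_combination h

theorem kappa_map {U U' : X.Opens} (e : U' ≤ U) (x : Γ(X, U)) :
    kappa f U' (X.presheaf.map (homOfLE e).op x) =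
      (P f 1).presheaf.map (homOfLE e).op (kappa f U x) := by
  have h1 : dn f 1 U' 1 = (P f 1).presheaf.map (homOfLE e).op (dn f 1 U 1) := by
    have h := dn_map f e (1 : Γ(X, U)) 1
    have h0 : X.presheaf.map (homOfLE e).op (1 : Γ(X, U)) = 1 := map_one _
    rw [h0] at h
    exact h
  rw [kappa_apply, kappa_apply, map_sub, Scheme.Modules.map_smul, dn_map, h1]

theorem kappa_base (V : S.Opens) (c : Γ(S, V)) : kappa f (f ⁻¹ᵁ V) (f.app V c) = 0 := by
  apply (theta_bijective f 1 _).1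
  rw [theta_kappa, map_zero, sub_eq_zero, ← Scheme.Hom.appLE_eq_app (f := pr1 f 1),
    comp_appLE_apply, comp_appLE_apply]
  exact congr($(appLE_congr_hom (pr1_comp f 1).symm V (pr1 f 1 ⁻¹ᵁ (f ⁻¹ᵁ V))
    (preimage_pr1 f 1 (f ⁻¹ᵁ V)).le) c)

/-- the derivation `a ↦ u (d^1 a − a · 1)` attached to an `O_X`-linear `u : P^1 ⟶ G`. -/
noncomputable def derOf (u : P f 1 ⟶ G) : Der f G where
  d {Xo} := (u.app Xo.unop).hom.comp (kappa f Xo.unop)
  d_mul {Xo} a b := by
    rcases Xo with ⟨U⟩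
    show u.app U (kappa f U (a * b)) = a • u.app U (kappa f U b) + b • u.app U (kappa f U a)
    rw [kappa_mul, map_add, Scheme.Modules.Hom.app_smul, Scheme.Modules.Hom.app_smul]
  d_map {Xo Yo} g x := by
    rcases Xo with ⟨U⟩
    rcases Yo with ⟨U'⟩
    obtain ⟨e, rfl⟩ : ∃ e : U' ≤ U, g = (homOfLE e).op := ⟨g.unop.le, Subsingleton.elim _ _⟩
    show u.app U' (kappa f U' (X.presheaf.map (homOfLE e).op x)) =
      G.presheaf.map (homOfLE e).op (u.app U (kappa f U x))
    rw [← hom_naturality u (homOfLE e).op, kappa_map]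
  d_app {Xs} c := by
    rcases Xs with ⟨V⟩
    show u.app (f ⁻¹ᵁ V) (kappa f (f ⁻¹ᵁ V) (f.app V c)) = 0
    rw [kappa_base, map_zero]

theorem derOf_app (u : P f 1 ⟶ G) (U : X.Opens) (a : Γ(X, U)) :
    (derOf f G u).app U a = u.app U (kappa f U a) := rfl

theorem main5961 (D : (Coh.structureModule X).presheaf ⟶ G.presheaf)
    (hD : IsDiffOpLE f (Coh.structureModule X) G 1 D) :
    ∃! p : (Coh.structureModule X ⟶ G) × Der f G,
      ∀ (U : X.Opens) (a : Γ(X, U)),
        D.app (op U) (strSect X U a) = p.1.app U (strSect X U a) + p.2.app U a := by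
  obtain ⟨u, hu⟩ := hD
  have hv : ∀ (U : X.Opens) (a : Γ(X, U)),
      (LocFree.homOfSec G (u.app ⊤ (dn f 1 ⊤ 1))).app U (strSect X U a) =
        u.app U (a • dn f 1 U 1) := by
    intro U a
    have h1 := LocFree.homOfSec_app G (u.app ⊤ (dn f 1 ⊤ 1)) U a
    have h2 := hom_naturality u (homOfLE (le_top : U ≤ ⊤)).op (dn f 1 ⊤ 1)
    have h3 := dn_map f (le_top : U ≤ ⊤) (1 : Γ(X, ⊤)) 1
    rw [map_one] at h3
    rw [Scheme.Modules.Hom.app_smul, h3, h2]
    exact h1
  have hex : ∀ (U : X.Opens) (a : Γ(X, U)),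
      D.app (op U) (strSect X U a) =
        (LocFree.homOfSec G (u.app ⊤ (dn f 1 ⊤ 1))).app U (strSect X U a) +
          (derOf f G u).app U a := by
    intro U a
    rw [hv, hu, derOf_app]
    show u.app U (dn f 1 U a) = u.app U (a • dn f 1 U 1) + u.app U (kappa f U a)
    rw [← map_add, kappa_apply, add_sub_cancel]
  refine ⟨(LocFree.homOfSec G (u.app ⊤ (dn f 1 ⊤ 1)), derOf f G u), hex, ?_⟩
  rintro ⟨v', d'⟩ h'
  have h'' : ∀ (U : X.Opens) (a : Γ(X, U)),
      D.app (op U) (strSect X U a) = v'.app U (strSect X U a) + d'.app U a := h'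
  have hv1 : ∀ U : X.Opens, v'.app U (strSect X U 1) =
      (LocFree.homOfSec G (u.app ⊤ (dn f 1 ⊤ 1))).app U (strSect X U 1) := by
    intro U
    have e1 := h'' U 1
    have e2 := hex U 1
    have z1 : d'.app U 1 = 0 := PresheafOfModules.Derivation.d_one d' (op U)
    have z2 : (derOf f G u).app U 1 = 0 := PresheafOfModules.Derivation.d_one _ (op U)
    rw [z1, add_zero] at e1
    rw [z2, add_zero] at e2
    exact e1.symm.trans e2
  have hvv : v' = LocFree.homOfSec G (u.app ⊤ (dn f 1 ⊤ 1)) := by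
    apply Scheme.Modules.hom_ext
    intro U
    ext s
    have key : ∀ (φ : Coh.structureModule X ⟶ G) (c : Γ(X, U)),
        φ.app U (strSect X U c) = c • φ.app U (strSect X U 1) := by
      intro φ c
      rw [← Scheme.Modules.Hom.app_smul, ← strSect_mul, mul_one]
    exact (key v' s).trans ((congrArg (fun z => (show Γ(X, U) from s) • z) (hv1 U)).trans
      (key _ s).symm)
  have hd : ∀ (U : X.Opens) (a : Γ(X, U)), d'.app U a = (derOf f G u).app U a := by
    intro U a
    have e1 := h'' U a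
    have e2 := hex U a
    rw [hvv] at e1
    exact add_left_cancel (e1.symm.trans e2)
  have hdd : d' = derOf f G u := by
    apply PresheafOfModules.Derivation.ext
    funext Xo
    rcases Xo with ⟨U⟩
    apply AddMonoidHom.ext
    intro a
    exact hd U a
  exact Prod.ext hvv hdd

end Main

end Groth.Agent.Helper9.PrinPart12
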