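import Mathlib
import Groth.Prelude.Def_OmegaPn
import Groth.Agent.Lib.Helper9.PrinPart12
import Groth.Agent.Lib.Helper9.GrBC1

/-!
# Principal parts commute with base change

For a cartesian square `X' = X ×_S S'`, the canonical map `u^* P^n_{X/S} ⟶ P^n_{X'/S'}` is an
isomorphism.  On charts, `Γ(X' ×_{S'} X', Q') = Γ(X', U') ⊗_{Γ(X, U)} Γ(X ×_S X, Q)` and the ideal of
the diagonal of `f'` is generated by the ideal of the diagonal of `f`.
-/

set_option autoImplicit false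
set_option backward.isDefEq.respectTransparency false
set_option linter.style.haveILetI false
set_option linter.unusedSectionVars false
set_option maxRecDepth 8000
universe u
open CategoryTheory CategoryTheory.Limits AlgebraicGeometry TopologicalSpace Opposite TensorProduct

namespace Groth.Agent.Helper9.PPBC1

section AlgP

variable {A A' O O' : Type u} [CommRing A] [CommRing A'] [CommRing O] [CommRing O']
  [Algebra A A'] [Algebra A O] [Algebra A' O'] [Algebra O O'] [Algebra A O']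
  [IsScalarTower A A' O'] [IsScalarTower A O O'] [Algebra.IsPushout A A' O O']
  (δ : O →+* A) (δ' : O' →+* A')
  (hδ : ∀ a, δ (algebraMap A O a) = a) (hδ' : ∀ a', δ' (algebraMap A' O' a') = a')
  (hδη : ∀ y, δ' (algebraMap O O' y) = algebraMap A A' (δ y))
  (n : ℕ)
  {Ob Ob' : Type u} [CommRing Ob] [CommRing Ob']
  (ν : O →+* Ob) (hνsurj : Function.Surjective ν)
  (hνker : ∀ y, y ∈ (RingHom.ker δ) ^ (n + 1) → ν y = 0)
  (ν' : O' →+* Ob') (hν'surj : Function.Surjective ν')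
  (hν'ker : ∀ y', ν' y' = 0 → y' ∈ (RingHom.ker δ') ^ (n + 1))
  {P P' N : Type u} [AddCommGroup P] [Module A P] [AddCommGroup P'] [Module A' P']
  [AddCommGroup N] [Module A' N]
  (τ : P →+ Ob) (hτinj : Function.Injective τ)
  (hτ : ∀ a x, τ (a • x) = ν (algebraMap A O a) * τ x)
  (τ' : P' →+ Ob') (hτ'inj : Function.Injective τ')
  (hτ' : ∀ a' x', τ' (a' • x') = ν' (algebraMap A' O' a') * τ' x')
  (θ : P →+ N) (hθ : ∀ a x, θ (a • x) = algebraMap A A' a • θ x)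
  (hθspan : Submodule.span A' (Set.range θ) = ⊤)
  (Φ : N →ₗ[A'] P')
  (G : Set O) (hG : AddSubgroup.closure G = ⊤)
  (hgen : ∀ y ∈ G, ∃ x, τ x = ν y ∧ τ' (Φ (θ x)) = ν' (algebraMap O O' y))

include hδ hδ' hδη hνsurj hνker hν'surj hν'ker hτinj hτ hτ'inj hτ' hθ hθspan hG hgen in
theorem bij_P : Function.Bijective Φ := by
  -- Step 1: all of `O`
  have hall : ∀ y : O, ∃ x, τ x = ν y ∧ τ' (Φ (θ x)) = ν' (algebraMap O O' y) := by
    intro y
    have hy : y ∈ AddSubgroup.closure G := by rw [hG]; trivial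
    refine AddSubgroup.closure_induction
      (p := fun y _ => ∃ x, τ x = ν y ∧ τ' (Φ (θ x)) = ν' (algebraMap O O' y)) ?_ ?_ ?_ ?_ hy
    · intro y hy
      exact hgen y hy
    · exact ⟨0, by rw [map_zero, map_zero], by
        rw [map_zero, map_zero, map_zero, map_zero, map_zero]⟩
    · rintro y₁ y₂ _ _ ⟨x₁, h₁a, h₁b⟩ ⟨x₂, h₂a, h₂b⟩
      exact ⟨x₁ + x₂, by rw [map_add, map_add, h₁a, h₂a], by
        rw [map_add, map_add, map_add, h₁b, h₂b, map_add, map_add]⟩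
    · rintro y _ ⟨x, ha, hb⟩
      exact ⟨-x, by rw [map_neg, map_neg, ha], by
        rw [map_neg, map_neg, map_neg, hb, map_neg, map_neg]⟩
  -- the additive map ξ : O → P
  let ξf : O → P := fun y => (hall y).choose
  have hξ : ∀ y, τ (ξf y) = ν y := fun y => (hall y).choose_spec.1
  have hξ' : ∀ y, τ' (Φ (θ (ξf y))) = ν' (algebraMap O O' y) := fun y => (hall y).choose_spec.2
  let ξ : O →+ P := AddMonoidHom.mk' ξf (fun y₁ y₂ => hτinj (by
    rw [hξ, map_add τ, hξ, hξ, map_add]))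
  have hξa : ∀ y, ξ y = ξf y := fun y => rfl
  have hξsmul : ∀ (a : A) (y : O), ξ (algebraMap A O a * y) = a • ξ y := by
    intro a y
    apply hτinj
    rw [hξa, hξ, hτ, hξa, hξ, map_mul]
  have hξzero : ∀ y, y ∈ (RingHom.ker δ) ^ (n + 1) → ξ y = 0 := by
    intro y hy
    apply hτinj
    rw [hξa, hξ, map_zero]
    exact hνker y hy
  have hξsurj : Function.Surjective ξ := by
    intro x
    obtain ⟨y, hy⟩ := hνsurj (τ x)
    exact ⟨y, hτinj (by rw [hξa, hξ, hy])⟩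
  -- the pushout equivalence
  let e := Algebra.IsPushout.equiv A A' O O'
  have he : ∀ (a' : A') (y : O), e (a' ⊗ₜ y) = algebraMap A' O' a' * algebraMap O O' y :=
    fun a' y => Algebra.IsPushout.equiv_tmul A A' O O' a' y
  -- Θ
  let Θ : A' ⊗[A] O →+ N := TensorProduct.liftAddHom
    (AddMonoidHom.mk' (fun a' => AddMonoidHom.mk' (fun y => a' • θ (ξ y))
      (fun s t => by rw [map_add, map_add, smul_add]))
      (fun b c => by ext y; simp [add_smul]))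
    (fun a a' y => by
      change (a • a') • θ (ξ y) = a' • θ (ξ (a • y))
      rw [Algebra.smul_def a y, hξsmul, hθ, smul_smul, Algebra.smul_def, mul_comm])
  have hΘ : ∀ a' y, Θ (a' ⊗ₜ y) = a' • θ (ξ y) := fun a' y => rfl
  have hΘsmul : ∀ (a' : A') t, Θ (a' • t) = a' • Θ t := by
    intro a' t
    induction t using TensorProduct.induction_on with
    | zero => simp
    | tmul b y => rw [TensorProduct.smul_tmul', hΘ, hΘ, smul_eq_mul, mul_smul]
    | add x y hx hy => rw [smul_add, map_add, hx, hy, map_add, smul_add]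
  have hΘs : ∀ m : N, ∃ t, Θ t = m := by
    intro m
    have hm : m ∈ Submodule.span A' (Set.range θ) := by rw [hθspan]; trivial
    induction hm using Submodule.span_induction with
    | mem x hx =>
      obtain ⟨x₀, rfl⟩ := hx
      obtain ⟨y, rfl⟩ := hξsurj x₀
      exact ⟨1 ⊗ₜ y, by rw [hΘ, one_smul]⟩
    | zero => exact ⟨0, map_zero _⟩
    | add x y _ _ hx hy =>
      obtain ⟨t₁, rfl⟩ := hx
      obtain ⟨t₂, rfl⟩ := hy
      exact ⟨t₁ + t₂, map_add _ _ _⟩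
    | smul b x _ hx =>
      obtain ⟨t₁, rfl⟩ := hx
      exact ⟨b • t₁, hΘsmul b t₁⟩
  have hΦΘ : ∀ t, τ' (Φ (Θ t)) = ν' (e t) := by
    intro t
    induction t using TensorProduct.induction_on with
    | zero => simp
    | tmul a' y =>
      rw [hΘ, map_smul, hτ', hξa, hξ', he, map_mul]
    | add x y hx hy => rw [map_add, map_add, map_add, hx, hy, map_add, map_add]
  -- the kernel of δ'
  have hK' : RingHom.ker δ' = Ideal.map (algebraMap O O') (RingHom.ker δ) := by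
    apply le_antisymm
    · intro x hx
      obtain ⟨t, rfl⟩ := e.surjective x
      -- general identity: e t - c' (δ' (e t)) ∈ map
      have key : ∀ t : A' ⊗[A] O, e t - algebraMap A' O' (δ' (e t)) ∈
          Ideal.map (algebraMap O O') (RingHom.ker δ) := by
        intro t
        induction t using TensorProduct.induction_on with
        | zero => simp
        | tmul a' y =>
          have h1 : e (a' ⊗ₜ y) - algebraMap A' O' (δ' (e (a' ⊗ₜ y))) =
              algebraMap A' O' a' * algebraMap O O' (y - algebraMap A O (δ y)) := by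
            rw [he, map_mul, hδ', hδη, map_mul, map_sub,
              ← IsScalarTower.algebraMap_apply A O O', IsScalarTower.algebraMap_apply A A' O']
            ring
          rw [h1]
          apply Ideal.mul_mem_left
          apply Ideal.mem_map_of_mem
          rw [RingHom.mem_ker, map_sub, hδ, sub_self]
        | add x y hx hy =>
          have : e (x + y) - algebraMap A' O' (δ' (e (x + y))) =
              (e x - algebraMap A' O' (δ' (e x))) + (e y - algebraMap A' O' (δ' (e y))) := by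
            rw [map_add, map_add, map_add]
            ring
          rw [this]
          exact Ideal.add_mem _ hx hy
      have h2 := key t
      have hx0 : δ' (e t) = 0 := hx
      rw [hx0, map_zero, sub_zero] at h2
      exact h2
    · rw [Ideal.map_le_iff_le_comap]
      intro y hy
      rw [Ideal.mem_comap, RingHom.mem_ker, hδη]
      have hy0 : δ y = 0 := hy
      rw [hy0, map_zero]
  -- elements of the extended ideal are images of `A' ⊗ J`
  have hJ : ∀ (J : Ideal O), ∀ y' ∈ Ideal.map (algebraMap O O') J,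
      y' ∈ AddSubgroup.closure
        {z : O' | ∃ (a' : A') (k : O), k ∈ J ∧ z = algebraMap A' O' a' * algebraMap O O' k} := by
    intro J y' hy'
    set S₂ := AddSubgroup.closure
      {z : O' | ∃ (a' : A') (k : O), k ∈ J ∧ z = algebraMap A' O' a' * algebraMap O O' k} with hS₂
    have hmul : ∀ (o' : O') (s : O'), s ∈ S₂ → o' * s ∈ S₂ := by
      intro o' s hs
      refine AddSubgroup.closure_induction (p := fun s _ => o' * s ∈ S₂) ?_ ?_ ?_ ?_ hs
      · rintro _ ⟨a', k, hk, rfl⟩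
        obtain ⟨t, rfl⟩ := e.surjective o'
        induction t using TensorProduct.induction_on with
        | zero =>
          rw [map_zero, zero_mul]
          exact AddSubgroup.zero_mem _
        | tmul a₀ y₀ =>
          apply AddSubgroup.subset_closure
          refine ⟨a₀ * a', y₀ * k, J.mul_mem_left y₀ hk, ?_⟩
          rw [he, map_mul, map_mul]
          ring
        | add x y hx hy =>
          rw [map_add, add_mul]
          exact AddSubgroup.add_mem _ hx hy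
      · rw [mul_zero]
        exact AddSubgroup.zero_mem _
      · intro x y _ _ hx hy
        rw [mul_add]
        exact AddSubgroup.add_mem _ hx hy
      · intro x _ hx
        rw [mul_neg]
        exact AddSubgroup.neg_mem _ hx
    rw [Ideal.map] at hy'
    induction hy' using Submodule.span_induction with
    | mem x hx =>
      obtain ⟨k, hk, rfl⟩ := hx
      apply AddSubgroup.subset_closure
      exact ⟨1, k, hk, by rw [map_one, one_mul]⟩
    | zero => exact AddSubgroup.zero_mem _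
    | add x y _ _ hx hy => exact AddSubgroup.add_mem _ hx hy
    | smul a x _ hx => exact hmul a x hx
  have hkill : ∀ y' ∈ (RingHom.ker δ') ^ (n + 1), ∃ t₂, e t₂ = y' ∧ Θ t₂ = 0 := by
    intro y' hy'
    rw [hK', ← Ideal.map_pow] at hy'
    have h1 := hJ _ y' hy'
    refine AddSubgroup.closure_induction (p := fun y' _ => ∃ t₂, e t₂ = y' ∧ Θ t₂ = 0)
      ?_ ?_ ?_ ?_ h1
    · rintro _ ⟨a', k, hk, rfl⟩
      exact ⟨a' ⊗ₜ k, he a' k, by rw [hΘ, hξzero k hk, map_zero, smul_zero]⟩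
    · exact ⟨0, map_zero _, map_zero _⟩
    · rintro x y _ _ ⟨t₁, h₁, h₁'⟩ ⟨t₂, h₂, h₂'⟩
      exact ⟨t₁ + t₂, by rw [map_add, h₁, h₂], by rw [map_add, h₁', h₂', add_zero]⟩
    · rintro x _ ⟨t₁, h₁, h₁'⟩
      exact ⟨-t₁, by rw [map_neg, h₁], by rw [map_neg, h₁', neg_zero]⟩
  constructor
  · rw [injective_iff_map_eq_zero]
    intro m hm
    obtain ⟨t, rfl⟩ := hΘs m
    have h1 : ν' (e t) = 0 := by rw [← hΦΘ, hm, map_zero]
    obtain ⟨t₂, ht₂, ht₂'⟩ := hkill _ (hν'ker _ h1)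
    have : t₂ = t := e.injective ht₂
    rw [← this]
    exact ht₂'
  · intro p'
    obtain ⟨y', hy'⟩ := hν'surj (τ' p')
    obtain ⟨t, rfl⟩ := e.surjective y'
    exact ⟨Θ t, hτ'inj (by rw [hΦΘ, hy'])⟩

end AlgP


open OmegaSh PrinPart Groth.Agent.Helper9.PrinPart0 Groth.Agent.Helper9.PrinPart2
  Groth.Agent.Helper9.PrinPart9 Groth.Agent.Helper9.PrinPart11 Groth.Agent.Helper9.PrinPart12
  Groth.Agent.Helper18.OmegaSec Groth.Agent.Helper18.AffHom Groth.Agent.Helper18.Rec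
  Groth.Agent.Helper13.Pullback

section One

variable {X S : Scheme.{u}} (f : X ⟶ S) (n : ℕ)

/-- functions on the chart `U ×_V U` of `X ×_S X` restricted to the infinitesimal neighbourhood -/
noncomputable def nu (U : X.Opens) :
    Γ(pullback f f, WD f U) →+* Γ(nbhd f n, pr1 f n ⁻¹ᵁ U) :=
  ((nbhdι f n).appLE (WD f U) (pr1 f n ⁻¹ᵁ U) (preimage_WD f n U).le).hom

theorem nu_fst (U : X.Opens) (a : Γ(X, U)) :
    nu f n U ((pullback.fst f f).appLE U (WD f U) inf_le_left a) = (pr1 f n).app U a := by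
  have h1 := pr1_appLE f n U (WD f U) inf_le_left (pr1 f n ⁻¹ᵁ U) (preimage_WD f n U).le le_rfl
  rw [Scheme.Hom.appLE_eq_app] at h1
  exact congr($h1 a)

theorem nu_snd (U : X.Opens) (a : Γ(X, U)) :
    nu f n U ((pullback.snd f f).appLE U (WD f U) inf_le_right a) =
      (pr2 f n).appLE U (pr1 f n ⁻¹ᵁ U) (preimage_pr1 f n U).le a := by
  have h2 := pr2_appLE f n U (WD f U) inf_le_right (pr1 f n ⁻¹ᵁ U) (preimage_WD f n U).le
    (preimage_pr1 f n U).le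
  exact congr($h2 a)

theorem theta_smul_nu (U : X.Opens) (a : Γ(X, U)) (x : Γ(P f n, U)) :
    theta f n U (a • x) =
      nu f n U ((pullback.fst f f).appLE U (WD f U) inf_le_left a) * theta f n U x := by
  rw [theta_smul, nu_fst]

theorem theta_smul_dn (U : X.Opens) (b b' : Γ(X, U)) :
    theta f n U (b • dn f n U b') =
      nu f n U ((pullback.fst f f).appLE U (WD f U) inf_le_left b *
        (pullback.snd f f).appLE U (WD f U) inf_le_right b') := by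
  rw [theta_smul, theta_dn, map_mul, nu_fst, nu_snd]

/-- the diagonal on the chart -/
noncomputable def delta (U : X.Opens) : Γ(pullback f f, WD f U) →+* Γ(X, U) :=
  ((pullback.diagonal f).appLE (WD f U) U (le_diag_preimage f U)).hom

theorem delta_fst (U : X.Opens) (a : Γ(X, U)) :
    delta f U ((pullback.fst f f).appLE U (WD f U) inf_le_left a) = a :=
  congr($(fst_appLE_diag f U) a)

theorem ker_delta (U : X.Opens) :
    RingHom.ker (delta f U) = RingHom.ker ((pullback.diagonal f).app (WD f U)).hom := by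
  have hinj : Function.Injective (X.presheaf.map (homOfLE (le_diag_preimage f U)).op) :=
    (Groth.Agent.Helper18.CnSeq.res_bijective_of_eq (diag_preimage_WD f U).symm
      (le_diag_preimage f U)).1
  ext y
  rw [RingHom.mem_ker, RingHom.mem_ker]
  change X.presheaf.map (homOfLE (le_diag_preimage f U)).op
    ((pullback.diagonal f).app (WD f U) y) = 0 ↔ _
  constructor
  · intro h
    apply hinj
    rw [h, map_zero]
  · intro h
    rw [h, map_zero]

variable {U : X.Opens} {V : S.Opens}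

theorem nu_surjective (hU : IsAffineOpen U) (hV : IsAffineOpen V) (e : U ≤ f ⁻¹ᵁ V) :
    Function.Surjective (nu f n U) :=
  nbhdι_appLE_surjective f n (isAffineOpen_WD f hU hV e) (WD_le_coborderRange f hU hV e) _
    (preimage_WD f n U)

theorem nu_eq_zero_iff (hU : IsAffineOpen U) (hV : IsAffineOpen V) (e : U ≤ f ⁻¹ᵁ V)
    (y : Γ(pullback f f, WD f U)) :
    nu f n U y = 0 ↔ y ∈ (RingHom.ker (delta f U)) ^ (n + 1) := by
  rw [ker_delta]
  exact nbhdι_appLE_eq_zero_iff f n (isAffineOpen_WD f hU hV e)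
    (WD_le_coborderRange f hU hV e) _ (preimage_WD f n U) y

end One

section BC

variable {X S X' S' : Scheme.{u}} (f : X ⟶ S) (g : S' ⟶ S) (u : X' ⟶ X) (f' : X' ⟶ S')
  (hsq : IsPullback u f' f g)

/-- `u × u : X' ×_{S'} X' ⟶ X ×_S X` -/
noncomputable def hmap : pullback f' f' ⟶ pullback f f :=
  pullback.map f' f' f f u u g hsq.w.symm hsq.w.symm

theorem hmap_fst : hmap f g u f' hsq ≫ pullback.fst f f = pullback.fst f' f' ≫ u := by
  delta hmap pullback.map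
  exact pullback.lift_fst _ _ _

theorem hmap_snd : hmap f g u f' hsq ≫ pullback.snd f f = pullback.snd f' f' ≫ u := by
  delta hmap pullback.map
  exact pullback.lift_snd _ _ _

theorem isPullback_hmap :
    IsPullback (hmap f g u f' hsq) (pullback.fst f' f') (pullback.fst f f) u := by
  have t : IsPullback (pullback.snd f f) (pullback.fst f f) f f :=
    (IsPullback.of_hasPullback f f).flip
  have l : IsPullback (pullback.snd f' f') (pullback.fst f' f') f' f' :=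
    (IsPullback.of_hasPullback f' f').flip
  have s0 : IsPullback (pullback.snd f' f' ≫ u) (pullback.fst f' f') f (f' ≫ g) :=
    l.paste_horiz hsq
  have s : IsPullback (hmap f g u f' hsq ≫ pullback.snd f f) (pullback.fst f' f') f (u ≫ f) := by
    rw [hmap_snd, hsq.w]
    exact s0
  exact IsPullback.of_right s (hmap_fst f g u f' hsq) t

theorem diag_hmap :
    pullback.diagonal f' ≫ hmap f g u f' hsq = u ≫ pullback.diagonal f := by
  apply pullback.hom_ext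
  · rw [Category.assoc, hmap_fst, ← Category.assoc, pullback.diagonal_fst, Category.id_comp,
      Category.assoc, pullback.diagonal_fst, Category.comp_id]
  · rw [Category.assoc, hmap_snd, ← Category.assoc, pullback.diagonal_snd, Category.id_comp,
      Category.assoc, pullback.diagonal_snd, Category.comp_id]

theorem WD_eq (U : X.Opens) (V' : S'.Opens) :
    WD f' (u ⁻¹ᵁ U ⊓ f' ⁻¹ᵁ V') = hmap f g u f' hsq ⁻¹ᵁ (WD f U) ⊓
      pullback.fst f' f' ⁻¹ᵁ (u ⁻¹ᵁ U ⊓ f' ⁻¹ᵁ V') := by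
  have h1 : ∀ z, pullback.fst f f (hmap f g u f' hsq z) = u (pullback.fst f' f' z) := fun z => by
    rw [← Scheme.Hom.comp_apply, ← Scheme.Hom.comp_apply, hmap_fst]
  have h2 : ∀ z, pullback.snd f f (hmap f g u f' hsq z) = u (pullback.snd f' f' z) := fun z => by
    rw [← Scheme.Hom.comp_apply, ← Scheme.Hom.comp_apply, hmap_snd]
  have h3 : ∀ z, f' (pullback.fst f' f' z) = f' (pullback.snd f' f' z) := fun z => by
    rw [← Scheme.Hom.comp_apply, ← Scheme.Hom.comp_apply, pullback.condition]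
  apply le_antisymm
  · intro z hz
    have hz' : (u (pullback.fst f' f' z) ∈ U ∧ f' (pullback.fst f' f' z) ∈ V') ∧
        (u (pullback.snd f' f' z) ∈ U ∧ f' (pullback.snd f' f' z) ∈ V') := hz
    obtain ⟨⟨ha, hb⟩, ⟨hc, hd⟩⟩ := hz'
    have k1 : pullback.fst f f (hmap f g u f' hsq z) ∈ U := by
      rw [h1]
      exact ha
    have k2 : pullback.snd f f (hmap f g u f' hsq z) ∈ U := by
      rw [h2]
      exact hc
    exact ⟨⟨k1, k2⟩, ⟨ha, hb⟩⟩
  · intro z hz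
    have hz' : (pullback.fst f f (hmap f g u f' hsq z) ∈ U ∧
        pullback.snd f f (hmap f g u f' hsq z) ∈ U) ∧
        (u (pullback.fst f' f' z) ∈ U ∧ f' (pullback.fst f' f' z) ∈ V') := hz
    obtain ⟨⟨ha, hb⟩, ⟨hc, hd⟩⟩ := hz'
    rw [h2] at hb
    have k : f' (pullback.snd f' f' z) ∈ V' := by
      rw [← h3]
      exact hd
    exact ⟨⟨hc, hd⟩, ⟨hb, k⟩⟩

variable {U : X.Opens} {U' : X'.Opens}

theorem eta_fst (hU'U : U' ≤ u ⁻¹ᵁ U) (hWD : WD f' U' ≤ hmap f g u f' hsq ⁻¹ᵁ (WD f U))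
    (a : Γ(X, U)) :
    (hmap f g u f' hsq).appLE (WD f U) (WD f' U') hWD
      ((pullback.fst f f).appLE U (WD f U) inf_le_left a) =
      (pullback.fst f' f').appLE U' (WD f' U') inf_le_left (u.appLE U U' hU'U a) := by
  have h1 := Scheme.Hom.appLE_comp_appLE (hmap f g u f' hsq) (pullback.fst f f) U (WD f U)
    (WD f' U') inf_le_left hWD
  have h2 := Scheme.Hom.appLE_comp_appLE (pullback.fst f' f') u U U' (WD f' U') hU'U inf_le_left
  have h3 := congr($h1 a)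
  have h4 := congr($h2 a)
  rw [CommRingCat.comp_apply] at h3 h4
  rw [h3, h4]
  exact congr($(appLE_congr_hom (hmap_fst f g u f' hsq) U (WD f' U') _) a)

theorem eta_snd (hU'U : U' ≤ u ⁻¹ᵁ U) (hWD : WD f' U' ≤ hmap f g u f' hsq ⁻¹ᵁ (WD f U))
    (a : Γ(X, U)) :
    (hmap f g u f' hsq).appLE (WD f U) (WD f' U') hWD
      ((pullback.snd f f).appLE U (WD f U) inf_le_right a) =
      (pullback.snd f' f').appLE U' (WD f' U') inf_le_right (u.appLE U U' hU'U a) := by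
  have h1 := Scheme.Hom.appLE_comp_appLE (hmap f g u f' hsq) (pullback.snd f f) U (WD f U)
    (WD f' U') inf_le_right hWD
  have h2 := Scheme.Hom.appLE_comp_appLE (pullback.snd f' f') u U U' (WD f' U') hU'U inf_le_right
  have h3 := congr($h1 a)
  have h4 := congr($h2 a)
  rw [CommRingCat.comp_apply] at h3 h4
  rw [h3, h4]
  exact congr($(appLE_congr_hom (hmap_snd f g u f' hsq) U (WD f' U') _) a)

theorem delta_eta (hU'U : U' ≤ u ⁻¹ᵁ U) (hWD : WD f' U' ≤ hmap f g u f' hsq ⁻¹ᵁ (WD f U))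
    (y : Γ(pullback f f, WD f U)) :
    delta f' U' ((hmap f g u f' hsq).appLE (WD f U) (WD f' U') hWD y) =
      u.appLE U U' hU'U (delta f U y) := by
  have h1 := Scheme.Hom.appLE_comp_appLE (pullback.diagonal f') (hmap f g u f' hsq) (WD f U)
    (WD f' U') U' hWD (le_diag_preimage f' U')
  have h2 := Scheme.Hom.appLE_comp_appLE u (pullback.diagonal f) (WD f U) U U'
    (le_diag_preimage f U) hU'U
  have h3 := congr($h1 y)
  have h4 := congr($h2 y)
  rw [CommRingCat.comp_apply] at h3 h4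
  change (pullback.diagonal f').appLE (WD f' U') U' (le_diag_preimage f' U')
    ((hmap f g u f' hsq).appLE (WD f U) (WD f' U') hWD y) =
    u.appLE U U' hU'U ((pullback.diagonal f).appLE (WD f U) U (le_diag_preimage f U) y)
  rw [h3, h4]
  exact congr($(appLE_congr_hom (diag_hmap f g u f' hsq) (WD f U) U' _) y)

variable {V : S.Opens} {V' : S'.Opens}

include hsq in
theorem isAffineOpen_UX' (hV : IsAffineOpen V) (hU : IsAffineOpen U) (hV' : IsAffineOpen V')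
    (e : U ≤ f ⁻¹ᵁ V) (e' : V' ≤ g ⁻¹ᵁ V) : IsAffineOpen (u ⁻¹ᵁ U ⊓ f' ⁻¹ᵁ V') := by
  haveI h1 : IsAffine _ := hV
  haveI h2 : IsAffine _ := hV'
  haveI h3 : IsAffine _ := hU
  exact IsAffine.of_isIso (Scheme.Hom.isPullback_resLE hsq e' e rfl).isoPullback.hom

include hsq in
theorem bijective_chart (n : ℕ)
    (φ : (Scheme.Modules.pullback u).obj (P f n) ⟶ P f' n) (hφ : IsPMap f f' u n φ)
    [(P f n).IsQuasicoherent]
    (hV : IsAffineOpen V) (hU : IsAffineOpen U) (hV' : IsAffineOpen V')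
    (e : U ≤ f ⁻¹ᵁ V) (e' : V' ≤ g ⁻¹ᵁ V) :
    Function.Bijective (φ.app (u ⁻¹ᵁ U ⊓ f' ⁻¹ᵁ V')) := by
  have hU' : IsAffineOpen (u ⁻¹ᵁ U ⊓ f' ⁻¹ᵁ V') := isAffineOpen_UX' f g u f' hsq hV hU hV' e e'
  have eU' : u ⁻¹ᵁ U ⊓ f' ⁻¹ᵁ V' ≤ f' ⁻¹ᵁ V' := inf_le_right
  have hU'U : u ⁻¹ᵁ U ⊓ f' ⁻¹ᵁ V' ≤ u ⁻¹ᵁ U := inf_le_left
  have hWDeq := WD_eq f g u f' hsq U V'
  have hWD : WD f' (u ⁻¹ᵁ U ⊓ f' ⁻¹ᵁ V') ≤ hmap f g u f' hsq ⁻¹ᵁ (WD f U) :=
    hWDeq.le.trans inf_le_left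
  have hiso := isIso_pushoutSection_of_isAffineOpen (isPullback_hmap f g u f' hsq) hU'U
    (inf_le_left : WD f U ≤ pullback.fst f f ⁻¹ᵁ U) hWDeq hU hU' (isAffineOpen_WD f hU hV e)
  have hpo : IsPushout ((pullback.fst f f).appLE U (WD f U) inf_le_left)
      (u.appLE U (u ⁻¹ᵁ U ⊓ f' ⁻¹ᵁ V') hU'U)
      ((hmap f g u f' hsq).appLE (WD f U) (WD f' (u ⁻¹ᵁ U ⊓ f' ⁻¹ᵁ V')) hWD)
      ((pullback.fst f' f').appLE (u ⁻¹ᵁ U ⊓ f' ⁻¹ᵁ V') (WD f' (u ⁻¹ᵁ U ⊓ f' ⁻¹ᵁ V'))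
        inf_le_left) := (isIso_pushoutSection_iff ..).mp hiso
  letI aAA' : Algebra Γ(X, U) Γ(X', u ⁻¹ᵁ U ⊓ f' ⁻¹ᵁ V') :=
    (u.appLE U (u ⁻¹ᵁ U ⊓ f' ⁻¹ᵁ V') hU'U).hom.toAlgebra
  letI aAO : Algebra Γ(X, U) Γ(pullback f f, WD f U) :=
    ((pullback.fst f f).appLE U (WD f U) inf_le_left).hom.toAlgebra
  letI aA'O' : Algebra Γ(X', u ⁻¹ᵁ U ⊓ f' ⁻¹ᵁ V')
      Γ(pullback f' f', WD f' (u ⁻¹ᵁ U ⊓ f' ⁻¹ᵁ V')) :=
    ((pullback.fst f' f').appLE (u ⁻¹ᵁ U ⊓ f' ⁻¹ᵁ V') (WD f' (u ⁻¹ᵁ U ⊓ f' ⁻¹ᵁ V'))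
      inf_le_left).hom.toAlgebra
  letI aOO' : Algebra Γ(pullback f f, WD f U) Γ(pullback f' f', WD f' (u ⁻¹ᵁ U ⊓ f' ⁻¹ᵁ V')) :=
    ((hmap f g u f' hsq).appLE (WD f U) (WD f' (u ⁻¹ᵁ U ⊓ f' ⁻¹ᵁ V')) hWD).hom.toAlgebra
  letI aAO' : Algebra Γ(X, U) Γ(pullback f' f', WD f' (u ⁻¹ᵁ U ⊓ f' ⁻¹ᵁ V')) :=
    (((pullback.fst f' f').appLE (u ⁻¹ᵁ U ⊓ f' ⁻¹ᵁ V') (WD f' (u ⁻¹ᵁ U ⊓ f' ⁻¹ᵁ V'))
      inf_le_left).hom.comp (u.appLE U (u ⁻¹ᵁ U ⊓ f' ⁻¹ᵁ V') hU'U).hom).toAlgebra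
  haveI t1 : IsScalarTower Γ(X, U) Γ(X', u ⁻¹ᵁ U ⊓ f' ⁻¹ᵁ V')
      Γ(pullback f' f', WD f' (u ⁻¹ᵁ U ⊓ f' ⁻¹ᵁ V')) :=
    IsScalarTower.of_algebraMap_eq (fun x => rfl)
  haveI t2 : IsScalarTower Γ(X, U) Γ(pullback f f, WD f U)
      Γ(pullback f' f', WD f' (u ⁻¹ᵁ U ⊓ f' ⁻¹ᵁ V')) :=
    IsScalarTower.of_algebraMap_eq (fun x => (eta_fst f g u f' hsq hU'U hWD x).symm)
  have hpo' : IsPushout
      (CommRingCat.ofHom (algebraMap Γ(X, U) Γ(pullback f f, WD f U)))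
      (CommRingCat.ofHom (algebraMap Γ(X, U) Γ(X', u ⁻¹ᵁ U ⊓ f' ⁻¹ᵁ V')))
      (CommRingCat.ofHom (algebraMap Γ(pullback f f, WD f U)
        Γ(pullback f' f', WD f' (u ⁻¹ᵁ U ⊓ f' ⁻¹ᵁ V'))))
      (CommRingCat.ofHom (algebraMap Γ(X', u ⁻¹ᵁ U ⊓ f' ⁻¹ᵁ V')
        Γ(pullback f' f', WD f' (u ⁻¹ᵁ U ⊓ f' ⁻¹ᵁ V')))) := hpo
  haveI hP : Algebra.IsPushout Γ(X, U) Γ(X', u ⁻¹ᵁ U ⊓ f' ⁻¹ᵁ V') Γ(pullback f f, WD f U)
      Γ(pullback f' f', WD f' (u ⁻¹ᵁ U ⊓ f' ⁻¹ᵁ V')) :=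
    (CommRingCat.isPushout_iff_isPushout.mp hpo').symm
  -- θ
  let θ : Γ(P f n, U) →+ Γ((Scheme.Modules.pullback u).obj (P f n), u ⁻¹ᵁ U ⊓ f' ⁻¹ᵁ V') :=
    AddMonoidHom.mk' (fun x => pullRes u (P f n) hU'U x) (fun a b => by
      unfold pullRes
      rw [map_add, map_add])
  have hθa : ∀ x, θ x = pullRes u (P f n) hU'U x := fun x => rfl
  have hθ : ∀ (a : Γ(X, U)) (x : Γ(P f n, U)),
      θ (a • x) = algebraMap Γ(X, U) Γ(X', u ⁻¹ᵁ U ⊓ f' ⁻¹ᵁ V') a • θ x := by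
    intro a x
    rw [hθa, hθa, pullRes, pullRes, OmegaSh.pullSect_smul]
    have h := res_smul ((Scheme.Modules.pullback u).obj (P f n)) hU'U (u.app U a)
      (pullSect u (P f n) U x)
    rw [res] at h
    rw [h]
    rfl
  have hθspan : Submodule.span Γ(X', u ⁻¹ᵁ U ⊓ f' ⁻¹ᵁ V') (Set.range θ) = ⊤ := by
    have h := span_pullRes u (P f n) hU' hU hU'U Set.univ (by simp)
    rw [Set.image_univ] at h
    exact h
  have hG : AddSubgroup.closure (prodSetWD f U) = ⊤ :=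
    eq_top_iff.2 (fun y _ => mem_closure_WD f hU hV e y)
  have hkey : ∀ b' : Γ(X, U), φ.app (u ⁻¹ᵁ U ⊓ f' ⁻¹ᵁ V') (θ (dn f n U b')) =
      dn f' n (u ⁻¹ᵁ U ⊓ f' ⁻¹ᵁ V') (u.appLE U (u ⁻¹ᵁ U ⊓ f' ⁻¹ᵁ V') hU'U b') := by
    intro b'
    rw [hθa, pullRes]
    have h1 := app_res φ hU'U (pullSect u (P f n) U (dn f n U b'))
    rw [res] at h1
    rw [h1, hφ U b']
    exact (dn_map f' hU'U (u.app U b') n).symm
  have hgen : ∀ y ∈ prodSetWD f U, ∃ x : Γ(P f n, U), theta f n U x = nu f n U y ∧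
      theta f' n (u ⁻¹ᵁ U ⊓ f' ⁻¹ᵁ V')
        (appLin φ (u ⁻¹ᵁ U ⊓ f' ⁻¹ᵁ V') (θ x)) =
      nu f' n (u ⁻¹ᵁ U ⊓ f' ⁻¹ᵁ V')
        (algebraMap Γ(pullback f f, WD f U)
          Γ(pullback f' f', WD f' (u ⁻¹ᵁ U ⊓ f' ⁻¹ᵁ V')) y) := by
    rintro _ ⟨b, b', rfl⟩
    refine ⟨b • dn f n U b', theta_smul_dn f n U b b', ?_⟩
    have e1 : appLin φ (u ⁻¹ᵁ U ⊓ f' ⁻¹ᵁ V') (θ (b • dn f n U b')) =
        u.appLE U (u ⁻¹ᵁ U ⊓ f' ⁻¹ᵁ V') hU'U b •
          dn f' n (u ⁻¹ᵁ U ⊓ f' ⁻¹ᵁ V') (u.appLE U (u ⁻¹ᵁ U ⊓ f' ⁻¹ᵁ V') hU'U b') := by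
      rw [hθ, map_smul]
      change _ • φ.app (u ⁻¹ᵁ U ⊓ f' ⁻¹ᵁ V') (θ (dn f n U b')) = _
      rw [hkey]
      rfl
    rw [e1, theta_smul_dn]
    change _ = nu f' n (u ⁻¹ᵁ U ⊓ f' ⁻¹ᵁ V')
      ((hmap f g u f' hsq).appLE (WD f U) (WD f' (u ⁻¹ᵁ U ⊓ f' ⁻¹ᵁ V')) hWD
        ((pullback.fst f f).appLE U (WD f U) inf_le_left b *
          (pullback.snd f f).appLE U (WD f U) inf_le_right b'))
    refine congrArg (nu f' n (u ⁻¹ᵁ U ⊓ f' ⁻¹ᵁ V')) ?_
    rw [map_mul, eta_fst f g u f' hsq hU'U hWD, eta_snd f g u f' hsq hU'U hWD]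
  have h := bij_P (A := Γ(X, U)) (A' := Γ(X', u ⁻¹ᵁ U ⊓ f' ⁻¹ᵁ V'))
    (O := Γ(pullback f f, WD f U)) (O' := Γ(pullback f' f', WD f' (u ⁻¹ᵁ U ⊓ f' ⁻¹ᵁ V')))
    (delta f U) (delta f' (u ⁻¹ᵁ U ⊓ f' ⁻¹ᵁ V'))
    (delta_fst f U) (delta_fst f' (u ⁻¹ᵁ U ⊓ f' ⁻¹ᵁ V'))
    (delta_eta f g u f' hsq hU'U hWD) n
    (nu f n U) (nu_surjective f n hU hV e)
    (fun y hy => (nu_eq_zero_iff f n hU hV e y).2 hy)
    (nu f' n (u ⁻¹ᵁ U ⊓ f' ⁻¹ᵁ V')) (nu_surjective f' n hU' hV' eU')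
    (fun y hy => (nu_eq_zero_iff f' n hU' hV' eU' y).1 hy)
    (theta f n U) (theta_bijective f n U).1 (theta_smul_nu f n U)
    (theta f' n (u ⁻¹ᵁ U ⊓ f' ⁻¹ᵁ V')) (theta_bijective f' n (u ⁻¹ᵁ U ⊓ f' ⁻¹ᵁ V')).1
    (theta_smul_nu f' n (u ⁻¹ᵁ U ⊓ f' ⁻¹ᵁ V'))
    θ hθ hθspan (appLin φ (u ⁻¹ᵁ U ⊓ f' ⁻¹ᵁ V')) (prodSetWD f U) hG hgen
  exact h

include hsq in
theorem main5954 (n : ℕ) (φ : (Scheme.Modules.pullback u).obj (P f n) ⟶ P f' n)
    (hφ : IsPMap f f' u n φ) : IsIso φ := by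
  haveI : (Coh.structureModule X).IsQuasicoherent :=
    Groth.Agent.Helper13.QCoh.isQuasicoherent_unit X
  haveI : (Coh.structureModule X').IsQuasicoherent :=
    Groth.Agent.Helper13.QCoh.isQuasicoherent_unit X'
  haveI q0 : (P f n).IsQuasicoherent := isQuasicoherent_PMod f n _
  haveI q1 : ((Scheme.Modules.pullback u).obj (P f n)).IsQuasicoherent :=
    isQuasicoherent_pullback u _
  haveI q2 : (P f' n).IsQuasicoherent := isQuasicoherent_PMod f' n _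
  let 𝒰 : Set X'.Opens := {W | ∃ (V : S.Opens) (U : X.Opens) (V' : S'.Opens), IsAffineOpen V ∧
    IsAffineOpen U ∧ IsAffineOpen V' ∧ U ≤ f ⁻¹ᵁ V ∧ V' ≤ g ⁻¹ᵁ V ∧
    W = u ⁻¹ᵁ U ⊓ f' ⁻¹ᵁ V'}
  have hA : ∀ W ∈ 𝒰, IsAffineOpen W := by
    rintro _ ⟨V, U, V', hV, hU, hV', e, e', rfl⟩
    exact isAffineOpen_UX' f g u f' hsq hV hU hV' e e'
  have hcov : ∀ x : X', ∃ W ∈ 𝒰, x ∈ W := by
    intro x
    obtain ⟨_, ⟨V, hV, rfl⟩, hxV, -⟩ :=
      S.isBasis_affineOpens.exists_subset_of_mem_open (Set.mem_univ (f (u x))) isOpen_univ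
    have hx1 : u x ∈ f ⁻¹ᵁ V := hxV
    obtain ⟨_, ⟨U, hU, rfl⟩, hxU, hUle⟩ :=
      X.isBasis_affineOpens.exists_subset_of_mem_open hx1 (f ⁻¹ᵁ V).2
    have hx2 : f' x ∈ g ⁻¹ᵁ V := by
      change g (f' x) ∈ V
      have : g (f' x) = f (u x) := by
        rw [← Scheme.Hom.comp_apply, ← Scheme.Hom.comp_apply, hsq.w]
      rw [this]
      exact hxV
    obtain ⟨_, ⟨V', hV', rfl⟩, hxV', hV'le⟩ :=
      S'.isBasis_affineOpens.exists_subset_of_mem_open hx2 (g ⁻¹ᵁ V).2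
    exact ⟨u ⁻¹ᵁ U ⊓ f' ⁻¹ᵁ V', ⟨V, U, V', hV, hU, hV', hUle, hV'le, rfl⟩, ⟨hxU, hxV'⟩⟩
  apply Groth.Agent.Helper18.QCBasic.isIso_of_cover φ 𝒰 hA hcov
  rintro _ ⟨V, U, V', hV, hU, hV', e, e', rfl⟩
  exact bijective_chart f g u f' hsq n φ hφ hV hU hV' e e'

end BC

end Groth.Agent.Helper9.PPBC1
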