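import Mathlib
import Groth.Prelude.Def_OmegaPn
import Groth.Agent.Lib.Helper9.PrinPart9
import Groth.Agent.Lib.Helper18.OmegaSpec

/-!
# Principal parts of `Spec A → Spec R`: global sections
-/

set_option autoImplicit false
set_option linter.unusedSectionVars false
set_option backward.isDefEq.respectTransparency false
universe u
open CategoryTheory CategoryTheory.Limits AlgebraicGeometry TopologicalSpace Opposite TensorProduct

namespace Groth.Agent.Helper9.PrinPart10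

open OmegaSh PrinPart Groth.Agent.Helper9.PrinPart9 Groth.Agent.Helper18.OmegaSpec

theorem appLE_top_top {X Y : Scheme.{u}} (g : X ⟶ Y) (e : (⊤ : X.Opens) ≤ g ⁻¹ᵁ ⊤) :
    g.appLE ⊤ ⊤ e = g.appTop := by
  have h : (homOfLE e) = 𝟙 (⊤ : X.Opens) := Subsingleton.elim _ _
  change g.app ⊤ ≫ X.presheaf.map (homOfLE e).op = g.app ⊤
  rw [h]
  erw [X.presheaf.map_id]
  exact Category.comp_id _

variable (R A : Type u) [CommRing R] [CommRing A] [Algebra R A]

theorem betaS_of_eq (φ : A →+* A ⊗[R] A)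
    (π : pullback (fS R A) (fS R A) ⟶ Spec (CommRingCat.of A))
    (h : (pullbackSpecIso R A A).hom ≫ Spec.map (CommRingCat.ofHom φ) = π) (b : A) :
    betaS R A (π.appTop ((Scheme.ΓSpecIso (CommRingCat.of A)).inv b)) = φ b := by
  subst h
  have h3 := Scheme.ΓSpecIso_naturality (CommRingCat.ofHom φ)
  have h5 : ∀ y, (pullbackSpecIso R A A).inv.appTop ((pullbackSpecIso R A A).hom.appTop y) = y := by
    intro y
    rw [← CommRingCat.comp_apply, ← Scheme.Hom.comp_appTop, Iso.inv_hom_id, Scheme.Hom.id_appTop]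
    rfl
  change (Scheme.ΓSpecIso (CommRingCat.of (A ⊗[R] A))).hom ((pullbackSpecIso R A A).inv.appTop
    (((pullbackSpecIso R A A).hom ≫ Spec.map (CommRingCat.ofHom φ)).appTop _)) = _
  rw [Scheme.Hom.comp_appTop, CommRingCat.comp_apply, h5]
  have h4 := congr($h3 ((Scheme.ΓSpecIso (CommRingCat.of A)).inv b))
  rw [CommRingCat.comp_apply, CommRingCat.comp_apply, Iso.inv_hom_id_apply] at h4
  exact h4

theorem betaS_fst (b : A) :
    betaS R A ((pullback.fst (fS R A) (fS R A)).appTop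
      ((Scheme.ΓSpecIso (CommRingCat.of A)).inv b)) = b ⊗ₜ[R] 1 :=
  betaS_of_eq R A Algebra.TensorProduct.includeLeftRingHom _ (pullbackSpecIso_hom_fst R A A) b

theorem betaS_snd (b : A) :
    betaS R A ((pullback.snd (fS R A) (fS R A)).appTop
      ((Scheme.ΓSpecIso (CommRingCat.of A)).inv b)) = 1 ⊗ₜ[R] b :=
  betaS_of_eq R A (RingHomClass.toRingHom Algebra.TensorProduct.includeRight) _
    (pullbackSpecIso_hom_snd R A A) b

theorem betaS_symm_tmul (b b' : A) :
    (betaS R A).symm (b ⊗ₜ[R] b') =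
      (pullback.fst (fS R A) (fS R A)).appTop ((Scheme.ΓSpecIso (CommRingCat.of A)).inv b) *
        (pullback.snd (fS R A) (fS R A)).appTop ((Scheme.ΓSpecIso (CommRingCat.of A)).inv b') := by
  apply (betaS R A).injective
  rw [RingEquiv.apply_symm_apply, map_mul, betaS_fst, betaS_snd,
    Algebra.TensorProduct.tmul_mul_tmul, mul_one, one_mul]

theorem main5972 (n : ℕ)
    (ψ : A ⊗[R] A →+ Γ(PrinPart.P (fS R A) n, (⊤ : (Spec (CommRingCat.of A)).Opens)))
    (hψ : ∀ b b' : A, ψ (b ⊗ₜ[R] b') =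
      (Scheme.ΓSpecIso (CommRingCat.of A)).inv b •
        PrinPart.dn (fS R A) n ⊤ ((Scheme.ΓSpecIso (CommRingCat.of A)).inv b')) :
    Function.Surjective ψ ∧ ψ.ker = (KaehlerDifferential.ideal R A ^ (n + 1)).toAddSubgroup := by
  have hZ : pr1 (fS R A) n ⁻¹ᵁ ⊤ = nbhdι (fS R A) n ⁻¹ᵁ ⊤ := by
    ext x
    simp
  have hQ : IsAffineOpen (⊤ : (pullback (fS R A) (fS R A)).Opens) := isAffineOpen_top _
  have hQW : (⊤ : (pullback (fS R A) (fS R A)).Opens) ≤
      (pullback.diagonal (fS R A)).coborderRange := (coborderRange_eq_top (fS R A)).ge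
  have hsurj := nbhdι_appLE_surjective (fS R A) n hQ hQW _ hZ
  have hker := nbhdι_appLE_eq_zero_iff (fS R A) n hQ hQW _ hZ
  -- the ring homomorphism `A ⊗ A → Γ(N, Z)`
  let ρ : A ⊗[R] A →+* Γ(nbhd (fS R A) n, pr1 (fS R A) n ⁻¹ᵁ ⊤) :=
    ((nbhdι (fS R A) n).appLE ⊤ (pr1 (fS R A) n ⁻¹ᵁ ⊤) hZ.le).hom.comp
      (betaS R A).symm.toRingHom
  have hρ : ∀ τ, ρ τ = (nbhdι (fS R A) n).appLE ⊤ (pr1 (fS R A) n ⁻¹ᵁ ⊤) hZ.le
      ((betaS R A).symm τ) := fun _ => rfl
  have hθ := theta_bijective (fS R A) n ⊤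
  -- the two maps agree
  have hfst : ∀ c, (nbhdι (fS R A) n).appLE ⊤ (pr1 (fS R A) n ⁻¹ᵁ ⊤) hZ.le
      ((pullback.fst (fS R A) (fS R A)).appTop c) = (pr1 (fS R A) n).app ⊤ c := by
    intro c
    have h1 := pr1_appLE (fS R A) n ⊤ ⊤ le_top (pr1 (fS R A) n ⁻¹ᵁ ⊤) hZ.le le_rfl
    rw [appLE_top_top, Scheme.Hom.appLE_eq_app] at h1
    exact congr($h1 c)
  have hsnd : ∀ c, (nbhdι (fS R A) n).appLE ⊤ (pr1 (fS R A) n ⁻¹ᵁ ⊤) hZ.le
      ((pullback.snd (fS R A) (fS R A)).appTop c) =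
      (pr2 (fS R A) n).appLE ⊤ (pr1 (fS R A) n ⁻¹ᵁ ⊤) (preimage_pr1 (fS R A) n ⊤).le c := by
    intro c
    have h1 := pr2_appLE (fS R A) n ⊤ ⊤ le_top (pr1 (fS R A) n ⁻¹ᵁ ⊤) hZ.le
      (preimage_pr1 (fS R A) n ⊤).le
    rw [appLE_top_top] at h1
    exact congr($h1 c)
  have hagree : ∀ τ, theta (fS R A) n ⊤ (ψ τ) = ρ τ := by
    intro τ
    induction τ using TensorProduct.induction_on with
    | zero => rw [map_zero, map_zero, map_zero]
    | tmul b b' =>
      rw [hψ, theta_smul, theta_dn, hρ, betaS_symm_tmul, map_mul, hfst, hsnd]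
    | add x y hx hy => rw [map_add, map_add, map_add, hx, hy]
  have hρsurj : Function.Surjective ρ := by
    intro y
    obtain ⟨q, hq⟩ := hsurj y
    exact ⟨betaS R A q, by rw [hρ, RingEquiv.symm_apply_apply, hq]⟩
  -- the kernel of the diagonal on global sections
  have hK : KaehlerDifferential.ideal R A = RingHom.ker
      ((Algebra.TensorProduct.lmul' R : A ⊗[R] A →ₐ[R] A) : A ⊗[R] A →+* A) := by
    ext x
    rw [RingHom.mem_ker, RingHom.mem_ker]
    rfl
  have hΔ : ∀ x, ((pullback.diagonal (fS R A)).app ⊤).hom x = 0 ↔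
      ((Algebra.TensorProduct.lmul' R : A ⊗[R] A →ₐ[R] A) : A ⊗[R] A →+* A) (betaS R A x) = 0 := by
    intro x
    have h1 := hcompS R A x
    constructor
    · intro h
      have h2 : (dS R A).app ⊤ x = 0 := h
      rw [h2, map_zero] at h1
      exact h1.symm
    · intro h
      have h2 : Algebra.TensorProduct.lmul' R (betaS R A x) = 0 := h
      rw [h2] at h1
      exact (map_eq_zero_iff _ (psiS A).injective).1 h1
  refine ⟨?_, ?_⟩
  · intro y
    obtain ⟨τ, hτ⟩ := hρsurj (theta (fS R A) n ⊤ y)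
    exact ⟨τ, hθ.1 ((hagree τ).trans hτ)⟩
  · ext τ
    rw [AddMonoidHom.mem_ker, Submodule.mem_toAddSubgroup, hK]
    have key := mem_ker_pow_iff (betaS R A) ((pullback.diagonal (fS R A)).app ⊤).hom
      ((Algebra.TensorProduct.lmul' R : A ⊗[R] A →ₐ[R] A) : A ⊗[R] A →+* A) hΔ (n + 1)
      ((betaS R A).symm τ)
    rw [RingEquiv.apply_symm_apply] at key
    rw [← key, ← hker, ← hρ, ← hagree]
    constructor
    · intro h
      rw [h, map_zero]
    · intro h
      exact hθ.1 (h.trans (map_zero _).symm)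

end Groth.Agent.Helper9.PrinPart10
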