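import Mathlib
import Groth.Prelude.Def_OmegaPn
import Groth.Prelude.Def_PP16
import Groth.Prelude.Def_DiffOp
import Groth.Agent.Lib.Helper9.PPBC1
import Groth.Agent.Lib.Helper9.PrinPart10
import Groth.Agent.Lib.Helper18.PbCompat3
import Groth.Agent.Lib.Helper14.HomLimA
import Groth.Agent.S3815

/-!
# Differential operators on affine schemes from ring-level differential operators (S9715)

For `f : X ⟶ S` a morphism of affine schemes, `R = Γ(S, ⊤)`, `A = Γ(X, ⊤)`: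
* `exists_sigma`: a ring isomorphism `P^k_{A/R} ≃ Γ(X^{(k)}_Δ, p_1⁻¹ ⊤)` compatible with both `A`-algebra
  structures;
* `exists_lam`: an additive map out of `P^k_{A/R} ⊗_A Γ(F, ⊤)` linear for the left structure gives an
  `A`-linear map out of `Γ(P^k_{X/S}(F), ⊤)` (for `F` quasi-coherent);
* `main9715`: a ring-level differential operator of order `≤ k` between global sections is induced by a
  differential operator `F → G` in the principal-parts sense.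
-/

set_option autoImplicit false
set_option linter.unusedSectionVars false
set_option backward.isDefEq.respectTransparency false
universe u
open CategoryTheory CategoryTheory.Limits AlgebraicGeometry TopologicalSpace Opposite TensorProduct

namespace Groth.Agent.Helper9.PPAff1

open OmegaSh PrinPart Groth.Agent.Helper9.PrinPart0 Groth.Agent.Helper9.PrinPart2
  Groth.Agent.Helper9.PrinPart9 Groth.Agent.Helper9.PrinPart11 Groth.Agent.Helper9.PPBC1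
  Groth.Agent.Helper18.OmegaSec Groth.Agent.Helper13.Pullback

section Sigma

variable {X S : Scheme.{u}} [IsAffine X] [IsAffine S] (f : X ⟶ S) (k : ℕ)

theorem exists_sigma_core :
    letI := algUV (U := (⊤ : X.Opens)) (V := (⊤ : S.Opens)) f le_top
    ∃ σ : PP16.P k Γ(S, ⊤) Γ(X, ⊤) ≃+* Γ(nbhd f k, pr1 f k ⁻¹ᵁ ⊤),
      (∀ a : Γ(X, ⊤), σ (algebraMap Γ(X, ⊤) (PP16.P k Γ(S, ⊤) Γ(X, ⊤)) a) = (pr1 f k).app ⊤ a) ∧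
      (∀ b : Γ(X, ⊤), σ (PP16.dn k Γ(S, ⊤) Γ(X, ⊤) b) =
        (pr2 f k).appLE ⊤ (pr1 f k ⁻¹ᵁ ⊤) (preimage_pr1 f k ⊤).le b) := by
  intros
  letI iA : Algebra Γ(S, ⊤) Γ(X, ⊤) := algUV (U := (⊤ : X.Opens)) (V := (⊤ : S.Opens)) f le_top
  have hX : IsAffineOpen (⊤ : X.Opens) := isAffineOpen_top X
  have hS : IsAffineOpen (⊤ : S.Opens) := isAffineOpen_top S
  have e0 : (⊤ : X.Opens) ≤ f ⁻¹ᵁ ⊤ := le_top
  let β : Γ(pullback f f, WD f ⊤) ≃+* Γ(X, ⊤) ⊗[Γ(S, ⊤)] Γ(X, ⊤) :=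
    (betaIso f hX hS e0).commRingCatIsoToRingEquiv
  have hβ1 : ∀ a : Γ(X, ⊤), β ((pullback.fst f f).appLE ⊤ (WD f ⊤) inf_le_left a) =
      a ⊗ₜ[Γ(S, ⊤)] (1 : Γ(X, ⊤)) := by
    intro a
    have h := IsPushout.inl_isoIsPushout_hom _ _ (isPushout_WD f hX hS e0)
      (CommRingCat.isPushout_tensorProduct Γ(S, ⊤) Γ(X, ⊤) Γ(X, ⊤))
    exact congr($h a)
  have hβ2 : ∀ b : Γ(X, ⊤), β ((pullback.snd f f).appLE ⊤ (WD f ⊤) inf_le_right b) =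
      (1 : Γ(X, ⊤)) ⊗ₜ[Γ(S, ⊤)] b := by
    intro b
    have h := IsPushout.inr_isoIsPushout_hom _ _ (isPushout_WD f hX hS e0)
      (CommRingCat.isPushout_tensorProduct Γ(S, ⊤) Γ(X, ⊤) Γ(X, ⊤))
    exact congr($h b)
  have hβδ : ∀ y, delta f ⊤ y = Algebra.TensorProduct.lmul' Γ(S, ⊤) (S := Γ(X, ⊤)) (β y) := by
    intro y
    exact congr($(diag_appLE_eq f hX hS e0) y)
  let lm : Γ(X, ⊤) ⊗[Γ(S, ⊤)] Γ(X, ⊤) →+* Γ(X, ⊤) :=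
    ((Algebra.TensorProduct.lmul' Γ(S, ⊤) : Γ(X, ⊤) ⊗[Γ(S, ⊤)] Γ(X, ⊤) →ₐ[Γ(S, ⊤)] Γ(X, ⊤)) :
      Γ(X, ⊤) ⊗[Γ(S, ⊤)] Γ(X, ⊤) →+* Γ(X, ⊤))
  have hK : KaehlerDifferential.ideal Γ(S, ⊤) Γ(X, ⊤) = RingHom.ker lm := by
    ext x
    rw [RingHom.mem_ker, RingHom.mem_ker]
    rfl
  have hΔ : ∀ y, delta f ⊤ y = 0 ↔ lm (β y) = 0 := by
    intro y
    have h := hβδ y
    constructor
    · intro h0
      rw [h0] at h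
      exact h.symm
    · intro h0
      rw [h]
      exact h0
  let σ₀ : Γ(X, ⊤) ⊗[Γ(S, ⊤)] Γ(X, ⊤) →+* Γ(nbhd f k, pr1 f k ⁻¹ᵁ ⊤) :=
    (nu f k ⊤).comp β.symm.toRingHom
  have hσ₀ : ∀ x, σ₀ x = nu f k ⊤ (β.symm x) := fun _ => rfl
  have hsurj : Function.Surjective σ₀ := by
    intro y
    obtain ⟨q, hq⟩ := nu_surjective f k hX hS e0 y
    exact ⟨β q, by rw [hσ₀, RingEquiv.symm_apply_apply, hq]⟩
  have hker : ∀ x, σ₀ x = 0 ↔ x ∈ KaehlerDifferential.ideal Γ(S, ⊤) Γ(X, ⊤) ^ (k + 1) := by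
    intro x
    rw [hσ₀, nu_eq_zero_iff f k hX hS e0, hK]
    have key := mem_ker_pow_iff β (delta f ⊤) lm hΔ (k + 1) (β.symm x)
    rw [RingEquiv.apply_symm_apply] at key
    exact key
  let σ₁ : PP16.P k Γ(S, ⊤) Γ(X, ⊤) →+* Γ(nbhd f k, pr1 f k ⁻¹ᵁ ⊤) :=
    Ideal.Quotient.lift (KaehlerDifferential.ideal Γ(S, ⊤) Γ(X, ⊤) ^ (k + 1)) σ₀
      (fun x hx => (hker x).2 hx)
  have hσ₁ : ∀ x, σ₁ (Ideal.Quotient.mk _ x) = σ₀ x := fun x => Ideal.Quotient.lift_mk _ _ _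
  have hinj : Function.Injective σ₁ := by
    rw [injective_iff_map_eq_zero]
    intro z hz
    obtain ⟨x, rfl⟩ := Ideal.Quotient.mk_surjective z
    rw [hσ₁] at hz
    exact Ideal.Quotient.eq_zero_iff_mem.2 ((hker x).1 hz)
  have hsurj₁ : Function.Surjective σ₁ := by
    intro y
    obtain ⟨x, hx⟩ := hsurj y
    exact ⟨Ideal.Quotient.mk _ x, (hσ₁ x).trans hx⟩
  refine ⟨RingEquiv.ofBijective σ₁ ⟨hinj, hsurj₁⟩, ?_, ?_⟩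
  · intro a
    change σ₁ (Ideal.Quotient.mk _ (a ⊗ₜ[Γ(S, ⊤)] (1 : Γ(X, ⊤)))) = _
    rw [hσ₁, hσ₀]
    have h : β.symm (a ⊗ₜ[Γ(S, ⊤)] (1 : Γ(X, ⊤))) =
        (pullback.fst f f).appLE ⊤ (WD f ⊤) inf_le_left a :=
      (RingEquiv.symm_apply_eq β).2 (hβ1 a).symm
    rw [h]
    exact nu_fst f k ⊤ a
  · intro b
    change σ₁ (Ideal.Quotient.mk _ ((1 : Γ(X, ⊤)) ⊗ₜ[Γ(S, ⊤)] b)) = _
    rw [hσ₁, hσ₀]
    have h : β.symm ((1 : Γ(X, ⊤)) ⊗ₜ[Γ(S, ⊤)] b) =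
        (pullback.snd f f).appLE ⊤ (WD f ⊤) inf_le_right b :=
      (RingEquiv.symm_apply_eq β).2 (hβ2 b).symm
    rw [h]
    exact nu_snd f k ⊤ b

theorem exists_sigma [inst : Algebra Γ(S, ⊤) Γ(X, ⊤)]
    (halg : ∀ r, algebraMap Γ(S, ⊤) Γ(X, ⊤) r = (f.appLE ⊤ ⊤ le_top).hom r) :
    ∃ σ : PP16.P k Γ(S, ⊤) Γ(X, ⊤) ≃+* Γ(nbhd f k, pr1 f k ⁻¹ᵁ ⊤),
      (∀ a : Γ(X, ⊤), σ (algebraMap Γ(X, ⊤) (PP16.P k Γ(S, ⊤) Γ(X, ⊤)) a) = (pr1 f k).app ⊤ a) ∧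
      (∀ b : Γ(X, ⊤), σ (PP16.dn k Γ(S, ⊤) Γ(X, ⊤) b) =
        (pr2 f k).appLE ⊤ (pr1 f k ⁻¹ᵁ ⊤) (preimage_pr1 f k ⊤).le b) := by
  obtain rfl : inst = algUV (U := (⊤ : X.Opens)) (V := (⊤ : S.Opens)) f le_top :=
    Algebra.algebra_ext _ _ (fun r => halg r)
  exact exists_sigma_core f k

end Sigma

section Mod

variable {X S : Scheme.{u}} (f : X ⟶ S) (k : ℕ) (F G : X.Modules) [F.IsQuasicoherent]
  [Algebra Γ(S, ⊤) Γ(X, ⊤)]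

set_option maxRecDepth 16000 in
set_option maxHeartbeats 1600000 in
theorem exists_lam
    (σ : PP16.P k Γ(S, ⊤) Γ(X, ⊤) ≃+* Γ(nbhd f k, pr1 f k ⁻¹ᵁ ⊤))
    (hσ1 : ∀ a : Γ(X, ⊤),
      σ (algebraMap Γ(X, ⊤) (PP16.P k Γ(S, ⊤) Γ(X, ⊤)) a) = (pr1 f k).app ⊤ a)
    (hσ2 : ∀ b : Γ(X, ⊤), σ (PP16.dn k Γ(S, ⊤) Γ(X, ⊤) b) =
        (pr2 f k).appLE ⊤ (pr1 f k ⁻¹ᵁ ⊤) (preimage_pr1 f k ⊤).le b)
    (hU0 : IsAffineOpen (pr1 f k ⁻¹ᵁ ⊤)) (hX : IsAffineOpen (⊤ : X.Opens))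
    (u₀ : PP16.PM k Γ(S, ⊤) Γ(X, ⊤) Γ(F, ⊤) →+ Γ(G, ⊤))
    (h1 : ∀ (b : Γ(X, ⊤)) (t : PP16.PM k Γ(S, ⊤) Γ(X, ⊤) Γ(F, ⊤)),
      u₀ (algebraMap Γ(X, ⊤) (PP16.P k Γ(S, ⊤) Γ(X, ⊤)) b • t) = b • u₀ t) :
    ∃ lam : Γ(PMod f k F, ⊤) →ₗ[Γ(X, ⊤)] Γ(G, ⊤),
      ∀ m : Γ(F, ⊤), lam (dP f k F ⊤ m) = u₀ (PP16.dM k Γ(S, ⊤) Γ(X, ⊤) Γ(F, ⊤) m) := by
  letI aN : Algebra Γ(X, ⊤) Γ(nbhd f k, pr1 f k ⁻¹ᵁ ⊤) :=
    ((pr2 f k).appLE ⊤ (pr1 f k ⁻¹ᵁ ⊤) (preimage_pr1 f k ⊤).le).hom.toAlgebra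
  let spe : Γ(M2 f k F, pr1 f k ⁻¹ᵁ ⊤) ≃ₗ[Γ(nbhd f k, pr1 f k ⁻¹ᵁ ⊤)]
      Γ(nbhd f k, pr1 f k ⁻¹ᵁ ⊤) ⊗[Γ(X, ⊤)] Γ(F, ⊤) :=
    sectionsPullbackEquiv (pr2 f k) F hU0 hX (preimage_pr1 f k ⊤).le
  let σL : PP16.Pr k Γ(S, ⊤) Γ(X, ⊤) ≃ₗ[Γ(X, ⊤)] Γ(nbhd f k, pr1 f k ⁻¹ᵁ ⊤) :=
    { toFun := fun x => σ x
      invFun := fun y => σ.symm y
      map_add' := fun x y => map_add σ x y
      map_smul' := fun b x => by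
        change σ (PP16.dn k Γ(S, ⊤) Γ(X, ⊤) b * (show PP16.P k Γ(S, ⊤) Γ(X, ⊤) from x)) =
          (pr2 f k).appLE ⊤ (pr1 f k ⁻¹ᵁ ⊤) (preimage_pr1 f k ⊤).le b *
            σ (show PP16.P k Γ(S, ⊤) Γ(X, ⊤) from x)
        rw [map_mul, hσ2]
      left_inv := fun x => σ.symm_apply_apply x
      right_inv := fun y => σ.apply_symm_apply y }
  let T : PP16.Pr k Γ(S, ⊤) Γ(X, ⊤) ⊗[Γ(X, ⊤)] Γ(F, ⊤) ≃ₗ[Γ(X, ⊤)]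
      Γ(nbhd f k, pr1 f k ⁻¹ᵁ ⊤) ⊗[Γ(X, ⊤)] Γ(F, ⊤) :=
    TensorProduct.congr σL (LinearEquiv.refl Γ(X, ⊤) Γ(F, ⊤))
  have hT : ∀ (x : PP16.Pr k Γ(S, ⊤) Γ(X, ⊤)) (m : Γ(F, ⊤)), T (x ⊗ₜ[Γ(X, ⊤)] m) =
      (σ x) ⊗ₜ[Γ(X, ⊤)] m := fun x m => TensorProduct.congr_tmul _ _ _ _
  have hstar : ∀ (w : PP16.P k Γ(S, ⊤) Γ(X, ⊤))
      (z : PP16.Pr k Γ(S, ⊤) Γ(X, ⊤) ⊗[Γ(X, ⊤)] Γ(F, ⊤)), T (w • z) = σ w • T z := by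
    intro w z
    induction z using TensorProduct.induction_on with
    | zero => rw [smul_zero, map_zero, smul_zero]
    | tmul x m =>
      have hq : σ (w • x) = σ w • σ x := by
        change σ (w * (show PP16.P k Γ(S, ⊤) Γ(X, ⊤) from x)) =
          σ w * σ (show PP16.P k Γ(S, ⊤) Γ(X, ⊤) from x)
        exact map_mul σ _ _
      rw [TensorProduct.smul_tmul', hT, hT, TensorProduct.smul_tmul', hq]
    | add x y hx hy => rw [smul_add, map_add, hx, hy, map_add, smul_add]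
  have hss : ∀ (p : Γ(nbhd f k, pr1 f k ⁻¹ᵁ ⊤))
      (y : Γ(nbhd f k, pr1 f k ⁻¹ᵁ ⊤) ⊗[Γ(X, ⊤)] Γ(F, ⊤)),
      T.symm (p • y) = σ.symm p • T.symm y := by
    intro p y
    rw [LinearEquiv.symm_apply_eq, hstar, RingEquiv.apply_symm_apply,
      LinearEquiv.apply_symm_apply]
  have hsmul : ∀ (a : Γ(X, ⊤)) (x : Γ(PMod f k F, ⊤)),
      spe (a • x) = (pr1 f k).app ⊤ a • spe x := by
    intro a x
    exact spe.map_smul ((pr1 f k).app ⊤ a) x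
  have hp : ∀ a : Γ(X, ⊤), σ.symm ((pr1 f k).app ⊤ a) =
      algebraMap Γ(X, ⊤) (PP16.P k Γ(S, ⊤) Γ(X, ⊤)) a :=
    fun a => (RingEquiv.symm_apply_eq σ).2 (hσ1 a).symm
  refine ⟨{ toFun := fun x => u₀ (T.symm (spe x))
            map_add' := fun x y => by
              rw [map_add spe, map_add T.symm, map_add u₀]
            map_smul' := fun a x => by
              change u₀ (T.symm (spe (a • x))) = a • u₀ (T.symm (spe x))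
              rw [hsmul, hss, hp]
              exact h1 a _ }, ?_⟩
  intro m
  change u₀ (T.symm (spe (dP f k F ⊤ m))) = _
  have h2 : spe (dP f k F ⊤ m) = (1 : Γ(nbhd f k, pr1 f k ⁻¹ᵁ ⊤)) ⊗ₜ[Γ(X, ⊤)] m := by
    rw [dP_apply]
    exact Groth.Agent.Helper18.PbCompat.sectionsPullbackEquiv_pullSect (pr2 f k) F hU0 hX
      (preimage_pr1 f k ⊤).le m
  have hσone : σ (show PP16.P k Γ(S, ⊤) Γ(X, ⊤) from (1 : PP16.Pr k Γ(S, ⊤) Γ(X, ⊤))) = 1 :=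
    map_one σ
  have h3 : T.symm ((1 : Γ(nbhd f k, pr1 f k ⁻¹ᵁ ⊤)) ⊗ₜ[Γ(X, ⊤)] m) =
      (1 : PP16.Pr k Γ(S, ⊤) Γ(X, ⊤)) ⊗ₜ[Γ(X, ⊤)] m := by
    rw [LinearEquiv.symm_apply_eq, hT]
    exact congrArg (fun q => q ⊗ₜ[Γ(X, ⊤)] m) hσone.symm
  rw [h2, h3]
  rfl

end Mod

theorem main9715 {X S : Scheme.{u}} [IsAffine X] [IsAffine S] (f : X ⟶ S)
    (F G : X.Modules) (hF : Coh.IsQCoh F) (k : ℕ) :
    letI : Algebra Γ(S, ⊤) Γ(X, ⊤) := f.appTop.hom.toAlgebra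
    letI : Module Γ(S, ⊤) Γ(F, ⊤) := Module.compHom Γ(F, ⊤) f.appTop.hom
    letI : Module Γ(S, ⊤) Γ(G, ⊤) := Module.compHom Γ(G, ⊤) f.appTop.hom
    haveI : IsScalarTower Γ(S, ⊤) Γ(X, ⊤) Γ(F, ⊤) := IsScalarTower.of_algebraMap_smul fun _ _ => rfl
    haveI : IsScalarTower Γ(S, ⊤) Γ(X, ⊤) Γ(G, ⊤) := IsScalarTower.of_algebraMap_smul fun _ _ => rfl
    ∀ D' : Γ(F, ⊤) →ₗ[Γ(S, ⊤)] Γ(G, ⊤), Diff16.IsDiffOpLE Γ(S, ⊤) Γ(X, ⊤) Γ(F, ⊤) Γ(G, ⊤) k D' →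
      ∃ D : F.presheaf ⟶ G.presheaf, PrinPart.IsDiffOpLE f F G k D ∧
        ∀ m : Γ(F, ⊤), (D.app (op ⊤)).hom m = D' m := by
  intros
  rename_i D' hD'
  letI iA : Algebra Γ(S, ⊤) Γ(X, ⊤) := f.appTop.hom.toAlgebra
  letI iMF : Module Γ(S, ⊤) Γ(F, ⊤) := Module.compHom Γ(F, ⊤) f.appTop.hom
  letI iMG : Module Γ(S, ⊤) Γ(G, ⊤) := Module.compHom Γ(G, ⊤) f.appTop.hom
  haveI iT1 : IsScalarTower Γ(S, ⊤) Γ(X, ⊤) Γ(F, ⊤) :=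
    IsScalarTower.of_algebraMap_smul fun _ _ => rfl
  haveI iT2 : IsScalarTower Γ(S, ⊤) Γ(X, ⊤) Γ(G, ⊤) :=
    IsScalarTower.of_algebraMap_smul fun _ _ => rfl
  haveI hFq : F.IsQuasicoherent := hF
  haveI hPq : (PMod f k F).IsQuasicoherent := isQuasicoherent_PMod f k F
  have hX : IsAffineOpen (⊤ : X.Opens) := isAffineOpen_top X
  have hU0 : IsAffineOpen (pr1 f k ⁻¹ᵁ ⊤) := hX.preimage (pr1 f k)
  have halg : ∀ r, algebraMap Γ(S, ⊤) Γ(X, ⊤) r = (f.appLE ⊤ ⊤ le_top).hom r := by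
    intro r
    rw [Groth.Agent.Helper9.PrinPart10.appLE_top_top f le_top]
    rfl
  obtain ⟨σ, hσ1, hσ2⟩ := exists_sigma f k halg
  obtain ⟨u₀, ⟨h1, h2⟩, -⟩ :=
    (Groth.Agent.S3815.result k Γ(S, ⊤) Γ(X, ⊤) Γ(F, ⊤) Γ(G, ⊤) D').1 hD'
  obtain ⟨lam, hlam⟩ := exists_lam f k F G σ hσ1 hσ2 hU0 hX u₀ h1
  obtain ⟨g, hg⟩ := Groth.Agent.Helper14.HomLim.exists_sec_of_linear
    (F := PMod f k F) (G := G) hX lam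
  refine ⟨dPHom f k F ≫ (Groth.Agent.Helper14.HomLim.homOfSec g).mapPresheaf,
    ⟨Groth.Agent.Helper14.HomLim.homOfSec g, fun U t => rfl⟩, fun m => ?_⟩
  refine Eq.trans ?_ ((hg (dP f k F ⊤ m)).trans ((hlam m).trans (h2 m)))
  rfl

end Groth.Agent.Helper9.PPAff1
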