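import Mathlib
import Groth.Agent.Lib.Helper9.PPAff1
import Groth.Agent.Lib.Lead.HomSh3
import Groth.Agent.Lib.Helper18.RecPull
import Groth.Agent.S2799

/-!
# Principal parts on affine charts; gluing differential operators; the map `δ` (S5962)

* `exists_sigma_chart`, `exists_lam_chart`: chart versions of `PPAff1.exists_sigma`, `PPAff1.exists_lam`;
* `exists_dPlin`: over an affine chart `U ⊆ f⁻¹ V`, `d^n_{X/S,F}` is a ring-level differential operator of
  order `≤ n` for `Γ(S,V) → Γ(X,U)` (any `O_X`-module `F`);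
* `mem_closure_smul_dP`: sections of `P^n(F)` over a chart are sums of `b • d^n t` (`F` quasi-coherent);
* `isDiffOpLE_of_charts`: a map of abelian sheaves `D : F ⟶ G` (`F` quasi-coherent) which on every affine
  chart factors linearly through `d^k` is a differential operator of order `≤ k`;
* `main5962`: existence and uniqueness of `δ : P^{n+n'} ⟶ P^{n'}(P^n)`.
-/

set_option autoImplicit false
set_option linter.unusedSectionVars false
set_option linter.unusedVariables false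
set_option backward.isDefEq.respectTransparency false
universe u
open CategoryTheory CategoryTheory.Limits AlgebraicGeometry TopologicalSpace Opposite TensorProduct

namespace Groth.Agent.Helper9.PPAff2

open OmegaSh PrinPart RefHull Groth.Agent.Helper9.PrinPart0 Groth.Agent.Helper9.PrinPart2
  Groth.Agent.Helper9.PrinPart9 Groth.Agent.Helper9.PrinPart11 Groth.Agent.Helper9.PrinPart12
  Groth.Agent.Helper9.PPBC1 Groth.Agent.Helper18.OmegaSec Groth.Agent.Helper13.Pullback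

section Sigma

variable {X S : Scheme.{u}} (f : X ⟶ S) (k : ℕ) {U : X.Opens} {V : S.Opens}

theorem delta_snd' (U : X.Opens) (a : Γ(X, U)) :
    delta f U ((pullback.snd f f).appLE U (WD f U) inf_le_right a) = a :=
  congr($(snd_appLE_diag f U) a)

theorem exists_sigma_chart (hU : IsAffineOpen U) (hV : IsAffineOpen V) (e : U ≤ f ⁻¹ᵁ V) :
    letI := algUV f e
    ∃ σ : PP16.P k Γ(S, V) Γ(X, U) ≃+* Γ(nbhd f k, pr1 f k ⁻¹ᵁ U),
      (∀ a : Γ(X, U), σ (algebraMap Γ(X, U) (PP16.P k Γ(S, V) Γ(X, U)) a) = (pr1 f k).app U a) ∧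
      (∀ b : Γ(X, U), σ (PP16.dn k Γ(S, V) Γ(X, U) b) =
        (pr2 f k).appLE U (pr1 f k ⁻¹ᵁ U) (preimage_pr1 f k U).le b) := by
  intros
  letI iA : Algebra Γ(S, V) Γ(X, U) := algUV f e
  let β : Γ(pullback f f, WD f U) ≃+* Γ(X, U) ⊗[Γ(S, V)] Γ(X, U) :=
    (betaIso f hU hV e).commRingCatIsoToRingEquiv
  have hβ1 : ∀ a : Γ(X, U), β ((pullback.fst f f).appLE U (WD f U) inf_le_left a) =
      a ⊗ₜ[Γ(S, V)] (1 : Γ(X, U)) := by
    intro a
    have h := IsPushout.inl_isoIsPushout_hom _ _ (isPushout_WD f hU hV e)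
      (CommRingCat.isPushout_tensorProduct Γ(S, V) Γ(X, U) Γ(X, U))
    exact congr($h a)
  have hβ2 : ∀ b : Γ(X, U), β ((pullback.snd f f).appLE U (WD f U) inf_le_right b) =
      (1 : Γ(X, U)) ⊗ₜ[Γ(S, V)] b := by
    intro b
    have h := IsPushout.inr_isoIsPushout_hom _ _ (isPushout_WD f hU hV e)
      (CommRingCat.isPushout_tensorProduct Γ(S, V) Γ(X, U) Γ(X, U))
    exact congr($h b)
  have hβδ : ∀ y, delta f U y = Algebra.TensorProduct.lmul' Γ(S, V) (S := Γ(X, U)) (β y) := by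
    intro y
    exact congr($(diag_appLE_eq f hU hV e) y)
  let lm : Γ(X, U) ⊗[Γ(S, V)] Γ(X, U) →+* Γ(X, U) :=
    ((Algebra.TensorProduct.lmul' Γ(S, V) : Γ(X, U) ⊗[Γ(S, V)] Γ(X, U) →ₐ[Γ(S, V)] Γ(X, U)) :
      Γ(X, U) ⊗[Γ(S, V)] Γ(X, U) →+* Γ(X, U))
  have hK : KaehlerDifferential.ideal Γ(S, V) Γ(X, U) = RingHom.ker lm := by
    ext x
    rw [RingHom.mem_ker, RingHom.mem_ker]
    rfl
  have hΔ : ∀ y, delta f U y = 0 ↔ lm (β y) = 0 := by
    intro y
    have h := hβδ y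
    constructor
    · intro h0
      rw [h0] at h
      exact h.symm
    · intro h0
      rw [h]
      exact h0
  let σ₀ : Γ(X, U) ⊗[Γ(S, V)] Γ(X, U) →+* Γ(nbhd f k, pr1 f k ⁻¹ᵁ U) :=
    (nu f k U).comp β.symm.toRingHom
  have hσ₀ : ∀ x, σ₀ x = nu f k U (β.symm x) := fun _ => rfl
  have hsurj : Function.Surjective σ₀ := by
    intro y
    obtain ⟨q, hq⟩ := nu_surjective f k hU hV e y
    exact ⟨β q, by rw [hσ₀, RingEquiv.symm_apply_apply, hq]⟩
  have hker : ∀ x, σ₀ x = 0 ↔ x ∈ KaehlerDifferential.ideal Γ(S, V) Γ(X, U) ^ (k + 1) := by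
    intro x
    rw [hσ₀, nu_eq_zero_iff f k hU hV e, hK]
    have key := mem_ker_pow_iff β (delta f U) lm hΔ (k + 1) (β.symm x)
    rw [RingEquiv.apply_symm_apply] at key
    exact key
  let σ₁ : PP16.P k Γ(S, V) Γ(X, U) →+* Γ(nbhd f k, pr1 f k ⁻¹ᵁ U) :=
    Ideal.Quotient.lift (KaehlerDifferential.ideal Γ(S, V) Γ(X, U) ^ (k + 1)) σ₀
      (fun x hx => (hker x).2 hx)
  have hσ₁ : ∀ x, σ₁ (Ideal.Quotient.mk _ x) = σ₀ x := fun x => Ideal.Quotient.lift_mk _ _ _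
  have hinj : Function.Injective σ₁ := by
    rw [injective_iff_map_eq_zero]
    intro z hz
    obtain ⟨x, rfl⟩ := Ideal.Quotient.mk_surjective z
    rw [hσ₁] at hz
    exact Ideal.Quotient.eq_zero_iff_mem.2 ((hker x).1 hz)
  have hsurj₁ : Function.Surjective σ₁ := by
    intro y
    obtain ⟨x, hx⟩ := hsurj y
    exact ⟨Ideal.Quotient.mk _ x, (hσ₁ x).trans hx⟩
  refine ⟨RingEquiv.ofBijective σ₁ ⟨hinj, hsurj₁⟩, ?_, ?_⟩
  · intro a
    change σ₁ (Ideal.Quotient.mk _ (a ⊗ₜ[Γ(S, V)] (1 : Γ(X, U)))) = _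
    rw [hσ₁, hσ₀]
    have h : β.symm (a ⊗ₜ[Γ(S, V)] (1 : Γ(X, U))) =
        (pullback.fst f f).appLE U (WD f U) inf_le_left a :=
      (RingEquiv.symm_apply_eq β).2 (hβ1 a).symm
    rw [h]
    exact nu_fst f k U a
  · intro b
    change σ₁ (Ideal.Quotient.mk _ ((1 : Γ(X, U)) ⊗ₜ[Γ(S, V)] b)) = _
    rw [hσ₁, hσ₀]
    have h : β.symm ((1 : Γ(X, U)) ⊗ₜ[Γ(S, V)] b) =
        (pullback.snd f f).appLE U (WD f U) inf_le_right b :=
      (RingEquiv.symm_apply_eq β).2 (hβ2 b).symm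
    rw [h]
    exact nu_snd f k U b

end Sigma

section Mod

variable {X S : Scheme.{u}} (f : X ⟶ S) (k : ℕ) (F G : X.Modules) [F.IsQuasicoherent]
  {U : X.Opens} {V : S.Opens} [Algebra Γ(S, V) Γ(X, U)]

set_option maxRecDepth 16000 in
set_option maxHeartbeats 1600000 in
theorem exists_lam_chart
    (σ : PP16.P k Γ(S, V) Γ(X, U) ≃+* Γ(nbhd f k, pr1 f k ⁻¹ᵁ U))
    (hσ1 : ∀ a : Γ(X, U),
      σ (algebraMap Γ(X, U) (PP16.P k Γ(S, V) Γ(X, U)) a) = (pr1 f k).app U a)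
    (hσ2 : ∀ b : Γ(X, U), σ (PP16.dn k Γ(S, V) Γ(X, U) b) =
        (pr2 f k).appLE U (pr1 f k ⁻¹ᵁ U) (preimage_pr1 f k U).le b)
    (hU0 : IsAffineOpen (pr1 f k ⁻¹ᵁ U)) (hU : IsAffineOpen U)
    (u₀ : PP16.PM k Γ(S, V) Γ(X, U) Γ(F, U) →+ Γ(G, U))
    (h1 : ∀ (b : Γ(X, U)) (t : PP16.PM k Γ(S, V) Γ(X, U) Γ(F, U)),
      u₀ (algebraMap Γ(X, U) (PP16.P k Γ(S, V) Γ(X, U)) b • t) = b • u₀ t) :
    ∃ lam : Γ(PMod f k F, U) →ₗ[Γ(X, U)] Γ(G, U),
      ∀ m : Γ(F, U), lam (dP f k F U m) = u₀ (PP16.dM k Γ(S, V) Γ(X, U) Γ(F, U) m) := by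
  letI aN : Algebra Γ(X, U) Γ(nbhd f k, pr1 f k ⁻¹ᵁ U) :=
    ((pr2 f k).appLE U (pr1 f k ⁻¹ᵁ U) (preimage_pr1 f k U).le).hom.toAlgebra
  let spe : Γ(M2 f k F, pr1 f k ⁻¹ᵁ U) ≃ₗ[Γ(nbhd f k, pr1 f k ⁻¹ᵁ U)]
      Γ(nbhd f k, pr1 f k ⁻¹ᵁ U) ⊗[Γ(X, U)] Γ(F, U) :=
    sectionsPullbackEquiv (pr2 f k) F hU0 hU (preimage_pr1 f k U).le
  let σL : PP16.Pr k Γ(S, V) Γ(X, U) ≃ₗ[Γ(X, U)] Γ(nbhd f k, pr1 f k ⁻¹ᵁ U) :=
    { toFun := fun x => σ x
      invFun := fun y => σ.symm y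
      map_add' := fun x y => map_add σ x y
      map_smul' := fun b x => by
        change σ (PP16.dn k Γ(S, V) Γ(X, U) b * (show PP16.P k Γ(S, V) Γ(X, U) from x)) =
          (pr2 f k).appLE U (pr1 f k ⁻¹ᵁ U) (preimage_pr1 f k U).le b *
            σ (show PP16.P k Γ(S, V) Γ(X, U) from x)
        rw [map_mul, hσ2]
      left_inv := fun x => σ.symm_apply_apply x
      right_inv := fun y => σ.apply_symm_apply y }
  let T : PP16.Pr k Γ(S, V) Γ(X, U) ⊗[Γ(X, U)] Γ(F, U) ≃ₗ[Γ(X, U)]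
      Γ(nbhd f k, pr1 f k ⁻¹ᵁ U) ⊗[Γ(X, U)] Γ(F, U) :=
    TensorProduct.congr σL (LinearEquiv.refl Γ(X, U) Γ(F, U))
  have hT : ∀ (x : PP16.Pr k Γ(S, V) Γ(X, U)) (m : Γ(F, U)), T (x ⊗ₜ[Γ(X, U)] m) =
      (σ x) ⊗ₜ[Γ(X, U)] m := fun x m => TensorProduct.congr_tmul _ _ _ _
  have hstar : ∀ (w : PP16.P k Γ(S, V) Γ(X, U))
      (z : PP16.Pr k Γ(S, V) Γ(X, U) ⊗[Γ(X, U)] Γ(F, U)), T (w • z) = σ w • T z := by
    intro w z
    induction z using TensorProduct.induction_on with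
    | zero => rw [smul_zero, map_zero, smul_zero]
    | tmul x m =>
      have hq : σ (w • x) = σ w • σ x := by
        change σ (w * (show PP16.P k Γ(S, V) Γ(X, U) from x)) =
          σ w * σ (show PP16.P k Γ(S, V) Γ(X, U) from x)
        exact map_mul σ _ _
      rw [TensorProduct.smul_tmul', hT, hT, TensorProduct.smul_tmul', hq]
    | add x y hx hy => rw [smul_add, map_add, hx, hy, map_add, smul_add]
  have hss : ∀ (p : Γ(nbhd f k, pr1 f k ⁻¹ᵁ U))
      (y : Γ(nbhd f k, pr1 f k ⁻¹ᵁ U) ⊗[Γ(X, U)] Γ(F, U)),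
      T.symm (p • y) = σ.symm p • T.symm y := by
    intro p y
    rw [LinearEquiv.symm_apply_eq, hstar, RingEquiv.apply_symm_apply,
      LinearEquiv.apply_symm_apply]
  have hsmul : ∀ (a : Γ(X, U)) (x : Γ(PMod f k F, U)),
      spe (a • x) = (pr1 f k).app U a • spe x := by
    intro a x
    exact spe.map_smul ((pr1 f k).app U a) x
  have hp : ∀ a : Γ(X, U), σ.symm ((pr1 f k).app U a) =
      algebraMap Γ(X, U) (PP16.P k Γ(S, V) Γ(X, U)) a :=
    fun a => (RingEquiv.symm_apply_eq σ).2 (hσ1 a).symm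
  refine ⟨{ toFun := fun x => u₀ (T.symm (spe x))
            map_add' := fun x y => by
              rw [map_add spe, map_add T.symm, map_add u₀]
            map_smul' := fun a x => by
              change u₀ (T.symm (spe (a • x))) = a • u₀ (T.symm (spe x))
              rw [hsmul, hss, hp]
              exact h1 a _ }, ?_⟩
  intro m
  change u₀ (T.symm (spe (dP f k F U m))) = _
  have h2 : spe (dP f k F U m) = (1 : Γ(nbhd f k, pr1 f k ⁻¹ᵁ U)) ⊗ₜ[Γ(X, U)] m := by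
    rw [dP_apply]
    exact Groth.Agent.Helper18.PbCompat.sectionsPullbackEquiv_pullSect (pr2 f k) F hU0 hU
      (preimage_pr1 f k U).le m
  have hσone : σ (show PP16.P k Γ(S, V) Γ(X, U) from (1 : PP16.Pr k Γ(S, V) Γ(X, U))) = 1 :=
    map_one σ
  have h3 : T.symm ((1 : Γ(nbhd f k, pr1 f k ⁻¹ᵁ U)) ⊗ₜ[Γ(X, U)] m) =
      (1 : PP16.Pr k Γ(S, V) Γ(X, U)) ⊗ₜ[Γ(X, U)] m := by
    rw [LinearEquiv.symm_apply_eq, hT]
    exact congrArg (fun q => q ⊗ₜ[Γ(X, U)] m) hσone.symm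
  rw [h2, h3]
  rfl

end Mod

section RingDiff

variable {X S : Scheme.{u}} (f : X ⟶ S) (n : ℕ) (F : X.Modules) {U : X.Opens} {V : S.Opens}

/-- the section `p_2^* t` over `p_1⁻¹ U` -/
noncomputable def dPsec (t : Γ(F, U)) : Γ(M2 f n F, pr1 f n ⁻¹ᵁ U) :=
  (M2 f n F).presheaf.map (homOfLE (preimage_pr1 f n U).le).op (pullSect (pr2 f n) F U t)

theorem dPsec_add (t t' : Γ(F, U)) :
    dPsec f n F (t + t') = dPsec f n F t + dPsec f n F t' := by
  unfold dPsec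
  rw [map_add, map_add]

theorem dPsec_smul (b : Γ(X, U)) (t : Γ(F, U)) :
    dPsec f n F (b • t) =
      (pr2 f n).appLE U (pr1 f n ⁻¹ᵁ U) (preimage_pr1 f n U).le b • dPsec f n F t :=
  (rsm_pr2_pullSect f n F U b t).symm

/-- the operator `t ↦ x · p_2^* t` -/
noncomputable def Eop (x : Γ(nbhd f n, pr1 f n ⁻¹ᵁ U)) (t : Γ(F, U)) : Γ(PMod f n F, U) :=
  rsm f n F U x (dPsec f n F t)

theorem dP_eq_Eop (t : Γ(F, U)) : dP f n F U t = Eop f n F 1 t := by
  unfold Eop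
  rw [rsm_one]
  rfl

theorem Eop_add (x : Γ(nbhd f n, pr1 f n ⁻¹ᵁ U)) (t t' : Γ(F, U)) :
    Eop f n F x (t + t') = Eop f n F x t + Eop f n F x t' := by
  unfold Eop
  rw [dPsec_add, rsm_add]

theorem Eop_smul (x : Γ(nbhd f n, pr1 f n ⁻¹ᵁ U)) (b : Γ(X, U)) (t : Γ(F, U)) :
    Eop f n F x (b • t) =
      Eop f n F (x * (pr2 f n).appLE U (pr1 f n ⁻¹ᵁ U) (preimage_pr1 f n U).le b) t := by
  unfold Eop
  rw [dPsec_smul, rsm_smul_right]

theorem smul_Eop (x : Γ(nbhd f n, pr1 f n ⁻¹ᵁ U)) (b : Γ(X, U)) (t : Γ(F, U)) :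
    b • Eop f n F x t = Eop f n F ((pr1 f n).app U b * x) t := by
  unfold Eop
  rw [rsm_mul_pr1]

theorem Eop_add_left (x y : Γ(nbhd f n, pr1 f n ⁻¹ᵁ U)) (t : Γ(F, U)) :
    Eop f n F (x + y) t = Eop f n F x t + Eop f n F y t := by
  unfold Eop
  rw [rsm_add_left]

theorem Eop_neg_left (x : Γ(nbhd f n, pr1 f n ⁻¹ᵁ U)) (t : Γ(F, U)) :
    Eop f n F (-x) t = -Eop f n F x t := by
  unfold Eop
  rw [rsm_neg_left]

theorem Eop_zero_left (t : Γ(F, U)) :
    Eop f n F (0 : Γ(nbhd f n, pr1 f n ⁻¹ᵁ U)) t = 0 := by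
  unfold Eop
  rw [rsm_zero_left]

theorem Eop_sub_left (x y : Γ(nbhd f n, pr1 f n ⁻¹ᵁ U)) (t : Γ(F, U)) :
    Eop f n F (x - y) t = Eop f n F x t - Eop f n F y t := by
  rw [sub_eq_add_neg, Eop_add_left, Eop_neg_left, sub_eq_add_neg]

theorem base_eq (e : U ≤ f ⁻¹ᵁ V) (r : Γ(S, V)) :
    (pr2 f n).appLE U (pr1 f n ⁻¹ᵁ U) (preimage_pr1 f n U).le ((f.appLE V U e).hom r) =
      (pr1 f n).app U ((f.appLE V U e).hom r) := by
  have key : f.appLE V U e ≫ (pr2 f n).appLE U (pr1 f n ⁻¹ᵁ U) (preimage_pr1 f n U).le =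
      f.appLE V U e ≫ (pr1 f n).app U := by
    rw [← Scheme.Hom.appLE_eq_app (f := pr1 f n), Scheme.Hom.appLE_comp_appLE,
      Scheme.Hom.appLE_comp_appLE]
    exact (appLE_congr_hom (pr1_comp f n) V (pr1 f n ⁻¹ᵁ U) ((pr1 f n).preimage_mono e)).symm
  exact congr($key r)

/-- `p_2^♯ b - p_1^♯ b` -/
noncomputable def dfn (b : Γ(X, U)) : Γ(nbhd f n, pr1 f n ⁻¹ᵁ U) :=
  (pr2 f n).appLE U (pr1 f n ⁻¹ᵁ U) (preimage_pr1 f n U).le b - (pr1 f n).app U b

theorem comm_formula (x : Γ(nbhd f n, pr1 f n ⁻¹ᵁ U)) (b : Γ(X, U)) :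
    x * (pr2 f n).appLE U (pr1 f n ⁻¹ᵁ U) (preimage_pr1 f n U).le b - (pr1 f n).app U b * x =
      x * dfn f n b := by
  unfold dfn
  ring

/-- the ideal generated by the `p_2^♯ b - p_1^♯ b` -/
noncomputable def Jid (U : X.Opens) : Ideal Γ(nbhd f n, pr1 f n ⁻¹ᵁ U) :=
  Ideal.span (Set.range (dfn f n (U := U)))

theorem Jid_pow_eq_zero (hU : IsAffineOpen U) (hV : IsAffineOpen V) (e : U ≤ f ⁻¹ᵁ V)
    (x : Γ(nbhd f n, pr1 f n ⁻¹ᵁ U)) (hx : x ∈ Jid f n U ^ (n + 1)) : x = 0 := by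
  have hle : Jid f n U ≤ (RingHom.ker (delta f U)).map (nu f n U) := by
    unfold Jid
    rw [Ideal.span_le]
    rintro _ ⟨b, rfl⟩
    have h1 : dfn f n b = nu f n U ((pullback.snd f f).appLE U (WD f U) inf_le_right b -
        (pullback.fst f f).appLE U (WD f U) inf_le_left b) := by
      rw [map_sub, nu_snd, nu_fst]
      rfl
    rw [SetLike.mem_coe, h1]
    apply Ideal.mem_map_of_mem
    rw [RingHom.mem_ker, map_sub, delta_fst, delta_snd', sub_self]
  have h2 : x ∈ ((RingHom.ker (delta f U)) ^ (n + 1)).map (nu f n U) := by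
    rw [Ideal.map_pow]
    exact Ideal.pow_right_mono hle (n + 1) hx
  obtain ⟨y, hy, rfl⟩ :=
    (Ideal.mem_map_iff_of_surjective (nu f n U) (nu_surjective f n hU hV e)).1 h2
  exact (nu_eq_zero_iff f n hU hV e y).2 hy

theorem exists_dPlin (hU : IsAffineOpen U) (hV : IsAffineOpen V) (e : U ≤ f ⁻¹ᵁ V)
    [Algebra Γ(S, V) Γ(X, U)]
    [Module Γ(S, V) Γ(F, U)] [IsScalarTower Γ(S, V) Γ(X, U) Γ(F, U)]
    [Module Γ(S, V) Γ(PMod f n F, U)] [IsScalarTower Γ(S, V) Γ(X, U) Γ(PMod f n F, U)]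
    (halg : ∀ r, algebraMap Γ(S, V) Γ(X, U) r = (f.appLE V U e).hom r) :
    ∃ D : Γ(F, U) →ₗ[Γ(S, V)] Γ(PMod f n F, U), (∀ t, D t = dP f n F U t) ∧
      Diff16.IsDiffOpLE Γ(S, V) Γ(X, U) Γ(F, U) Γ(PMod f n F, U) n D := by
  have hJ := Jid_pow_eq_zero f n hU hV e
  let E : Γ(nbhd f n, pr1 f n ⁻¹ᵁ U) → (Γ(F, U) →ₗ[Γ(S, V)] Γ(PMod f n F, U)) := fun x =>
    { toFun := fun t => Eop f n F x t
      map_add' := fun t t' => Eop_add f n F x t t'
      map_smul' := fun r t => by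
        change Eop f n F x (r • t) = r • Eop f n F x t
        rw [← algebraMap_smul Γ(X, U) r t, ← algebraMap_smul Γ(X, U) r (Eop f n F x t), halg,
          Eop_smul, smul_Eop, base_eq f n e, mul_comm] }
  have hE : ∀ x t, E x t = Eop f n F x t := fun _ _ => rfl
  have key : ∀ (j i : ℕ), i + j = n → ∀ x ∈ Jid f n U ^ i,
      Diff16.IsDiffOpLE Γ(S, V) Γ(X, U) Γ(F, U) Γ(PMod f n F, U) j (E x) := by
    intro j
    induction j with
    | zero =>
      intro i hi x hx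
      show ∀ (b : Γ(X, U)) (m : Γ(F, U)), E x (b • m) = b • E x m
      intro b t
      simp only [hE]
      rw [Eop_smul, smul_Eop]
      have h0 : x * dfn f n b = 0 := by
        have hi' : i + 1 = n + 1 := by omega
        have hmem : x * dfn f n b ∈ Jid f n U ^ (i + 1) := by
          rw [pow_succ]
          exact Ideal.mul_mem_mul hx (Ideal.subset_span ⟨b, rfl⟩)
        rw [hi'] at hmem
        exact hJ _ hmem
      have h1 := comm_formula f n x b
      rw [h0, sub_eq_zero] at h1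
      rw [h1]
    | succ j ih =>
      intro i hi x hx
      show ∀ b : Γ(X, U), Diff16.IsDiffOpLE Γ(S, V) Γ(X, U) Γ(F, U) Γ(PMod f n F, U) j
        (Diff16.commutator Γ(S, V) Γ(X, U) Γ(F, U) Γ(PMod f n F, U) (E x) b)
      intro b
      have hc : Diff16.commutator Γ(S, V) Γ(X, U) Γ(F, U) Γ(PMod f n F, U) (E x) b =
          E (x * dfn f n b) := by
        apply LinearMap.ext
        intro t
        change E x (b • t) - b • E x t = E (x * dfn f n b) t
        simp only [hE]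
        rw [Eop_smul, smul_Eop, ← Eop_sub_left, comm_formula]
      rw [hc]
      refine ih (i + 1) (by omega) _ ?_
      rw [pow_succ]
      exact Ideal.mul_mem_mul hx (Ideal.subset_span ⟨b, rfl⟩)
  refine ⟨E 1, fun t => ?_, key n 0 (by omega) 1 ?_⟩
  · rw [hE]
    exact (dP_eq_Eop f n F t).symm
  · rw [pow_zero, Ideal.one_eq_top]
    exact Submodule.mem_top

theorem mem_closure_smul_dP [F.IsQuasicoherent] (hU : IsAffineOpen U) (hV : IsAffineOpen V)
    (e : U ≤ f ⁻¹ᵁ V) (y : Γ(PMod f n F, U)) :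
    y ∈ AddSubgroup.closure
      {z : Γ(PMod f n F, U) | ∃ (b : Γ(X, U)) (t : Γ(F, U)), z = b • dP f n F U t} := by
  have h1 : ∀ (x : Γ(nbhd f n, pr1 f n ⁻¹ᵁ U)) (t : Γ(F, U)), Eop f n F x t ∈
      AddSubgroup.closure
        {z : Γ(PMod f n F, U) | ∃ (b : Γ(X, U)) (t : Γ(F, U)), z = b • dP f n F U t} := by
    intro x t
    have hx := K1 f n hU hV e x
    refine AddSubgroup.closure_induction (p := fun x _ => Eop f n F x t ∈
      AddSubgroup.closure
        {z : Γ(PMod f n F, U) | ∃ (b : Γ(X, U)) (t : Γ(F, U)), z = b • dP f n F U t})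
      ?_ ?_ ?_ ?_ hx
    · rintro _ ⟨b, b', rfl⟩
      apply AddSubgroup.subset_closure
      refine ⟨b, b' • t, ?_⟩
      rw [dP_eq_Eop, Eop_smul, smul_Eop, one_mul]
    · rw [Eop_zero_left]
      exact AddSubgroup.zero_mem _
    · intro x y _ _ hx hy
      rw [Eop_add_left]
      exact AddSubgroup.add_mem _ hx hy
    · intro x _ hx
      rw [Eop_neg_left]
      exact AddSubgroup.neg_mem _ hx
  have hspan := Groth.Agent.Helper18.Rec.span_pullRes (pr2 f n) F (hU.preimage (pr1 f n)) hU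
    (preimage_pr1 f n U).le Set.univ (by simp)
  have hy : (show Γ(M2 f n F, pr1 f n ⁻¹ᵁ U) from y) ∈
      Submodule.span Γ(nbhd f n, pr1 f n ⁻¹ᵁ U)
        ((fun t => Groth.Agent.Helper18.Rec.pullRes (pr2 f n) F (preimage_pr1 f n U).le t) ''
          Set.univ) := by
    rw [hspan]
    trivial
  have h2 : ∀ x : Γ(nbhd f n, pr1 f n ⁻¹ᵁ U), rsm f n F U x y ∈
      AddSubgroup.closure
        {z : Γ(PMod f n F, U) | ∃ (b : Γ(X, U)) (t : Γ(F, U)), z = b • dP f n F U t} := by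
    refine Submodule.span_induction (p := fun y _ => ∀ x : Γ(nbhd f n, pr1 f n ⁻¹ᵁ U),
      rsm f n F U x y ∈ AddSubgroup.closure
        {z : Γ(PMod f n F, U) | ∃ (b : Γ(X, U)) (t : Γ(F, U)), z = b • dP f n F U t})
      ?_ ?_ ?_ ?_ hy
    · rintro _ ⟨t, -, rfl⟩ x
      exact h1 x t
    · intro x
      rw [rsm_zero]
      exact AddSubgroup.zero_mem _
    · intro y y' _ _ hy hy' x
      rw [rsm_add]
      exact AddSubgroup.add_mem _ (hy x) (hy' x)
    · intro a y _ hy x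
      rw [rsm_smul_right]
      exact hy (x * a)
  have h3 := h2 1
  rw [rsm_one] at h3
  exact h3

end RingDiff

section Glue

variable {X S : Scheme.{u}} (f : X ⟶ S) (k : ℕ) (F G : X.Modules) [F.IsQuasicoherent]

theorem exists_chart (W : X.Opens) (x : X) (hx : x ∈ W) :
    ∃ (U : X.Opens) (V : S.Opens), IsAffineOpen U ∧ IsAffineOpen V ∧ U ≤ f ⁻¹ᵁ V ∧ x ∈ U ∧
      U ≤ W := by
  obtain ⟨_, ⟨V, hV, rfl⟩, hxV, -⟩ := S.isBasis_affineOpens.exists_subset_of_mem_open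
    (Set.mem_univ (f x)) isOpen_univ
  have hx' : x ∈ ((W ⊓ f ⁻¹ᵁ V : X.Opens) : Set X) := ⟨hx, hxV⟩
  obtain ⟨_, ⟨U, hU, rfl⟩, hxU, hUsub⟩ := X.isBasis_affineOpens.exists_subset_of_mem_open
    hx' (W ⊓ f ⁻¹ᵁ V).isOpen
  exact ⟨U, V, hU, hV, fun y hy => (hUsub hy).2, hxU, fun y hy => (hUsub hy).1⟩

theorem isDiffOpLE_of_charts (D : F.presheaf ⟶ G.presheaf)
    (hloc : ∀ (U : X.Opens) (V : S.Opens), IsAffineOpen U → IsAffineOpen V → U ≤ f ⁻¹ᵁ V →
      ∃ lam : Γ(PMod f k F, U) →ₗ[Γ(X, U)] Γ(G, U),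
        ∀ t : Γ(F, U), lam (dP f k F U t) = D.app (op U) t) :
    IsDiffOpLE f F G k D := by
  haveI hQ : (PMod f k F).IsQuasicoherent := isQuasicoherent_PMod f k F
  let ι := {U : X.Opens // IsAffineOpen U ∧ ∃ V : S.Opens, IsAffineOpen V ∧ U ≤ f ⁻¹ᵁ V}
  have hch : ∀ a : ι, ∃ g : Γ(homSh (PMod f k F) G, a.1),
      ∀ t : Γ(F, a.1), Groth.Agent.Lead.HomSh.evalSec g (dP f k F a.1 t) =
        D.app (op a.1) t := by
    intro a
    obtain ⟨hU, V, hV, e⟩ := a.2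
    obtain ⟨lam, hlam⟩ := hloc a.1 V hU hV e
    obtain ⟨g, hg⟩ := Groth.Agent.Helper14.HomLim.exists_sec_of_linear
      (F := PMod f k F) (G := G) hU lam
    exact ⟨g, fun t => (hg _).trans (hlam t)⟩
  choose g hg using hch
  have hK : ∀ (a b : ι) (h : b.1 ≤ a.1),
      Groth.Agent.Helper14.HomLim.resH h (g a) = g b := by
    intro a b h
    obtain ⟨hUa, Va, hVa, ea⟩ := a.2
    apply Groth.Agent.Helper14.HomLim.sec_ext_of_affine hUa h
    intro m
    have hm := mem_closure_smul_dP f k F hUa hVa ea m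
    change Groth.Agent.Helper14.HomLim.evalLin (Groth.Agent.Helper14.HomLim.resH h (g a))
        ((PMod f k F).presheaf.map (homOfLE h).op m) =
      Groth.Agent.Helper14.HomLim.evalLin (g b) ((PMod f k F).presheaf.map (homOfLE h).op m)
    refine AddSubgroup.closure_induction
      (p := fun m _ =>
        Groth.Agent.Helper14.HomLim.evalLin (Groth.Agent.Helper14.HomLim.resH h (g a))
          ((PMod f k F).presheaf.map (homOfLE h).op m) =
        Groth.Agent.Helper14.HomLim.evalLin (g b)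
          ((PMod f k F).presheaf.map (homOfLE h).op m)) ?_ ?_ ?_ ?_ hm
    · rintro _ ⟨c, t, rfl⟩
      have e1 : (PMod f k F).presheaf.map (homOfLE h).op (c • dP f k F a.1 t) =
          X.presheaf.map (homOfLE h).op c • dP f k F b.1 (F.presheaf.map (homOfLE h).op t) := by
        rw [Groth.Agent.Lead.HomSh.res_smul, dP_map]
      have e2 : Groth.Agent.Lead.HomSh.evalSec (Groth.Agent.Helper14.HomLim.resH h (g a))
          (dP f k F b.1 (F.presheaf.map (homOfLE h).op t)) =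
          D.app (op b.1) (F.presheaf.map (homOfLE h).op t) := by
        have h3 := Groth.Agent.Lead.HomSh.evalSec_res (homOfLE h) (g a) (dP f k F a.1 t)
        rw [hg a] at h3
        rw [dP_map]
        exact h3.symm.trans (congr($(D.naturality (homOfLE h).op) t)).symm
      change Groth.Agent.Lead.HomSh.evalSec (Groth.Agent.Helper14.HomLim.resH h (g a))
          ((PMod f k F).presheaf.map (homOfLE h).op (c • dP f k F a.1 t)) =
        Groth.Agent.Lead.HomSh.evalSec (g b)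
          ((PMod f k F).presheaf.map (homOfLE h).op (c • dP f k F a.1 t))
      rw [e1, Groth.Agent.Lead.HomSh.evalSec_smul_right,
        Groth.Agent.Lead.HomSh.evalSec_smul_right, e2, hg b]
    · simp only [map_zero]
    · intro x y _ _ hx hy
      simp only [map_add, hx, hy]
    · intro x _ hx
      simp only [map_neg, hx]
  have hcov : ∀ x : X, ∃ a : ι, x ∈ a.1 := by
    intro x
    obtain ⟨U, V, hU, hV, e, hxU, -⟩ := exists_chart f ⊤ x trivial
    exact ⟨⟨U, hU, V, hV, e⟩, hxU⟩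
  have hglue : ∀ a b : ι,
      Groth.Agent.Helper14.HomLim.resH (inf_le_left : a.1 ⊓ b.1 ≤ a.1) (g a) =
        Groth.Agent.Helper14.HomLim.resH (inf_le_right : a.1 ⊓ b.1 ≤ b.1) (g b) := by
    intro a b
    apply Groth.Agent.Lead.HomSh.sec_ext
    intro y
    obtain ⟨U, V, hU, hV, e, hyU, hUW⟩ := exists_chart f (a.1 ⊓ b.1) y.1 y.2
    have ha := hK a ⟨U, hU, V, hV, e⟩ (hUW.trans inf_le_left)
    have hb := hK b ⟨U, hU, V, hV, e⟩ (hUW.trans inf_le_right)
    have ha' := congrArg (fun s : Γ(homSh (PMod f k F) G, U) => s.1 ⟨y.1, hyU⟩) ha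
    have hb' := congrArg (fun s : Γ(homSh (PMod f k F) G, U) => s.1 ⟨y.1, hyU⟩) hb
    exact ha'.trans hb'.symm
  obtain ⟨s, hs⟩ := Groth.Agent.Helper14.HomLim.exists_glue_sec (F := PMod f k F) (G := G)
    (fun a : ι => a.1) hcov g hglue
  refine ⟨Groth.Agent.Helper14.HomLim.homOfSec s, fun W t => ?_⟩
  apply eq_of_locally G W
  intro x hx
  obtain ⟨U, V, hU, hV, e, hxU, hUW⟩ := exists_chart f W x hx
  refine ⟨U, hUW, hxU, ?_⟩
  have h1 : G.presheaf.map (homOfLE hUW).op (D.app (op W) t) =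
      D.app (op U) (F.presheaf.map (homOfLE hUW).op t) :=
    (congr($(D.naturality (homOfLE hUW).op) t)).symm
  have h2 : G.presheaf.map (homOfLE hUW).op
      ((Groth.Agent.Helper14.HomLim.homOfSec s).app W (dP f k F W t)) =
      (Groth.Agent.Helper14.HomLim.homOfSec s).app U
        (dP f k F U (F.presheaf.map (homOfLE hUW).op t)) := by
    rw [dP_map]
    exact (hom_naturality (Groth.Agent.Helper14.HomLim.homOfSec s) (homOfLE hUW).op
      (dP f k F W t)).symm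
  have hsc : Groth.Agent.Helper14.HomLim.resH (le_top : U ≤ ⊤) s = g ⟨U, hU, V, hV, e⟩ :=
    hs ⟨U, hU, V, hV, e⟩
  have h3 : (Groth.Agent.Helper14.HomLim.homOfSec s).app U
      (dP f k F U (F.presheaf.map (homOfLE hUW).op t)) =
      D.app (op U) (F.presheaf.map (homOfLE hUW).op t) := by
    rw [Groth.Agent.Helper14.HomLim.homOfSec_app, hsc]
    exact hg ⟨U, hU, V, hV, e⟩ _
  rw [h1, h2, h3]

end Glue

section Delta

variable {X S : Scheme.{u}} (f : X ⟶ S) (n n' : ℕ)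

theorem exists_lam_comp {U : X.Opens} {V : S.Opens}
    (hU : IsAffineOpen U) (hV : IsAffineOpen V) (e : U ≤ f ⁻¹ᵁ V) :
    ∃ lam : Γ(PMod f (n + n') (Coh.structureModule X), U) →ₗ[Γ(X, U)]
        Γ(PMod f n' (P f n), U),
      ∀ t : Γ(Coh.structureModule X, U),
        lam (dP f (n + n') (Coh.structureModule X) U t) =
          dP f n' (P f n) U (dP f n (Coh.structureModule X) U t) := by
  haveI hO : (Coh.structureModule X).IsQuasicoherent :=
    Groth.Agent.Helper13.QCoh.isQuasicoherent_unit X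
  letI iA : Algebra Γ(S, V) Γ(X, U) := algUV f e
  letI iM0 : Module Γ(S, V) Γ(Coh.structureModule X, U) :=
    Module.compHom Γ(Coh.structureModule X, U) (f.appLE V U e).hom
  letI iM1 : Module Γ(S, V) Γ(P f n, U) := Module.compHom Γ(P f n, U) (f.appLE V U e).hom
  letI iM2 : Module Γ(S, V) Γ(PMod f n' (P f n), U) :=
    Module.compHom Γ(PMod f n' (P f n), U) (f.appLE V U e).hom
  haveI iT0 : IsScalarTower Γ(S, V) Γ(X, U) Γ(Coh.structureModule X, U) :=
    IsScalarTower.of_algebraMap_smul fun _ _ => rfl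
  haveI iT1 : IsScalarTower Γ(S, V) Γ(X, U) Γ(P f n, U) :=
    IsScalarTower.of_algebraMap_smul fun _ _ => rfl
  haveI iT2 : IsScalarTower Γ(S, V) Γ(X, U) Γ(PMod f n' (P f n), U) :=
    IsScalarTower.of_algebraMap_smul fun _ _ => rfl
  have halg : ∀ r, algebraMap Γ(S, V) Γ(X, U) r = (f.appLE V U e).hom r := fun _ => rfl
  obtain ⟨D1, hD1, hD1'⟩ := exists_dPlin f n (Coh.structureModule X) hU hV e halg
  obtain ⟨D2, hD2, hD2'⟩ := exists_dPlin f n' (P f n) hU hV e halg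
  have hcomp := Groth.Agent.S2799.result Γ(S, V) Γ(X, U) Γ(Coh.structureModule X, U)
    Γ(P f n, U) Γ(PMod f n' (P f n), U) n n' D1 D2 hD1' hD2'
  obtain ⟨u₀, ⟨h1, h2⟩, -⟩ := (Groth.Agent.S3815.result (n + n') Γ(S, V) Γ(X, U)
    Γ(Coh.structureModule X, U) Γ(PMod f n' (P f n), U) (D2 ∘ₗ D1)).1 hcomp
  obtain ⟨σ, hσ1, hσ2⟩ := exists_sigma_chart f (n + n') hU hV e
  obtain ⟨lam, hlam⟩ := exists_lam_chart f (n + n') (Coh.structureModule X)
    (PMod f n' (P f n)) σ hσ1 hσ2 (hU.preimage (pr1 f (n + n'))) hU u₀ h1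
  refine ⟨lam, fun t => ?_⟩
  rw [hlam, h2, LinearMap.comp_apply, hD1, hD2]

theorem main5962 :
    ∃! δ : P f (n + n') ⟶ PMod f n' (P f n),
      ∀ (U : X.Opens) (t : Γ(X, U)),
        δ.app U (dn f (n + n') U t) = dP f n' (P f n) U (dn f n U t) := by
  haveI hO : (Coh.structureModule X).IsQuasicoherent :=
    Groth.Agent.Helper13.QCoh.isQuasicoherent_unit X
  have hex : IsDiffOpLE f (Coh.structureModule X) (PMod f n' (P f n)) (n + n')
      (dPHom f n (Coh.structureModule X) ≫ dPHom f n' (P f n)) := by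
    apply isDiffOpLE_of_charts
    intro U V hU hV e
    obtain ⟨lam, hlam⟩ := exists_lam_comp f n n' hU hV e
    exact ⟨lam, fun t => hlam t⟩
  obtain ⟨δ, hδ⟩ := hex
  have hD : ∀ (U : X.Opens) (t : Γ(Coh.structureModule X, U)),
      δ.app U (dP f (n + n') (Coh.structureModule X) U t) =
        dP f n' (P f n) U (dP f n (Coh.structureModule X) U t) := fun U t => (hδ U t).symm
  refine ⟨δ, fun U t => hD U (strSect X U t), fun δ' hδ' => ?_⟩
  apply main5958 f (n + n') (Coh.structureModule X) (PMod f n' (P f n)) δ' δ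
  intro U t
  exact (hδ' U (fnSect X U t)).trans (hD U t).symm

end Delta

end Groth.Agent.Helper9.PPAff2
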