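import Mathlib
import Groth.Agent.Lib.Helper9.PRes3

/-!
# Dualising cochain complexes: `opC`, `unopC`

`opC K` is the cochain complex in `Aᵒᵖ` with `(opC K).X n = op (K.X (-n))`.
`unopC Q` is the cochain complex in `A` with `(unopC Q).X n = unop (Q.X (-n))`.
-/

set_option autoImplicit false
universe v u
open CategoryTheory CategoryTheory.Limits Opposite

namespace Groth.Agent.Helper9.PRes

variable {A : Type u} [Category.{v} A] [Abelian A]

/-- The opposite complex, reindexed by `n ↦ -n`. -/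
def opC (K : CochainComplex A ℤ) : CochainComplex Aᵒᵖ ℤ where
  X n := op (K.X (-n))
  d n m := (K.d (-m) (-n)).op
  shape n m h := by
    have : ¬ (ComplexShape.up ℤ).Rel (-m) (-n) := by
      simp only [ComplexShape.up_Rel] at h ⊢; omega
    rw [K.shape _ _ this]; rfl
  d_comp_d' n m k _ _ := by rw [← op_comp, K.d_comp_d, op_zero]

/-- The opposite of a morphism of complexes. -/
def opMap {K L : CochainComplex A ℤ} (f : K ⟶ L) : opC L ⟶ opC K where
  f n := (f.f (-n)).op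
  comm' n m _ := by
    show (f.f (-n)).op ≫ (K.d (-m) (-n)).op = (L.d (-m) (-n)).op ≫ (f.f (-m)).op
    rw [← op_comp, ← op_comp, f.comm]

/-- The unopposite complex, reindexed by `n ↦ -n`. -/
def unopC (Q : CochainComplex Aᵒᵖ ℤ) : CochainComplex A ℤ where
  X n := unop (Q.X (-n))
  d n m := (Q.d (-m) (-n)).unop
  shape n m h := by
    have : ¬ (ComplexShape.up ℤ).Rel (-m) (-n) := by
      simp only [ComplexShape.up_Rel] at h ⊢; omega
    rw [Q.shape _ _ this]; rfl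
  d_comp_d' n m k _ _ := by rw [← unop_comp, Q.d_comp_d, unop_zero]

/-- The components of a morphism `Q ⟶ opC K`, unopposed. -/
def unopF {K : CochainComplex A ℤ} {Q : CochainComplex Aᵒᵖ ℤ} (π : Q ⟶ opC K) (n : ℤ) :
    K.X (-n) ⟶ unop (Q.X n) := (π.f n).unop

theorem unopF_comm {K : CochainComplex A ℤ} {Q : CochainComplex Aᵒᵖ ℤ} (π : Q ⟶ opC K)
    (n m : ℤ) : K.d (-m) (-n) ≫ unopF π n = unopF π m ≫ (Q.d n m).unop :=
  congrArg Quiver.Hom.unop (π.comm n m)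

/-- The components of a morphism `opC L ⟶ Q`, unopposed. -/
def unopG {L : CochainComplex A ℤ} {Q : CochainComplex Aᵒᵖ ℤ} (ι : opC L ⟶ Q) (n : ℤ) :
    unop (Q.X n) ⟶ L.X (-n) := (ι.f n).unop

theorem unopG_comm {L : CochainComplex A ℤ} {Q : CochainComplex Aᵒᵖ ℤ} (ι : opC L ⟶ Q)
    (n m : ℤ) : (Q.d n m).unop ≫ unopG ι n = unopG ι m ≫ L.d (-m) (-n) :=
  congrArg Quiver.Hom.unop (ι.comm n m)

theorem unopF_unopG {K L : CochainComplex A ℤ} {Q : CochainComplex Aᵒᵖ ℤ}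
    (ι : opC L ⟶ Q) (π : Q ⟶ opC K) (f : K ⟶ L) (h : ι ≫ π = opMap f) (n : ℤ) :
    unopF π n ≫ unopG ι n = f.f (-n) :=
  congrArg Quiver.Hom.unop (HomologicalComplex.congr_hom h n)

/-- A morphism `Q ⟶ opC K` gives a morphism `K ⟶ unopC Q`. -/
def toUnop {K : CochainComplex A ℤ} {Q : CochainComplex Aᵒᵖ ℤ} (π : Q ⟶ opC K) :
    K ⟶ unopC Q where
  f n := (K.XIsoOfEq (neg_neg n).symm).hom ≫ unopF π (-n)
  comm' n m _ := by
    show ((K.XIsoOfEq (neg_neg n).symm).hom ≫ unopF π (-n)) ≫ (Q.d (-m) (-n)).unop =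
      K.d n m ≫ (K.XIsoOfEq (neg_neg m).symm).hom ≫ unopF π (-m)
    rw [Category.assoc, ← unopF_comm, HomologicalComplex.XIsoOfEq_hom_comp_d_assoc,
      ← Category.assoc (K.d n m), HomologicalComplex.d_comp_XIsoOfEq_hom]

theorem toUnop_f {K : CochainComplex A ℤ} {Q : CochainComplex Aᵒᵖ ℤ} (π : Q ⟶ opC K) (n : ℤ) :
    (toUnop π).f n = (K.XIsoOfEq (neg_neg n).symm).hom ≫ unopF π (-n) := rfl

/-- A morphism `opC L ⟶ Q` gives a morphism `unopC Q ⟶ L`. -/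
def fromUnop {L : CochainComplex A ℤ} {Q : CochainComplex Aᵒᵖ ℤ} (ι : opC L ⟶ Q) :
    unopC Q ⟶ L where
  f n := unopG ι (-n) ≫ (L.XIsoOfEq (neg_neg n)).hom
  comm' n m _ := by
    show (unopG ι (-n) ≫ (L.XIsoOfEq (neg_neg n)).hom) ≫ L.d n m =
      (Q.d (-m) (-n)).unop ≫ unopG ι (-m) ≫ (L.XIsoOfEq (neg_neg m)).hom
    rw [← Category.assoc (Q.d (-m) (-n)).unop, unopG_comm, Category.assoc, Category.assoc,
      HomologicalComplex.XIsoOfEq_hom_comp_d, HomologicalComplex.d_comp_XIsoOfEq_hom]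

theorem fromUnop_f {L : CochainComplex A ℤ} {Q : CochainComplex Aᵒᵖ ℤ} (ι : opC L ⟶ Q) (n : ℤ) :
    (fromUnop ι).f n = unopG ι (-n) ≫ (L.XIsoOfEq (neg_neg n)).hom := rfl

theorem toUnop_comp_fromUnop {K L : CochainComplex A ℤ} {Q : CochainComplex Aᵒᵖ ℤ}
    (ι : opC L ⟶ Q) (π : Q ⟶ opC K) (f : K ⟶ L) (h : ι ≫ π = opMap f) :
    toUnop π ≫ fromUnop ι = f := by
  ext n
  show ((K.XIsoOfEq (neg_neg n).symm).hom ≫ unopF π (-n)) ≫
    unopG ι (-n) ≫ (L.XIsoOfEq (neg_neg n)).hom = f.f n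
  rw [Category.assoc, ← Category.assoc (unopF π (-n)), unopF_unopG ι π f h,
    HomologicalComplex.XIsoOfEq_hom_naturality f (neg_neg n),
    HomologicalComplex.XIsoOfEq_hom_comp_XIsoOfEq_hom_assoc]
  simp [HomologicalComplex.XIsoOfEq]

theorem quasiIso_toUnop {K : CochainComplex A ℤ} {Q : CochainComplex Aᵒᵖ ℤ} (π : Q ⟶ opC K)
    [QuasiIso π] : QuasiIso (toUnop π) := by
  rw [quasiIso_iff]
  intro n
  rw [quasiIsoAt_iff' (toUnop π) (n - 1) n (n + 1) (by simp) (by simp)]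
  have h1 : QuasiIsoAt π (-n) := inferInstance
  rw [quasiIsoAt_iff' π (-(n + 1)) (-n) (-(n - 1)) (by simp; ring) (by simp; ring)] at h1
  have h2 := ShortComplex.quasiIso_unopMap
    ((HomologicalComplex.shortComplexFunctor' Aᵒᵖ (ComplexShape.up ℤ) (-(n + 1)) (-n) (-(n - 1))).map π)
  let e : K.sc' (n - 1) n (n + 1) ≅
      ((opC K).sc' (-(n + 1)) (-n) (-(n - 1))).unop :=
    ShortComplex.isoMk (K.XIsoOfEq (neg_neg (n - 1)).symm) (K.XIsoOfEq (neg_neg n).symm)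
      (K.XIsoOfEq (neg_neg (n + 1)).symm)
      (by
        show (K.XIsoOfEq (neg_neg (n - 1)).symm).hom ≫ K.d (- -(n - 1)) (- -n) =
          K.d (n - 1) n ≫ (K.XIsoOfEq (neg_neg n).symm).hom
        simp)
      (by
        show (K.XIsoOfEq (neg_neg n).symm).hom ≫ K.d (- -n) (- -(n + 1)) =
          K.d n (n + 1) ≫ (K.XIsoOfEq (neg_neg (n + 1)).symm).hom
        simp)
  let ψ : ((opC K).sc' (-(n + 1)) (-n) (-(n - 1))).unop ⟶ (unopC Q).sc' (n - 1) n (n + 1) :=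
    ShortComplex.unopMap
      ((HomologicalComplex.shortComplexFunctor' Aᵒᵖ (ComplexShape.up ℤ) (-(n + 1)) (-n) (-(n - 1))).map π)
  have hψ : ShortComplex.QuasiIso ψ := h2
  have key : (HomologicalComplex.shortComplexFunctor' A (ComplexShape.up ℤ) (n - 1) n (n + 1)).map
      (toUnop π) = e.hom ≫ ψ := by
    ext
    · rfl
    · rfl
    · rfl
  rw [key]
  infer_instance

theorem mono_toUnop_f {K : CochainComplex A ℤ} {Q : CochainComplex Aᵒᵖ ℤ} (π : Q ⟶ opC K) (n : ℤ)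
    (h : Epi (π.f (-n))) : Mono ((toUnop π).f n) := by
  haveI := h
  haveI : Mono (unopF π (-n)) := unop_mono_of_epi (π.f (-n))
  show Mono ((K.XIsoOfEq (neg_neg n).symm).hom ≫ unopF π (-n))
  exact mono_comp _ _

theorem isZero_unopC_X (Q : CochainComplex Aᵒᵖ ℤ) (n : ℤ) (h : IsZero (Q.X (-n))) :
    IsZero ((unopC Q).X n) := h.unop

theorem isZero_opC_X (K : CochainComplex A ℤ) (n : ℤ) (h : IsZero (K.X (-n))) :
    IsZero ((opC K).X n) := h.op

/-- `g : Y ⟶ X` is a split epimorphism with kernel `T`. -/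
def CoSplitWith {X Y : A} (g : Y ⟶ X) (T : A) : Prop :=
  ∃ (s : X ⟶ Y) (i : T ⟶ Y) (q : Y ⟶ T), s ≫ g = 𝟙 X ∧ i ≫ q = 𝟙 T ∧ i ≫ g = 0 ∧ s ≫ q = 0 ∧
    g ≫ s + q ≫ i = 𝟙 Y

theorem CoSplitWith.of_op {X Y T : Aᵒᵖ} {f : X ⟶ Y} (h : SplitWith f T) :
    CoSplitWith f.unop (unop T) := by
  obtain ⟨r, s, p, h1, h2, h3, h4, h5⟩ := h
  refine ⟨r.unop, p.unop, s.unop, ?_, ?_, ?_, ?_, ?_⟩
  · rw [← unop_comp, h1, unop_id]
  · rw [← unop_comp, h2, unop_id]
  · rw [← unop_comp, h3, unop_zero]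
  · rw [← unop_comp, h4, unop_zero]
  · rw [← unop_comp, ← unop_comp, ← unop_add, h5, unop_id]

theorem CoSplitWith.comp_iso {X X' Y : A} {g : Y ⟶ X} {T : A} (h : CoSplitWith g T) (e : X ⟶ X')
    [IsIso e] : CoSplitWith (g ≫ e) T := by
  obtain ⟨s, i, q, h1, h2, h3, h4, h5⟩ := h
  refine ⟨inv e ≫ s, i, q, ?_, h2, ?_, ?_, ?_⟩
  · rw [Category.assoc, ← Category.assoc s, h1]; simp
  · rw [← Category.assoc, h3, zero_comp]
  · rw [Category.assoc, h4, comp_zero]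
  · simpa using h5

theorem CoSplitWith.nonempty_iso {X Y : A} {g : Y ⟶ X} {T : A} (h : CoSplitWith g T) :
    Nonempty (Y ≅ X ⊞ T) := by
  obtain ⟨s, i, q, h1, h2, h3, h4, h5⟩ := h
  exact ⟨{ hom := biprod.lift g q
           inv := biprod.desc s i
           hom_inv_id := by simp [h5]
           inv_hom_id := by ext <;> simp [h1, h2, h3, h4] }⟩

theorem CoSplitWith.nonempty_kernelIso {X Y : A} {g : Y ⟶ X} {T : A} (h : CoSplitWith g T) :
    Nonempty (kernel g ≅ T) := by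
  obtain ⟨s, i, q, h1, h2, h3, h4, h5⟩ := h
  refine ⟨{ hom := kernel.ι g ≫ q
            inv := kernel.lift g i h3
            hom_inv_id := ?_
            inv_hom_id := by simp [h2] }⟩
  rw [← cancel_mono (kernel.ι g)]
  have : q ≫ i = 𝟙 Y - g ≫ s := by rw [← h5]; abel
  simp only [Category.assoc, kernel.lift_ι, Category.id_comp]
  rw [this, Preadditive.comp_sub]
  simp

theorem CoSplitWith.nonempty_iso_of_isZero {X Y : A} {g : Y ⟶ X} {T : A} (h : CoSplitWith g T)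
    (hX : IsZero X) : Nonempty (Y ≅ T) := by
  obtain ⟨s, i, q, h1, h2, h3, h4, h5⟩ := h
  refine ⟨{ hom := q
            inv := i
            hom_inv_id := ?_
            inv_hom_id := h2 }⟩
  rw [← h5, hX.eq_of_tgt g 0, zero_comp, zero_add]

theorem CoSplitWith.exists_section {X Y : A} {g : Y ⟶ X} {T : A} (h : CoSplitWith g T) :
    ∃ s : X ⟶ Y, s ≫ g = 𝟙 X := by
  obtain ⟨s, i, q, h1, -⟩ := h
  exact ⟨s, h1⟩

theorem coSplitWith_fromUnop {L : CochainComplex A ℤ} {Q : CochainComplex Aᵒᵖ ℤ} (ι : opC L ⟶ Q)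
    (n : ℤ) {T : Aᵒᵖ} (h : SplitWith (ι.f (-n)) T) : CoSplitWith ((fromUnop ι).f n) (unop T) := by
  have h' : CoSplitWith (unopG ι (-n)) (unop T) := CoSplitWith.of_op h
  show CoSplitWith (unopG ι (-n) ≫ (L.XIsoOfEq (neg_neg n)).hom) (unop T)
  exact h'.comp_iso _

end Groth.Agent.Helper9.PRes
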