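import Mathlib
import Groth.Agent.Lib.Helper9.PRes5

/-!
# Relative termwise injective coresolutions (dual of `exists_relative_resolution`)
-/

set_option autoImplicit false
universe v u
open CategoryTheory CategoryTheory.Limits Opposite

namespace Groth.Agent.Helper9.PRes

variable {A : Type u} [Category.{v} A] [Abelian A]

/-- **Relative coresolutions.** Given `π₀ : K ⟶ L₀` with both complexes zero below degree `B`, there
is a factorisation `K ⟶ L ⟶ L₀` into a termwise monomorphic quasi-isomorphism followed by a termwise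
split epimorphism whose kernels satisfy `I`. -/
theorem exists_relative_coresolution (I : A → Prop)
    (hI : ∀ X : A, ∃ (Y : A) (ι : X ⟶ Y), I Y ∧ Mono ι) (Z : A) (hZ0 : IsZero Z) (hZ : I Z)
    {K L₀ : CochainComplex A ℤ} (π₀ : K ⟶ L₀) (B : ℤ)
    (hL₀ : ∀ j : ℤ, j < B → IsZero (L₀.X j)) (hK : ∀ j : ℤ, j < B → IsZero (K.X j)) :
    ∃ (L : CochainComplex A ℤ) (α : K ⟶ L) (p : L ⟶ L₀), α ≫ p = π₀ ∧
      (∀ j : ℤ, j < B → IsZero (L.X j)) ∧ (∀ j : ℤ, ∃ T, I T ∧ CoSplitWith (p.f j) T) ∧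
      (∀ j : ℤ, Mono (α.f j)) ∧ QuasiIso α := by
  have hP' : ∀ X : Aᵒᵖ, ∃ (Y : Aᵒᵖ) (π : Y ⟶ X), I (unop Y) ∧ Epi π := by
    intro X
    obtain ⟨Y, ι, hY, hι⟩ := hI (unop X)
    exact ⟨op Y, ι.op, hY, inferInstance⟩
  obtain ⟨Q, ι, π, hfac, hQ, hsplit, hepi, hqi⟩ :=
    exists_relative_resolution (fun X : Aᵒᵖ => I (unop X)) (opMap π₀) (-B) hP' (op Z) hZ0.op hZ
      (fun j hj => isZero_opC_X L₀ j (hL₀ (-j) (by omega)))
      (fun j hj => isZero_opC_X K j (hK (-j) (by omega)))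
  refine ⟨unopC Q, toUnop π, fromUnop ι, toUnop_comp_fromUnop ι π π₀ hfac,
    fun j hj => isZero_unopC_X Q j (hQ (-j) (by omega)), fun j => ?_,
    fun j => mono_toUnop_f π j (hepi (-j)), quasiIso_toUnop π⟩
  obtain ⟨T, hT, hsp⟩ := hsplit (-j)
  exact ⟨unop T, hT, coSplitWith_fromUnop ι j hsp⟩

end Groth.Agent.Helper9.PRes
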