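import Mathlib
import Groth.Agent.Lib.Helper9.PRes6

/-!
# Towers of coresolutions of the truncations `τ_{≥ -n} K` (dual of Stacks 13.29.1)
-/

set_option autoImplicit false
universe v u
open CategoryTheory CategoryTheory.Limits

namespace Groth.Agent.Helper9.PRes

variable {A : Type u} [Category.{v} A] [Abelian A]

theorem exists_truncGE_map (K : CochainComplex A ℤ) (a b : ℤ) (hab : a ≤ b) :
    ∃ j : K.truncGE a ⟶ K.truncGE b, K.πTruncGE a ≫ j = K.πTruncGE b := by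
  haveI : (K.truncGE b).IsStrictlyGE a := CochainComplex.isStrictlyGE_of_ge _ a b hab
  haveI : IsIso ((K.truncGE b).πTruncGE a) := by
    dsimp [CochainComplex.πTruncGE]; infer_instance
  refine ⟨CochainComplex.truncGEMap (K.πTruncGE b) a ≫ inv ((K.truncGE b).πTruncGE a), ?_⟩
  rw [← Category.assoc, CochainComplex.πTruncGE_naturality, Category.assoc, IsIso.hom_inv_id,
    Category.comp_id]

section Tower

variable (I : ObjectProperty A) [I.IsClosedUnderIsomorphisms]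
  (hIprod : ∀ X Y : A, I X → I Y → I (X ⊞ Y))
  (hI : ∀ X : A, ∃ (Y : A) (ι : X ⟶ Y), I Y ∧ Mono ι) (K : CochainComplex A ℤ)

/-- A coresolution of `τ_{≥ -n} K`. -/
structure CoLvl (n : ℕ) where
  Q : CochainComplex A ℤ
  π : K.truncGE (-(n : ℤ)) ⟶ Q
  qi : QuasiIso π
  mono : ∀ i, Mono (π.f i)
  zero : ∀ j : ℤ, j < -(n : ℤ) → IsZero (Q.X j)
  prop : ∀ i, I (Q.X i)

include hI in
theorem CoLvl.exists_init (Z : A) (hZ0 : IsZero Z) (hZ : I Z) : Nonempty (CoLvl I K 0) := by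
  have hL₀ : ∀ j : ℤ, IsZero ((HomologicalComplex.zero : CochainComplex A ℤ).X j) := fun j =>
    isZero_zero A
  obtain ⟨L, α, p, -, hLa, hsplit, hmono, hqi⟩ :=
    exists_relative_coresolution (fun X : A => I X) hI Z hZ0 hZ
      (0 : K.truncGE (-((0 : ℕ) : ℤ)) ⟶ (HomologicalComplex.zero : CochainComplex A ℤ))
      (-((0 : ℕ) : ℤ)) (fun j _ => hL₀ j)
      (fun j hj => CochainComplex.isZero_of_isStrictlyGE _ (-((0 : ℕ) : ℤ)) j hj)
  refine ⟨{ Q := L, π := α, qi := hqi, mono := hmono, zero := hLa, prop := fun i => ?_ }⟩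
  obtain ⟨T, hT, hsp⟩ := hsplit i
  obtain ⟨e⟩ := hsp.nonempty_iso_of_isZero (hL₀ i)
  exact I.prop_of_iso e.symm hT

include hI hIprod in
theorem CoLvl.exists_next (Z : A) (hZ0 : IsZero Z) (hZ : I Z) {n : ℕ} (L : CoLvl I K n) :
    ∃ (L' : CoLvl I K (n + 1)) (p : L'.Q ⟶ L.Q),
      (∀ i, (∃ s : L.Q.X i ⟶ L'.Q.X i, s ≫ p.f i = 𝟙 _) ∧ I (kernel (p.f i))) ∧
      K.πTruncGE (-((n + 1 : ℕ) : ℤ)) ≫ L'.π ≫ p = K.πTruncGE (-(n : ℤ)) ≫ L.π := by
  obtain ⟨j, hj⟩ := exists_truncGE_map K (-((n + 1 : ℕ) : ℤ)) (-(n : ℤ)) (by push_cast; omega)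
  obtain ⟨Q, α, p, hfac, hQa, hsplit, hmono, hqi⟩ :=
    exists_relative_coresolution (fun X : A => I X) hI Z hZ0 hZ (j ≫ L.π) (-((n + 1 : ℕ) : ℤ))
      (fun i hi => L.zero i (by push_cast at hi; omega))
      (fun i hi => CochainComplex.isZero_of_isStrictlyGE _ (-((n + 1 : ℕ) : ℤ)) i hi)
  refine ⟨{ Q := Q, π := α, qi := hqi, mono := hmono, zero := hQa, prop := fun i => ?_ }, p,
    fun i => ?_, ?_⟩
  · obtain ⟨T, hT, hsp⟩ := hsplit i
    obtain ⟨e⟩ := hsp.nonempty_iso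
    exact I.prop_of_iso e.symm (hIprod _ _ (L.prop i) hT)
  · obtain ⟨T, hT, hsp⟩ := hsplit i
    obtain ⟨e⟩ := hsp.nonempty_kernelIso
    exact ⟨hsp.exists_section, I.prop_of_iso e.symm hT⟩
  · rw [hfac, ← Category.assoc, hj]

variable (Z : A) (hZ0 : IsZero Z) (hZ : I Z)

/-- The tower of coresolutions. -/
noncomputable def cseq : ∀ n : ℕ, CoLvl I K n
  | 0 => (CoLvl.exists_init I hI K Z hZ0 hZ).some
  | n + 1 => ((cseq n).exists_next I hIprod hI K Z hZ0 hZ).choose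

/-- The transition maps of the tower. -/
noncomputable def cseqp (n : ℕ) :
    (cseq I hIprod hI K Z hZ0 hZ (n + 1)).Q ⟶ (cseq I hIprod hI K Z hZ0 hZ n).Q :=
  ((cseq I hIprod hI K Z hZ0 hZ n).exists_next I hIprod hI K Z hZ0 hZ).choose_spec.choose

theorem cseqp_spec (n : ℕ) :
    (∀ i, (∃ s : (cseq I hIprod hI K Z hZ0 hZ n).Q.X i ⟶ (cseq I hIprod hI K Z hZ0 hZ (n + 1)).Q.X i,
        s ≫ (cseqp I hIprod hI K Z hZ0 hZ n).f i = 𝟙 _) ∧
        I (kernel ((cseqp I hIprod hI K Z hZ0 hZ n).f i))) ∧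
      K.πTruncGE (-((n + 1 : ℕ) : ℤ)) ≫ (cseq I hIprod hI K Z hZ0 hZ (n + 1)).π ≫
          cseqp I hIprod hI K Z hZ0 hZ n =
        K.πTruncGE (-(n : ℤ)) ≫ (cseq I hIprod hI K Z hZ0 hZ n).π :=
  ((cseq I hIprod hI K Z hZ0 hZ n).exists_next I hIprod hI K Z hZ0 hZ).choose_spec.choose_spec

end Tower

end Groth.Agent.Helper9.PRes
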