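import Mathlib

/-!
# `k((T_1,…,T_r))` is geometrically reduced over `k`
-/

set_option autoImplicit false

namespace Groth.Agent.Helper9.PSGeomRed

open TensorProduct

section

variable (k L : Type*) [Field k] [Field L] [Algebra k L] (σ : Type*)

/-- the canonical map `k[[T]] ⊗_k L → L[[T]]`. -/
noncomputable def toPS : MvPowerSeries σ k ⊗[k] L →ₐ[k] MvPowerSeries σ L :=
  Algebra.TensorProduct.productMap (MvPowerSeries.mapAlgHom (Algebra.ofId k L))
    ((Algebra.ofId L (MvPowerSeries σ L)).restrictScalars k)

theorem toPS_tmul (f : MvPowerSeries σ k) (l : L) :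
    toPS k L σ (f ⊗ₜ l) = MvPowerSeries.map (algebraMap k L) f * MvPowerSeries.C l := by
  unfold toPS
  rw [Algebra.TensorProduct.productMap_apply_tmul]
  rfl

theorem coeff_toPS_tmul (n : σ →₀ ℕ) (f : MvPowerSeries σ k) (l : L) :
    MvPowerSeries.coeff n (toPS k L σ (f ⊗ₜ l)) = (MvPowerSeries.coeff n f) • l := by
  rw [toPS_tmul, mul_comm, MvPowerSeries.coeff_C_mul, MvPowerSeries.coeff_map, Algebra.smul_def,
    mul_comm]

theorem toPS_injective : Function.Injective (toPS k L σ) := by
  classical
  rw [injective_iff_map_eq_zero]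
  intro x hx
  let b := Module.Free.chooseBasis k L
  obtain ⟨c, rfl⟩ := TensorProduct.eq_repr_basis_right b x
  have hc : c = 0 := by
    ext i n
    have h1 := congrArg (MvPowerSeries.coeff n) hx
    rw [Finsupp.sum, map_sum, map_sum] at h1
    simp only [coeff_toPS_tmul, map_zero] at h1
    have h2 := (linearIndependent_iff'.mp b.linearIndependent) c.support
      (fun i => MvPowerSeries.coeff n (c i)) h1
    by_cases hi : i ∈ c.support
    · exact h2 i hi
    · rw [Finsupp.notMem_support_iff.mp hi]
      rfl
  rw [hc]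
  simp

instance : IsReduced (MvPowerSeries σ k ⊗[k] L) :=
  isReduced_of_injective (toPS k L σ) (toPS_injective k L σ)

end

end Groth.Agent.Helper9.PSGeomRed
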