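import Mathlib
import Groth.Prelude.Def_Coh
import Groth.Prelude.Def_Wider
import Groth.Agent.Lib.Helper9.PowKill

/-!
# `J`-power torsion of the cohomology of finite locally free modules on a punctured spectrum
(helper9)
-/

set_option autoImplicit false
set_option maxHeartbeats 800000
universe u
open CategoryTheory CategoryTheory.Limits AlgebraicGeometry Opposite TopologicalSpace

namespace Groth.Agent.Helper9.PowKill

/-- the basic open of (the restriction of) an element `u ∈ I` in the punctured spectrum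
`Spec A ∖ V(I)` is affine. -/
theorem isAffineOpen_basicOpen_punctured (A : Type u) [CommRing A] (I : Ideal A) (u : A)
    (hu : u ∈ I) :
    IsAffineOpen ((↑(LocCoh.puncturedOpen A I) : Scheme.{u}).basicOpen
      ((Coh.toGlobal (LocCoh.puncturedOpen A I).ι u :
        Coh.Γtop (↑(LocCoh.puncturedOpen A I) : Scheme.{u})) :
        Γ((↑(LocCoh.puncturedOpen A I) : Scheme.{u}), ⊤))) := by
  set U := LocCoh.puncturedOpen A I with hU
  let r₀ : Γ(Spec (CommRingCat.of A), ⊤) := (Scheme.ΓSpecIso (CommRingCat.of A)).inv u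
  have hD : IsAffineOpen ((Spec (CommRingCat.of A)).basicOpen r₀) :=
    (isAffineOpen_top (Spec (CommRingCat.of A))).basicOpen r₀
  have hDU : (Spec (CommRingCat.of A)).basicOpen r₀ ≤ U := by
    have h1 : (Spec (CommRingCat.of A)).basicOpen r₀ = PrimeSpectrum.basicOpen u :=
      basicOpen_eq_of_affine (R := CommRingCat.of A) u
    rw [h1]
    intro x hx
    change x ∈ (PrimeSpectrum.zeroLocus (I : Set A))ᶜ
    intro hx'
    exact hx (hx' hu)
  have h1 : (↑U : Scheme.{u}).basicOpen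
      ((Coh.toGlobal U.ι u : Coh.Γtop (↑U : Scheme.{u})) : Γ((↑U : Scheme.{u}), ⊤)) =
      U.ι ⁻¹ᵁ (Spec (CommRingCat.of A)).basicOpen r₀ :=
    (Scheme.preimage_basicOpen_top U.ι r₀).symm
  rw [h1, ← Scheme.Hom.isAffineOpen_iff_of_isOpenImmersion U.ι,
    Scheme.Hom.image_preimage_eq_opensRange_inf, Scheme.Opens.opensRange_ι, inf_eq_right.2 hDU]
  exact hD

theorem main (A : Type u) [CommRing A] (J I : Ideal A) (hJI : J ≤ I) (hJ : J.FG) (hI : I.FG)
    (p n : ℕ)
    (hO : ∀ a ∈ J ^ n, ∀ x : Coh.HH (↑(LocCoh.puncturedOpen A I))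
      (Coh.structureModule (↑(LocCoh.puncturedOpen A I))) p, a • x = 0)
    (F : (↑(LocCoh.puncturedOpen A I) : Scheme.{u}).Modules) (hF : FlatMod.IsFinLocFree F) :
    ∃ m : ℕ, ∀ a ∈ J ^ m, ∀ x : Coh.HH (↑(LocCoh.puncturedOpen A I)) F p, a • x = 0 := by
  haveI : CompactSpace ↥(↑(LocCoh.puncturedOpen A I) : Scheme.{u}) := by
    have h1 : IsCompact ((PrimeSpectrum.zeroLocus (I : Set A))ᶜ : Set (PrimeSpectrum A)) :=
      (PrimeSpectrum.isCompact_isOpen_iff_ideal.mpr ⟨I, hI, rfl⟩).1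
    exact isCompact_iff_compactSpace.mp h1
  haveI : QuasiSeparatedSpace ↥(↑(LocCoh.puncturedOpen A I) : Scheme.{u}) :=
    (LocCoh.puncturedOpen A I).ι.isOpenEmbedding.quasiSeparatedSpace
  have hsm : ∀ (G : (↑(LocCoh.puncturedOpen A I) : Scheme.{u}).Modules) (a : A)
      (x : Coh.HH (↑(LocCoh.puncturedOpen A I)) G p),
      a • x = (Coh.toGlobal (LocCoh.puncturedOpen A I).ι a :
        Coh.Γtop (↑(LocCoh.puncturedOpen A I) : Scheme.{u})) • x := fun _ _ _ => rfl
  have key : ∀ u ∈ J, ∃ k : ℕ, ∀ x : Coh.HH (↑(LocCoh.puncturedOpen A I)) F p,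
      (u ^ k) • x = 0 := by
    intro u hu
    have hV := isAffineOpen_basicOpen_punctured A I u (hJI hu)
    obtain ⟨r, β, α, N, M, h⟩ := exists_factor F hF _ hV
    refine ⟨n + N, fun x => ?_⟩
    rw [hsm, pow_add, map_mul, map_pow, map_pow]
    refine smul_eq_zero_of_factor F p β α _ _ _ ?_ h x
    intro y
    have h2 := hO (u ^ n) (Ideal.pow_mem_pow hu n) y
    rw [hsm, map_pow] at h2
    exact h2
  have hrad : J ≤ (Module.annihilator A (Coh.HH (↑(LocCoh.puncturedOpen A I)) F p)).radical := by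
    intro u hu
    obtain ⟨k, hk⟩ := key u hu
    exact ⟨k, Module.mem_annihilator.mpr hk⟩
  obtain ⟨m, hm⟩ := Ideal.exists_pow_le_of_le_radical_of_fg hrad hJ
  exact ⟨m, fun a ha x => Module.mem_annihilator.mp (hm ha) x⟩

end Groth.Agent.Helper9.PowKill
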