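import Mathlib
import Groth.Agent.Lib.Helper9.PrinPart0

/-!
# Principal parts: transition maps `P^m(F) → P^n(F)` and order-zero operators
-/

set_option autoImplicit false
set_option linter.unusedSectionVars false
universe u
open CategoryTheory CategoryTheory.Limits AlgebraicGeometry TopologicalSpace Opposite

namespace Groth.Agent.Helper9.PrinPart1

open OmegaSh PrinPart Groth.Agent.Helper9.PrinPart0

section Trans

variable {X S : Scheme.{u}} (f : X ⟶ S) {n m : ℕ} (h : n ≤ m)

theorem w_pr1 : infNbhdMap (diagCl f) h ≫ pr1 f m = pr1 f n := by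
  simp only [pr1, nbhdι, Category.assoc, infNbhdMap_ι_assoc]

theorem w_pr2 : infNbhdMap (diagCl f) h ≫ pr2 f m = pr2 f n := by
  simp only [pr2, nbhdι, Category.assoc, infNbhdMap_ι_assoc]

/-- The transition map `P^m(F) ⟶ P^n(F)` for `n ≤ m`. -/
noncomputable def rho (F : X.Modules) : PMod f m F ⟶ PMod f n F :=
  rhoG (infNbhdMap (diagCl f) h) (pr1 f m) (pr2 f m) (pr1 f n) (pr2 f n)
    (w_pr1 f h) (w_pr2 f h) F

theorem rho_dP (F : X.Modules) (U : X.Opens) (t : Γ(F, U)) :
    (rho f h F).app U (dP f m F U t) = dP f n F U t := by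
  rw [dP_apply, dP_apply]
  exact rhoG_app (infNbhdMap (diagCl f) h) (pr1 f m) (pr2 f m) (pr1 f n) (pr2 f n)
    (w_pr1 f h) (w_pr2 f h) F U (preimage_pr1 f m U).le (preimage_pr1 f n U).le t

end Trans

section Zero

variable {X S : Scheme.{u}} (f : X ⟶ S) (F G : X.Modules)

theorem res_pullSect_smul {B : Scheme.{u}} (p q : B ⟶ X) (hpq : p = q) (U : X.Opens)
    (e : p ⁻¹ᵁ U ≤ q ⁻¹ᵁ U) (a : Γ(X, U)) (t : Γ(F, U))
    (y : Γ((Scheme.Modules.pushforward p).obj ((Scheme.Modules.pullback q).obj F), U))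
    (hy : y = ((Scheme.Modules.pullback q).obj F).presheaf.map (homOfLE e).op (pullSect q F U t)) :
    ((Scheme.Modules.pullback q).obj F).presheaf.map (homOfLE e).op (pullSect q F U (a • t)) =
      a • y := by
  subst hpq
  subst hy
  rw [pullSect_smul, map_self', map_self']
  rfl

theorem dP_zero_smul (U : X.Opens) (a : Γ(X, U)) (t : Γ(F, U)) :
    dP f 0 F U (a • t) = a • dP f 0 F U t :=
  res_pullSect_smul F (pr1 f 0) (pr2 f 0) (pr2_eq_pr1_zero f).symm U (preimage_pr1 f 0 U).le a t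
    (dP f 0 F U t) rfl

/-- `d^0` as a morphism of `O_X`-modules. -/
noncomputable def eps : F ⟶ PMod f 0 F :=
  (Scheme.Modules.pullbackPushforwardAdjunction (pr2 f 0)).unit.app F ≫
    (Scheme.Modules.pushforwardCongr (pr2_eq_pr1_zero f)).hom.app _

theorem eps_app (U : X.Opens) (t : Γ(F, U)) : (eps f F).app U t = dP f 0 F U t := by
  obtain ⟨k, hk⟩ : ∃ k : op (pr2 f 0 ⁻¹ᵁ U) ⟶ op (pr1 f 0 ⁻¹ᵁ U),
      (eps f F).app U t =
        ((Scheme.Modules.pullback (pr2 f 0)).obj F).presheaf.map k (pullSect (pr2 f 0) F U t) :=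
    ⟨_, rfl⟩
  rw [hk, dP_apply]
  exact map_congr' _ _ _ _

instance isIso_eps : IsIso (eps f F) := by
  rw [Scheme.Modules.Hom.isIso_iff_isIso_app]
  intro U
  rw [ConcreteCategory.isIso_iff_bijective]
  refine ⟨fun x y hxy => (dP_zero_bijective f F U).1 ?_, fun y => ?_⟩
  · rw [← eps_app, ← eps_app]
    exact hxy
  · obtain ⟨x, hx⟩ := (dP_zero_bijective f F U).2 y
    exact ⟨x, (eps_app f F U x).trans hx⟩

/-- An `O_X`-linear morphism of underlying abelian presheaves is a morphism of modules. -/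
noncomputable def ofLinear (D : F.presheaf ⟶ G.presheaf)
    (hD : ∀ (U : X.Opens) (a : Γ(X, U)) (t : Γ(F, U)),
      D.app (op U) (a • t) = a • D.app (op U) t) : F ⟶ G :=
  Scheme.Modules.fullyFaithfulToPresheafOfModules.preimage
    (PresheafOfModules.homMk D (fun V r m => hD V.unop r m))

theorem ofLinear_app (D : F.presheaf ⟶ G.presheaf)
    (hD : ∀ (U : X.Opens) (a : Γ(X, U)) (t : Γ(F, U)),
      D.app (op U) (a • t) = a • D.app (op U) t) (U : X.Opens) (t : Γ(F, U)) :
    (ofLinear F G D hD).app U t = D.app (op U) t := by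
  have h1 := Scheme.Modules.fullyFaithfulToPresheafOfModules.map_preimage
    (PresheafOfModules.homMk D (fun V r m => hD V.unop r m))
  have h2 : (ofLinear F G D hD).app U t =
      (((Scheme.Modules.toPresheafOfModules X).map (ofLinear F G D hD)).app (op U)).hom t := rfl
  rw [h2]
  unfold ofLinear
  rw [h1]
  rfl

theorem isDiffOpLE_zero_iff (D : F.presheaf ⟶ G.presheaf) :
    IsDiffOpLE f F G 0 D ↔
      ∀ (U : X.Opens) (a : Γ(X, U)) (t : Γ(F, U)),
        D.app (op U) (a • t) = a • D.app (op U) t := by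
  constructor
  · rintro ⟨u, hu⟩ U a t
    rw [hu U (a • t), hu U t, dP_zero_smul, Scheme.Modules.Hom.app_smul]
  · intro hD
    refine ⟨inv (eps f F) ≫ ofLinear F G D hD, fun U t => ?_⟩
    have h1 : (inv (eps f F)).app U (dP f 0 F U t) = t := by
      rw [← eps_app]
      exact iso_inv_hom_app (asIso (eps f F)) U t
    have h2 : (inv (eps f F) ≫ ofLinear F G D hD).app U (dP f 0 F U t) =
        (ofLinear F G D hD).app U ((inv (eps f F)).app U (dP f 0 F U t)) := rfl
    rw [h2, h1, ofLinear_app]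

end Zero

end Groth.Agent.Helper9.PrinPart1
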