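import Mathlib
import Groth.Prelude.Def_OmegaPn
import Groth.Agent.Lib.Helper9.PrinPart12
import Groth.Agent.Lib.Helper18.OmegaUniv2

/-!
# `P^1 = O ⊕ Ω` for a quasi-separated morphism
-/

set_option autoImplicit false
set_option linter.unusedSectionVars false
set_option linter.style.haveILetI false
set_option backward.isDefEq.respectTransparency false
universe u
open CategoryTheory CategoryTheory.Limits AlgebraicGeometry TopologicalSpace Opposite TensorProduct

namespace Groth.Agent.Helper9.PrinPart13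

open OmegaSh PrinPart Groth.Agent.Helper9.PrinPart0 Groth.Agent.Helper9.PrinPart2
  Groth.Agent.Helper9.PrinPart9 Groth.Agent.Helper9.PrinPart11 Groth.Agent.Helper9.PrinPart12
  Groth.Agent.Helper13 Groth.Agent.Helper18.OmegaSec

section Alg

variable {A B R' : Type u} [CommRing A] [CommRing B] [Algebra A B] [CommRing R']

/-- the map `I/I² → R'` induced by a ring map `B ⊗ B → R'` killing `I²`. -/
noncomputable def cotMap (ν : B ⊗[A] B →+* R')
    (hν : ∀ τ ∈ KaehlerDifferential.ideal A B ^ 2, ν τ = 0) : Ω[B⁄A] →+ R' :=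
  ((Ideal.Quotient.lift (KaehlerDifferential.ideal A B ^ 2) ν hν : _ →+* R') : _ →+ R').comp
    ((KaehlerDifferential.ideal A B).cotangentToQuotientSquare).toAddMonoidHom

theorem cotMap_toCotangent (ν : B ⊗[A] B →+* R')
    (hν : ∀ τ ∈ KaehlerDifferential.ideal A B ^ 2, ν τ = 0)
    (x : KaehlerDifferential.ideal A B) :
    cotMap ν hν ((KaehlerDifferential.ideal A B).toCotangent x) = ν (x : B ⊗[A] B) := rfl

theorem cotMap_smul (ν : B ⊗[A] B →+* R')
    (hν : ∀ τ ∈ KaehlerDifferential.ideal A B ^ 2, ν τ = 0) (c : B) (y : Ω[B⁄A]) :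
    cotMap ν hν (c • y) = ν (c ⊗ₜ[A] (1 : B)) * cotMap ν hν y := by
  obtain ⟨x, rfl⟩ := Ideal.toCotangent_surjective _ y
  have h0 : (c • (KaehlerDifferential.ideal A B).toCotangent x : Ω[B⁄A]) =
      (c ⊗ₜ[A] (1 : B)) • ((KaehlerDifferential.ideal A B).toCotangent x : Ω[B⁄A]) :=
    (algebraMap_smul (B ⊗[A] B) c
      ((KaehlerDifferential.ideal A B).toCotangent x : Ω[B⁄A])).symm
  have h1 : (c ⊗ₜ[A] (1 : B)) • ((KaehlerDifferential.ideal A B).toCotangent x) =
      (KaehlerDifferential.ideal A B).toCotangent ((c ⊗ₜ[A] (1 : B)) • x) :=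
    (map_smul (KaehlerDifferential.ideal A B).toCotangent (c ⊗ₜ[A] (1 : B)) x).symm
  rw [h0]
  erw [h1]
  rw [cotMap_toCotangent, cotMap_toCotangent, ← map_mul]
  rfl

theorem alg_key (ν : B ⊗[A] B →+* R')
    (hν : ∀ τ, ν τ = 0 ↔ τ ∈ KaehlerDifferential.ideal A B ^ 2)
    (g : Ω[B⁄A] →+ R') (hg : ∀ b ω, g (b • ω) = ν (b ⊗ₜ[A] (1 : B)) * g ω)
    (hD : ∀ s, g (KaehlerDifferential.D A B s) = ν ((1 : B) ⊗ₜ[A] s - s ⊗ₜ[A] (1 : B)))
    (b : B) (ω : Ω[B⁄A]) (h : ν (b ⊗ₜ[A] (1 : B)) + g ω = 0) : b = 0 ∧ ω = 0 := by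
  have hgc : ∀ ω, g ω = cotMap ν (fun τ hτ => (hν τ).2 hτ) ω := by
    intro ω
    have hω : ω ∈ Submodule.span B (Set.range (KaehlerDifferential.D A B)) := by
      rw [KaehlerDifferential.span_range_derivation]
      trivial
    induction hω using Submodule.span_induction with
    | mem y hy =>
      obtain ⟨s, rfl⟩ := hy
      rw [hD, KaehlerDifferential.D_apply, cotMap_toCotangent]
    | zero => rw [map_zero, map_zero]
    | add y z _ _ hy hz => rw [map_add, map_add, hy, hz]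
    | smul c y _ hy => rw [hg, hy, cotMap_smul]
  obtain ⟨x, rfl⟩ := Ideal.toCotangent_surjective _ ω
  rw [hgc] at h
  have h1 : ν (b ⊗ₜ[A] (1 : B) + (x : B ⊗[A] B)) = 0 := by
    rw [map_add]
    exact h
  have h2 := (hν _).1 h1
  have h3 : b ⊗ₜ[A] (1 : B) + (x : B ⊗[A] B) ∈ KaehlerDifferential.ideal A B :=
    Ideal.pow_le_self two_ne_zero h2
  have h4 : b ⊗ₜ[A] (1 : B) ∈ KaehlerDifferential.ideal A B := by
    have h5 := Ideal.sub_mem _ h3 x.2
    rwa [add_sub_cancel_right] at h5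
  have hb : b = 0 := by
    have h5 : Algebra.TensorProduct.lmul' A (b ⊗ₜ[A] (1 : B)) = 0 := h4
    rwa [Algebra.TensorProduct.lmul'_apply_tmul, mul_one] at h5
  refine ⟨hb, ?_⟩
  rw [hb, TensorProduct.zero_tmul, zero_add] at h2
  exact (Ideal.toCotangent_eq_zero _ x).2 h2

end Alg

section Sch

variable {X S : Scheme.{u}} (f : X ⟶ S) [QuasiSeparated f]

theorem inj_chart (e₀ : Coh.structureModule X ⟶ P f 1)
    (he : ∀ (U : X.Opens) (s : Γ(X, U)), e₀.app U (strSect X U s) = s • dn f 1 U 1)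
    (ι : Omega.sheaf f ⟶ P f 1)
    (hι : ∀ (U : X.Opens) (s : Γ(X, U)),
      ι.app U ((dOmega f).app U s) = dn f 1 U s - s • dn f 1 U 1)
    {U : X.Opens} {V : S.Opens} (hU : IsAffineOpen U) (hV : IsAffineOpen V) (e : U ≤ f ⁻¹ᵁ V)
    (x₁ : Γ(X, U)) (x₂ : Γ(Omega.sheaf f, U))
    (h : e₀.app U (strSect X U x₁) + ι.app U x₂ = 0) : x₁ = 0 ∧ x₂ = 0 := by
  letI := algUV f e
  have hQ := isAffineOpen_WD f hU hV e
  have hQW := WD_le_coborderRange f hU hV e
  have hZ := preimage_WD f 1 U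
  obtain ⟨β, hβ⟩ : ∃ β : Γ(pullback f f, WD f U) ≃+* Γ(X, U) ⊗[Γ(S, V)] Γ(X, U),
      β = (betaIso f hU hV e).commRingCatIsoToRingEquiv := ⟨_, rfl⟩
  obtain ⟨ν', hν'app⟩ : ∃ ν' : Γ(X, U) ⊗[Γ(S, V)] Γ(X, U) →+* Γ(nbhd f 1, pr1 f 1 ⁻¹ᵁ U),
      ∀ τ, ν' τ = (nbhdι f 1).appLE (WD f U) (pr1 f 1 ⁻¹ᵁ U) hZ.le (β.symm τ) :=
    ⟨((nbhdι f 1).appLE (WD f U) (pr1 f 1 ⁻¹ᵁ U) hZ.le).hom.comp β.symm.toRingHom, fun _ => rfl⟩
  -- the kernel of the diagonal on the chart
  have hΔ : ∀ x, ((pullback.diagonal f).app (WD f U)).hom x = 0 ↔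
      ((Algebra.TensorProduct.lmul' Γ(S, V) :
        Γ(X, U) ⊗[Γ(S, V)] Γ(X, U) →ₐ[Γ(S, V)] Γ(X, U)) :
        Γ(X, U) ⊗[Γ(S, V)] Γ(X, U) →+* Γ(X, U)) (β x) = 0 := by
    intro x
    have h1 := diag_hcomp f hU hV e x
    rw [← hβ] at h1
    have hinj := presheaf_map_injective_of_eq X (diag_preimage_WD f U)
      (homOfLE (le_diag_preimage f U)).op
    constructor
    · intro h0
      have h0' : (pullback.diagonal f).app (WD f U) x = 0 := h0
      have h2 : (pullback.diagonal f).appLE (WD f U) U (le_diag_preimage f U) x = 0 := by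
        show X.presheaf.map (homOfLE (le_diag_preimage f U)).op
          ((pullback.diagonal f).app (WD f U) x) = 0
        rw [h0', map_zero]
      rw [h2] at h1
      exact h1.symm.trans (map_zero _)
    · intro h0
      have h0' : Algebra.TensorProduct.lmul' Γ(S, V) (β x) = 0 := h0
      rw [h0'] at h1
      have h2 : (pullback.diagonal f).appLE (WD f U) U (le_diag_preimage f U) x = 0 := h1
      apply hinj
      rw [map_zero]
      exact h2
  have hK : KaehlerDifferential.ideal Γ(S, V) Γ(X, U) = RingHom.ker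
      ((Algebra.TensorProduct.lmul' Γ(S, V) :
        Γ(X, U) ⊗[Γ(S, V)] Γ(X, U) →ₐ[Γ(S, V)] Γ(X, U)) :
        Γ(X, U) ⊗[Γ(S, V)] Γ(X, U) →+* Γ(X, U)) := by
    ext x
    rw [RingHom.mem_ker, RingHom.mem_ker]
    rfl
  have hν' : ∀ τ, ν' τ = 0 ↔ τ ∈ KaehlerDifferential.ideal Γ(S, V) Γ(X, U) ^ 2 := by
    intro τ
    rw [hν'app, nbhdι_appLE_eq_zero_iff f 1 hQ hQW _ hZ, hK]
    have key := mem_ker_pow_iff β ((pullback.diagonal f).app (WD f U)).hom _ hΔ (1 + 1)
      (β.symm τ)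
    rw [RingEquiv.apply_symm_apply] at key
    exact key
  have hν1 : ∀ b : Γ(X, U), ν' (b ⊗ₜ[Γ(S, V)] (1 : Γ(X, U))) = (pr1 f 1).app U b := by
    intro b
    have hb : β.symm (b ⊗ₜ[Γ(S, V)] (1 : Γ(X, U))) =
        (pullback.fst f f).appLE U (WD f U) inf_le_left b := by
      rw [RingEquiv.symm_apply_eq, hβ]
      exact (beta_fst f hU hV e b).symm
    have h1 := pr1_appLE f 1 U (WD f U) inf_le_left (pr1 f 1 ⁻¹ᵁ U) hZ.le le_rfl
    rw [Scheme.Hom.appLE_eq_app] at h1
    rw [hν'app, hb]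
    exact congr($h1 b)
  have hν2 : ∀ s : Γ(X, U), ν' ((1 : Γ(X, U)) ⊗ₜ[Γ(S, V)] s - s ⊗ₜ[Γ(S, V)] (1 : Γ(X, U))) =
      (pr2 f 1).appLE U (pr1 f 1 ⁻¹ᵁ U) (preimage_pr1 f 1 U).le s - (pr1 f 1).app U s := by
    intro s
    have hs : β.symm ((1 : Γ(X, U)) ⊗ₜ[Γ(S, V)] s) =
        (pullback.snd f f).appLE U (WD f U) inf_le_right s := by
      rw [RingEquiv.symm_apply_eq, hβ]
      exact (beta_snd f hU hV e s).symm
    have h2 := pr2_appLE f 1 U (WD f U) inf_le_right (pr1 f 1 ⁻¹ᵁ U) hZ.le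
      (preimage_pr1 f 1 U).le
    rw [map_sub, hν1, hν'app, hs]
    exact congrArg (fun z => z - (pr1 f 1).app U s) (congr($h2 s))
  -- the map on differentials
  obtain ⟨g, hgapp⟩ : ∃ g : Ω[Γ(X, U)⁄Γ(S, V)] →+ Γ(nbhd f 1, pr1 f 1 ⁻¹ᵁ U),
      ∀ ω, g ω = theta f 1 U (ι.app U ((omegaSections f hU hV e).symm ω)) :=
    ⟨(theta f 1 U).comp ((ι.app U).hom.comp
      (omegaSections f hU hV e).symm.toLinearMap.toAddMonoidHom), fun _ => rfl⟩
  have hg : ∀ b ω, g (b • ω) = ν' (b ⊗ₜ[Γ(S, V)] (1 : Γ(X, U))) * g ω := by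
    intro b ω
    rw [hgapp, hgapp, map_smul, Scheme.Modules.Hom.app_smul, theta_smul, hν1]
  have hD : ∀ s, g (KaehlerDifferential.D Γ(S, V) Γ(X, U) s) =
      ν' ((1 : Γ(X, U)) ⊗ₜ[Γ(S, V)] s - s ⊗ₜ[Γ(S, V)] (1 : Γ(X, U))) := by
    intro s
    rw [hgapp, ← omegaSections_dSect f hU hV e s, LinearEquiv.symm_apply_apply, hν2]
    have h2 : ι.app U (dSect f U s) = kappa f U s := hι U s
    rw [h2, theta_kappa]
  have hθ : theta f 1 U (e₀.app U (strSect X U x₁) + ι.app U x₂) = 0 := by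
    rw [h, map_zero]
  rw [map_add, he, theta_smul, theta_dn, map_one, mul_one] at hθ
  have h3 : ν' (x₁ ⊗ₜ[Γ(S, V)] (1 : Γ(X, U))) + g (omegaSections f hU hV e x₂) = 0 := by
    rw [hν1, hgapp, LinearEquiv.symm_apply_apply]
    exact hθ
  obtain ⟨h4, h5⟩ := alg_key ν' hν' g hg hD x₁ (omegaSections f hU hV e x₂) h3
  exact ⟨h4, (omegaSections f hU hV e).injective (h5.trans (map_zero _).symm)⟩

theorem main5978 (e₀ : Coh.structureModule X ⟶ P f 1)
    (he : ∀ (U : X.Opens) (s : Γ(X, U)), e₀.app U (strSect X U s) = s • dn f 1 U 1)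
    (ι : Omega.sheaf f ⟶ P f 1)
    (hι : ∀ (U : X.Opens) (s : Γ(X, U)),
      ι.app U ((dOmega f).app U s) = dn f 1 U s - s • dn f 1 U 1) :
    IsIso (coprod.desc e₀ ι) := by
  have htot : coprod.desc (𝟙 (Coh.structureModule X)) (0 : Omega.sheaf f ⟶ _) ≫ coprod.inl +
      coprod.desc (0 : Coh.structureModule X ⟶ _) (𝟙 (Omega.sheaf f)) ≫ coprod.inr =
      𝟙 (Coh.structureModule X ⨿ Omega.sheaf f) := by
    apply coprod.hom_ext
    · rw [Preadditive.comp_add, coprod.inl_desc_assoc, coprod.inl_desc_assoc, Category.id_comp,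
        zero_comp, add_zero, Category.comp_id]
    · rw [Preadditive.comp_add, coprod.inr_desc_assoc, coprod.inr_desc_assoc, Category.id_comp,
        zero_comp, zero_add, Category.comp_id]
  have hΦ' : coprod.desc e₀ ι =
      coprod.desc (𝟙 (Coh.structureModule X)) (0 : Omega.sheaf f ⟶ _) ≫ e₀ +
      coprod.desc (0 : Coh.structureModule X ⟶ _) (𝟙 (Omega.sheaf f)) ≫ ι := by
    have h1 : coprod.desc e₀ ι = (coprod.desc (𝟙 (Coh.structureModule X))
        (0 : Omega.sheaf f ⟶ _) ≫ coprod.inl +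
      coprod.desc (0 : Coh.structureModule X ⟶ _) (𝟙 (Omega.sheaf f)) ≫ coprod.inr) ≫
        coprod.desc e₀ ι := by
      rw [htot, Category.id_comp]
    rw [Preadditive.add_comp, Category.assoc, Category.assoc, coprod.inl_desc,
      coprod.inr_desc] at h1
    exact h1
  haveI hepi : Epi (coprod.desc e₀ ι) := by
    apply Abelian.epi_of_cokernel_π_eq_zero
    apply main5958 f 1 (Coh.structureModule X) _ (cokernel.π (coprod.desc e₀ ι)) 0
    intro U t
    have a1 : (coprod.desc e₀ ι).app U ((coprod.inl : Coh.structureModule X ⟶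
        Coh.structureModule X ⨿ Omega.sheaf f).app U (strSect X U t)) =
        e₀.app U (strSect X U t) :=
      congrArg (fun ψ : Coh.structureModule X ⟶ P f 1 => ψ.app U (strSect X U t))
        (coprod.inl_desc e₀ ι)
    have a2 : (coprod.desc e₀ ι).app U ((coprod.inr : Omega.sheaf f ⟶
        Coh.structureModule X ⨿ Omega.sheaf f).app U ((dOmega f).app U t)) =
        ι.app U ((dOmega f).app U t) :=
      congrArg (fun ψ : Omega.sheaf f ⟶ P f 1 => ψ.app U ((dOmega f).app U t))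
        (coprod.inr_desc e₀ ι)
    have h1 : dn f 1 U t = (coprod.desc e₀ ι).app U
        ((coprod.inl : Coh.structureModule X ⟶
          Coh.structureModule X ⨿ Omega.sheaf f).app U (strSect X U t) +
        (coprod.inr : Omega.sheaf f ⟶
          Coh.structureModule X ⨿ Omega.sheaf f).app U ((dOmega f).app U t)) := by
      rw [map_add, a1, a2, he, hι]
      abel
    have h0 : coprod.desc e₀ ι ≫ cokernel.π (coprod.desc e₀ ι) = 0 := cokernel.condition _
    have h2 := congrArg (fun ψ : Coh.structureModule X ⨿ Omega.sheaf f ⟶ _ => ψ.app U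
      ((coprod.inl : Coh.structureModule X ⟶
          Coh.structureModule X ⨿ Omega.sheaf f).app U (strSect X U t) +
        (coprod.inr : Omega.sheaf f ⟶
          Coh.structureModule X ⨿ Omega.sheaf f).app U ((dOmega f).app U t))) h0
    have h3 : (cokernel.π (coprod.desc e₀ ι)).app U ((coprod.desc e₀ ι).app U
        ((coprod.inl : Coh.structureModule X ⟶
          Coh.structureModule X ⨿ Omega.sheaf f).app U (strSect X U t) +
        (coprod.inr : Omega.sheaf f ⟶
          Coh.structureModule X ⨿ Omega.sheaf f).app U ((dOmega f).app U t))) = 0 := h2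
    rw [← h1] at h3
    exact h3
  haveI hmono : Mono (coprod.desc e₀ ι) := by
    rw [QCoh.mono_iff_app_injective]
    intro W x y hxy
    have hx : (coprod.desc e₀ ι).app W (x - y) = 0 := by
      rw [map_sub, hxy, sub_self]
    have hx' : e₀.app W ((coprod.desc (𝟙 (Coh.structureModule X))
          (0 : Omega.sheaf f ⟶ _)).app W (x - y)) +
        ι.app W ((coprod.desc (0 : Coh.structureModule X ⟶ _)
          (𝟙 (Omega.sheaf f))).app W (x - y)) = 0 := by
      have h1 := congrArg (fun ψ : Coh.structureModule X ⨿ Omega.sheaf f ⟶ P f 1 =>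
        ψ.app W (x - y)) hΦ'
      exact h1.symm.trans hx
    have hq : ∀ (U : X.Opens) (V : S.Opens) (_ : IsAffineOpen U) (_ : IsAffineOpen V)
        (_ : U ≤ f ⁻¹ᵁ V) (hle : U ≤ W),
        (Coh.structureModule X).presheaf.map (homOfLE hle).op
          ((coprod.desc (𝟙 (Coh.structureModule X)) (0 : Omega.sheaf f ⟶ _)).app W (x - y)) = 0 ∧
        (Omega.sheaf f).presheaf.map (homOfLE hle).op
          ((coprod.desc (0 : Coh.structureModule X ⟶ _) (𝟙 (Omega.sheaf f))).app W (x - y)) = 0 := by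
      intro U V hU hV e hle
      have h5 := congrArg (fun z => (P f 1).presheaf.map (homOfLE hle).op z) hx'
      simp only [] at h5
      rw [map_add, map_zero, ← hom_naturality e₀, ← hom_naturality ι] at h5
      exact inj_chart f e₀ he ι hι hU hV e _ _ h5
    have hq1 : (coprod.desc (𝟙 (Coh.structureModule X)) (0 : Omega.sheaf f ⟶ _)).app W (x - y) = 0 := by
      apply Groth.Agent.Helper18.OmegaUniv.eq_of_charts f (Coh.structureModule X) W
      intro U V hU hV e hle
      rw [map_zero]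
      exact (hq U V hU hV e hle).1
    have hq2 : (coprod.desc (0 : Coh.structureModule X ⟶ _) (𝟙 (Omega.sheaf f))).app W (x - y) = 0 := by
      apply Groth.Agent.Helper18.OmegaUniv.eq_of_charts f (Omega.sheaf f) W
      intro U V hU hV e hle
      rw [map_zero]
      exact (hq U V hU hV e hle).2
    have hxx : x - y = (coprod.inl : Coh.structureModule X ⟶
          Coh.structureModule X ⨿ Omega.sheaf f).app W
          ((coprod.desc (𝟙 (Coh.structureModule X)) (0 : Omega.sheaf f ⟶ _)).app W (x - y)) +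
        (coprod.inr : Omega.sheaf f ⟶ Coh.structureModule X ⨿ Omega.sheaf f).app W
          ((coprod.desc (0 : Coh.structureModule X ⟶ _) (𝟙 (Omega.sheaf f))).app W (x - y)) := by
      have h1 := congrArg (fun ψ : Coh.structureModule X ⨿ Omega.sheaf f ⟶
        Coh.structureModule X ⨿ Omega.sheaf f => ψ.app W (x - y)) htot
      exact h1.symm
    rw [hq1, hq2, map_zero, map_zero, add_zero] at hxx
    exact sub_eq_zero.1 hxx
  exact isIso_of_mono_of_epi _

end Sch

end Groth.Agent.Helper9.PrinPart13
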