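import Mathlib
import Groth.Prelude.Def_OmegaPn

/-!
# Morphisms with a surjective section are integral; infinitesimal neighbourhoods of sections
-/

set_option autoImplicit false
universe u
open CategoryTheory CategoryTheory.Limits AlgebraicGeometry TopologicalSpace Opposite

namespace Groth.Agent.Helper9.PrinPart5

open PrinPart

section General

variable {X' X : Scheme.{u}} (p : X' ⟶ X) (t : X ⟶ X') (h : t ≫ p = 𝟙 X)
  (ht : Function.Surjective t)

include h in
theorem p_t_apply (x : X) : p (t x) = x := by
  rw [← Scheme.Hom.comp_apply, h]
  rfl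

include h ht in
theorem t_p_apply (y : X') : t (p y) = y := by
  obtain ⟨x, rfl⟩ := ht y
  exact congrArg _ (p_t_apply p t h x)

include h ht in
theorem isAffineHom_of_section : IsAffineHom p := by
  have hind : Topology.IsInducing p := by
    refine Topology.IsInducing.of_comp p.continuous t.continuous ?_
    have : t ∘ p = id := funext (t_p_apply p t h ht)
    rw [this]
    exact Topology.IsInducing.id
  refine isAffineHom_of_isInducing _ hind ?_
  have hs : Function.Surjective p := fun x => ⟨t x, p_t_apply p t h x⟩
  rw [hs.range_eq]
  exact isClosed_univ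

include h ht in
theorem isIntegralHom_of_section : IsIntegralHom p := by
  haveI : Surjective t := ⟨ht⟩
  haveI : UniversallyClosed (t ≫ p) := by
    rw [h]; infer_instance
  haveI : UniversallyClosed p := UniversallyClosed.of_comp_surjective t p
  haveI := isAffineHom_of_section p t h ht
  exact IsIntegralHom.iff_universallyClosed_and_isAffineHom.mpr ⟨inferInstance, inferInstance⟩

include h ht in
theorem isFinite_of_section [LocallyOfFiniteType p] : IsFinite p := by
  haveI := isIntegralHom_of_section p t h ht
  exact (IsFinite.iff_isIntegralHom_and_locallyOfFiniteType _).mpr ⟨inferInstance, inferInstance⟩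

end General

theorem isFinite_infNbhd_of_section {X Y : Scheme.{u}} (g : X ⟶ Y) [LocallyOfFiniteType g]
    (f : Y ⟶ X) [IsClosedImmersion f] (hf : f ≫ g = 𝟙 Y) (n : ℕ) :
    IsFinite (infNbhdι f n ≫ g) := by
  haveI : LocallyOfFiniteType (infNbhdι f n ≫ g) := by
    unfold infNbhdι
    infer_instance
  refine isFinite_of_section (infNbhdι f n ≫ g) (toInfNbhd f n) ?_ (toInfNbhd_surjective f n)
  rw [toInfNbhd_ι_assoc, hf]

end Groth.Agent.Helper9.PrinPart5
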