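import Mathlib
import Groth.Agent.Lib.Helper5.CI3
import Groth.Agent.Lib.Helper13.PbUnit
import Groth.Agent.Lib.Helper13.WeakAss
import Groth.Agent.Lib.Helper24.FlatPull
import Groth.Agent.Lib.Helper9.PrinPart2
import Groth.Agent.Lib.Helper9.PrinPart7

/-!
# Principal parts: exactness of `F ↦ P^n(F)` when `P^n` is flat (helper9)

* `isIso_sigma_of_isInducing`: the stalk of a direct image along a topologically inducing morphism;
* `flat_of_isFlat_pushforward`: if `p` is inducing and `p_* O_Z` is a flat `O_X`-module then `p` is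
  flat;
* `main5967`: if `P^n_{X/S}` is flat then `F ↦ P^n_{X/S}(F)` is left exact.
-/

set_option autoImplicit false
set_option linter.unusedSectionVars false
universe u
open CategoryTheory CategoryTheory.Limits AlgebraicGeometry TopologicalSpace Opposite

namespace Groth.Agent.Helper9.PrinPart8

open Groth.Agent.Helper5.CI Groth.Agent.Helper5.Sky

variable {Z X : Scheme.{u}} (p : Z ⟶ X)

theorem isIso_sigma_of_isInducing (hp : Topology.IsInducing p) (z : Z) (M : Z.Modules) :
    IsIso (sigma p z M) := by
  have h1 : IsIso (TopCat.Presheaf.stalkPushforward Ab.{u} p.base M.presheaf z) :=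
    TopCat.Presheaf.stalkPushforward.stalkPushforward_iso_of_isInducing Ab.{u} hp M.presheaf z
  have h2 := (ConcreteCategory.isIso_iff_bijective _).1 h1
  rw [ConcreteCategory.isIso_iff_bijective]
  have h3 : ((sigma p z M).hom : _ → _) =
      (TopCat.Presheaf.stalkPushforward Ab.{u} p.base M.presheaf z : _ → _) :=
    funext (sigma_eq p z M)
  exact h3 ▸ h2

/-- if `p` is topologically inducing and `p_* M` is flat for some `M ≅ O_Z`, then `p` is flat. -/
theorem flat_of_isFlat_pushforward (hp : Topology.IsInducing p) (M : Z.Modules)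
    (e : M ≅ Coh.structureModule Z)
    (h : FlatMod.IsFlat ((Scheme.Modules.pushforward p).obj M)) : Flat p := by
  rw [Flat.iff_flat_stalkMap]
  intro z
  haveI h1 : Module.Flat (X.presheaf.stalk (p.base z))
      ((DerSch.stalkFunctor X (p.base z)).obj ((Scheme.Modules.pushforward p).obj M)) :=
    h (p.base z)
  haveI := isIso_sigma_of_isInducing p hp z M
  have h2 : Module.Flat (X.presheaf.stalk (p.base z))
      ((ModuleCat.restrictScalars (φst p z)).obj ((DerSch.stalkFunctor Z z).obj M)) :=
    Module.Flat.of_linearEquiv (asIso (sigma p z M)).toLinearEquiv.symm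
  let e2 : (M.presheaf.stalk z) ≃ₗ[Z.presheaf.stalk z] (Z.presheaf.stalk z) :=
    ((DerSch.stalkFunctor Z z).mapIso e).toLinearEquiv.trans
      (Groth.Agent.Helper13.WeakAss.unitStalkEquiv z)
  letI : Algebra (X.presheaf.stalk (p.base z)) (Z.presheaf.stalk z) := (φst p z).toAlgebra
  let e3 : ((ModuleCat.restrictScalars (φst p z)).obj ((DerSch.stalkFunctor Z z).obj M)) ≃ₗ[
      X.presheaf.stalk (p.base z)] (Z.presheaf.stalk z) :=
    { toFun := fun m => e2 m
      invFun := fun s => e2.symm s
      map_add' := fun a b => e2.map_add a b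
      map_smul' := fun r m => by
        have hm := e2.map_smul (φst p z r) (show M.presheaf.stalk z from m)
        exact hm
      left_inv := fun m => e2.left_inv m
      right_inv := fun s => e2.right_inv s }
  exact Module.Flat.of_linearEquiv e3.symm

section PP

open PrinPart

variable {S : Scheme.{u}} (f : X ⟶ S) (n : ℕ)

theorem flat_pr1 (hP : FlatMod.IsFlat (PrinPart.P f n)) : Flat (pr1 f n) :=
  flat_of_isFlat_pushforward (pr1 f n) (Groth.Agent.Helper9.PrinPart2.pr1_isInducing f n) _
    (Groth.Agent.Helper13.PbUnit.pullbackUnitIso (pr2 f n)) hP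

theorem flat_pr2 (hP : FlatMod.IsFlat (PrinPart.P f n)) : Flat (pr2 f n) := by
  haveI := flat_pr1 f n hP
  obtain ⟨σ, -, hσσ, hσ1, -, -⟩ := Groth.Agent.Helper9.PrinPart7.exists_sigma f n
  haveI : IsIso σ := ⟨⟨σ, hσσ, hσσ⟩⟩
  rw [← hσ1]
  infer_instance

/-- the statement of S5967. -/
theorem main5967 (hP : FlatMod.IsFlat (PrinPart.P f n)) :
    PreservesFiniteLimits
      ((Scheme.Modules.pullback (PrinPart.pr2 f n)) ⋙
        (Scheme.Modules.pushforward (PrinPart.pr1 f n))) := by
  haveI := flat_pr2 f n hP
  haveI := Groth.Agent.Helper24.FlatPull.preservesFiniteLimits_pullback (pr2 f n)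
  haveI : PreservesFiniteLimits (Scheme.Modules.pushforward (pr1 f n)) := by
    haveI := (Scheme.Modules.pullbackPushforwardAdjunction (pr1 f n)).isRightAdjoint
    infer_instance
  infer_instance

end PP

end Groth.Agent.Helper9.PrinPart8
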