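import Mathlib

/-!
# Presentations with prescribed index types; Schanuel; local-to-global with bounds (helper9)
-/

set_option autoImplicit false
universe u

namespace Groth.Agent.Helper9.ProdFP

/-- `M` is generated by a family indexed by `β` whose module of relations is generated by a family
indexed by `α`. -/
def HasPres (R : Type*) [CommRing R] (M : Type*) [AddCommGroup M] [Module R M]
    (α β : Type) [Fintype β] : Prop :=
  ∃ x : β → M, Submodule.span R (Set.range x) = ⊤ ∧
    ∃ s : α → (β → R),
      Submodule.span R (Set.range s) = LinearMap.ker (Fintype.linearCombination R x)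

section Schanuel

variable {R : Type*} [CommRing R] {M : Type*} [AddCommGroup M] [Module R M]

/-- Schanuel-type bound: relations for another generating family -/
theorem schanuel {α β γ : Type} [Fintype β] [Fintype γ] [DecidableEq γ]
    (x : β → M) (s : α → (β → R))
    (hs : Submodule.span R (Set.range s) = LinearMap.ker (Fintype.linearCombination R x))
    (y : γ → M) (hy : Submodule.span R (Set.range y) = ⊤)
    (hx : Submodule.span R (Set.range x) = ⊤) :
    ∃ t : (α ⊕ γ) → (γ → R),
      Submodule.span R (Set.range t) = LinearMap.ker (Fintype.linearCombination R y) := by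
  classical
  have hp : ∀ j, ∃ p : γ → R, Fintype.linearCombination R y p = x j := fun j => by
    have h1 : x j ∈ Submodule.span R (Set.range y) := hy ▸ Submodule.mem_top
    rw [← Fintype.range_linearCombination] at h1
    exact h1
  choose p hp using hp
  have hq : ∀ c, ∃ q : β → R, Fintype.linearCombination R x q = y c := fun c => by
    have h1 : y c ∈ Submodule.span R (Set.range x) := hx ▸ Submodule.mem_top
    rw [← Fintype.range_linearCombination] at h1
    exact h1
  choose q hq using hq
  let B : (β → R) →ₗ[R] (γ → R) := Fintype.linearCombination R p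
  let A : (γ → R) →ₗ[R] (β → R) := Fintype.linearCombination R q
  have hB : ∀ v, Fintype.linearCombination R y (B v) = Fintype.linearCombination R x v := by
    intro v
    simp only [B, Fintype.linearCombination_apply, map_sum, map_smul]
    refine Finset.sum_congr rfl fun j _ => ?_
    rw [← hp j]; rfl
  have hA : ∀ v, Fintype.linearCombination R x (A v) = Fintype.linearCombination R y v := by
    intro v
    simp only [A, Fintype.linearCombination_apply, map_sum, map_smul]
    refine Finset.sum_congr rfl fun j _ => ?_
    rw [← hq j]; rfl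
  let D : (γ → R) →ₗ[R] (γ → R) := LinearMap.id - B ∘ₗ A
  have hD : ∀ v, Fintype.linearCombination R y (D v) = 0 := by
    intro v
    simp only [D, LinearMap.sub_apply, LinearMap.id_apply, LinearMap.comp_apply, map_sub]
    rw [hB, hA, sub_self]
  let t : (α ⊕ γ) → (γ → R) :=
    Sum.elim (fun a => B (s a)) (fun c => D (fun j => if c = j then 1 else 0))
  refine ⟨t, le_antisymm ?_ ?_⟩
  · rw [Submodule.span_le]
    rintro _ ⟨(a | c), rfl⟩
    · simp only [t, Sum.elim_inl, SetLike.mem_coe, LinearMap.mem_ker]
      rw [hB]
      have h1 : s a ∈ LinearMap.ker (Fintype.linearCombination R x) :=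
        hs ▸ Submodule.subset_span ⟨a, rfl⟩
      exact h1
    · simp only [t, Sum.elim_inr, SetLike.mem_coe, LinearMap.mem_ker]
      exact hD _
  · intro v hv
    rw [LinearMap.mem_ker] at hv
    have hAv : A v ∈ Submodule.span R (Set.range s) := by
      rw [hs, LinearMap.mem_ker, hA, hv]
    have h1 : B (A v) ∈ Submodule.span R (Set.range t) := by
      have h2 : B (A v) ∈ (Submodule.span R (Set.range s)).map B := Submodule.mem_map_of_mem hAv
      rw [Submodule.map_span, ← Set.range_comp] at h2
      refine Submodule.span_mono ?_ h2
      rintro _ ⟨a, rfl⟩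
      exact ⟨Sum.inl a, rfl⟩
    have h2 : D v ∈ Submodule.span R (Set.range t) := by
      rw [LinearMap.pi_apply_eq_sum_univ D v]
      exact Submodule.sum_mem _ fun c _ =>
        Submodule.smul_mem _ _ (Submodule.subset_span ⟨Sum.inr c, rfl⟩)
    have h3 : v = D v + B (A v) := by
      simp only [D, LinearMap.sub_apply, LinearMap.id_apply, LinearMap.comp_apply]
      abel
    rw [h3]
    exact Submodule.add_mem _ h2 h1

end Schanuel

section Loc

variable {R : Type*} [CommRing R] (f : R) {S : Type*} [CommRing S] [Algebra R S]
  [IsLocalization.Away f S]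
  {M M' : Type*} [AddCommGroup M] [Module R M] [AddCommGroup M'] [Module R M'] [Module S M']
  [IsScalarTower R S M'] (g : M →ₗ[R] M') [IsLocalizedModule (Submonoid.powers f) g]

include f in
/-- membership in a submodule can be tested after localization, up to a power of `f` -/
theorem exists_pow_smul_mem (T : Submodule R M) (y : M)
    (hy : g y ∈ Submodule.span S (g '' (T : Set M))) : ∃ k : ℕ, f ^ k • y ∈ T := by
  have hle : Submodule.span S (g '' (T : Set M)) ≤ T.localized' S (Submonoid.powers f) g := by
    rw [Submodule.span_le]
    rintro _ ⟨m, hm, rfl⟩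
    rw [SetLike.mem_coe, Submodule.mem_localized']
    exact ⟨m, hm, 1, IsLocalizedModule.mk'_one _ _ _⟩
  have hy' := hle hy
  rw [Submodule.mem_localized'] at hy'
  obtain ⟨m, hm, s, hms⟩ := hy'
  rw [IsLocalizedModule.mk'_eq_iff] at hms
  have h1 : g m = g (s • y) := by
    rw [hms]
    exact (map_smul g (s : R) y).symm
  obtain ⟨c, hc⟩ := IsLocalizedModule.exists_of_eq (S := Submonoid.powers f) h1
  obtain ⟨k, hk⟩ := (c * s).2
  refine ⟨k, ?_⟩
  have hk' : f ^ k = (c : R) * (s : R) := hk
  have h2 : f ^ k • y = c • m := by
    rw [hc, hk', mul_smul]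
    rfl
  rw [h2]
  exact T.smul_mem _ hm

include f in
/-- the image of a generating family generates the localization -/
theorem span_map_eq_top {β : Type*} (X : β → M) (hX : Submodule.span R (Set.range X) = ⊤) :
    Submodule.span S (Set.range fun j => g (X j)) = ⊤ := by
  rw [eq_top_iff]
  intro m' _
  obtain ⟨⟨m, s⟩, hms⟩ := IsLocalizedModule.surj (Submonoid.powers f) g m'
  obtain ⟨u, hu⟩ := IsLocalization.map_units S s
  have h1 : (u : S) • m' = g m := by
    rw [hu, algebraMap_smul]
    exact hms
  have h2 : m' = ((u⁻¹ : Sˣ) : S) • g m := by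
    rw [← h1, smul_smul, Units.inv_mul, one_smul]
  rw [h2]
  refine Submodule.smul_mem _ _ ?_
  have h3 : m ∈ Submodule.span R (Set.range X) := hX ▸ Submodule.mem_top
  have h4 : g m ∈ (Submodule.span R (Set.range X)).map g := Submodule.mem_map_of_mem h3
  rw [Submodule.map_span, ← Set.range_comp] at h4
  exact Submodule.span_subset_span R S _ h4

include f g in
/-- generators of a localization lift, up to powers of `f` -/
theorem exists_lifts' {β : Type*} (σ : β → M') (hσ : Submodule.span S (Set.range σ) = ⊤) :
    ∃ x : β → M, ∀ y : M, ∃ k : ℕ, f ^ k • y ∈ Submodule.span R (Set.range x) := by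
  choose xc hxc using fun j => IsLocalizedModule.surj (Submonoid.powers f) g (σ j)
  refine ⟨fun j => (xc j).1, fun y => ?_⟩
  refine exists_pow_smul_mem (S := S) f g _ y ?_
  have hle : Submodule.span S (Set.range σ) ≤
      Submodule.span S (g '' (Submodule.span R (Set.range fun j => (xc j).1) : Set M)) := by
    rw [Submodule.span_le]
    rintro _ ⟨j, rfl⟩
    obtain ⟨u, hu⟩ := IsLocalization.map_units S (xc j).2
    have h1 : (u : S) • σ j = g (xc j).1 := by
      rw [hu, algebraMap_smul]
      exact hxc j
    have h2 : σ j = ((u⁻¹ : Sˣ) : S) • g (xc j).1 := by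
      rw [← h1, smul_smul, Units.inv_mul, one_smul]
    rw [SetLike.mem_coe, h2]
    exact Submodule.smul_mem _ _ (Submodule.subset_span
      ⟨(xc j).1, Submodule.subset_span ⟨j, rfl⟩, rfl⟩)
  exact hle (hσ ▸ Submodule.mem_top)

end Loc

end Groth.Agent.Helper9.ProdFP
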