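import Mathlib
import Groth.Agent.Lib.Helper9.ProdFP1

/-!
# Local-to-global for presentations with prescribed index types (helper9)
-/

set_option autoImplicit false
universe u

namespace Groth.Agent.Helper9.ProdFP

/-- if `M` has, on each member `D(b k)` of a finite cover of `Spec R`, a presentation with index
types `(α k, β k)`, then `M` has a presentation whose index types depend only on `(α, β)`. -/
theorem hasPres_of_local {R : Type u} [CommRing R] {M : Type u} [AddCommGroup M] [Module R M]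
    {K : Type} [Fintype K] (b : K → R) (hb : Ideal.span (Set.range b) = ⊤)
    (Rk : K → Type u) [∀ k, CommRing (Rk k)] [∀ k, Algebra R (Rk k)]
    [∀ k, IsLocalization.Away (b k) (Rk k)]
    (Mk : K → Type u) [∀ k, AddCommGroup (Mk k)] [∀ k, Module R (Mk k)]
    [∀ k, Module (Rk k) (Mk k)] [∀ k, IsScalarTower R (Rk k) (Mk k)]
    (ℓ : ∀ k, M →ₗ[R] Mk k) [∀ k, IsLocalizedModule (Submonoid.powers (b k)) (ℓ k)]
    (α β : K → Type) [∀ k, Fintype (β k)]
    (h : ∀ k, HasPres (Rk k) (Mk k) (α k) (β k)) :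
    HasPres R M (Σ k, α k ⊕ (Σ k', β k')) (Σ k, β k) := by
  classical
  choose x hx s hs using h
  choose X hX using fun k => exists_lifts' (S := Rk k) (b k) (ℓ k) (x k) (hx k)
  let XX : (Σ k, β k) → M := fun p => X p.1 p.2
  have hXX : Submodule.span R (Set.range XX) = ⊤ := by
    rw [eq_top_iff]
    intro y _
    refine Submodule.mem_of_span_eq_top_of_smul_pow_mem _ (Set.range b) hb y ?_
    rintro ⟨_, k, rfl⟩
    obtain ⟨N, hN⟩ := hX k y
    refine ⟨N, Submodule.span_mono ?_ hN⟩
    rintro _ ⟨j, rfl⟩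
    exact ⟨⟨k, j⟩, rfl⟩
  have hY : ∀ k, Submodule.span (Rk k) (Set.range fun p => ℓ k (XX p)) = ⊤ :=
    fun k => span_map_eq_top (S := Rk k) (b k) (ℓ k) XX hXX
  choose t ht using fun k => schanuel (x k) (s k) (hs k) (fun p => ℓ k (XX p)) (hY k) (hx k)
  let lam : ∀ k, ((Σ k', β k') → R) →ₗ[R] ((Σ k', β k') → Rk k) := fun k =>
    LinearMap.pi fun c => Algebra.linearMap R (Rk k) ∘ₗ LinearMap.proj c
  have hlam : ∀ k, IsLocalizedModule (Submonoid.powers (b k)) (lam k) := fun k => inferInstance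
  have hlam_apply : ∀ k v c, lam k v c = algebraMap R (Rk k) (v c) := fun _ _ _ => rfl
  have hcomm : ∀ k v, Fintype.linearCombination (Rk k) (fun p => ℓ k (XX p)) (lam k v) =
      ℓ k (Fintype.linearCombination R XX v) := by
    intro k v
    simp only [Fintype.linearCombination_apply, map_sum, map_smul, hlam_apply]
    refine Finset.sum_congr rfl fun c _ => ?_
    exact algebraMap_smul (Rk k) (v c) (ℓ k (XX c))
  have hlift : ∀ k (c : α k ⊕ (Σ k', β k')), ∃ w : (Σ k', β k') → R,
      w ∈ LinearMap.ker (Fintype.linearCombination R XX) ∧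
        ∃ u : (Rk k)ˣ, lam k w = (u : Rk k) • t k c := by
    intro k c
    haveI := hlam k
    obtain ⟨⟨w, σ⟩, hw⟩ := IsLocalizedModule.surj (Submonoid.powers (b k)) (lam k) (t k c)
    have hw' : lam k w = algebraMap R (Rk k) (σ : R) • t k c := by
      rw [algebraMap_smul]
      exact hw.symm
    have htc : Fintype.linearCombination (Rk k) (fun p => ℓ k (XX p)) (t k c) = 0 := by
      have h1 : t k c ∈
          LinearMap.ker (Fintype.linearCombination (Rk k) (fun p => ℓ k (XX p))) :=
        ht k ▸ Submodule.subset_span ⟨c, rfl⟩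
      exact h1
    have h0 : ℓ k (Fintype.linearCombination R XX w) = 0 := by
      rw [← hcomm, hw', map_smul, htc, smul_zero]
    obtain ⟨σ', hσ'⟩ := (IsLocalizedModule.eq_zero_iff (Submonoid.powers (b k)) (ℓ k)).1 h0
    refine ⟨(σ' : R) • w, ?_, ?_⟩
    · rw [LinearMap.mem_ker, map_smul]
      exact hσ'
    · obtain ⟨u, hu⟩ := IsLocalization.map_units (Rk k) (σ' * σ)
      refine ⟨u, ?_⟩
      rw [map_smul, hw', hu, Submonoid.coe_mul, map_mul, mul_smul]
      simp only [algebraMap_smul]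
  choose w hwker hwu using hlift
  choose u hu using hwu
  let T : (Σ k, α k ⊕ (Σ k', β k')) → ((Σ k', β k') → R) := fun p => w p.1 p.2
  refine ⟨XX, hXX, T, le_antisymm ?_ ?_⟩
  · rw [Submodule.span_le]
    rintro _ ⟨p, rfl⟩
    exact hwker p.1 p.2
  · intro v hv
    refine Submodule.mem_of_span_eq_top_of_smul_pow_mem _ (Set.range b) hb v ?_
    rintro ⟨_, k, rfl⟩
    haveI := hlam k
    refine exists_pow_smul_mem (S := Rk k) (b k) (lam k) _ v ?_
    have h1 : lam k v ∈
        LinearMap.ker (Fintype.linearCombination (Rk k) (fun p => ℓ k (XX p))) := by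
      rw [LinearMap.mem_ker, hcomm, LinearMap.mem_ker.1 hv, map_zero]
    rw [← ht k] at h1
    refine (Submodule.span_le.2 ?_) h1
    rintro _ ⟨c, rfl⟩
    have h2 : t k c = (((u k c)⁻¹ : (Rk k)ˣ) : Rk k) • lam k (T ⟨k, c⟩) := by
      change t k c = (((u k c)⁻¹ : (Rk k)ˣ) : Rk k) • lam k (w k c)
      rw [hu k c, smul_smul, Units.inv_mul, one_smul]
    rw [SetLike.mem_coe, h2]
    exact Submodule.smul_mem _ _ (Submodule.subset_span
      ⟨T ⟨k, c⟩, Submodule.subset_span ⟨⟨k, c⟩, rfl⟩, rfl⟩)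

end Groth.Agent.Helper9.ProdFP
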