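import Mathlib
import Groth.Agent.Lib.Helper9.ProdFP1

/-!
# Presentations with prescribed index types: transport, base change, products (helper9)
-/

set_option autoImplicit false
universe u
open scoped TensorProduct

namespace Groth.Agent.Helper9.ProdFP

theorem HasPres.of_equiv {R : Type*} [CommRing R] {M M' : Type*} [AddCommGroup M] [Module R M]
    [AddCommGroup M'] [Module R M'] (e : M ≃ₗ[R] M') {α β : Type} [Fintype β]
    (h : HasPres R M α β) : HasPres R M' α β := by
  obtain ⟨x, hx, s, hs⟩ := h
  have hc : Fintype.linearCombination R (fun j => e (x j)) =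
      e.toLinearMap ∘ₗ Fintype.linearCombination R x := by
    refine LinearMap.ext fun v => ?_
    simp [Fintype.linearCombination_apply, map_sum]
  refine ⟨fun j => e (x j), ?_, s, ?_⟩
  · have h1 : Set.range (fun j => e (x j)) = e.toLinearMap '' Set.range x := by
      rw [← Set.range_comp]; rfl
    rw [h1, ← Submodule.map_span, hx, Submodule.map_top, LinearMap.range_eq_top]
    exact e.surjective
  · rw [hs, hc, LinearEquiv.ker_comp]

theorem HasPres.baseChange {R : Type*} [CommRing R] (S : Type*) [CommRing S] [Algebra R S]
    {N : Type*} [AddCommGroup N] [Module R N] {α β : Type} [Fintype α] [Fintype β]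
    (h : HasPres R N α β) : HasPres S (S ⊗[R] N) α β := by
  classical
  obtain ⟨x, hx, s, hs⟩ := h
  let x' : β → S ⊗[R] N := fun j => 1 ⊗ₜ x j
  let s' : α → (β → S) := fun a j => algebraMap R S (s a j)
  have hx' : ∀ (r : S) (j : β), r ⊗ₜ[R] x j = r • x' j := by
    intro r j
    simp only [x', TensorProduct.smul_tmul', smul_eq_mul, mul_one]
  refine ⟨x', ?_, s', le_antisymm ?_ ?_⟩
  · have key : ∀ z : S ⊗[R] N, z ∈ Submodule.span S (Set.range x') := by
      intro z
      induction z using TensorProduct.induction_on with
      | zero => exact zero_mem _
      | tmul r n =>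
        have hn : n ∈ Submodule.span R (Set.range x) := hx ▸ Submodule.mem_top
        have h1 : TensorProduct.mk R S N 1 n ∈
            (Submodule.span R (Set.range x)).map (TensorProduct.mk R S N 1) :=
          Submodule.mem_map_of_mem hn
        rw [Submodule.map_span, ← Set.range_comp] at h1
        have h2 : r ⊗ₜ[R] n = r • TensorProduct.mk R S N 1 n := by
          simp [TensorProduct.smul_tmul']
        rw [h2]
        exact Submodule.smul_mem _ _ (Submodule.span_subset_span R S _ h1)
      | add a b ha hb => exact add_mem ha hb
    rw [eq_top_iff]
    intro z _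
    exact key z
  · rw [Submodule.span_le]
    rintro _ ⟨a, rfl⟩
    rw [SetLike.mem_coe, LinearMap.mem_ker, Fintype.linearCombination_apply]
    have h1 : s a ∈ LinearMap.ker (Fintype.linearCombination R x) :=
      hs ▸ Submodule.subset_span ⟨a, rfl⟩
    rw [LinearMap.mem_ker, Fintype.linearCombination_apply] at h1
    have h2 : ∑ j, s' a j • x' j = TensorProduct.mk R S N 1 (∑ j, s a j • x j) := by
      rw [map_sum]
      refine Finset.sum_congr rfl fun j _ => ?_
      rw [map_smul]
      exact algebraMap_smul S (s a j) (x' j)
    rw [h2, h1, map_zero]
  · intro v hv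
    rw [LinearMap.mem_ker, Fintype.linearCombination_apply] at hv
    let f : (α → R) →ₗ[R] (β → R) := Fintype.linearCombination R s
    let g : (β → R) →ₗ[R] N := Fintype.linearCombination R x
    have hfg : Function.Exact f g := by
      rw [LinearMap.exact_iff]
      simp only [f, g]
      rw [Fintype.range_linearCombination, hs]
    have hg : Function.Surjective g := by
      rw [← LinearMap.range_eq_top]
      simp only [g]
      rw [Fintype.range_linearCombination, hx]
    have hex := lTensor_exact S hfg hg
    let z : S ⊗[R] (β → R) := ∑ j, v j ⊗ₜ[R] (Pi.single j (1 : R))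
    have hz : g.lTensor S z = 0 := by
      rw [← hv]
      simp only [z, map_sum, LinearMap.lTensor_tmul]
      refine Finset.sum_congr rfl fun j _ => ?_
      simp only [g, Fintype.linearCombination_apply_single, one_smul]
      exact hx' (v j) j
    obtain ⟨y, hy⟩ := (hex z).1 hz
    let Ψ := TensorProduct.piScalarRightHom R S S β
    have hΨz : Ψ z = v := by
      simp only [z, Ψ, map_sum, TensorProduct.piScalarRightHom_tmul]
      funext c
      simp [Finset.sum_apply, Pi.single_apply]
    have hmem : ∀ y : S ⊗[R] (α → R),
        Ψ (f.lTensor S y) ∈ Submodule.span S (Set.range s') := by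
      intro y
      induction y using TensorProduct.induction_on with
      | zero => simp
      | tmul r w =>
        rw [LinearMap.lTensor_tmul]
        simp only [Ψ, TensorProduct.piScalarRightHom_tmul]
        have h3 : (fun j => (f w) j • r) = ∑ a, (r * algebraMap R S (w a)) • s' a := by
          funext c
          simp only [f, Fintype.linearCombination_apply, Finset.sum_apply, Pi.smul_apply,
            smul_eq_mul, s', Finset.sum_smul]
          refine Finset.sum_congr rfl fun a _ => ?_
          rw [Algebra.smul_def, map_mul]
          ring
        rw [h3]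
        exact Submodule.sum_mem _ fun a _ =>
          Submodule.smul_mem _ _ (Submodule.subset_span ⟨a, rfl⟩)
      | add a b ha hb =>
        rw [map_add, map_add]
        exact add_mem ha hb
    rw [← hΨz, ← hy]
    exact hmem y

theorem exists_hasPres (R : Type*) [CommRing R] (N : Type*) [AddCommGroup N] [Module R N]
    [Module.FinitePresentation R N] : ∃ a g : ℕ, HasPres R N (Fin a) (Fin g) := by
  obtain ⟨g, x, hx⟩ := Module.Finite.exists_fin (R := R) (M := N)
  have hsurj : Function.Surjective (Fintype.linearCombination R x) := by
    rw [← LinearMap.range_eq_top, Fintype.range_linearCombination, hx]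
  have hfg := Module.FinitePresentation.fg_ker (Fintype.linearCombination R x) hsurj
  obtain ⟨a, s, hs⟩ := Submodule.fg_iff_exists_fin_generating_family.1 hfg
  exact ⟨a, g, x, hx, s, hs⟩

/-- a product of modules with uniformly indexed presentations is finitely presented over the
product ring -/
theorem finitePresentation_pi {ι : Type*} (R : ι → Type*) [∀ i, CommRing (R i)]
    (M : ι → Type*) [∀ i, AddCommGroup (M i)] [∀ i, Module (R i) (M i)]
    {α β : Type} [Fintype α] [Fintype β] (h : ∀ i, HasPres (R i) (M i) α β) :
    Module.FinitePresentation (∀ i, R i) (∀ i, M i) := by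
  classical
  choose x hx s hs using h
  let X : β → ∀ i, M i := fun j i => x i j
  let π := Fintype.linearCombination (∀ i, R i) X
  have hπ : ∀ (v : β → ∀ i, R i) (i : ι),
      π v i = Fintype.linearCombination (R i) (x i) (fun j => v j i) := by
    intro v i
    simp only [π, Fintype.linearCombination_apply, Finset.sum_apply, Pi.smul_apply', X]
  have hsurj : Function.Surjective π := by
    intro m
    have h1 : ∀ i, ∃ c : β → R i, Fintype.linearCombination (R i) (x i) c = m i := by
      intro i
      have h2 : m i ∈ Submodule.span (R i) (Set.range (x i)) := hx i ▸ Submodule.mem_top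
      rw [← Fintype.range_linearCombination] at h2
      exact h2
    choose c hc using h1
    refine ⟨fun j i => c i j, ?_⟩
    funext i
    rw [hπ]
    exact hc i
  let SS : α → (β → ∀ i, R i) := fun a j i => s i a j
  have hker : LinearMap.ker π = Submodule.span (∀ i, R i) (Set.range SS) := by
    apply le_antisymm
    · intro v hv
      rw [LinearMap.mem_ker] at hv
      have h1 : ∀ i, ∃ c : α → R i, ∑ a, c a • s i a = fun j => v j i := by
        intro i
        have h2 : (fun j => v j i) ∈ LinearMap.ker (Fintype.linearCombination (R i) (x i)) := by
          rw [LinearMap.mem_ker, ← hπ, hv]; rfl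
        rw [← hs i] at h2
        exact (Submodule.mem_span_range_iff_exists_fun (R i)).1 h2
      choose c hc using h1
      rw [Submodule.mem_span_range_iff_exists_fun]
      refine ⟨fun a i => c i a, ?_⟩
      funext j i
      have h3 := congrFun (hc i) j
      simp only [Finset.sum_apply, Pi.smul_apply, smul_eq_mul] at h3
      simp only [Finset.sum_apply, Pi.smul_apply, smul_eq_mul, SS, Pi.mul_apply]
      exact h3
    · rw [Submodule.span_le]
      rintro _ ⟨a, rfl⟩
      rw [SetLike.mem_coe, LinearMap.mem_ker]
      funext i
      rw [hπ]
      have h1 : s i a ∈ LinearMap.ker (Fintype.linearCombination (R i) (x i)) :=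
        hs i ▸ Submodule.subset_span ⟨a, rfl⟩
      exact h1
  refine Module.finitePresentation_of_surjective π hsurj ?_
  rw [hker]
  exact Submodule.fg_span (Set.finite_range SS)

end Groth.Agent.Helper9.ProdFP
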