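import Mathlib
import Groth.Prelude.Def_CohB1
import Groth.Agent.Lib.Helper9.ProdFP2
import Groth.Agent.Lib.Helper9.ProdFP3
import Groth.Agent.Lib.Helper9.AffCoverBound
import Groth.Agent.Lib.Helper13.PullbackSections
import Groth.Agent.Lib.Helper13.FinPresAffine

/-!
# Products of pulled-back finitely presented modules (helper9)
-/

set_option autoImplicit false
universe u
open CategoryTheory CategoryTheory.Limits AlgebraicGeometry Opposite TopologicalSpace
open scoped TensorProduct
open Groth.Agent.Helper13.QCohLoc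

namespace Groth.Agent.Helper9.ProdFP

/-- partition of unity in `Γ(Spec A, ⊤)` subordinate to the preimage of a finite open cover -/
theorem exists_partition_Γ {X : Scheme.{u}} {n : ℕ} (U : Fin n → X.Opens)
    (hU : ∀ y : X, ∃ k, y ∈ U k) (A : CommRingCat.{u}) (f : Spec A ⟶ X) :
    ∃ b : Fin n → Γ(Spec A, ⊤), Ideal.span (Set.range b) = ⊤ ∧
      ∀ k, (Spec A).basicOpen (b k) ≤ f ⁻¹ᵁ U k := by
  obtain ⟨b, hb1, hb2⟩ := Groth.Agent.Helper9.AffCoverBound.exists_partition U hU A f
  have hspan : Ideal.span (Set.range b) = ⊤ := by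
    by_contra h
    obtain ⟨m, hm, hle⟩ := Ideal.exists_le_maximal _ h
    obtain ⟨k, hk⟩ := hb1 ⟨m, hm.isPrime⟩
    exact hk (hle (Ideal.subset_span ⟨k, rfl⟩))
  refine ⟨fun k => (Scheme.ΓSpecIso A).inv (b k), ?_, ?_⟩
  · have h1 : Ideal.map (Scheme.ΓSpecIso A).inv.hom (Ideal.span (Set.range b)) =
        Ideal.span (Set.range fun k => (Scheme.ΓSpecIso A).inv (b k)) := by
      rw [Ideal.map_span, ← Set.range_comp]
      rfl
    rw [← h1, hspan, Ideal.map_top]
  · intro k q hq
    rw [basicOpen_eq_of_affine] at hq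
    exact hb2 k q hq

variable {X : Scheme.{u}} [CompactSpace X]

/-- uniform presentations of the global sections of the pullbacks of a finitely presented module
to affine schemes -/
theorem exists_uniform_hasPres (F : X.Modules) (hF : CohB1.IsFP F) :
    ∃ (α β : Type) (_ : Fintype α) (_ : Fintype β), ∀ (A : CommRingCat.{u}) (f : Spec A ⟶ X),
      HasPres Γ(Spec A, ⊤) Γ((Scheme.Modules.pullback f).obj F, ⊤) α β := by
  classical
  haveI : SheafOfModules.IsFinitePresentation (R := X.ringCatSheaf) F := hF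
  haveI : F.IsQuasicoherent := inferInstance
  obtain ⟨I, hI, eI⟩ := isCompact_iff_finite_and_eq_biUnion_affineOpens.mp
    (show IsCompact (X := X) ((⊤ : X.Opens) : Set X) from by
      rw [TopologicalSpace.Opens.coe_top]; exact isCompact_univ)
  haveI : Finite I := hI.to_subtype
  obtain ⟨n, ⟨e⟩⟩ := Finite.exists_equiv_fin I
  let U : Fin n → X.Opens := fun k => ((e.symm k : I) : X.affineOpens).1
  have hUaff : ∀ k, IsAffineOpen (U k) := fun k => ((e.symm k : I) : X.affineOpens).2
  have hU : ∀ y : X, ∃ k, y ∈ U k := by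
    intro y
    have hy : y ∈ (⊤ : X.Opens) := trivial
    rw [eI] at hy
    obtain ⟨V, hy⟩ := TopologicalSpace.Opens.mem_iSup.mp hy
    obtain ⟨hV, hyV⟩ := TopologicalSpace.Opens.mem_iSup.mp hy
    refine ⟨e ⟨V, hV⟩, ?_⟩
    simp only [U, Equiv.symm_apply_apply]
    exact hyV
  have hfp : ∀ k, Module.FinitePresentation Γ(X, U k) Γ(F, U k) := fun k =>
    Groth.Agent.Helper13.LocFree.finitePresentation_sections_of_isFinitePresentation F (hUaff k)
  have hpres : ∀ k, ∃ a g : ℕ, HasPres Γ(X, U k) Γ(F, U k) (Fin a) (Fin g) := fun k =>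
    haveI := hfp k
    exists_hasPres Γ(X, U k) Γ(F, U k)
  choose a g hag using hpres
  refine ⟨Σ k : Fin n, Fin (a k) ⊕ (Σ k' : Fin n, Fin (g k')), Σ k : Fin n, Fin (g k),
    inferInstance, inferInstance, ?_⟩
  intro A f
  obtain ⟨b, hb, hle⟩ := exists_partition_Γ U hU A f
  let G := (Scheme.Modules.pullback f).obj F
  haveI : G.IsQuasicoherent := inferInstance
  have htop : IsAffineOpen (⊤ : (Spec A).Opens) := isAffineOpen_top (Spec A)
  letI : ∀ k, Module Γ(Spec A, ⊤) Γ(G, (Spec A).basicOpen (b k)) := fun k => modBasicOpen G (b k)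
  haveI : ∀ k, IsScalarTower Γ(Spec A, ⊤) Γ(Spec A, (Spec A).basicOpen (b k))
      Γ(G, (Spec A).basicOpen (b k)) := fun k => isScalarTower_basicOpen G (b k)
  haveI : ∀ k, IsLocalizedModule (Submonoid.powers (b k)) (resBasicOpen G (b k)) :=
    fun k => isLocalizedModule_basicOpen G htop (b k)
  haveI : ∀ k, IsLocalization.Away (b k) Γ(Spec A, (Spec A).basicOpen (b k)) :=
    fun k => htop.isLocalization_basicOpen (b k)
  have hloc : ∀ k, HasPres Γ(Spec A, (Spec A).basicOpen (b k)) Γ(G, (Spec A).basicOpen (b k))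
      (Fin (a k)) (Fin (g k)) := by
    intro k
    have hD : IsAffineOpen ((Spec A).basicOpen (b k)) := htop.basicOpen (b k)
    letI := (f.appLE (U k) ((Spec A).basicOpen (b k)) (hle k)).hom.toAlgebra
    exact ((hag k).baseChange Γ(Spec A, (Spec A).basicOpen (b k))).of_equiv
      (Groth.Agent.Helper13.Pullback.sectionsPullbackEquiv f F hD (hUaff k) (hle k)).symm
  exact hasPres_of_local b hb (fun k => Γ(Spec A, (Spec A).basicOpen (b k)))
    (fun k => Γ(G, (Spec A).basicOpen (b k))) (fun k => resBasicOpen G (b k))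
    (fun k => Fin (a k)) (fun k => Fin (g k)) hloc

theorem main [QuasiSeparatedSpace X]
    {ι : Type u} (A : ι → CommRingCat.{u}) (f : ∀ i, Spec (A i) ⟶ X) (F : X.Modules)
    (hF : CohB1.IsFP F) :
    Module.FinitePresentation (∀ i, Γ(Spec (A i), ⊤))
      (∀ i, Γ((Scheme.Modules.pullback (f i)).obj F, ⊤)) := by
  obtain ⟨α, β, _, _, h⟩ := exists_uniform_hasPres F hF
  exact finitePresentation_pi (fun i => Γ(Spec (A i), ⊤))
    (fun i => Γ((Scheme.Modules.pullback (f i)).obj F, ⊤)) (fun i => h (A i) (f i))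

end Groth.Agent.Helper9.ProdFP
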