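import Mathlib
import Groth.Prelude.Def_RelProj2
import Groth.Prelude.Def_RelProj4
import Groth.Agent.Lib.Helper13.SymBC2
import Groth.Agent.Lib.Helper18.ProjQBC
import Groth.Agent.Lib.Helper9.GrCoact

/-!
# The graded `ψ`-morphism `Sym(E) → Sym(ψ^*E)` and `P(ψ^*E) = P(E) ×_Y Y'`

* `GrCoact`: the coaction `A → A[t]` of an `ℕ`-grading and the lemma `map_mem_of_unique`: a ring map out of
  a graded ring with the uniqueness property of a symmetric algebra, sending the degree `0`/`1` generators to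
  degree `0`/`1`, preserves all degrees.
* `qhom`: the `ψ`-morphism of quasi-coherent algebras `Sym(E) → Sym(ψ^*E)` extending the unit
  `E → ψ_*ψ^*E`, built from its values on the affine opens (`IsSymUniv`) and the sheaf property.
* `qgrhom`, `isQBaseChange_qhom`, `exists_isPullback`.
-/

set_option autoImplicit false
set_option linter.style.haveILetI false
set_option backward.isDefEq.respectTransparency false
universe u
open CategoryTheory CategoryTheory.Limits AlgebraicGeometry TopologicalSpace Opposite TensorProduct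

noncomputable section

namespace Groth.Agent.Helper9.SymPullQ

open Groth.Agent.Helper9.GrCoact

/-! ## Part 1: morphisms of presheaves of rings into a sheaf from the affine opens -/

section MapOfAff

variable {S : Scheme.{u}} {P Q : TopCat.Presheaf CommRingCat.{u} S.carrier} (hQ : Q.IsSheaf)

include hQ in
theorem presheafHom_ext_aff (φ ψ : P ⟶ Q)
    (h : ∀ (U : S.Opens) (_ : IsAffineOpen U), φ.app (op U) = ψ.app (op U)) : φ = ψ := by
  apply (Functor.IsCoverDense.restrictHomEquivHom (G := Scheme.AffineZariskiSite.toOpensFunctor S)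
    (K := Opens.grothendieckTopology S) (ℱ := P)
    (ℱ' := (⟨Q, hQ⟩ : TopCat.Sheaf CommRingCat.{u} S.carrier))).symm.injective
  ext U : 2
  exact h U.unop.1 U.unop.2

variable (τ : (Scheme.AffineZariskiSite.toOpensFunctor S).op ⋙ P ⟶
      (Scheme.AffineZariskiSite.toOpensFunctor S).op ⋙ Q)

/-- A homomorphism of presheaves of rings into a sheaf, from its values on affine opens. -/
def mapOfAff : P ⟶ Q :=
  Functor.IsCoverDense.restrictHomEquivHom (G := Scheme.AffineZariskiSite.toOpensFunctor S)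
    (K := Opens.grothendieckTopology S) (ℱ := P)
    (ℱ' := (⟨Q, hQ⟩ : TopCat.Sheaf CommRingCat.{u} S.carrier)) τ

theorem mapOfAff_app (U : S.Opens) (hU : IsAffineOpen U) :
    (mapOfAff hQ τ).app (op U) = τ.app (op ⟨U, hU⟩) :=
  NatTrans.congr_app ((Functor.IsCoverDense.restrictHomEquivHom
    (G := Scheme.AffineZariskiSite.toOpensFunctor S)
    (K := Opens.grothendieckTopology S) (ℱ := P)
    (ℱ' := (⟨Q, hQ⟩ : TopCat.Sheaf CommRingCat.{u} S.carrier))).symm_apply_apply τ)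
    (op ⟨U, hU⟩)

end MapOfAff

/-! ## Part 2: the `ψ`-morphism `Sym(E) → Sym(ψ^*E)` -/

open Groth.Agent.Helper18.SymSum Groth.Agent.Helper18.SymAlg Groth.Agent.Helper13.Pullback
  Groth.Agent.Helper18.Rec Groth.Agent.Helper13.SymBC

section Construct

variable {Y Y' : Scheme.{u}} (ψ : Y' ⟶ Y) (E : Y.Modules) [E.IsQuasicoherent]
  (A : RelSpec.QCAlg Y) (j : E ⟶ A.toModule) (hA : RelSpec.IsSymAlg E A j)
  (B : RelSpec.QCAlg Y') (j' : (Scheme.Modules.pullback ψ).obj E ⟶ B.toModule)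

/-- the structure map `O_Y(U) → B(ψ⁻¹U)` -/
def tT (U : Y.Opens) : Γ(Y, U) ⟶ B.presheaf.obj (op (ψ ⁻¹ᵁ U)) :=
  ψ.app U ≫ B.str.app (op (ψ ⁻¹ᵁ U))

theorem tT_nat {U V : Y.Opens} (i : V ≤ U) :
    Y.presheaf.map (homOfLE i).op ≫ tT ψ B V =
      tT ψ B U ≫ B.presheaf.map (homOfLE (ψ.preimage_mono i)).op := by
  unfold tT
  have n1 : Y.presheaf.map (homOfLE i).op ≫ ψ.app V =
      ψ.app U ≫ Y'.presheaf.map (homOfLE (ψ.preimage_mono i)).op :=
    Scheme.Hom.naturality ψ (homOfLE i).op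
  have n2 : Y'.presheaf.map (homOfLE (ψ.preimage_mono i)).op ≫ B.str.app (op (ψ ⁻¹ᵁ V)) =
      B.str.app (op (ψ ⁻¹ᵁ U)) ≫ B.presheaf.map (homOfLE (ψ.preimage_mono i)).op :=
    B.str.naturality (homOfLE (ψ.preimage_mono i)).op
  rw [← Category.assoc, n1, Category.assoc, n2, Category.assoc]

/-- the map `E(U) → B(ψ⁻¹U)`, `m ↦ j'(ψ^* m)` -/
def gT (U : Y.Opens) : Γ(E, U) →+ B.presheaf.obj (op (ψ ⁻¹ᵁ U)) :=
  (jU ((Scheme.Modules.pullback ψ).obj E) B j' (ψ ⁻¹ᵁ U)).comp (OmegaSh.pullSect ψ E U).hom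

omit [E.IsQuasicoherent] in
theorem gT_apply (U : Y.Opens) (m : Γ(E, U)) :
    gT ψ E B j' U m =
      jU ((Scheme.Modules.pullback ψ).obj E) B j' (ψ ⁻¹ᵁ U) (OmegaSh.pullSect ψ E U m) := rfl

omit [E.IsQuasicoherent] in
theorem gT_smul (U : Y.Opens) (r : Γ(Y, U)) (m : Γ(E, U)) :
    gT ψ E B j' U (r • m) = (tT ψ B U).hom r * gT ψ E B j' U m := by
  rw [gT_apply, gT_apply, OmegaSh.pullSect_smul, jU_smul]
  rfl

omit [E.IsQuasicoherent] in
theorem gT_res {U V : Y.Opens} (i : V ≤ U) (m : Γ(E, U)) :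
    (B.presheaf.map (homOfLE (ψ.preimage_mono i)).op).hom (gT ψ E B j' U m) =
      gT ψ E B j' V (resMod E i m) := by
  rw [gT_apply, gT_apply, jU_res]
  exact congrArg (jU ((Scheme.Modules.pullback ψ).obj E) B j' (ψ ⁻¹ᵁ V))
    (OmegaSh.pullSect_map ψ E i m).symm

include hA in
theorem tau_exists (U : Y.Opens) (hU : IsAffineOpen U) :
    ∃! a : A.presheaf.obj (op U) ⟶ B.presheaf.obj (op (ψ ⁻¹ᵁ U)),
      A.str.app (op U) ≫ a = tT ψ B U ∧ ∀ m, a.hom (jU E A j U m) = gT ψ E B j' U m :=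
  isSymUniv_of_isSymAlg E A j hA U hU _ (tT ψ B U) (gT ψ E B j' U) (gT_smul ψ E B j' U)

/-- the value of the morphism over an affine open -/
def tau (U : Y.Opens) (hU : IsAffineOpen U) :
    A.presheaf.obj (op U) ⟶ B.presheaf.obj (op (ψ ⁻¹ᵁ U)) :=
  (tau_exists ψ E A j hA B j' U hU).exists.choose

theorem tau_str (U : Y.Opens) (hU : IsAffineOpen U) :
    A.str.app (op U) ≫ tau ψ E A j hA B j' U hU = tT ψ B U :=
  (tau_exists ψ E A j hA B j' U hU).exists.choose_spec.1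

theorem tau_j (U : Y.Opens) (hU : IsAffineOpen U) (m : Γ(E, U)) :
    (tau ψ E A j hA B j' U hU).hom (jU E A j U m) = gT ψ E B j' U m :=
  (tau_exists ψ E A j hA B j' U hU).exists.choose_spec.2 m

theorem tau_nat {U V : Y.Opens} (hU : IsAffineOpen U) (hV : IsAffineOpen V) (i : V ≤ U) :
    tau ψ E A j hA B j' U hU ≫ B.presheaf.map (homOfLE (ψ.preimage_mono i)).op =
      A.presheaf.map (homOfLE i).op ≫ tau ψ E A j hA B j' V hV := by
  let res' := B.presheaf.map (homOfLE (ψ.preimage_mono i)).op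
  have hsemi : ∀ (r : Γ(Y, U)) (m : Γ(E, U)),
      (res'.hom.toAddMonoidHom.comp (gT ψ E B j' U)) (r • m) =
        (tT ψ B U ≫ res').hom r * (res'.hom.toAddMonoidHom.comp (gT ψ E B j' U)) m := by
    intro r m
    change res'.hom (gT ψ E B j' U (r • m)) =
      res'.hom ((tT ψ B U).hom r) * res'.hom (gT ψ E B j' U m)
    rw [gT_smul, map_mul]
  obtain ⟨a0, -, huniq⟩ := isSymUniv_of_isSymAlg E A j hA U hU _ (tT ψ B U ≫ res')
    (res'.hom.toAddMonoidHom.comp (gT ψ E B j' U)) hsemi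
  have e1 : tau ψ E A j hA B j' U hU ≫ res' = a0 := by
    apply huniq
    refine ⟨by rw [← Category.assoc, tau_str], fun m => ?_⟩
    change res'.hom ((tau ψ E A j hA B j' U hU).hom (jU E A j U m)) = res'.hom (gT ψ E B j' U m)
    rw [tau_j]
  have e2 : A.presheaf.map (homOfLE i).op ≫ tau ψ E A j hA B j' V hV = a0 := by
    apply huniq
    refine ⟨?_, fun m => ?_⟩
    · rw [← Category.assoc, ← A.str.naturality, Category.assoc, tau_str]
      exact tT_nat ψ B i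
    · change (tau ψ E A j hA B j' V hV).hom ((A.presheaf.map (homOfLE i).op).hom (jU E A j U m)) =
        res'.hom (gT ψ E B j' U m)
      rw [jU_res, tau_j]
      exact (gT_res ψ E B j' i m).symm
  exact e1.trans e2.symm

/-- the morphism on the affine site -/
def tauNat : (Scheme.AffineZariskiSite.toOpensFunctor Y).op ⋙ A.presheaf ⟶
    (Scheme.AffineZariskiSite.toOpensFunctor Y).op ⋙ (ψ.base _* B.presheaf) where
  app U := tau ψ E A j hA B j' U.unop.1 U.unop.2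
  naturality {U V} i :=
    (tau_nat ψ E A j hA B j' U.unop.2 V.unop.2
      (Scheme.AffineZariskiSite.toOpens_mono i.unop.le)).symm

/-- the morphism of presheaves of rings `Sym(E) → ψ_* Sym(ψ^*E)` -/
def u₀ : A.presheaf ⟶ ψ.base _* B.presheaf :=
  mapOfAff (TopCat.Sheaf.pushforward_sheaf_of_sheaf _ B.isSheaf) (tauNat ψ E A j hA B j')

theorem u₀_app (U : Y.Opens) (hU : IsAffineOpen U) :
    (u₀ ψ E A j hA B j').app (op U) = tau ψ E A j hA B j' U hU :=
  mapOfAff_app _ _ U hU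

/-- the structure map `O_Y → ψ_* B` -/
def strB : Y.presheaf ⟶ ψ.base _* B.presheaf where
  app U := tT ψ B U.unop
  naturality {U V} i := tT_nat ψ B i.unop.le

theorem str_u₀ : A.str ≫ u₀ ψ E A j hA B j' = strB ψ B := by
  apply presheafHom_ext_aff (TopCat.Sheaf.pushforward_sheaf_of_sheaf _ B.isSheaf)
  intro U hU
  rw [NatTrans.comp_app, u₀_app ψ E A j hA B j' U hU, tau_str]
  rfl

/-- the `ψ`-morphism of quasi-coherent algebras `Sym(E) → Sym(ψ^*E)` -/
def qhom : RelSpec.QHom ψ A B where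
  app U := (u₀ ψ E A j hA B j').app (op U)
  naturality {U V} i := ((u₀ ψ E A j hA B j').naturality (homOfLE i).op).symm
  str_app U := NatTrans.congr_app (str_u₀ ψ E A j hA B j') (op U)

theorem qhom_app (U : Y.Opens) (hU : IsAffineOpen U) :
    (qhom ψ E A j hA B j').app U = tau ψ E A j hA B j' U hU :=
  u₀_app ψ E A j hA B j' U hU

theorem qhom_j (U : Y.Opens) (hU : IsAffineOpen U) (m : Γ(E, U)) :
    ((qhom ψ E A j hA B j').app U).hom (jU E A j U m) = gT ψ E B j' U m := by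
  rw [qhom_app ψ E A j hA B j' U hU, tau_j]

end Construct

/-! ## Part 3: the morphism is a base change -/

section BC

variable {Y Y' : Scheme.{u}} (ψ : Y' ⟶ Y) (E : Y.Modules) [E.IsQuasicoherent]
  (A : RelSpec.QCAlg Y) (j : E ⟶ A.toModule) (hA : RelSpec.IsSymAlg E A j)
  (B : RelSpec.QCAlg Y') (j' : (Scheme.Modules.pullback ψ).obj E ⟶ B.toModule)
  (hB : RelSpec.IsSymAlg ((Scheme.Modules.pullback ψ).obj E) B j')

include hA hB in
set_option maxRecDepth 8000 in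
/-- (variant of `Helper13.SymBC.isQBaseChange_of_isSymAlg` asking the compatibility with the unit on the
affine opens only) -/
theorem isQBaseChange_of_affine (u : RelSpec.QHom ψ A B)
    (hu : ∀ (U : Y.Opens) (_ : IsAffineOpen U) (x : Γ(E, U)),
      (u.app U).hom (jU E A j U x) = gT ψ E B j' U x) :
    RelSpec.IsQBaseChange u := by
  intro U hU U' hU' hle
  letI := (ψ.appLE U U' hle).hom.toAlgebra
  let e := sectionsPullbackEquiv ψ E hU' hU hle
  let p : Γ(E, U) →+ Γ((Scheme.Modules.pullback ψ).obj E, U') :=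
    (((Scheme.Modules.pullback ψ).obj E).presheaf.map (homOfLE hle).op).hom.comp
      (OmegaSh.pullSect ψ E U).hom
  have hp_apply : ∀ m, p m = pullRes ψ E hle m := fun m => rfl
  have hpe : ∀ m, e (p m) = (1 : Γ(Y', U')) ⊗ₜ[Γ(Y, U)] m := fun m =>
    sectionsPullbackEquiv_pullRes ψ E hU' hU hle m
  refine isPushout_of_isSymUniv_bc (ψ.appLE U U' hle) (A.str.app (op U)) (B.str.app (op U'))
    (u.appLE U U' hle) (u.str_appLE U U' hle).symm (jU E A j U)
    (jU ((Scheme.Modules.pullback ψ).obj E) B j' U') (jU_smul E A j U)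
    (jU_smul ((Scheme.Modules.pullback ψ).obj E) B j' U')
    (isSymUniv_of_isSymAlg E A j hA U hU)
    (isSymUniv_of_isSymAlg ((Scheme.Modules.pullback ψ).obj E) B j' hB U' hU') p ?_ ?_ ?_
  · intro T t' g0 hg0
    exact exists_lift_of_equiv e p hpe t'.hom g0 hg0
  · intro T t' g1 g2 h1 h2 h12
    exact eq_of_equiv e p hpe t'.hom g1 g2 h1 h2 h12
  · intro m
    have h1 : (u.appLE U U' hle).hom (jU E A j U m) =
        (B.presheaf.map (homOfLE hle).op).hom ((u.app U).hom (jU E A j U m)) := rfl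
    rw [h1, hu U hU m, gT_apply]
    exact jU_res ((Scheme.Modules.pullback ψ).obj E) B j' hle (OmegaSh.pullSect ψ E U m)

end BC

/-! ## Part 4: the morphism is graded -/

theorem ringHom_ext_of_isSymUniv {R A : CommRingCat.{u}} (s : R ⟶ A) {M : Type u}
    [AddCommGroup M] [Module R M] (jA : M →+ A)
    (hjA : ∀ (r : R) (m : M), jA (r • m) = s.hom r * jA m) (uA : IsSymUniv s jA)
    (T : Type u) [CommRing T] (φ₁ φ₂ : A →+* T) (h1 : ∀ r, φ₁ (s.hom r) = φ₂ (s.hom r))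
    (h2 : ∀ m, φ₁ (jA m) = φ₂ (jA m)) : φ₁ = φ₂ := by
  let a₁ : A ⟶ CommRingCat.of T := CommRingCat.ofHom φ₁
  let a₂ : A ⟶ CommRingCat.of T := CommRingCat.ofHom φ₂
  obtain ⟨a0, -, huniq⟩ := uA (CommRingCat.of T) (s ≫ a₁) (φ₁.toAddMonoidHom.comp jA)
    (fun r m => by
      change φ₁ (jA (r • m)) = φ₁ (s.hom r) * φ₁ (jA m)
      rw [hjA, map_mul])
  have e1 : a₁ = a0 := huniq _ ⟨rfl, fun m => rfl⟩
  have e2 : a₂ = a0 := huniq _ ⟨by
    apply CommRingCat.hom_ext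
    ext r
    exact (h1 r).symm, fun m => (h2 m).symm⟩
  have := e1.trans e2.symm
  exact congrArg (fun k => k.hom) this

section Graded

variable {Y Y' : Scheme.{u}} (ψ : Y' ⟶ Y) (E : Y.Modules) [E.IsQuasicoherent]
  (𝒮 : RelProj.QCGrAlg Y) (j : E ⟶ 𝒮.toModule) (hj : RelProj.IsGrSymAlg E 𝒮 j)
  (𝒮' : RelProj.QCGrAlg Y') (j' : (Scheme.Modules.pullback ψ).obj E ⟶ 𝒮'.toModule)
  (hj' : RelProj.IsGrSymAlg ((Scheme.Modules.pullback ψ).obj E) 𝒮' j')

include hj' in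
theorem qhom_map_mem (U : Y.Opens) (hU : IsAffineOpen U) (U' : Y'.Opens) (hU' : IsAffineOpen U')
    (hle : U' ≤ ψ ⁻¹ᵁ U) {d : ℕ} {x : 𝒮.presheaf.obj (op U)} (hx : x ∈ 𝒮.deg U hU d) :
    (𝒮'.presheaf.map (homOfLE hle).op).hom
      (((qhom ψ E 𝒮.toQCAlg j hj.1 𝒮'.toQCAlg j').app U).hom x) ∈ 𝒮'.deg U' hU' d := by
  let q := qhom ψ E 𝒮.toQCAlg j hj.1 𝒮'.toQCAlg j'
  let ρ : 𝒮.presheaf.obj (op U) →+* 𝒮'.presheaf.obj (op U') :=
    (𝒮'.presheaf.map (homOfLE hle).op).hom.comp (q.app U).hom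
  refine map_mem_of_unique (R := Γ(Y, U)) (M := Γ(E, U)) (𝒮.str.app (op U)).hom
    (fun m => jU E 𝒮.toQCAlg j U m)
    (fun T _ φ₁ φ₂ h1 h2 => ringHom_ext_of_isSymUniv (𝒮.str.app (op U)) (jU E 𝒮.toQCAlg j U)
      (jU_smul E 𝒮.toQCAlg j U) (isSymUniv_of_isSymAlg E 𝒮.toQCAlg j hj.1 U hU) T φ₁ φ₂ h1 h2)
    (𝒮.deg U hU) (𝒮'.deg U' hU') (𝒮.str_mem U hU) (hj.2 U hU) ρ ?_ ?_ hx
  · intro r
    have h1 : (q.app U).hom ((𝒮.str.app (op U)).hom r) = (tT ψ 𝒮'.toQCAlg U).hom r :=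
      congrArg (fun k => k.hom r) (q.str_app U)
    have h2 : (𝒮'.presheaf.map (homOfLE hle).op).hom ((tT ψ 𝒮'.toQCAlg U).hom r) =
        (𝒮'.str.app (op U')).hom ((Y'.presheaf.map (homOfLE hle).op).hom ((ψ.app U).hom r)) := by
      have := congrArg (fun k => k.hom ((ψ.app U).hom r)) (𝒮'.str.naturality (homOfLE hle).op)
      exact this.symm
    change (𝒮'.presheaf.map (homOfLE hle).op).hom
      ((q.app U).hom ((𝒮.str.app (op U)).hom r)) ∈ _
    rw [h1, h2]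
    exact 𝒮'.str_mem U' hU' _
  · intro m
    change (𝒮'.presheaf.map (homOfLE hle).op).hom
      ((q.app U).hom (jU E 𝒮.toQCAlg j U m)) ∈ _
    rw [qhom_j ψ E 𝒮.toQCAlg j hj.1 𝒮'.toQCAlg j' U hU m, gT_apply, jU_res]
    exact hj'.2 U' hU' _

/-- the graded `ψ`-morphism `Sym(E) → Sym(ψ^*E)` -/
def qgrhom : RelProj.QGrHom ψ 𝒮 𝒮' :=
  { toQHom := qhom ψ E 𝒮.toQCAlg j hj.1 𝒮'.toQCAlg j'
    map_mem := by
      intro U hU U' hU' hle d x hx
      exact qhom_map_mem ψ E 𝒮 j hj 𝒮' j' hj' U hU U' hU' hle hx }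

theorem isQBaseChange_qgrhom :
    RelSpec.IsQBaseChange (qgrhom ψ E 𝒮 j hj 𝒮' j' hj').toQHom :=
  isQBaseChange_of_affine ψ E 𝒮.toQCAlg j hj.1 𝒮'.toQCAlg j' hj'.1 _
    (fun U hU x => qhom_j ψ E 𝒮.toQCAlg j hj.1 𝒮'.toQCAlg j' U hU x)

end Graded

/-! ## Part 5: `P(ψ^*E) = P(E) ×_Y Y'` -/

theorem exists_isPullback {Y Y' P P' : Scheme.{u}} (ψ : Y' ⟶ Y) (E : Y.Modules)
    [E.IsQuasicoherent] (𝒮 : RelProj.QCGrAlg Y) (j : E ⟶ 𝒮.toModule)
    (hj : RelProj.IsGrSymAlg E 𝒮 j) (p : P ⟶ Y)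
    (chart : ∀ (U : Y.Opens) (hU : IsAffineOpen U),
      ((p ⁻¹ᵁ U : P.Opens) : Scheme.{u}) ≅ Proj (𝒮.deg U hU))
    (hP : RelProj.IsRelProj 𝒮 p chart)
    (𝒮' : RelProj.QCGrAlg Y') (j' : (Scheme.Modules.pullback ψ).obj E ⟶ 𝒮'.toModule)
    (hj' : RelProj.IsGrSymAlg ((Scheme.Modules.pullback ψ).obj E) 𝒮' j') (p' : P' ⟶ Y')
    (chart' : ∀ (U' : Y'.Opens) (hU' : IsAffineOpen U'),
      ((p' ⁻¹ᵁ U' : P'.Opens) : Scheme.{u}) ≅ Proj (𝒮'.deg U' hU'))
    (hP' : RelProj.IsRelProj 𝒮' p' chart') :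
    ∃ g : P' ⟶ P, IsPullback g p' p ψ := by
  classical
  let u := qgrhom ψ E 𝒮 j hj 𝒮' j' hj'
  have hu : RelSpec.IsQBaseChange u.toQHom := isQBaseChange_qgrhom ψ E 𝒮 j hj 𝒮' j' hj'
  obtain ⟨h, hh⟩ := Groth.Agent.Helper18.ProjQBC.exists_isProjQMap u hu hP hP'
  exact ⟨h, Groth.Agent.Helper18.ProjQBC.isPullback_of_isProjQMap u hu hP hP' h hh⟩

end Groth.Agent.Helper9.SymPullQ
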