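import Mathlib
import Groth.Prelude.Def_RelProj2
import Groth.Agent.Lib.Helper9.SymPullQ
import Groth.Agent.Lib.Helper9.GrIrrel
import Groth.Agent.Lib.Helper12.RelProjGenOne
import Groth.Agent.Lib.Helper12.RelProjGlue
import Groth.Agent.Lib.Helper28.RelTwistComap
import Groth.Agent.Lib.Helper17.PM1
import Groth.Agent.Lib.Helper18.ProjQ
import Groth.Agent.S8262

/-!
# `P(E) ⨿ P(F) → P(E ⊕ F)` is a closed immersion

* `closure_eq_top`: over an affine open, a symmetric algebra is generated by the structure map and `j`.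
* `isClosedImmersion_of_section`: `P(N) → P(M)` induced by a split epimorphism `M → N` is a closed immersion.
* `main`: the statement for `E ⊞ F`.
-/

set_option autoImplicit false
set_option linter.style.haveILetI false
set_option backward.isDefEq.respectTransparency false
universe u
open CategoryTheory CategoryTheory.Limits AlgebraicGeometry TopologicalSpace Opposite
open scoped HomogeneousIdeal

noncomputable section

namespace Groth.Agent.Helper9.ProjBiprod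

open Groth.Agent.Helper18.SymSum Groth.Agent.Helper18.SymAlg Groth.Agent.Helper9.SymPullQ

section Gen

variable {X : Scheme.{u}} (E : X.Modules) [E.IsQuasicoherent] (A : RelSpec.QCAlg X)
  (j : E ⟶ A.toModule)

theorem closure_eq_top (hA : RelSpec.IsSymAlg E A j) (U : X.Opens) (hU : IsAffineOpen U) :
    Subring.closure (Set.range (A.str.app (op U)).hom ∪ Set.range (jU E A j U)) = ⊤ := by
  rw [eq_top_iff]
  rintro a -
  obtain ⟨s, rfl⟩ := (symToA_bijective E A j hA U hU).2 a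
  induction s using SymmetricAlgebra.induction with
  | algebraMap r =>
    rw [symToA_algebraMap]
    exact Subring.subset_closure (Or.inl ⟨r, rfl⟩)
  | ι m =>
    rw [symToA_ι]
    exact Subring.subset_closure (Or.inr ⟨m, rfl⟩)
  | mul a b ha hb =>
    rw [map_mul]
    exact Subring.mul_mem _ ha hb
  | add a b ha hb =>
    rw [map_add]
    exact Subring.add_mem _ ha hb

end Gen

section Closed

variable {Y : Scheme.{u}} {M N : Y.Modules} [M.IsQuasicoherent] [N.IsQuasicoherent]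
  (𝒯 𝒩 : RelProj.QCGrAlg Y) (j : M ⟶ 𝒯.toModule) (jN : N ⟶ 𝒩.toModule)
  (hjN : RelProj.IsGrSymAlg N 𝒩 jN)
  (π : 𝒯.toQCAlg ⟶ 𝒩.toQCAlg) (hπ : RelProj.IsGradedHom π)
  (q : M ⟶ N) (σ : N ⟶ M) (hσ : σ ≫ q = 𝟙 N)
  (hjπ : j ≫ RelSpec.QCAlg.Hom.toModuleMap π = q ≫ jN)

include hjπ in
omit [M.IsQuasicoherent] [N.IsQuasicoherent] in
theorem pi_j (U : Y.Opens) (m : Γ(M, U)) :
    (π.hom.app (op U)).hom (jU M 𝒯.toQCAlg j U m) = jU N 𝒩.toQCAlg jN U (appLin q U m) :=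
  congrArg (fun k => (Scheme.Modules.Hom.app k U) m) hjπ

include hjN hσ hjπ in
omit [M.IsQuasicoherent] in
theorem pi_surjective (U : Y.Opens) (hU : IsAffineOpen U) :
    Function.Surjective (π.hom.app (op U)).hom := by
  have hcl := closure_eq_top N 𝒩.toQCAlg jN hjN.1 U hU
  have hle : Subring.closure (Set.range (𝒩.str.app (op U)).hom ∪
      Set.range (jU N 𝒩.toQCAlg jN U)) ≤ (π.hom.app (op U)).hom.range := by
    rw [Subring.closure_le]
    rintro x (⟨r, rfl⟩ | ⟨e, rfl⟩)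
    · exact RingHom.mem_range.mpr ⟨(𝒯.str.app (op U)).hom r,
        congrArg (fun k => (k.app (op U)).hom r) π.comm⟩
    · refine RingHom.mem_range.mpr ⟨jU M 𝒯.toQCAlg j U (appLin σ U e), ?_⟩
      rw [pi_j 𝒯 𝒩 j jN π q hjπ U]
      exact congrArg (jU N 𝒩.toQCAlg jN U)
        (congrArg (fun k => (Scheme.Modules.Hom.app k U) e) hσ)
  intro b
  have hb : b ∈ (π.hom.app (op U)).hom.range := hle (hcl ▸ Subring.mem_top b)
  exact RingHom.mem_range.mp hb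

include hjN hσ hjπ in
omit [M.IsQuasicoherent] in
theorem surjOn (U : Y.Opens) (hU : IsAffineOpen U) (n : ℕ) :
    Set.SurjOn (RelProj.gradedHomAt π hπ U hU) (𝒯.deg U hU n) (𝒩.deg U hU n) := by
  intro b hb
  obtain ⟨a, ha⟩ := pi_surjective 𝒯 𝒩 j jN hjN π q σ hσ hjπ U hU b
  refine ⟨(DirectSum.decompose (𝒯.deg U hU) a n : 𝒯.presheaf.obj (op U)),
    (DirectSum.decompose (𝒯.deg U hU) a n).2, ?_⟩
  rw [GradedRingHom.map_directSumDecompose]
  have : RelProj.gradedHomAt π hπ U hU a = b := ha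
  rw [this, DirectSum.decompose_of_mem_same _ hb]

include hjN hσ hjπ in
omit [M.IsQuasicoherent] in
theorem isClosedImmersion_of_section {PT PN : Scheme.{u}} (pT : PT ⟶ Y) (pN : PN ⟶ Y)
    (chartT : ∀ (U : Y.Opens) (hU : IsAffineOpen U),
      ((pT ⁻¹ᵁ U : PT.Opens) : Scheme.{u}) ≅ Proj (𝒯.deg U hU))
    (chartN : ∀ (U : Y.Opens) (hU : IsAffineOpen U),
      ((pN ⁻¹ᵁ U : PN.Opens) : Scheme.{u}) ≅ Proj (𝒩.deg U hU))
    (hPT : RelProj.IsRelProj 𝒯 pT chartT) (hPN : RelProj.IsRelProj 𝒩 pN chartN)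
    (hirr : ∀ (U : Y.Opens) (hU : IsAffineOpen U),
      (𝒩.deg U hU)₊ ≤ ((𝒯.deg U hU)₊).map (RelProj.gradedHomAt π hπ U hU))
    (h : PN ⟶ PT) (hh : RelProj.IsRelProjMap π hπ hirr chartT chartN h) :
    IsClosedImmersion h := by
  have hcomp : h ≫ pT = pN :=
    (Groth.Agent.S8262.result π hπ hirr pT pN chartT chartN hPT hPN).2 h hh
  refine Groth.Agent.Helper12.RelProjGlue.relProjMap_of_chartwise (P := @IsClosedImmersion)
    π hπ hirr pT pN chartT chartN h hh hcomp ?_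
  intro U hU
  refine Groth.Agent.Helper12.RelProjGenOne.isClosedImmersion_projMap_of_pos _ _ ?_
  intro n _
  exact surjOn 𝒯 𝒩 j jN hjN π hπ q σ hσ hjπ U hU n

end Closed

section Main

open Groth.Agent.Helper28.RelSys

variable {Y PE PF P : Scheme.{u}} (E F : Y.Modules) [E.IsQuasicoherent] [F.IsQuasicoherent]
  (𝒮E 𝒮F 𝒮 : RelProj.QCGrAlg Y)
  (jE : E ⟶ 𝒮E.toModule) (hjE : RelProj.IsGrSymAlg E 𝒮E jE)
  (jF : F ⟶ 𝒮F.toModule) (hjF : RelProj.IsGrSymAlg F 𝒮F jF)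
  (j : E ⊞ F ⟶ 𝒮.toModule) (hj : RelProj.IsGrSymAlg (E ⊞ F) 𝒮 j)
  (πE : 𝒮.toQCAlg ⟶ 𝒮E.toQCAlg) (hπE : RelProj.IsGradedHom πE)
  (hjπE : j ≫ RelSpec.QCAlg.Hom.toModuleMap πE = biprod.fst ≫ jE)
  (πF : 𝒮.toQCAlg ⟶ 𝒮F.toQCAlg) (hπF : RelProj.IsGradedHom πF)
  (hjπF : j ≫ RelSpec.QCAlg.Hom.toModuleMap πF = biprod.snd ≫ jF)
  (hirrE : ∀ (U : Y.Opens) (hU : IsAffineOpen U),
    (𝒮E.deg U hU)₊ ≤ ((𝒮.deg U hU)₊).map (RelProj.gradedHomAt πE hπE U hU))
  (hirrF : ∀ (U : Y.Opens) (hU : IsAffineOpen U),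
    (𝒮F.deg U hU)₊ ≤ ((𝒮.deg U hU)₊).map (RelProj.gradedHomAt πF hπF U hU))
  (p : P ⟶ Y) (pE : PE ⟶ Y) (pF : PF ⟶ Y)
  (chart : ∀ (U : Y.Opens) (hU : IsAffineOpen U),
    ((p ⁻¹ᵁ U : P.Opens) : Scheme.{u}) ≅ Proj (𝒮.deg U hU))
  (chartE : ∀ (U : Y.Opens) (hU : IsAffineOpen U),
    ((pE ⁻¹ᵁ U : PE.Opens) : Scheme.{u}) ≅ Proj (𝒮E.deg U hU))
  (chartF : ∀ (U : Y.Opens) (hU : IsAffineOpen U),
    ((pF ⁻¹ᵁ U : PF.Opens) : Scheme.{u}) ≅ Proj (𝒮F.deg U hU))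
  (hP : RelProj.IsRelProj 𝒮 p chart) (hPE : RelProj.IsRelProj 𝒮E pE chartE)
  (hPF : RelProj.IsRelProj 𝒮F pF chartF)
  (hE' : PE ⟶ P) (hhE : RelProj.IsRelProjMap πE hπE hirrE chart chartE hE')
  (hF' : PF ⟶ P) (hhF : RelProj.IsRelProjMap πF hπF hirrF chart chartF hF')

include hj hjπE hjπF hP hPE hPF hhE hhF in
omit [E.IsQuasicoherent] [F.IsQuasicoherent] in
theorem disjoint [(E ⊞ F).IsQuasicoherent] (y : PE) (z : PF) : hE' y ≠ hF' z := by
  intro heq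
  obtain ⟨U, hU0, hxU, -⟩ := Opens.isBasis_iff_nbhd.mp (Y.isBasis_affineOpens)
    (show p (hE' y) ∈ (⊤ : Y.Opens) from trivial)
  have hU : IsAffineOpen U := hU0
  have hcE : hE' ≫ p = pE :=
    (Groth.Agent.S8262.result πE hπE hirrE p pE chart chartE hP hPE).2 hE' hhE
  have hcF : hF' ≫ p = pF :=
    (Groth.Agent.S8262.result πF hπF hirrF p pF chart chartF hP hPF).2 hF' hhF
  have hy : y ∈ (RelProj.emb pE chartE U hU).opensRange := by
    rw [Groth.Agent.Helper18.ProjQ.opensRange_emb]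
    change pE y ∈ U
    rw [← hcE]
    exact hxU
  have hz : z ∈ (RelProj.emb pF chartF U hU).opensRange := by
    rw [Groth.Agent.Helper18.ProjQ.opensRange_emb]
    change pF z ∈ U
    rw [← hcF]
    change p (hF' z) ∈ U
    rw [← heq]
    exact hxU
  obtain ⟨y₀, rfl⟩ := hy
  obtain ⟨z₀, rfl⟩ := hz
  have e1 := emb_comap_eq πE hπE hirrE hhE U hU y₀
  have e2 := emb_comap_eq πF hπF hirrF hhF U hU z₀
  have e3 : ProjectiveSpectrum.comap (RelProj.gradedHomAt πE hπE U hU) (hirrE U hU) y₀ =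
      ProjectiveSpectrum.comap (RelProj.gradedHomAt πF hπF U hU) (hirrF U hU) z₀ :=
    (RelProj.emb p chart U hU).isOpenEmbedding.injective (e1.trans (heq.trans e2.symm))
  obtain ⟨m, hm⟩ := Groth.Agent.Helper9.GrIrrel.exists_not_mem (R := Γ(Y, U)) (M := Γ(E ⊞ F, U))
    (𝒮.str.app (op U)).hom (fun m => jU (E ⊞ F) 𝒮.toQCAlg j U m)
    (fun T _ φ₁ φ₂ h1 h2 => ringHom_ext_of_isSymUniv (𝒮.str.app (op U))
      (jU (E ⊞ F) 𝒮.toQCAlg j U) (jU_smul (E ⊞ F) 𝒮.toQCAlg j U)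
      (isSymUniv_of_isSymAlg (E ⊞ F) 𝒮.toQCAlg j hj.1 U hU) T φ₁ φ₂ h1 h2)
    (𝒮.deg U hU) (𝒮.str_mem U hU) (hj.2 U hU)
    (ProjectiveSpectrum.comap (RelProj.gradedHomAt πE hπE U hU) (hirrE U hU) y₀)
  apply hm
  have htot : appLin (biprod.inl : E ⟶ E ⊞ F) U (appLin (biprod.fst : E ⊞ F ⟶ E) U m) +
      appLin (biprod.inr : F ⟶ E ⊞ F) U (appLin (biprod.snd : E ⊞ F ⟶ F) U m) = m :=
    congrArg (fun k => (Scheme.Modules.Hom.app k U) m) (biprod.total (X := E) (Y := F))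
  have h3 : ∀ f, appLin (biprod.fst : E ⊞ F ⟶ E) U (appLin (biprod.inr : F ⟶ E ⊞ F) U f) = 0 :=
    fun f => congrArg (fun k => (Scheme.Modules.Hom.app k U) f) (biprod.inr_fst (X := E) (Y := F))
  have h4 : ∀ e, appLin (biprod.snd : E ⊞ F ⟶ F) U (appLin (biprod.inl : E ⟶ E ⊞ F) U e) = 0 :=
    fun e => congrArg (fun k => (Scheme.Modules.Hom.app k U) e) (biprod.inl_snd (X := E) (Y := F))
  change jU (E ⊞ F) 𝒮.toQCAlg j U m ∈ _
  rw [← htot, map_add]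
  refine Ideal.add_mem _ ?_ ?_
  · rw [e3]
    change (πF.hom.app (op U)).hom (jU (E ⊞ F) 𝒮.toQCAlg j U _) ∈
      z₀.asHomogeneousIdeal.toIdeal
    rw [pi_j 𝒮 𝒮F j jF πF biprod.snd hjπF U, h4, map_zero]
    exact zero_mem _
  · change (πE.hom.app (op U)).hom (jU (E ⊞ F) 𝒮.toQCAlg j U _) ∈
      y₀.asHomogeneousIdeal.toIdeal
    rw [pi_j 𝒮 𝒮E j jE πE biprod.fst hjπE U, h3, map_zero]
    exact zero_mem _

include hjE hjF hj hjπE hjπF hP hPE hPF hhE hhF in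
theorem main : IsClosedImmersion (coprod.desc hE' hF') := by
  haveI : (E ⊞ F).IsQuasicoherent := Groth.Agent.Helper18.QCohBiprod.isQuasicoherent_biprod E F
  haveI : IsClosedImmersion hE' :=
    isClosedImmersion_of_section 𝒮 𝒮E j jE hjE πE hπE biprod.fst biprod.inl biprod.inl_fst hjπE
      p pE chart chartE hP hPE hirrE hE' hhE
  haveI : IsClosedImmersion hF' :=
    isClosedImmersion_of_section 𝒮 𝒮F j jF hjF πF hπF biprod.snd biprod.inr biprod.inr_snd hjπF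
      p pF chart chartF hP hPF hirrF hF' hhF
  exact Groth.Agent.Helper17.PM.isClosedImmersion_coprodDesc hE' hF'
    (disjoint E F 𝒮E 𝒮F 𝒮 jE jF j hj πE hπE hjπE πF hπF hjπF hirrE hirrF p pE pF chart chartE
      chartF hP hPE hPF hE' hhE hF' hhF)

end Main

end Groth.Agent.Helper9.ProjBiprod
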