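import Mathlib

set_option autoImplicit false
set_option linter.style.haveILetI false

universe u

namespace Groth.Agent.Helper9.ProjDimCyclic

open CategoryTheory Abelian

variable (A : Type u) [CommRing A]

lemma subsingleton_ext_of_iso {M L L' : ModuleCat.{u} A} (e : L ≅ L') (i : ℕ)
    (h : Subsingleton (Ext M L i)) : Subsingleton (Ext M L' i) := by
  constructor
  intro x y
  have hz : ∀ z : Ext M L' i, z = 0 := by
    intro z
    have h1 : (z.comp (Ext.mk₀ e.inv) (add_zero i)).comp (Ext.mk₀ e.hom) (add_zero i) = z := by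
      rw [Ext.comp_assoc_of_third_deg_zero, Ext.mk₀_comp_mk₀, e.inv_hom_id, Ext.comp_mk₀_id]
    rw [← h1, Subsingleton.elim (z.comp (Ext.mk₀ e.inv) (add_zero i)) 0, Ext.zero_comp]
  rw [hz x, hz y]

lemma subsingleton_ext_of_subsingleton (M L : ModuleCat.{u} A) [Subsingleton L] (i : ℕ) :
    Subsingleton (Ext M L i) := by
  constructor
  intro x y
  have hz : ∀ z : Ext M L i, z = 0 := by
    intro z
    have h0 : (𝟙 L : L ⟶ L) = 0 := (ModuleCat.isZero_of_subsingleton L).eq_of_src _ _
    rw [← Ext.comp_mk₀_id z, h0, Ext.mk₀_zero, Ext.comp_zero]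
  rw [hz x, hz y]

theorem subsingleton_ext_of_finite (M : ModuleCat.{u} A) (i : ℕ)
    (h : ∀ I : Ideal A, Subsingleton (Ext M (ModuleCat.of A (A ⧸ I)) i)) (k : ℕ) :
    ∀ (L : Type u) [AddCommGroup L] [Module A L] (f : (Fin k → A) →ₗ[A] L),
      Function.Surjective f → Subsingleton (Ext M (ModuleCat.of A L) i) := by
  induction k with
  | zero =>
    intro L _ _ f hf
    haveI : Subsingleton L := by
      constructor
      intro a b
      obtain ⟨a', rfl⟩ := hf a
      obtain ⟨b', rfl⟩ := hf b
      rw [Subsingleton.elim a' b']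
    haveI : Subsingleton (ModuleCat.of A L) := ‹Subsingleton L›
    exact subsingleton_ext_of_subsingleton A M (ModuleCat.of A L) i
  | succ k ih =>
    intro L _ _ f hf
    let v : L := f (Pi.single 0 1)
    let N : Submodule A L := Submodule.span A {v}
    let q : L →ₗ[A] L ⧸ N := Submodule.mkQ N
    have hq : Function.Surjective q := Submodule.mkQ_surjective N
    have hS := LinearMap.shortExact_shortComplexKer hq
    -- X₃
    have h3 : Subsingleton (Ext M (ModuleCat.of A (L ⧸ N)) i) := by
      let g : (Fin k → A) →ₗ[A] L ⧸ N :=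
        q ∘ₗ f ∘ₗ (LinearMap.pi (fun j : Fin (k + 1) =>
          Fin.cases (0 : (Fin k → A) →ₗ[A] A) (fun j' => LinearMap.proj j') j))
      refine ih (L ⧸ N) g ?_
      intro y
      obtain ⟨l, rfl⟩ := hq y
      obtain ⟨w, rfl⟩ := hf l
      refine ⟨fun j => w j.succ, ?_⟩
      have hw : w = Pi.single 0 (w 0) + (fun j : Fin (k + 1) =>
          Fin.cases (0 : A) (fun j' => w j'.succ) j) := by
        funext j
        refine Fin.cases ?_ (fun j' => ?_) j
        · simp
        · simp
      have hg : g (fun j => w j.succ) = q (f (fun j : Fin (k + 1) =>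
          Fin.cases (0 : A) (fun j' => w j'.succ) j)) := by
        change q (f _) = _
        congr 2
        funext j
        refine Fin.cases ?_ (fun j' => ?_) j
        · simp
        · simp
      rw [hg]
      conv_rhs => rw [hw]
      rw [map_add, map_add]
      have hv : q (f (Pi.single 0 (w 0))) = 0 := by
        have : (Pi.single 0 (w 0) : Fin (k + 1) → A) = w 0 • Pi.single 0 1 := by
          funext j
          refine Fin.cases ?_ (fun j' => ?_) j
          · simp
          · simp
        rw [this, map_smul, map_smul]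
        have hvN : q v = 0 := by
          rw [Submodule.mkQ_apply, Submodule.Quotient.mk_eq_zero]
          exact Submodule.subset_span rfl
        rw [hvN, smul_zero]
      rw [hv, zero_add]
    -- X₁
    have h1 : Subsingleton (Ext M (ModuleCat.of A (LinearMap.ker q)) i) := by
      have hker : LinearMap.ker q = N := Submodule.ker_mkQ N
      have hrange : LinearMap.range (LinearMap.toSpanSingleton A L v) = N :=
        LinearMap.range_toSpanSingleton v
      let e1 : (A ⧸ LinearMap.ker (LinearMap.toSpanSingleton A L v)) ≃ₗ[A] LinearMap.ker q :=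
        (LinearMap.quotKerEquivRange (LinearMap.toSpanSingleton A L v)).trans
          ((LinearEquiv.ofEq _ _ hrange).trans (LinearEquiv.ofEq _ _ hker.symm))
      exact subsingleton_ext_of_iso A e1.toModuleIso i (h _)
    constructor
    intro x y
    have hz : ∀ z : Ext M (ModuleCat.of A L) i, z = 0 := by
      intro z
      have hz3 : z.comp (Ext.mk₀ q.shortComplexKer.g) (add_zero i) = 0 := Subsingleton.elim _ _
      obtain ⟨x₁, rfl⟩ := Ext.covariant_sequence_exact₂ M hS z hz3
      rw [Subsingleton.elim x₁ 0, Ext.zero_comp]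
    rw [hz x, hz y]

theorem hasProjectiveDimensionLT_iff_ext_cyclic [IsNoetherianRing A] (M : Type u) [AddCommGroup M]
    [Module A M] [Module.Finite A M] (n : ℕ) :
    HasProjectiveDimensionLT (ModuleCat.of A M) (n + 1) ↔
      ∀ I : Ideal A, Subsingleton (Ext (ModuleCat.of A M) (ModuleCat.of A (A ⧸ I)) (n + 1)) := by
  constructor
  · intro h I
    exact HasProjectiveDimensionLT.subsingleton (ModuleCat.of A M) (n + 1) (n + 1) le_rfl _
  · intro h
    apply ModuleCat.hasProjectiveDimensionLT_of_forall_finite
    intro L hL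
    obtain ⟨k, f, hf⟩ := Module.Finite.exists_fin' A L
    exact subsingleton_ext_of_finite A (ModuleCat.of A M) (n + 1) h k L f hf

end Groth.Agent.Helper9.ProjDimCyclic
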