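import Mathlib
import Groth.Agent.Lib.Helper17.MP1
import Groth.Prelude.Def_OmegaPn

/-!
# Pushforward of modules along a morphism which is a homeomorphism is a left adjoint
-/

set_option autoImplicit false
universe u
open CategoryTheory CategoryTheory.Limits AlgebraicGeometry TopologicalSpace Opposite

namespace Groth.Agent.Helper9.PushHomeo

/-- `Opens.map p` is cocontinuous when `p` has a continuous two-sided inverse `t`. -/
theorem isCocontinuous_map {X' X : TopCat.{u}} (p : X' ⟶ X) (t : X ⟶ X')
    (h1 : ∀ y, t (p y) = y) (h2 : ∀ x, p (t x) = x) :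
    (Opens.map p).IsCocontinuous (Opens.grothendieckTopology X)
      (Opens.grothendieckTopology X') where
  cover_lift := by
    intro U S hS x hx
    have hy : t x ∈ (Opens.map p).obj U := by
      change p (t x) ∈ U
      rw [h2]; exact hx
    obtain ⟨W, g, hg, hyW⟩ := hS (t x) hy
    have hle1 : (Opens.map t).obj W ≤ U := by
      intro z hz
      have h3 : t z ∈ (Opens.map p).obj U := g.le hz
      have h4 : p (t z) ∈ U := h3
      rwa [h2] at h4
    refine ⟨(Opens.map t).obj W, homOfLE hle1, ?_, hyW⟩
    have hle : (Opens.map p).obj ((Opens.map t).obj W) ≤ W := by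
      intro z hz
      have h3 : t (p z) ∈ W := hz
      rwa [h1] at h3
    have h5 := S.downward_closed hg (homOfLE hle)
    change S ((Opens.map p).map (homOfLE hle1))
    rwa [Subsingleton.elim ((Opens.map p).map (homOfLE hle1)) (homOfLE hle ≫ g)]

theorem pushforward_isLeftAdjoint {X' X : Scheme.{u}} (p : X' ⟶ X) (t : X ⟶ X')
    (h1 : ∀ y, t (p y) = y) (h2 : ∀ x, p (t x) = x) :
    (Scheme.Modules.pushforward p).IsLeftAdjoint := by
  haveI := isCocontinuous_map p.base t.base h1 h2
  exact Groth.Agent.Helper17.MP.main11131 (Opens.grothendieckTopology X)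
    (Opens.grothendieckTopology X') (Opens.map p.base) p.toRingCatSheafHom

open PrinPart in
theorem pr1_isLeftAdjoint {X S : Scheme.{u}} (f : X ⟶ S) (n : ℕ) :
    (Scheme.Modules.pushforward (pr1 f n)).IsLeftAdjoint := by
  have h2 : ∀ x, pr1 f n (toNbhd f n x) = x := by
    intro x
    rw [← Scheme.Hom.comp_apply, toNbhd_pr1]
    rfl
  have h1 : ∀ y, toNbhd f n (pr1 f n y) = y := by
    intro y
    obtain ⟨x, rfl⟩ := toInfNbhd_surjective (diagCl f) n y
    exact congrArg _ (h2 x)
  exact pushforward_isLeftAdjoint (pr1 f n) (toNbhd f n) h1 h2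

open PrinPart in
theorem preservesColimits_PMod {X S : Scheme.{u}} (f : X ⟶ S) (n : ℕ) :
    PreservesColimitsOfSize.{u, u}
      ((Scheme.Modules.pullback (pr2 f n)) ⋙ (Scheme.Modules.pushforward (pr1 f n))) := by
  haveI := pr1_isLeftAdjoint f n
  infer_instance

end Groth.Agent.Helper9.PushHomeo
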