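import Mathlib
import Groth.Agent.Lib.Helper9.PushPerf
import Groth.Agent.Lib.Helper11.PcHom2
import Groth.Agent.Lib.Helper11.PerfHom
import Groth.Agent.S6954

/-!
# Perfect closed immersions have perfect `i_* O_Z` (helper9)
-/

set_option autoImplicit false
universe u
open CategoryTheory CategoryTheory.Limits AlgebraicGeometry Opposite TopologicalSpace

attribute [local instance] HasDerivedCategory.standard

namespace Groth.Agent.Helper9.PushPerf

open Groth.Agent.Helper9.RelPC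

lemma isPerfectModule_of_pc_of_ftd {A B : Type u} [CommRing A] [CommRing B] [Algebra A B]
    (hpc : DRing.IsPseudoCoherentModule' A B) (hft : DRing.HasFiniteTorDim A B) :
    DRing.IsPerfectModule A B := by
  obtain ⟨n, hn⟩ := (Groth.Agent.Helper11.PerfHom.hasFiniteTorDim_iff (A := A) (B := B)).mp hft
  have h1 : DRing.HasTorAmplitudeIn A (-(n : ℤ)) 0 (Dual.inD A B) :=
    Groth.Agent.Helper11.TA.hasTorAmplitudeIn_of_torVan hn
  exact (Groth.Agent.S6954.result A (Dual.inD A B)).mpr ⟨hpc, ⟨-(n : ℤ), 0, h1⟩⟩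

theorem main7175 {Z X : Scheme.{u}} (i : Z ⟶ X) [IsClosedImmersion i]
    (hi : MoreMor.IsPerfectMor i) :
    DCoh.IsPerfect (DCoh.inD X ((Coh.push i).obj (Coh.structureModule Z))) := by
  rw [Groth.Agent.Helper5.PRF.isPerfect_iff_forall_perfAt]
  intro x
  obtain ⟨_, ⟨U₀, hU₀, rfl⟩, hxU, -⟩ := X.isBasis_affineOpens.exists_subset_of_mem_open
    (Set.mem_univ x) isOpen_univ
  obtain ⟨U, rfl⟩ : ∃ U : X.Opens, U = U₀ := ⟨U₀, rfl⟩
  have hU : IsAffineOpen U := hU₀
  refine perfAt_pushUnit i hU ?_ x hxU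
  have hpcM : MoreMor.IsPseudoCoherentMor i := fun U' V hU' hV e => (hi U' V hU' hV e).1
  have hpc := (Groth.Agent.Helper11.PcHom.pcMor_iff_of_finite i).mp hpcM U hU
  have hft : (letI : Algebra Γ(X, U) Γ(Z, i ⁻¹ᵁ U) := (i.app U).hom.toAlgebra
      DRing.HasFiniteTorDim Γ(X, U) Γ(Z, i ⁻¹ᵁ U)) := by
    have h := (hi (i ⁻¹ᵁ U) U (hU.preimage i) hU le_rfl).2
    rw [Scheme.Hom.appLE_eq_app] at h
    exact h
  letI : Algebra Γ(X, U) Γ(Z, i ⁻¹ᵁ U) := (i.app U).hom.toAlgebra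
  exact isPerfectModule_of_pc_of_ftd hpc hft

end Groth.Agent.Helper9.PushPerf
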