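import Mathlib
import Groth.Prelude.Def_RelSpec
import Groth.Agent.Lib.Helper18.SymAlg2
import Groth.Agent.Lib.Helper18.QCAlgPO

set_option autoImplicit false
set_option backward.isDefEq.respectTransparency false
universe u
open CategoryTheory CategoryTheory.Limits AlgebraicGeometry TopologicalSpace Opposite

/-!
# Filtered colimits of quasi-coherent algebras, and the relative spectrum of such a colimit

For a filtered diagram `A : J ⥤ RelSpec.QCAlg S` we construct an explicit colimit cocone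
(`cocone A`, `isColimit A`) whose sections over an affine open `U` are the colimit of the rings `A_j(U)`,
using helper18's `AffGlue`.  Consequently, for ANY colimit cocone `c`, the ring `c.pt(U)` is the colimit
of the `A_j(U)` (`exists_desc`, `hom_ext'`), and `Spec c.pt` is the limit of the `Spec A_j` in schemes (`main`).
-/

noncomputable section

namespace Groth.Agent.Helper9.QCAlgColim

open Groth.Agent.Helper18

section Abstract

theorem isPushout_of_existsUnique {C : Type*} [Category C] {Z X Y P : C} {f : Z ⟶ X} {g : Z ⟶ Y}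
    {inl : X ⟶ P} {inr : Y ⟶ P} (w : f ≫ inl = g ≫ inr)
    (H : ∀ (W : C) (h : X ⟶ W) (k : Y ⟶ W), f ≫ h = g ≫ k → ∃ d : P ⟶ W, inl ≫ d = h ∧ inr ≫ d = k)
    (Hu : ∀ (W : C) (d d' : P ⟶ W), inl ≫ d = inl ≫ d' → inr ≫ d = inr ≫ d' → d = d') :
    IsPushout f g inl inr :=
  ⟨⟨w⟩, ⟨PushoutCocone.IsColimit.mk w
    (fun s => (H s.pt s.inl s.inr s.condition).choose)
    (fun s => (H s.pt s.inl s.inr s.condition).choose_spec.1)
    (fun s => (H s.pt s.inl s.inr s.condition).choose_spec.2)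
    (fun s m h1 h2 => Hu _ _ _ (h1.trans (H s.pt s.inl s.inr s.condition).choose_spec.1.symm)
      (h2.trans (H s.pt s.inl s.inr s.condition).choose_spec.2.symm))⟩⟩

/-- A colimit (over a nonempty index category) of pushout squares with constant source edge is a pushout square. -/
theorem isPushout_of_colimit {C : Type*} [Category C] {J : Type*} [Category J] [Nonempty J]
    {G₁ G₂ : J ⥤ C} (t : G₁ ⟶ G₂) (c₁ : Cocone G₁) (h₁ : IsColimit c₁) (c₂ : Cocone G₂)
    (h₂ : IsColimit c₂) (m : c₁.pt ⟶ c₂.pt) (hm : ∀ j, c₁.ι.app j ≫ m = t.app j ≫ c₂.ι.app j)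
    {P Q : C} (p : P ⟶ Q) (a : ∀ j, P ⟶ G₁.obj j) (b : ∀ j, Q ⟶ G₂.obj j)
    (hpo : ∀ j, IsPushout p (a j) (b j) (t.app j))
    (hb : ∀ {j j' : J} (φ : j ⟶ j'), b j ≫ G₂.map φ = b j')
    (a' : P ⟶ c₁.pt) (b' : Q ⟶ c₂.pt) (ha' : ∀ j, a j ≫ c₁.ι.app j = a')
    (hb' : ∀ j, b j ≫ c₂.ι.app j = b') :
    IsPushout p a' b' m := by
  have w : p ≫ b' = a' ≫ m := by
    obtain ⟨j⟩ := ‹Nonempty J›
    calc p ≫ b' = p ≫ b j ≫ c₂.ι.app j := by rw [hb' j]
      _ = (a j ≫ t.app j) ≫ c₂.ι.app j := by rw [← Category.assoc, (hpo j).w]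
      _ = a j ≫ c₁.ι.app j ≫ m := by rw [Category.assoc, hm]
      _ = a' ≫ m := by rw [← Category.assoc, ha' j]
  refine isPushout_of_existsUnique w ?_ ?_
  · intro W h k hw
    have hd : ∀ j, ∃ d : G₂.obj j ⟶ W, b j ≫ d = h ∧ t.app j ≫ d = c₁.ι.app j ≫ k := fun j =>
      ⟨(hpo j).desc h (c₁.ι.app j ≫ k) (by rw [← Category.assoc, ha' j]; exact hw),
        (hpo j).inl_desc _ _ _, (hpo j).inr_desc _ _ _⟩
    choose d hd1 hd2 using hd
    have dnat : ∀ {j j' : J} (φ : j ⟶ j'), G₂.map φ ≫ d j' = d j := by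
      intro j j' φ
      apply (hpo j).hom_ext
      · rw [← Category.assoc, hb φ, hd1, hd1]
      · rw [← Category.assoc, ← t.naturality φ, Category.assoc, hd2, hd2, ← Category.assoc, c₁.w φ]
    let s₂ : Cocone G₂ := ⟨W, { app := d, naturality := fun j j' φ => by simpa using dnat φ }⟩
    refine ⟨h₂.desc s₂, ?_, ?_⟩
    · obtain ⟨j⟩ := ‹Nonempty J›
      rw [← hb' j, Category.assoc, h₂.fac]
      exact hd1 j
    · apply h₁.hom_ext
      intro j
      rw [← Category.assoc, hm, Category.assoc, h₂.fac]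
      exact hd2 j
  · intro W d₁ d₂ e1 e2
    apply h₂.hom_ext
    intro j
    apply (hpo j).hom_ext
    · rw [← Category.assoc, ← Category.assoc, hb' j]
      exact e1
    · rw [← Category.assoc, ← Category.assoc, ← hm j, Category.assoc, Category.assoc, e2]

theorem toSpecΓ_map_inv_appTop {T : Scheme.{u}} {R : CommRingCat.{u}} (l : T ⟶ Spec R) :
    T.toSpecΓ ≫ Spec.map ((Scheme.ΓSpecIso R).inv ≫ l.appTop) = l := by
  rw [Spec.map_comp, ← Category.assoc, ← Scheme.toSpecΓ_naturality, Category.assoc,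
    toSpecΓ_SpecMap_ΓSpecIso_inv, Category.comp_id]

theorem inv_appTop_toSpecΓ_map {T : Scheme.{u}} {R : CommRingCat.{u}} (ψ : R ⟶ Γ(T, ⊤)) :
    (Scheme.ΓSpecIso R).inv ≫ (T.toSpecΓ ≫ Spec.map ψ).appTop = ψ := by
  rw [Scheme.Hom.comp_appTop, Scheme.toSpecΓ_appTop, Scheme.ΓSpecIso_naturality, Iso.inv_hom_id_assoc]

theorem toSpecΓ_map_injective {T : Scheme.{u}} {R : CommRingCat.{u}} {ψ₁ ψ₂ : R ⟶ Γ(T, ⊤)}
    (h : T.toSpecΓ ≫ Spec.map ψ₁ = T.toSpecΓ ≫ Spec.map ψ₂) : ψ₁ = ψ₂ := by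
  rw [← inv_appTop_toSpecΓ_map ψ₁, h, inv_appTop_toSpecΓ_map]

end Abstract

variable {S : Scheme.{u}} {J : Type u} [SmallCategory J] (A : J ⥤ RelSpec.QCAlg S)

/-- restriction to the affine opens -/
abbrev tO (S : Scheme.{u}) := (Scheme.AffineZariskiSite.toOpensFunctor S).op

/-- The diagram of the presheaves restricted to the affine opens. -/
def Aaff : J ⥤ (S.AffineZariskiSiteᵒᵖ ⥤ CommRingCat.{u}) where
  obj j := tO S ⋙ (A.obj j).presheaf
  map φ := Functor.whiskerLeft (tO S) (A.map φ).hom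
  map_id j := by rw [A.map_id]; rfl
  map_comp φ ψ := by rw [A.map_comp]; rfl

/-- The pointwise colimit on the affine opens. -/
def F : S.AffineZariskiSiteᵒᵖ ⥤ CommRingCat.{u} := (Aaff A).flip ⋙ colim

/-- coprojections on the affine opens -/
def inc (j : J) : (Aaff A).obj j ⟶ F A where
  app X := colimit.ι ((Aaff A).flip.obj X) j
  naturality X Y i := (colimit.ι_map ((Aaff A).flip.map i) j).symm

theorem inc_w {j j' : J} (φ : j ⟶ j') : (Aaff A).map φ ≫ inc A j' = inc A j := by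
  apply NatTrans.ext; funext X
  exact colimit.w ((Aaff A).flip.obj X) φ

/-- structure maps on the affine opens -/
def strAff (j : J) : tO S ⋙ S.presheaf ⟶ (Aaff A).obj j := Functor.whiskerLeft (tO S) (A.obj j).str

theorem strAff_map {j j' : J} (φ : j ⟶ j') : strAff A j ≫ (Aaff A).map φ = strAff A j' := by
  apply NatTrans.ext; funext X
  exact NatTrans.congr_app (A.map φ).comm ((tO S).obj X)

variable [IsFiltered J]

theorem strAff_inc (j j' : J) : strAff A j ≫ inc A j = strAff A j' ≫ inc A j' := by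
  have key : ∀ {a b : J} (φ : a ⟶ b), strAff A a ≫ inc A a = strAff A b ≫ inc A b := by
    intro a b φ
    rw [← strAff_map A φ, Category.assoc, inc_w]
  rw [key (IsFiltered.leftToMax j j'), key (IsFiltered.rightToMax j j')]

/-- a base index -/
def j0 : J := (IsFiltered.nonempty (C := J)).some

/-- the structure map of the colimit, on affine opens -/
def α : tO S ⋙ S.presheaf ⟶ F A := strAff A j0 ≫ inc A j0

theorem α_eq (j : J) : α A = strAff A j ≫ inc A j := strAff_inc A _ _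

theorem coequifibered : (α A).Coequifibered := by
  intro X Y i
  haveI : Nonempty J := IsFiltered.nonempty
  exact isPushout_of_colimit ((Aaff A).flip.map i) (colimit.cocone _) (colimit.isColimit _)
    (colimit.cocone _) (colimit.isColimit _)
    ((F A).map i) (fun j => colimit.ι_map ((Aaff A).flip.map i) j)
    ((tO S ⋙ S.presheaf).map i) (fun j => (strAff A j).app X) (fun j => (strAff A j).app Y)
    (fun j => (A.obj j).coequifibered i)
    (fun {j j'} φ => NatTrans.congr_app (strAff_map A φ) Y)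
    ((α A).app X) ((α A).app Y)
    (fun j => (NatTrans.congr_app (α_eq A j) X).symm) (fun j => (NatTrans.congr_app (α_eq A j) Y).symm)

/-- the colimit algebra -/
def colimAlg : RelSpec.QCAlg S := AffGlue.alg (coequifibered A)

instance isIso_gammaRestrict : IsIso (AffGlue.gammaRestrict (coequifibered A)) := by
  haveI : ∀ X, IsIso ((AffGlue.gammaRestrict (coequifibered A)).app X) := fun X =>
    inferInstanceAs (IsIso (AffGlue.gammaAff (coequifibered A) X.unop.1 X.unop.2))
  exact NatIso.isIso_of_isIso_app _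

/-- the inverse of `gammaRestrict` -/
def gInv : F A ⟶ tO S ⋙ ((AffGlue.π (coequifibered A)).base _* (AffGlue.Z (coequifibered A)).presheaf) :=
  inv (AffGlue.gammaRestrict (coequifibered A))

theorem gInv_gamma : gInv A ≫ AffGlue.gammaRestrict (coequifibered A) = 𝟙 _ := by
  unfold gInv
  rw [IsIso.inv_hom_id]

/-- coprojections into the glued algebra, on affine opens -/
def incAlgAff (j : J) : tO S ⋙ (A.obj j).presheaf ⟶ tO S ⋙ (colimAlg A).presheaf :=
  inc A j ≫ gInv A

theorem incAlgAff_gamma (j : J) :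
    incAlgAff A j ≫ AffGlue.gammaRestrict (coequifibered A) = inc A j := by
  unfold incAlgAff
  rw [Category.assoc, gInv_gamma, Category.comp_id]

theorem incAlgAff_gamma_app (j : J) (U : S.Opens) (hU : IsAffineOpen U) :
    (incAlgAff A j).app (op ⟨U, hU⟩) ≫ AffGlue.gammaAff (coequifibered A) U hU =
      colimit.ι ((Aaff A).flip.obj (op ⟨U, hU⟩)) j :=
  NatTrans.congr_app (incAlgAff_gamma A j) (op ⟨U, hU⟩)

theorem incAlgAff_w {j j' : J} (φ : j ⟶ j') : (Aaff A).map φ ≫ incAlgAff A j' = incAlgAff A j := by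
  unfold incAlgAff
  rw [← Category.assoc, inc_w]

/-- coprojections into the glued algebra -/
def incAlg (j : J) : A.obj j ⟶ colimAlg A where
  hom := QCAlgPO.mapOfAff (incAlgAff A j)
  comm := by
    apply QCAlgPO.presheafHom_ext_affine (C := colimAlg A)
    intro U hU
    rw [NatTrans.comp_app, QCAlgPO.mapOfAff_app _ U hU]
    refine (cancel_mono (AffGlue.gammaAff (coequifibered A) U hU)).mp ?_
    rw [Category.assoc, incAlgAff_gamma_app]
    exact ((NatTrans.congr_app (α_eq A j) (op ⟨U, hU⟩)).symm.trans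
      (AffGlue.π_app_gammaAff (coequifibered A) U hU).symm)

theorem incAlg_app (j : J) (U : S.Opens) (hU : IsAffineOpen U) :
    (incAlg A j).hom.app (op U) = (incAlgAff A j).app (op ⟨U, hU⟩) :=
  QCAlgPO.mapOfAff_app _ U hU

theorem incAlg_w {j j' : J} (φ : j ⟶ j') : A.map φ ≫ incAlg A j' = incAlg A j := by
  apply QCAlgPO.hom_ext_affine
  intro U hU
  rw [RelSpec.QCAlg.comp_hom, NatTrans.comp_app, incAlg_app A j' U hU, incAlg_app A j U hU]
  exact NatTrans.congr_app (incAlgAff_w A φ) (op ⟨U, hU⟩)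

/-- the colimit cocone -/
def cocone : Cocone A where
  pt := colimAlg A
  ι :=
    { app := incAlg A
      naturality := fun j j' φ => by
        rw [incAlg_w]
        exact (Category.comp_id _).symm }

/-- sections of a cocone over an affine open -/
def descCocone (s : Cocone A) (X : S.AffineZariskiSiteᵒᵖ) : Cocone ((Aaff A).flip.obj X) where
  pt := s.pt.presheaf.obj ((tO S).obj X)
  ι :=
    { app := fun j => (s.ι.app j).hom.app ((tO S).obj X)
      naturality := fun j j' φ =>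
        (congrArg (fun f => f.hom.app ((tO S).obj X)) (s.w φ)).trans (Category.comp_id _).symm }

/-- the descent map on affine opens -/
def descAff (s : Cocone A) : F A ⟶ tO S ⋙ s.pt.presheaf where
  app X := colimit.desc ((Aaff A).flip.obj X) (descCocone A s X)
  naturality X Y i := by
    apply colimit.hom_ext
    intro j
    change colimit.ι _ j ≫ colim.map ((Aaff A).flip.map i) ≫ _ = _
    rw [colimit.ι_map_assoc, colimit.ι_desc, colimit.ι_desc_assoc]
    exact (s.ι.app j).hom.naturality ((tO S).map i)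

theorem descAff_ι (s : Cocone A) (X : S.AffineZariskiSiteᵒᵖ) (j : J) :
    colimit.ι ((Aaff A).flip.obj X) j ≫ (descAff A s).app X = (s.ι.app j).hom.app ((tO S).obj X) :=
  colimit.ι_desc _ _

theorem descAff_str (s : Cocone A) (U : S.Opens) (hU : IsAffineOpen U) :
    AffGlue.strAt (α A) U hU ≫ (descAff A s).app (op ⟨U, hU⟩) = s.pt.str.app (op U) := by
  have h1 : AffGlue.strAt (α A) U hU = (strAff A j0).app (op ⟨U, hU⟩) ≫
      colimit.ι ((Aaff A).flip.obj (op ⟨U, hU⟩)) j0 := rfl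
  rw [h1, Category.assoc, descAff_ι]
  exact NatTrans.congr_app (s.ι.app j0).comm (op U)

/-- the descent morphism -/
def desc (s : Cocone A) : colimAlg A ⟶ s.pt :=
  AffGlue.homOfAff (coequifibered A) s.pt (descAff A s) (descAff_str A s)

theorem desc_app (s : Cocone A) (U : S.Opens) (hU : IsAffineOpen U) :
    (desc A s).hom.app (op U) =
      AffGlue.gammaAff (coequifibered A) U hU ≫ (descAff A s).app (op ⟨U, hU⟩) :=
  AffGlue.homOfAff_app (coequifibered A) U hU s.pt (descAff A s) (descAff_str A s)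

/-- the cocone is a colimit -/
def isColimit : IsColimit (cocone A) where
  desc := desc A
  fac s j := by
    apply QCAlgPO.hom_ext_affine
    intro U hU
    change (incAlg A j).hom.app (op U) ≫ (desc A s).hom.app (op U) = (s.ι.app j).hom.app (op U)
    rw [incAlg_app A j U hU, desc_app A s U hU, ← Category.assoc, incAlgAff_gamma_app]
    exact colimit.ι_desc _ _
  uniq s m hm := by
    apply QCAlgPO.hom_ext_affine
    intro U hU
    rw [desc_app A s U hU]
    refine (cancel_epi (inv (AffGlue.gammaAff (coequifibered A) U hU))).mp ?_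
    rw [IsIso.inv_hom_id_assoc]
    apply colimit.hom_ext
    intro j
    rw [descAff_ι]
    have h1 := congrArg (fun f => f.hom.app (op U)) (hm j)
    change (incAlg A j).hom.app (op U) ≫ m.hom.app (op U) = _ at h1
    rw [incAlg_app A j U hU] at h1
    refine Eq.trans ?_ h1
    rw [← incAlgAff_gamma_app A j U hU, Category.assoc, IsIso.hom_inv_id_assoc]

variable {A}

/-- For any colimit cocone, the sections over an affine open have the existence part of the colimit property. -/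
theorem exists_desc (c : Cocone A) (hc : IsColimit c) (U : S.Opens) (hU : IsAffineOpen U)
    (R : CommRingCat.{u}) (ψ : ∀ j, (A.obj j).presheaf.obj (op U) ⟶ R)
    (hψ : ∀ {j j' : J} (φ : j ⟶ j'), (A.map φ).hom.app (op U) ≫ ψ j' = ψ j) :
    ∃ Ψ : c.pt.presheaf.obj (op U) ⟶ R, ∀ j, (c.ι.app j).hom.app (op U) ≫ Ψ = ψ j := by
  let e := hc.coconePointUniqueUpToIso (isColimit A)
  have he : ∀ j, c.ι.app j ≫ e.hom = incAlg A j := fun j =>
    IsColimit.comp_coconePointUniqueUpToIso_hom hc (isColimit A) j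
  let sψ : Cocone ((Aaff A).flip.obj (op ⟨U, hU⟩)) :=
    ⟨R, { app := ψ, naturality := fun j j' φ => (hψ φ).trans (Category.comp_id _).symm }⟩
  refine ⟨e.hom.hom.app (op U) ≫ AffGlue.gammaAff (coequifibered A) U hU ≫ colimit.desc _ sψ,
    fun j => ?_⟩
  have h1 := congrArg (fun f => f.hom.app (op U)) (he j)
  change (c.ι.app j).hom.app (op U) ≫ e.hom.hom.app (op U) = (incAlg A j).hom.app (op U) at h1
  rw [← Category.assoc, h1, incAlg_app A j U hU, ← Category.assoc, incAlgAff_gamma_app]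
  exact colimit.ι_desc _ _

/-- For any colimit cocone, the sections over an affine open have the uniqueness part of the colimit property. -/
theorem hom_ext' (c : Cocone A) (hc : IsColimit c) (U : S.Opens) (hU : IsAffineOpen U)
    (R : CommRingCat.{u}) (Ψ₁ Ψ₂ : c.pt.presheaf.obj (op U) ⟶ R)
    (h : ∀ j, (c.ι.app j).hom.app (op U) ≫ Ψ₁ = (c.ι.app j).hom.app (op U) ≫ Ψ₂) : Ψ₁ = Ψ₂ := by
  let e := hc.coconePointUniqueUpToIso (isColimit A)
  have he : ∀ j, incAlg A j ≫ e.inv = c.ι.app j := fun j =>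
    IsColimit.comp_coconePointUniqueUpToIso_inv hc (isColimit A) j
  have hE : e.hom.hom.app (op U) ≫ e.inv.hom.app (op U) = 𝟙 _ :=
    congrArg (fun f => f.hom.app (op U)) e.hom_inv_id
  have key : inv (AffGlue.gammaAff (coequifibered A) U hU) ≫ e.inv.hom.app (op U) ≫ Ψ₁ =
      inv (AffGlue.gammaAff (coequifibered A) U hU) ≫ e.inv.hom.app (op U) ≫ Ψ₂ := by
    apply colimit.hom_ext
    intro j
    have h1 := congrArg (fun f => f.hom.app (op U)) (he j)
    change (incAlg A j).hom.app (op U) ≫ e.inv.hom.app (op U) = (c.ι.app j).hom.app (op U) at h1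
    rw [incAlg_app A j U hU] at h1
    have h2 : ∀ Ψ : c.pt.presheaf.obj (op U) ⟶ R,
        (incAlgAff A j).app (op ⟨U, hU⟩) ≫ e.inv.hom.app (op U) ≫ Ψ =
          (c.ι.app j).hom.app (op U) ≫ Ψ := fun Ψ => by rw [← Category.assoc, h1]
    rw [← incAlgAff_gamma_app A j U hU]
    simp only [Category.assoc, IsIso.hom_inv_id_assoc]
    rw [h2, h2]
    exact h j
  have key2 := (cancel_epi (inv (AffGlue.gammaAff (coequifibered A) U hU))).mp key
  calc Ψ₁ = (e.hom.hom.app (op U) ≫ e.inv.hom.app (op U)) ≫ Ψ₁ := by rw [hE, Category.id_comp]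
    _ = (e.hom.hom.app (op U) ≫ e.inv.hom.app (op U)) ≫ Ψ₂ := by
        rw [Category.assoc, key2, ← Category.assoc]
    _ = Ψ₂ := by rw [hE, Category.id_comp]

/-- The local statement: morphisms into `Spec` of the colimit over an affine open of the base. -/
theorem local_existsUnique {c : Cocone A} (hc : IsColimit c) (U : S.Opens) (hU : IsAffineOpen U)
    (T : Scheme.{u}) (v : ∀ j : J, T ⟶ (A.obj j).spec)
    (hv : ∀ (j j' : J) (φ : j ⟶ j'), v j' ≫ RelSpec.QCAlg.specMap (A.map φ) = v j)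
    (hTU : ∀ (j : J) (t : T), (v j ≫ (A.obj j).π) t ∈ U) :
    ∃! w : T ⟶ c.pt.spec, ∀ j : J, w ≫ RelSpec.QCAlg.specMap (c.ι.app j) = v j := by
  have hr : ∀ j, Set.range (v j) ⊆ Set.range ((A.obj j).ι U hU) := by
    intro j
    rintro _ ⟨t, rfl⟩
    have h1 : v j t ∈ (A.obj j).π ⁻¹ᵁ U := by
      have h0 := hTU j t
      rw [Scheme.Hom.comp_apply] at h0
      exact h0
    rw [RelSpec.QCAlg.π_preimage _ U hU] at h1
    exact h1
  obtain ⟨l, hl⟩ : ∃ l : ∀ j, T ⟶ Spec ((A.obj j).presheaf.obj (op U)),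
      ∀ j, l j ≫ (A.obj j).ι U hU = v j :=
    ⟨fun j => IsOpenImmersion.lift ((A.obj j).ι U hU) (v j) (hr j),
      fun j => IsOpenImmersion.lift_fac _ _ _⟩
  obtain ⟨ψ, hψ⟩ : ∃ ψ : ∀ j, (A.obj j).presheaf.obj (op U) ⟶ Γ(T, ⊤),
      ∀ j, T.toSpecΓ ≫ Spec.map (ψ j) = l j :=
    ⟨fun j => (Scheme.ΓSpecIso _).inv ≫ (l j).appTop, fun j => toSpecΓ_map_inv_appTop (l j)⟩
  have hιA : ∀ {j j' : J} (φ : j ⟶ j'), (A.obj j').ι U hU ≫ RelSpec.QCAlg.specMap (A.map φ) =
      Spec.map ((A.map φ).hom.app (op U)) ≫ (A.obj j).ι U hU := fun φ =>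
    RelSpec.QCAlg.ι_specMap U hU (A.map φ)
  have hιc : ∀ j, c.pt.ι U hU ≫ RelSpec.QCAlg.specMap (c.ι.app j) =
      Spec.map ((c.ι.app j).hom.app (op U)) ≫ (A.obj j).ι U hU := fun j =>
    RelSpec.QCAlg.ι_specMap U hU (c.ι.app j)
  have hlφ : ∀ {j j' : J} (φ : j ⟶ j'), l j' ≫ Spec.map ((A.map φ).hom.app (op U)) = l j := by
    intro j j' φ
    refine (cancel_mono ((A.obj j).ι U hU)).mp ?_
    rw [Category.assoc, ← hιA φ, ← Category.assoc, hl, hl, hv]
  have hψφ : ∀ {j j' : J} (φ : j ⟶ j'), (A.map φ).hom.app (op U) ≫ ψ j' = ψ j := by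
    intro j j' φ
    apply toSpecΓ_map_injective (T := T)
    rw [Spec.map_comp, ← Category.assoc, hψ, hψ, hlφ φ]
  obtain ⟨Ψ, hΨ⟩ := exists_desc c hc U hU _ ψ hψφ
  refine ⟨(T.toSpecΓ ≫ Spec.map Ψ) ≫ c.pt.ι U hU, ?_, ?_⟩
  · intro j
    calc ((T.toSpecΓ ≫ Spec.map Ψ) ≫ c.pt.ι U hU) ≫ RelSpec.QCAlg.specMap (c.ι.app j)
        = (T.toSpecΓ ≫ Spec.map Ψ) ≫ Spec.map ((c.ι.app j).hom.app (op U)) ≫ (A.obj j).ι U hU := by
          rw [Category.assoc, hιc]
      _ = (T.toSpecΓ ≫ Spec.map ((c.ι.app j).hom.app (op U) ≫ Ψ)) ≫ (A.obj j).ι U hU := by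
          rw [Spec.map_comp]; simp only [Category.assoc]
      _ = v j := by rw [hΨ, hψ, hl]
  · intro w' hw'
    have hr' : Set.range w' ⊆ Set.range (c.pt.ι U hU) := by
      rintro _ ⟨t, rfl⟩
      have h1 : w' t ∈ c.pt.π ⁻¹ᵁ U := by
        obtain ⟨j⟩ : Nonempty J := IsFiltered.nonempty
        have h2 := hTU j t
        rw [← hw' j, Category.assoc, RelSpec.QCAlg.specMap_π, Scheme.Hom.comp_apply] at h2
        exact h2
      rw [RelSpec.QCAlg.π_preimage _ U hU] at h1
      exact h1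
    obtain ⟨l', hl'⟩ : ∃ l' : T ⟶ Spec (c.pt.presheaf.obj (op U)), l' ≫ c.pt.ι U hU = w' :=
      ⟨IsOpenImmersion.lift (c.pt.ι U hU) w' hr', IsOpenImmersion.lift_fac _ _ _⟩
    obtain ⟨Ψ', hΨ'⟩ : ∃ Ψ' : c.pt.presheaf.obj (op U) ⟶ Γ(T, ⊤),
        T.toSpecΓ ≫ Spec.map Ψ' = l' :=
      ⟨(Scheme.ΓSpecIso _).inv ≫ l'.appTop, toSpecΓ_map_inv_appTop l'⟩
    have hΨeq : Ψ' = Ψ := by
      apply hom_ext' c hc U hU
      intro j
      rw [hΨ]
      apply toSpecΓ_map_injective (T := T)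
      rw [Spec.map_comp, ← Category.assoc, hΨ', hψ]
      refine (cancel_mono ((A.obj j).ι U hU)).mp ?_
      rw [Category.assoc, ← hιc j, ← Category.assoc, hl', hl, hw']
    rw [← hl', ← hΨ', hΨeq]

/-- **Main theorem**: `Spec` of a filtered colimit of quasi-coherent algebras is the limit of the spectra. -/
theorem main {c : Cocone A} (hc : IsColimit c) (T : Scheme.{u}) (v : ∀ j : J, T ⟶ (A.obj j).spec)
    (hv : ∀ (j j' : J) (φ : j ⟶ j'), v j' ≫ RelSpec.QCAlg.specMap (A.map φ) = v j) :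
    ∃! w : T ⟶ c.pt.spec, ∀ j : J, w ≫ RelSpec.QCAlg.specMap (c.ι.app j) = v j := by
  obtain ⟨i0⟩ : Nonempty J := IsFiltered.nonempty
  have hπ : ∀ {j j' : J} (φ : j ⟶ j'), v j ≫ (A.obj j).π = v j' ≫ (A.obj j').π := by
    intro j j' φ
    rw [← hv j j' φ, Category.assoc, RelSpec.QCAlg.specMap_π]
  obtain ⟨f, hf⟩ : ∃ f : T ⟶ S, ∀ j, v j ≫ (A.obj j).π = f :=
    ⟨v i0 ≫ (A.obj i0).π, fun j => by
      rw [hπ (IsFiltered.leftToMax j i0), hπ (IsFiltered.rightToMax j i0)]⟩
  have hcov : TopologicalSpace.IsOpenCover (fun U : S.affineOpens => f ⁻¹ᵁ U.1) := by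
    refine eq_top_iff.mpr fun t _ => ?_
    have h1 : f t ∈ (⨆ U : S.affineOpens, (U : S.Opens)) := by
      rw [iSup_affineOpens_eq_top]; trivial
    obtain ⟨U, hU⟩ := Opens.mem_iSup.mp h1
    exact Opens.mem_iSup.mpr ⟨U, hU⟩
  let 𝒰 : T.OpenCover := T.openCoverOfIsOpenCover _ hcov
  have hloc : ∀ (U : S.affineOpens) (T' : Scheme.{u}) (g : T' ⟶ T) (_ : ∀ t', f (g t') ∈ U.1),
      ∃! w : T' ⟶ c.pt.spec, ∀ j : J, w ≫ RelSpec.QCAlg.specMap (c.ι.app j) = g ≫ v j := by
    intro U T' g hg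
    apply local_existsUnique hc U.1 U.2 T' (fun j => g ≫ v j)
    · intro j j' φ
      rw [Category.assoc, hv]
    · intro j t'
      rw [Category.assoc, hf j, Scheme.Hom.comp_apply]
      exact hg t'
  have hgU : ∀ (U : S.affineOpens) (t : 𝒰.X U), f (𝒰.f U t) ∈ U.1 := by
    intro U t
    have h1 : 𝒰.f U t ∈ Set.range (f ⁻¹ᵁ U.1).ι := ⟨t, rfl⟩
    rw [Scheme.Opens.range_ι] at h1
    exact h1
  have hex := fun U : S.affineOpens => (hloc U (𝒰.X U) (𝒰.f U) (hgU U)).exists
  choose wU hwU using hex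
  have hcompat : ∀ U U' : S.affineOpens,
      pullback.fst (𝒰.f U) (𝒰.f U') ≫ wU U = pullback.snd (𝒰.f U) (𝒰.f U') ≫ wU U' := by
    intro U U'
    refine (hloc U (pullback (𝒰.f U) (𝒰.f U')) (pullback.fst _ _ ≫ 𝒰.f U) ?_).unique ?_ ?_
    · intro t'
      rw [Scheme.Hom.comp_apply]
      exact hgU U _
    · intro j
      simp only [Category.assoc, hwU]
    · intro j
      simp only [Category.assoc, hwU]
      exact (pullback.condition_assoc _).symm
  refine ⟨𝒰.glueMorphisms wU hcompat, ?_, ?_⟩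
  · intro j
    apply 𝒰.hom_ext
    intro U
    rw [← Category.assoc, Scheme.Cover.ι_glueMorphisms, hwU]
  · intro w' hw'
    apply 𝒰.hom_ext
    intro U
    rw [Scheme.Cover.ι_glueMorphisms]
    refine (hloc U (𝒰.X U) (𝒰.f U) (hgU U)).unique ?_ (hwU U)
    intro j
    rw [Category.assoc, hw']

end Groth.Agent.Helper9.QCAlgColim
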