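import Mathlib

/-!
# Sheaves of sets: stalks of inverse images, counit for inducing maps, closed embeddings (helper9)

Port of `StalkPull`, `StalkPull2`, `ClosedEmb2` from abelian sheaves to sheaves of sets.
-/

universe u
open CategoryTheory CategoryTheory.Limits Opposite TopologicalSpace

namespace Groth.Agent.Helper9.SetShf

abbrev Sh (X : TopCat.{u}) : Type (u + 1) := TopCat.Sheaf (Type u) X

noncomputable abbrev push {X Y : TopCat.{u}} (f : X ⟶ Y) : Sh X ⥤ Sh Y :=
  TopCat.Sheaf.pushforward (Type u) f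

noncomputable abbrev pull {X Y : TopCat.{u}} (f : X ⟶ Y) : Sh Y ⥤ Sh X :=
  TopCat.Sheaf.pullback (Type u) f


open Classical in
/-- the stalk functor on abelian sheaves. -/
noncomputable abbrev stalkF {X : TopCat.{u}} (x : X) : Sh X ⥤ (Type u) :=
  TopCat.Sheaf.forget (Type u) X ⋙ TopCat.Presheaf.stalkFunctor (Type u) x

open Classical in
/-- the skyscraper sheaf functor at `x`. -/
noncomputable abbrev sky {X : TopCat.{u}} (x : X) : (Type u) ⥤ Sh X :=
  skyscraperSheafFunctor x

open Classical in
/-- stalk is left adjoint to skyscraper. -/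
noncomputable def stalkAdj {X : TopCat.{u}} (x : X) : stalkF x ⊣ sky x :=
  stalkSkyscraperSheafAdjunction x

variable {X Y : TopCat.{u}} (f : X ⟶ Y)

/-- the inverse image - direct image adjunction. -/
noncomputable abbrev pullAdj : pull f ⊣ push f :=
  TopCat.Sheaf.pullbackPushforwardAdjunction (Type u) f

/-- the direct image of a skyscraper sheaf is a skyscraper sheaf. -/
noncomputable def skyPushIso (x : X) : sky x ⋙ push f ≅ sky (f x) :=
  NatIso.ofComponents (fun A => Iso.refl _) (by
    intro A B φ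
    exact (Category.comp_id ((sky x ⋙ push f).map φ)).trans
      (Category.id_comp ((sky (f x)).map φ)).symm)

/-- the stalk of `f⁻¹F` at `x` is the stalk of `F` at `f x`. -/
noncomputable def pullStalkIso (x : X) : pull f ⋙ stalkF x ≅ stalkF (f x) :=
  ((pullAdj f).comp (stalkAdj x)).leftAdjointUniq
    ((stalkAdj (f x)).ofNatIsoRight (skyPushIso f x).symm)


variable {X Y : TopCat.{u}} (f : X ⟶ Y)

noncomputable abbrev adj1 (x : X) : pull f ⋙ stalkF x ⊣ sky x ⋙ push f :=
  (pullAdj f).comp (stalkAdj x)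

noncomputable abbrev adj2 (x : X) : stalkF (f x) ⊣ sky x ⋙ push f :=
  (stalkAdj (f x)).ofNatIsoRight (skyPushIso f x).symm

lemma pullStalkIso_eq (x : X) : pullStalkIso f x = (adj1 f x).leftAdjointUniq (adj2 f x) := rfl

/-- the canonical map `(f_*G)_{f x} ⟶ G_x`. -/
noncomputable def pushStalk (x : X) (G : Sh X) :
    (stalkF (f x)).obj ((push f).obj G) ⟶ (stalkF x).obj G :=
  ((adj2 f x).homEquiv _ _).symm ((push f).map ((stalkAdj x).unit.app G))

lemma pushStalk_eq (x : X) (G : Sh X) :
    pushStalk f x G = (pullStalkIso f x).inv.app ((push f).obj G) ≫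
      (stalkF x).map ((pullAdj f).counit.app G) := by
  apply ((adj2 f x).homEquiv _ _).injective
  rw [pushStalk, Equiv.apply_symm_apply, Adjunction.homEquiv_naturality_right]
  have h1 : (adj2 f x).homEquiv _ _ ((pullStalkIso f x).inv.app ((push f).obj G)) =
      (adj1 f x).unit.app ((push f).obj G) :=
    Adjunction.homEquiv_leftAdjointUniq_hom_app (adj2 f x) (adj1 f x) ((push f).obj G)
  have h3 : (adj1 f x).unit.app ((push f).obj G) =
      (pullAdj f).unit.app ((push f).obj G) ≫ (push f).map
        ((stalkAdj x).unit.app ((pull f).obj ((push f).obj G))) :=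
    Adjunction.comp_unit_app _ _ _
  rw [h1, h3, Functor.comp_map, Category.assoc, ← Functor.map_comp]
  have h2 : (stalkAdj x).unit.app ((pull f).obj ((push f).obj G)) ≫ (sky x).map ((stalkF x).map ((pullAdj f).counit.app G)) =
      (pullAdj f).counit.app G ≫ (stalkAdj x).unit.app G :=
    ((stalkAdj x).unit.naturality _).symm
  rw [h2, Functor.map_comp, ← Category.assoc, Adjunction.right_triangle_components,
    Category.id_comp]

lemma toSky_app_eqToHom {X : TopCat.{u}} (p₀ : X) [∀ U : Opens X, Decidable (p₀ ∈ U)]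
    {𝓕 : TopCat.Presheaf (Type u) X} {c : (Type u)} (g : 𝓕.stalk p₀ ⟶ c)
    (U : Opens X) (h : p₀ ∈ U) :
    (StalkSkyscraperPresheafAdjunctionAuxs.toSkyscraperPresheaf p₀ g).app (op U) ≫
      eqToHom (if_pos h) = 𝓕.germ U p₀ h ≫ g := by
  refine (StalkSkyscraperPresheafAdjunctionAuxs.germ_fromStalk p₀
    (StalkSkyscraperPresheafAdjunctionAuxs.toSkyscraperPresheaf p₀ g) U h).symm.trans ?_
  rw [StalkSkyscraperPresheafAdjunctionAuxs.fromStalk_to_skyscraper]

open Classical in
lemma germ_pushStalk (x : X) (G : Sh X) (W : Opens Y) (hx : f x ∈ W) :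
    TopCat.Presheaf.germ ((push f).obj G).obj W (f x) hx ≫ pushStalk f x G =
      TopCat.Presheaf.germ G.obj ((Opens.map f).obj W) x hx := by
  rw [pushStalk, Adjunction.homEquiv_ofNatIsoRight_symm_apply, Adjunction.homEquiv_counit]
  have h1 := TopCat.Presheaf.stalkFunctor_map_germ W (f x) hx
    ((push f).map ((stalkAdj x).unit.app G) ≫
      (skyPushIso f x).symm.inv.app ((stalkF x).obj G)).hom
  have h2 : (stalkAdj (f x)).counit.app ((stalkF x).obj G) =
      (skyscraperPresheafStalkOfSpecializes (f x) ((stalkF x).obj G) specializes_rfl).hom := rfl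
  rw [h2]
  refine (Category.assoc _ _ _).symm.trans ?_
  refine (congrArg (fun m => m ≫ (skyscraperPresheafStalkOfSpecializes (f x)
    ((stalkF x).obj G) specializes_rfl).hom) h1).trans ?_
  refine (Category.assoc _ _ _).trans ?_
  refine (congrArg (fun m => ((push f).map ((stalkAdj x).unit.app G) ≫
    (skyPushIso f x).symm.inv.app ((stalkF x).obj G)).hom.app (op W) ≫ m)
    (germ_skyscraperPresheafStalkOfSpecializes_hom (f x) ((stalkF x).obj G) specializes_rfl W hx)).trans ?_
  change ((StalkSkyscraperPresheafAdjunctionAuxs.toSkyscraperPresheaf x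
    (𝟙 (TopCat.Presheaf.stalk G.obj x))).app (op ((Opens.map f).obj W)) ≫ 𝟙 _) ≫ eqToHom _ = _
  refine (congrArg (fun m => m ≫ eqToHom _) (Category.comp_id _)).trans ?_
  exact (toSky_app_eqToHom x (𝟙 (TopCat.Presheaf.stalk G.obj x)) ((Opens.map f).obj W) hx).trans
    (Category.comp_id _)

lemma pushStalk_eq_stalkPushforward (x : X) (G : Sh X) :
    pushStalk f x G = TopCat.Presheaf.stalkPushforward (Type u) f G.obj x := by
  refine TopCat.Presheaf.stalk_hom_ext _ (fun W hW => ?_)
  exact (germ_pushStalk f x G W hW).trans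
    (TopCat.Presheaf.stalkPushforward_germ (Type u) f G.obj W x hW).symm

lemma isIso_pushStalk (hf : Topology.IsInducing f) (x : X) (G : Sh X) :
    IsIso (pushStalk f x G) := by
  rw [pushStalk_eq_stalkPushforward]
  exact TopCat.Presheaf.stalkPushforward.stalkPushforward_iso_of_isInducing (Type u)
    hf G.obj x

lemma stalk_counit (x : X) (G : Sh X) :
    (stalkF x).map ((pullAdj f).counit.app G) =
      (pullStalkIso f x).hom.app ((push f).obj G) ≫ pushStalk f x G := by
  rw [pushStalk_eq, Iso.hom_inv_id_app_assoc]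

lemma homEquiv_pushStalk (x : X) (G : Sh X) :
    (adj2 f x).homEquiv _ _ (pushStalk f x G) = (push f).map ((stalkAdj x).unit.app G) :=
  Equiv.apply_symm_apply _ _

lemma unit_pushStalk (x : X) (F : Sh Y) :
    (stalkF (f x)).map ((pullAdj f).unit.app F) ≫ pushStalk f x ((pull f).obj F) ≫
      (pullStalkIso f x).hom.app F = 𝟙 _ := by
  apply ((adj2 f x).homEquiv _ _).injective
  rw [Adjunction.homEquiv_naturality_left, Adjunction.homEquiv_naturality_right]
  refine Eq.trans ?_ (Adjunction.homEquiv_id (adj2 f x) F).symm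
  refine (congrArg (fun m => (pullAdj f).unit.app F ≫ m ≫
    (sky x ⋙ push f).map ((pullStalkIso f x).hom.app F))
    (homEquiv_pushStalk f x ((pull f).obj F))).trans ?_
  rw [← Category.assoc]
  have h3 : (pullAdj f).unit.app F ≫ (push f).map
      ((stalkAdj x).unit.app ((pull f).obj F)) = (adj1 f x).unit.app F :=
    (Adjunction.comp_unit_app _ _ _).symm
  rw [h3]
  exact Adjunction.unit_leftAdjointUniq_hom_app (adj1 f x) (adj2 f x) F

/-- for an inducing map `f` the counit `f⁻¹ f_* G ⟶ G` is an isomorphism. -/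
theorem isIso_counit_app (hf : Topology.IsInducing f) (G : Sh X) :
    IsIso ((pullAdj f).counit.app G) := by
  refine (TopCat.Presheaf.isIso_iff_stalkFunctor_map_iso ((pullAdj f).counit.app G)).2 ?_
  intro x
  have h := stalk_counit f x G
  haveI := isIso_pushStalk f hf x G
  change IsIso ((stalkF x).map ((pullAdj f).counit.app G))
  rw [h]
  infer_instance

theorem isIso_counit (hf : Topology.IsInducing f) : IsIso (pullAdj f).counit := by
  haveI : ∀ G, IsIso ((pullAdj f).counit.app G) := isIso_counit_app f hf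
  exact NatIso.isIso_of_isIso_app _

/-- if `f` is inducing then `stalk (η_F)` at `f x` is an isomorphism. -/
lemma isIso_stalk_unit (hf : Topology.IsInducing f) (x : X) (F : Sh Y) :
    IsIso ((stalkF (f x)).map ((pullAdj f).unit.app F)) := by
  haveI := isIso_pushStalk f hf x ((pull f).obj F)
  have h := unit_pushStalk f x F
  have h2 : (stalkF (f x)).map ((pullAdj f).unit.app F) =
      inv (pushStalk f x ((pull f).obj F) ≫ (pullStalkIso f x).hom.app F) := by
    rw [← cancel_mono (pushStalk f x ((pull f).obj F) ≫ (pullStalkIso f x).hom.app F), h,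
      IsIso.inv_hom_id]
  rw [h2]
  infer_instance


section ClosedEmb

variable {Z X : TopCat.{u}} (i : Z ⟶ X)

/-- the stalk of `i_* G` at a point outside the closed range of `i` is a one-point set. -/
lemma unique_stalk_push (hi : Topology.IsClosedEmbedding i) (G : Sh Z) (x : X)
    (hx : x ∉ Set.range i) : Nonempty (Unique (((push i).obj G).presheaf.stalk x)) := by
  let W₀ : Opens X := ⟨(Set.range i)ᶜ, hi.isClosed_range.isOpen_compl⟩
  have hbot : ∀ W : Opens X, (Opens.map i).obj (W ⊓ W₀) = ⊥ := by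
    intro W
    ext z
    simp only [Opens.coe_bot, Set.mem_empty_iff_false, iff_false]
    rintro ⟨-, hz⟩
    exact hz ⟨z, rfl⟩
  have huniq : ∀ W : Opens X, Unique (G.obj.obj (op ((Opens.map i).obj (W ⊓ W₀)))) := fun W =>
    Types.isTerminalEquivUnique _ (TopCat.Sheaf.isTerminalOfEqEmpty G (hbot W))
  let s₀ : ((push i).obj G).obj.obj (op (⊤ ⊓ W₀)) := (huniq ⊤).default
  refine ⟨⟨⟨TopCat.Presheaf.germ ((push i).obj G).obj (⊤ ⊓ W₀) x ⟨trivial, hx⟩ s₀⟩, fun t => ?_⟩⟩
  obtain ⟨W, hxW, s, rfl⟩ := TopCat.Presheaf.germ_exist ((push i).obj G).obj (x := x) t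
  have h1 := TopCat.Presheaf.germ_res_apply ((push i).obj G).obj
    (homOfLE (inf_le_left : W ⊓ W₀ ≤ W)) x ⟨hxW, hx⟩ s
  have h2 := TopCat.Presheaf.germ_res_apply ((push i).obj G).obj
    (homOfLE (inf_le_inf_right W₀ le_top : W ⊓ W₀ ≤ ⊤ ⊓ W₀)) x ⟨hxW, hx⟩ s₀
  rw [← h1, ← h2]
  congr 1
  exact (huniq W).eq_default _ |>.trans ((huniq W).eq_default _).symm

theorem essImage_iff (hi : Topology.IsClosedEmbedding i) (F : Sh X) :
    (push i).essImage F ↔
      ∀ x : X, x ∉ Set.range i → Nonempty (Unique (F.presheaf.stalk x)) := by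
  constructor
  · rintro ⟨G, ⟨e⟩⟩ x hx
    obtain ⟨u⟩ := unique_stalk_push i hi G x hx
    exact ⟨@Equiv.unique _ _ u (((stalkF x).mapIso e.symm).toEquiv)⟩
  · intro h
    have hη : IsIso ((pullAdj i).unit.app F) := by
      refine (TopCat.Presheaf.isIso_iff_stalkFunctor_map_iso _).2 ?_
      intro y
      by_cases hy : y ∈ Set.range i
      · obtain ⟨z, rfl⟩ := hy
        exact isIso_stalk_unit i hi.isInducing z F
      · obtain ⟨u1⟩ := h y hy
        obtain ⟨u2⟩ := unique_stalk_push i hi ((pull i).obj F) y hy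
        rw [isIso_iff_bijective]
        exact ⟨fun a b _ => (u1.eq_default a).trans (u1.eq_default b).symm,
          fun b => ⟨u1.default, (u2.eq_default _).trans (u2.eq_default b).symm⟩⟩
    exact ⟨(pull i).obj F, ⟨(asIso ((pullAdj i).unit.app F)).symm⟩⟩

theorem closedEmb_main (hi : Topology.IsClosedEmbedding i) :
    (push i).Full ∧ (push i).Faithful ∧
      ∀ G : Sh X, (push i).essImage G ↔
        ∀ x : X, x ∉ Set.range i → Nonempty (Unique (G.presheaf.stalk x)) := by
  haveI := isIso_counit i hi.isInducing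
  have ff := (pullAdj i).fullyFaithfulROfIsIsoCounit
  exact ⟨ff.full, ff.faithful, essImage_iff i hi⟩

end ClosedEmb

end Groth.Agent.Helper9.SetShf
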