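import Mathlib
import Groth.Agent.Lib.Helper9.SetShf
import Groth.Agent.Lib.Helper9.StalkPull2

/-!
# Quasi-homeomorphisms and equivalences of sheaf categories (helper9)
-/

universe u
open CategoryTheory CategoryTheory.Limits Opposite TopologicalSpace

namespace Groth.Agent.Helper9.StalkPull

variable {X Y : TopCat.{u}} (f : X ⟶ Y)

lemma isIso_stalkPushforward_of_isIso_counit (x : X) (G : CohTop.Ab X)
    [IsIso ((pullAdj f).counit.app G)] :
    IsIso (TopCat.Presheaf.stalkPushforward AddCommGrpCat.{u} f G.obj x) := by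
  have h := stalk_counit f x G
  have h3 : IsIso (pushStalk f x G) := by
    haveI : IsIso ((pullStalkIso f x).hom.app ((CohTop.push f).obj G) ≫ pushStalk f x G) := by
      rw [← h]; infer_instance
    exact IsIso.of_isIso_comp_left ((pullStalkIso f x).hom.app ((CohTop.push f).obj G)) _
  exact (congrArg (fun t => IsIso t) (pushStalk_eq_stalkPushforward f x G)).mp h3

end Groth.Agent.Helper9.StalkPull

namespace Groth.Agent.Helper9.SetShf

variable {X Y : TopCat.{u}} (f : X ⟶ Y)

lemma isIso_stalkPushforward_of_isIso_counit (x : X) (G : Sh X)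
    [IsIso ((pullAdj f).counit.app G)] :
    IsIso (TopCat.Presheaf.stalkPushforward (Type u) f G.obj x) := by
  have h := stalk_counit f x G
  have h3 : IsIso (pushStalk f x G) := by
    haveI : IsIso ((pullStalkIso f x).hom.app ((push f).obj G) ≫ pushStalk f x G) := by
      rw [← h]; infer_instance
    exact IsIso.of_isIso_comp_left ((pullStalkIso f x).hom.app ((push f).obj G)) _
  exact (congrArg (fun t => IsIso t) (pushStalk_eq_stalkPushforward f x G)).mp h3

end Groth.Agent.Helper9.SetShf

namespace Groth.Agent.Helper9.QHomeo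

variable {X₀ X : TopCat.{u}} (f : X₀ ⟶ X)

lemma le_of_map_le (hinj : Function.Injective (fun U : Opens X => (Opens.map f).obj U))
    {U V : Opens X} (h : (Opens.map f).obj U ≤ (Opens.map f).obj V) : U ≤ V := by
  have h1 : (Opens.map f).obj (U ⊔ V) = (Opens.map f).obj V := by
    apply le_antisymm
    · intro x hx
      have hx' : f x ∈ (U : Set X) ∪ (V : Set X) := hx
      rcases hx' with hx' | hx'
      · exact h (show x ∈ (Opens.map f).obj U from hx')
      · exact hx'
    · exact leOfHom ((Opens.map f).map (homOfLE le_sup_right))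
  have h2 : U ⊔ V = V := hinj h1
  calc U ≤ U ⊔ V := le_sup_left
    _ = V := h2

lemma isEquivalence_map (hb : Function.Bijective (fun U : Opens X => (Opens.map f).obj U)) :
    (Opens.map f).IsEquivalence where
  faithful := ⟨fun {_ _} a b _ => Subsingleton.elim a b⟩
  full := ⟨fun g => ⟨homOfLE (le_of_map_le f hb.1 (leOfHom g)), Subsingleton.elim _ _⟩⟩
  essSurj := ⟨fun W => by
    obtain ⟨U, hU⟩ := hb.2 W
    exact ⟨U, ⟨eqToIso hU⟩⟩⟩

lemma isCocontinuous_map (hb : Function.Bijective (fun U : Opens X => (Opens.map f).obj U)) :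
    (Opens.map f).IsCocontinuous (Opens.grothendieckTopology X)
      (Opens.grothendieckTopology X₀) where
  cover_lift := by
    intro U S hS
    have hS' := (Opens.mem_grothendieckTopology _).1 hS
    let 𝒱 : Set (Opens X) := {V | ∃ h : V ≤ U, S ((Opens.map f).map (homOfLE h))}
    have h1 : (Opens.map f).obj (sSup 𝒱) = (Opens.map f).obj U := by
      apply le_antisymm
      · have : sSup 𝒱 ≤ U := sSup_le (fun V hV => hV.1)
        exact leOfHom ((Opens.map f).map (homOfLE this))
      · intro x hx
        obtain ⟨V₀, g, hg, hxV⟩ := hS' x hx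
        obtain ⟨V', hV'⟩ := hb.2 V₀
        have hV'' : (Opens.map f).obj V' = V₀ := hV'
        subst hV''
        have hle : V' ≤ U := le_of_map_le f hb.1 (leOfHom g)
        have hmem : V' ∈ 𝒱 := ⟨hle, by
          have : (Opens.map f).map (homOfLE hle) = g := Subsingleton.elim _ _
          rw [this]; exact hg⟩
        show f x ∈ sSup 𝒱
        exact Opens.mem_sSup.2 ⟨V', hmem, hxV⟩
    have h2 : sSup 𝒱 = U := hb.1 h1
    refine (Opens.mem_grothendieckTopology _).2 (fun y hy => ?_)
    rw [← h2] at hy
    obtain ⟨V, ⟨hle, hV⟩, hyV⟩ := Opens.mem_sSup.1 hy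
    exact ⟨V, homOfLE hle, hV, hyV⟩

lemma isCocontinuous_inv [(Opens.map f).IsEquivalence] :
    ((Opens.map f).asEquivalence.inverse).IsCocontinuous (Opens.grothendieckTopology X₀)
      (Opens.grothendieckTopology X) where
  cover_lift := by
    intro U₀ S hS
    have hS' := (Opens.mem_grothendieckTopology _).1 hS
    refine (Opens.mem_grothendieckTopology _).2 (fun x hx => ?_)
    have hx' : x ∈ (Opens.map f).obj ((Opens.map f).asEquivalence.inverse.obj U₀) :=
      leOfHom ((Opens.map f).asEquivalence.counitIso.app U₀).inv hx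
    obtain ⟨V, g, hg, hxV⟩ := hS' (f x) hx'
    refine ⟨(Opens.map f).obj V,
      (Opens.map f).map g ≫ ((Opens.map f).asEquivalence.counitIso.app U₀).hom, ?_, hxV⟩
    have : (Opens.map f).asEquivalence.inverse.map
        ((Opens.map f).map g ≫ ((Opens.map f).asEquivalence.counitIso.app U₀).hom) =
        ((Opens.map f).asEquivalence.unitIso.app V).inv ≫ g := Subsingleton.elim _ _
    change S ((Opens.map f).asEquivalence.inverse.map _)
    rw [this]
    exact S.downward_closed hg _

section

variable (A : Type*) [Category.{u} A] {FA : A → A → Type*} {CA : A → Type u}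
variable [∀ X Y, FunLike (FA X Y) (CA X) (CA Y)] [ConcreteCategory.{u} A FA] [HasColimits A]
variable [HasLimits A] [PreservesLimits (CategoryTheory.forget A)]
variable [PreservesFilteredColimits (CategoryTheory.forget A)]
variable [(CategoryTheory.forget A).ReflectsIsomorphisms]

theorem isEquivalence_pullback_of_bij
    (hb : Function.Bijective (fun U : Opens X => (Opens.map f).obj U)) :
    (TopCat.Sheaf.pullback A f).IsEquivalence := by
  haveI := isEquivalence_map f hb
  let e := (Opens.map f).asEquivalence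
  haveI h1 : e.functor.IsCocontinuous (Opens.grothendieckTopology X)
      (Opens.grothendieckTopology X₀) := isCocontinuous_map f hb
  haveI h2 : e.inverse.IsCocontinuous (Opens.grothendieckTopology X₀)
      (Opens.grothendieckTopology X) := isCocontinuous_inv f
  haveI : e.inverse.IsDenseSubsite (Opens.grothendieckTopology X₀)
      (Opens.grothendieckTopology X) :=
    Equivalence.isDenseSubsite_inverse_of_isCocontinuous _ _ e
  haveI : (TopCat.Sheaf.pushforward A f).IsEquivalence :=
    inferInstanceAs ((e.sheafCongr (Opens.grothendieckTopology X)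
      (Opens.grothendieckTopology X₀) A).inverse).IsEquivalence
  exact (TopCat.Sheaf.pullbackPushforwardAdjunction A f).isEquivalence_left_of_isEquivalence_right

lemma isIso_res {F : TopCat.Sheaf A X}
    (hF : IsIso ((TopCat.Sheaf.pullbackPushforwardAdjunction A f).unit.app F))
    {U V : Opens X} (i : V ⟶ U) (h : (Opens.map f).obj U ≤ (Opens.map f).obj V) :
    IsIso (F.obj.map i.op) := by
  have key' : ∀ (η : F ⟶ (TopCat.Sheaf.pushforward A f).obj ((TopCat.Sheaf.pullback A f).obj F))
      [IsIso η], IsIso (F.obj.map i.op) := by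
    intro η _
    haveI : IsIso η.hom := (TopCat.Sheaf.forget A X).map_isIso η
    haveI : IsIso ((Opens.map f).map i) :=
      ⟨⟨homOfLE h, Subsingleton.elim _ _, Subsingleton.elim _ _⟩⟩
    have h4 : IsIso (((TopCat.Sheaf.pullback A f).obj F).obj.map ((Opens.map f).map i).op) :=
      inferInstance
    have h3 : IsIso (η.hom.app (op U)) := inferInstance
    have key : F.obj.map i.op ≫ η.hom.app (op V) =
        η.hom.app (op U) ≫ ((TopCat.Sheaf.pullback A f).obj F).obj.map ((Opens.map f).map i).op :=
      η.hom.naturality i.op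
    haveI : IsIso (F.obj.map i.op ≫ η.hom.app (op V)) := by
      rw [key]; exact IsIso.comp_isIso' h3 h4
    exact IsIso.of_isIso_comp_right (F.obj.map i.op) (η.hom.app (op V))
  exact @key' ((TopCat.Sheaf.pullbackPushforwardAdjunction A f).unit.app F) hF

lemma injective_of_unit_iso (A₀ : A) (hA₀ : IsTerminal A₀ → False)
    (hunit : ∀ F : TopCat.Sheaf A X,
      IsIso ((TopCat.Sheaf.pullbackPushforwardAdjunction A f).unit.app F)) :
    Function.Injective (fun U : Opens X => (Opens.map f).obj U) := by
  classical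
  have hle : ∀ U V : Opens X, (Opens.map f).obj U ≤ (Opens.map f).obj V → U ≤ V := by
    intro U V h y hyU
    by_contra hyV
    let F : TopCat.Sheaf A X := skyscraperSheaf y A₀
    have h' : (Opens.map f).obj U ≤ (Opens.map f).obj (U ⊓ V) := fun x hx => ⟨hx, h hx⟩
    haveI := isIso_res f A (hunit F) (homOfLE (inf_le_left : U ⊓ V ≤ U)) h'
    have hyUV : y ∉ U ⊓ V := fun hh => hyV hh.2
    have t1 : IsTerminal (F.obj.obj (op (U ⊓ V))) :=
      terminalIsTerminal.ofIso (eqToIso (if_neg hyUV).symm)
    have t2 : IsTerminal (F.obj.obj (op U)) :=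
      t1.ofIso (asIso (F.obj.map (homOfLE (inf_le_left : U ⊓ V ≤ U)).op)).symm
    exact hA₀ (t2.ofIso (eqToIso (if_pos hyU)))
  intro U V h
  exact le_antisymm (hle U V (le_of_eq h)) (hle V U (le_of_eq h.symm))

lemma exists_opens (G : TopCat.Sheaf A X₀)
    (hinj : ∀ x : X₀, Function.Injective (TopCat.Presheaf.stalkPushforward A f G.obj x))
    (W₀ : Opens X₀) (s₁ s₂ : ToType (G.obj.obj (op ((Opens.map f).obj ⊤))))
    (h : ∀ x : X₀, TopCat.Presheaf.germ G.obj ((Opens.map f).obj ⊤) x trivial s₁ =
      TopCat.Presheaf.germ G.obj ((Opens.map f).obj ⊤) x trivial s₂ ↔ x ∈ W₀) :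
    ∃ U : Opens X, (Opens.map f).obj U = W₀ := by
  let F : X.Presheaf A := (TopCat.Presheaf.pushforward A f).obj G.obj
  let Uset : Set X := {y | F.germ ⊤ y trivial s₁ = F.germ ⊤ y trivial s₂}
  have hopen : IsOpen Uset := by
    rw [isOpen_iff_forall_mem_open]
    intro y hy
    obtain ⟨W, hyW, iU, iV, heq⟩ := TopCat.Presheaf.germ_eq F (U := ⊤) (V := ⊤) y trivial trivial s₁ s₂ hy
    refine ⟨W, ?_, W.2, hyW⟩
    intro y' hy'
    show F.germ ⊤ y' trivial s₁ = F.germ ⊤ y' trivial s₂
    exact TopCat.Presheaf.germ_ext F W hy' iU iV heq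
  have hs : ∀ (x : X₀) (s : ToType (F.obj (op ⊤))),
      (TopCat.Presheaf.stalkPushforward A f G.obj x) (F.germ ⊤ (f x) trivial s) =
        TopCat.Presheaf.germ G.obj ((Opens.map f).obj ⊤) x trivial s := fun x s =>
    (ConcreteCategory.comp_apply (F.germ ⊤ (f x) trivial)
      (TopCat.Presheaf.stalkPushforward A f G.obj x) s).symm.trans
      (ConcreteCategory.congr_hom
        (TopCat.Presheaf.stalkPushforward_germ A f G.obj ⊤ x trivial) s)
  refine ⟨⟨Uset, hopen⟩, ?_⟩
  apply Opens.ext
  ext x
  show F.germ ⊤ (f x) trivial s₁ = F.germ ⊤ (f x) trivial s₂ ↔ x ∈ W₀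
  rw [← h x, ← hs x s₁, ← hs x s₂]
  exact ⟨fun hh => congrArg _ hh, fun hh => hinj x hh⟩

end

end Groth.Agent.Helper9.QHomeo
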