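import Mathlib
import Groth.Agent.Lib.Helper9.QHomeo

/-!
# Quasi-homeomorphisms from equivalences of sheaf categories (helper9)
-/

universe u
open CategoryTheory CategoryTheory.Limits Opposite TopologicalSpace

namespace Groth.Agent.Helper9.QHomeo

/-- the presheaf of all `ℤ`-valued functions. -/
def funPresheaf (X₀ : TopCat.{u}) : TopCat.Presheaf AddCommGrpCat.{u} X₀ where
  obj W := AddCommGrpCat.of (↥W.unop → ℤ)
  map {_ V} i := AddCommGrpCat.ofHom
    { toFun := fun g (x : ↥V.unop) => g (i.unop x)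
      map_zero' := rfl
      map_add' := fun _ _ => rfl }
  map_id _ := rfl
  map_comp _ _ := rfl

lemma funPresheaf_isSheaf (X₀ : TopCat.{u}) : (funPresheaf X₀).IsSheaf := by
  rw [TopCat.Presheaf.isSheaf_iff_isSheaf_comp (forget AddCommGrpCat.{u})]
  refine TopCat.Presheaf.isSheaf_of_iso (F := TopCat.presheafToTypes X₀ (fun _ => ℤ)) ?_
    (TopCat.Presheaf.toTypes_isSheaf X₀ _)
  exact NatIso.ofComponents (fun W => Iso.refl _) (fun i => by rfl)

/-- the sheaf of all `ℤ`-valued functions. -/
def funSheaf (X₀ : TopCat.{u}) : TopCat.Sheaf AddCommGrpCat.{u} X₀ :=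
  ⟨funPresheaf X₀, funPresheaf_isSheaf X₀⟩

variable {X₀ X : TopCat.{u}} (f : X₀ ⟶ X)

theorem bij_of_isEquivalence_type (h : (TopCat.Sheaf.pullback (Type u) f).IsEquivalence) :
    Function.Bijective (fun U : Opens X => (Opens.map f).obj U) := by
  haveI := h
  haveI : (TopCat.Sheaf.pushforward (Type u) f).IsEquivalence :=
    (TopCat.Sheaf.pullbackPushforwardAdjunction (Type u)
      f).isEquivalence_right_of_isEquivalence_left
  have hunit : ∀ F : TopCat.Sheaf (Type u) X,
      IsIso ((TopCat.Sheaf.pullbackPushforwardAdjunction (Type u) f).unit.app F) :=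
    fun F => inferInstance
  have hcounit : ∀ G : TopCat.Sheaf (Type u) X₀,
      IsIso ((TopCat.Sheaf.pullbackPushforwardAdjunction (Type u) f).counit.app G) :=
    fun G => inferInstance
  refine ⟨injective_of_unit_iso f (Type u) (ULift.{u} Bool) ?_ hunit, fun W₀ => ?_⟩
  · intro ht
    have hu := Types.isTerminalEquivUnique _ ht
    have : (⟨true⟩ : ULift.{u} Bool) = ⟨false⟩ :=
      (hu.eq_default _).trans (hu.eq_default _).symm
    exact absurd (congrArg ULift.down this) (by decide)
  · classical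
    let G : TopCat.Sheaf (Type u) X₀ := TopCat.sheafToTypes X₀ (fun _ => ULift.{u} Bool)
    let s₁ : (G.obj.obj (op ((Opens.map f).obj ⊤))) := fun _ => ⟨false⟩
    let s₂ : (G.obj.obj (op ((Opens.map f).obj ⊤))) := fun y => ⟨decide ((y : X₀) ∉ W₀)⟩
    refine exists_opens f (Type u) G (fun x => ?_) W₀ s₁ s₂ (fun x => ?_)
    · haveI := @SetShf.isIso_stalkPushforward_of_isIso_counit _ _ f x G (hcounit G)
      exact (ConcreteCategory.bijective_of_isIso _).1
    · constructor
      · intro hg
        obtain ⟨W, hxW, iU, iV, heq⟩ :=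
          TopCat.Presheaf.germ_eq G.obj (U := (Opens.map f).obj ⊤) (V := (Opens.map f).obj ⊤)
            x trivial trivial s₁ s₂ hg
        have h2 : (⟨false⟩ : ULift.{u} Bool) = ⟨decide (x ∉ W₀)⟩ := congrFun heq ⟨x, hxW⟩
        by_contra hx
        rw [decide_eq_true hx] at h2
        exact absurd (congrArg ULift.down h2) (by decide)
      · intro hx
        have hW₀ : W₀ ≤ (Opens.map f).obj ⊤ := fun _ _ => trivial
        refine TopCat.Presheaf.germ_ext G.obj W₀ hx (homOfLE hW₀) (homOfLE hW₀) ?_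
        funext y
        show (⟨false⟩ : ULift.{u} Bool) = ⟨decide ((y : X₀) ∉ W₀)⟩
        rw [decide_eq_false (not_not.2 y.2)]

theorem bij_of_isEquivalence_ab
    (h : (TopCat.Sheaf.pullback AddCommGrpCat.{u} f).IsEquivalence) :
    Function.Bijective (fun U : Opens X => (Opens.map f).obj U) := by
  haveI := h
  haveI : (TopCat.Sheaf.pushforward AddCommGrpCat.{u} f).IsEquivalence :=
    (TopCat.Sheaf.pullbackPushforwardAdjunction AddCommGrpCat.{u}
      f).isEquivalence_right_of_isEquivalence_left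
  have hunit : ∀ F : TopCat.Sheaf AddCommGrpCat.{u} X,
      IsIso ((TopCat.Sheaf.pullbackPushforwardAdjunction AddCommGrpCat.{u} f).unit.app F) :=
    fun F => inferInstance
  have hcounit : ∀ G : TopCat.Sheaf AddCommGrpCat.{u} X₀,
      IsIso ((TopCat.Sheaf.pullbackPushforwardAdjunction AddCommGrpCat.{u} f).counit.app G) :=
    fun G => inferInstance
  refine ⟨injective_of_unit_iso f AddCommGrpCat.{u} (AddCommGrpCat.of (ULift.{u} ℤ)) ?_ hunit,
    fun W₀ => ?_⟩
  · intro ht
    haveI : Subsingleton (ULift.{u} ℤ) := AddCommGrpCat.subsingleton_of_isZero ht.isZero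
    have : (⟨1⟩ : ULift.{u} ℤ) = ⟨0⟩ := Subsingleton.elim _ _
    exact absurd (congrArg ULift.down this) one_ne_zero
  · classical
    let G : TopCat.Sheaf AddCommGrpCat.{u} X₀ := funSheaf X₀
    let s₁ : (G.obj.obj (op ((Opens.map f).obj ⊤))) := fun _ => (0 : ℤ)
    let s₂ : (G.obj.obj (op ((Opens.map f).obj ⊤))) :=
      fun y => if (y : X₀) ∈ W₀ then (0 : ℤ) else 1
    refine exists_opens f AddCommGrpCat.{u} G (fun x => ?_) W₀ s₁ s₂ (fun x => ?_)
    · haveI := @StalkPull.isIso_stalkPushforward_of_isIso_counit _ _ f x G (hcounit G)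
      exact (ConcreteCategory.bijective_of_isIso _).1
    · constructor
      · intro hg
        obtain ⟨W, hxW, iU, iV, heq⟩ :=
          TopCat.Presheaf.germ_eq G.obj (U := (Opens.map f).obj ⊤) (V := (Opens.map f).obj ⊤)
            x trivial trivial s₁ s₂ hg
        have h2 : (0 : ℤ) = if x ∈ W₀ then (0 : ℤ) else 1 := congrFun heq ⟨x, hxW⟩
        by_contra hx
        rw [if_neg hx] at h2
        exact zero_ne_one h2
      · intro hx
        have hW₀ : W₀ ≤ (Opens.map f).obj ⊤ := fun _ _ => trivial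
        refine TopCat.Presheaf.germ_ext G.obj W₀ hx (homOfLE hW₀) (homOfLE hW₀) ?_
        funext y
        show (0 : ℤ) = if (y : X₀) ∈ W₀ then (0 : ℤ) else 1
        rw [if_pos y.2]

end Groth.Agent.Helper9.QHomeo
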