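import Mathlib
import Groth.Agent.Lib.Helper18.SymAlg10
import Groth.Agent.Lib.Helper18.ProjQ
import Groth.Agent.S12146

/-!
# `r_{L,ε}` is quasi-compact and dominant (EGA II 3.7.x; helper9, for S12692)

* `exists_homogeneous_not_mem`: a point of `Proj` misses some homogeneous element of positive degree.
* `XT_inf_eq`: over an affine open `V` on which `L` has a basis `ℓ` and `ψ♭(s)|V = c·ℓ^n`, the open `X_t ∩ V`
  is the basic open `D(c)`.
* `isCompact_XT`: on a quasi-compact `X` the opens `X_t` are quasi-compact.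
* `main`: S12692.
-/

set_option autoImplicit false
universe u
open CategoryTheory CategoryTheory.Limits AlgebraicGeometry TopologicalSpace Opposite
open scoped HomogeneousIdeal

noncomputable section

namespace Groth.Agent.Helper9.RLeps

open Groth.Agent.Helper18.SymAlg

/-- a point of `Proj` misses some homogeneous element of positive degree -/
theorem exists_homogeneous_not_mem {A : Type u} [CommRing A] (𝒜 : ℕ → AddSubgroup A) [GradedRing 𝒜]
    (y : ProjectiveSpectrum 𝒜) :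
    ∃ (n : ℕ) (_ : 0 < n) (s : A) (_ : s ∈ 𝒜 n), s ∉ y.asHomogeneousIdeal := by
  classical
  by_contra hcon
  apply y.not_irrelevant_le
  intro x hx
  have hx0 : GradedRing.projZeroRingHom 𝒜 x = 0 := hx
  rw [GradedRing.projZeroRingHom_apply] at hx0
  have hsum := DirectSum.sum_support_decompose 𝒜 x
  show x ∈ y.asHomogeneousIdeal.toIdeal
  rw [← hsum]
  refine Ideal.sum_mem _ (fun i _ => ?_)
  rcases Nat.eq_zero_or_pos i with rfl | hi
  · rw [hx0]
    exact Ideal.zero_mem _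
  · by_contra h
    exact hcon ⟨i, hi, _, SetLike.coe_mem _, h⟩

section XTcompact

variable {Y X : Scheme.{u}} {q : X ⟶ Y} (L : X.Modules) [L.IsQuasicoherent]
  (hL : PicF.IsInvertible L)
  {𝒮 : RelProj.QCGrAlg Y} (𝒮L : RelProj.QCGrAlg X) (j : L ⟶ 𝒮L.toModule)
  (hj : RelProj.IsGrSymAlg L 𝒮L j) (u : RelProj.QGrHom q 𝒮 𝒮L)

theorem le_pre (q : X ⟶ Y) (V : X.Opens) : V ≤ q ⁻¹ᵁ ⊤ :=
  le_top.trans (Scheme.Hom.preimage_top q).ge

theorem map_refl_apply (V : X.Opens) (ℓ : Γ(L, V)) :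
    L.presheaf.map (homOfLE (le_refl V)).op ℓ = ℓ := by
  have h : (homOfLE (le_refl V)).op = 𝟙 (op V) := rfl
  rw [h, L.presheaf.map_id]
  rfl

theorem appLE_res (s : 𝒮.presheaf.obj (op ⊤)) {V W : X.Opens} (hWV : W ≤ V) :
    (𝒮L.presheaf.map (homOfLE hWV).op).hom ((u.appLE ⊤ V (le_pre q V)).hom s) =
      (u.appLE ⊤ W (le_pre q W)).hom s := by
  have := congrArg (fun k => k.hom s) (u.toQHom.appLE_map (U := ⊤) (le_pre q V) hWV)
  exact this

include hj in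
theorem exists_coeff (hY : IsAffineOpen (⊤ : Y.Opens)) (n : ℕ) (s : 𝒮.presheaf.obj (op ⊤))
    (hs : s ∈ 𝒮.deg ⊤ hY n) (V : X.Opens) (hV : IsAffineOpen V) (ℓ : Γ(L, V))
    (hℓ : Function.Bijective (fun r : Γ(X, V) => r • ℓ)) :
    ∃ c : Γ(X, V), (u.appLE ⊤ V (le_pre q V)).hom s =
      (𝒮L.str.app (op V)).hom c * jU L 𝒮L.toQCAlg j V ℓ ^ n :=
  (mem_deg_iff L 𝒮L j hj V hV ℓ hℓ n _).mp (u.map_mem ⊤ hY V hV (le_pre q V) hs)

theorem hc_res (n : ℕ) (s : 𝒮.presheaf.obj (op ⊤)) {V W : X.Opens} (hWV : W ≤ V) (ℓ : Γ(L, V))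
    (c : Γ(X, V))
    (hc : (u.appLE ⊤ V (le_pre q V)).hom s =
      (𝒮L.str.app (op V)).hom c * jU L 𝒮L.toQCAlg j V ℓ ^ n) :
    (u.appLE ⊤ W (le_pre q W)).hom s =
      (𝒮L.str.app (op W)).hom ((X.presheaf.map (homOfLE hWV).op).hom c) *
        jU L 𝒮L.toQCAlg j W (L.presheaf.map (homOfLE hWV).op ℓ) ^ n := by
  rw [← appLE_res 𝒮L u s hWV, hc, map_mul, map_pow, jU_res]
  have h1 := congrArg (fun k => k.hom c) (𝒮L.str.naturality (homOfLE hWV).op)
  have h2 : (𝒮L.presheaf.map (homOfLE hWV).op).hom ((𝒮L.str.app (op V)).hom c) =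
      (𝒮L.str.app (op W)).hom ((X.presheaf.map (homOfLE hWV).op).hom c) := h1.symm
  rw [h2]
  rfl

include hj in
/-- over an affine open `V` on which `L` has a basis `ℓ` and `ψ♭(s)|V = c·ℓ^n`: `X_t ∩ V = D(c)`. -/
theorem XT_inf_eq (n : ℕ) (s : 𝒮.presheaf.obj (op ⊤))
    (V : X.Opens) (hV : IsAffineOpen V) (ℓ : Γ(L, V))
    (hℓ : ∀ (W : X.Opens) (hW : W ≤ V),
      Function.Bijective (fun r : Γ(X, W) => r • L.presheaf.map (homOfLE hW).op ℓ))
    (c : Γ(X, V))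
    (hc : (u.appLE ⊤ V (le_pre q V)).hom s =
      (𝒮L.str.app (op V)).hom c * jU L 𝒮L.toQCAlg j V ℓ ^ n) :
    XT 𝒮L u n s ⊓ V = X.basicOpen c := by
  apply le_antisymm
  · intro y hy
    have hy1 : y ∈ XT 𝒮L u n s := hy.1
    have hyV : y ∈ V := hy.2
    obtain ⟨V₁, hV₁, hyV₁, H₁⟩ := (mem_XT_iff 𝒮L u n s y).mp hy1
    obtain ⟨a, b, hab, hya⟩ := exists_basicOpen_le_affine_inter hV₁ hV y ⟨hyV₁, hyV⟩
    have hW : IsAffineOpen (X.basicOpen a) := hV₁.basicOpen a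
    have hWV : X.basicOpen a ≤ V := hab ▸ X.basicOpen_le b
    have H₂ := deg_subset_span_basicOpen 𝒮L V₁ hV₁ a n _ H₁
    have e2 := appLE_res 𝒮L u s (X.basicOpen_le a)
    rw [e2] at H₂
    have hbij := hℓ _ hWV
    have hTn : jU L 𝒮L.toQCAlg j (X.basicOpen a) (L.presheaf.map (homOfLE hWV).op ℓ) ^ n ∈
        𝒮L.deg (X.basicOpen a) hW n := by
      have := SetLike.pow_mem_graded n
        (jU_mem_deg_one L 𝒮L j hj (X.basicOpen a) hW (L.presheaf.map (homOfLE hWV).op ℓ))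
      simpa using this
    obtain ⟨g, hg⟩ := Ideal.mem_span_singleton'.mp (H₂ hTn)
    rw [hc_res L 𝒮L j u n s hWV ℓ c hc] at hg
    obtain ⟨p, rfl⟩ := (poly_bijective L 𝒮L j hj (X.basicOpen a) hW _ hbij).2 g
    have hinj := (poly_bijective L 𝒮L j hj (X.basicOpen a) hW _ hbij).1
    have h1 : Polynomial.eval₂RingHom (𝒮L.str.app (op (X.basicOpen a))).hom
          (jU L 𝒮L.toQCAlg j (X.basicOpen a) (L.presheaf.map (homOfLE hWV).op ℓ))
          (p * (Polynomial.C ((X.presheaf.map (homOfLE hWV).op).hom c) * Polynomial.X ^ n)) =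
        Polynomial.eval₂RingHom (𝒮L.str.app (op (X.basicOpen a))).hom
          (jU L 𝒮L.toQCAlg j (X.basicOpen a) (L.presheaf.map (homOfLE hWV).op ℓ))
          (Polynomial.X ^ n) := by
      rw [map_mul, map_mul, map_pow, Polynomial.coe_eval₂RingHom, Polynomial.eval₂_C,
        Polynomial.eval₂_X]
      exact hg
    have h2 := hinj h1
    have h3 := congrArg (fun p => Polynomial.coeff p n) h2
    have e1 : (p * (Polynomial.C ((X.presheaf.map (homOfLE hWV).op).hom c) *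
        Polynomial.X ^ n)).coeff n = p.coeff 0 * (X.presheaf.map (homOfLE hWV).op).hom c := by
      rw [← mul_assoc, Polynomial.coeff_mul_X_pow', if_pos le_rfl, Nat.sub_self,
        Polynomial.coeff_mul_C]
    have e3 : (Polynomial.X ^ n : Polynomial Γ(X, X.basicOpen a)).coeff n = 1 := by simp
    have h4 : p.coeff 0 * (X.presheaf.map (homOfLE hWV).op).hom c = 1 := by
      rw [← e1, ← e3]
      exact h3
    have hunit : IsUnit ((X.presheaf.map (homOfLE hWV).op).hom c) :=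
      IsUnit.of_mul_eq_one (p.coeff 0) (by rw [mul_comm]; exact h4)
    have hres : X.basicOpen ((X.presheaf.map (homOfLE hWV).op).hom c) =
        X.basicOpen a ⊓ X.basicOpen c := X.basicOpen_res c (homOfLE hWV).op
    have htop : X.basicOpen ((X.presheaf.map (homOfLE hWV).op).hom c) = X.basicOpen a :=
      X.basicOpen_of_isUnit hunit
    have hle : X.basicOpen a ≤ X.basicOpen c := by
      rw [← htop, hres]
      exact inf_le_right
    exact hle hya
  · intro y hy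
    have hW : IsAffineOpen (X.basicOpen c) := hV.basicOpen c
    have hWV : X.basicOpen c ≤ V := X.basicOpen_le c
    refine ⟨?_, hWV hy⟩
    refine (mem_XT_iff 𝒮L u n s y).mpr ⟨X.basicOpen c, hW, hy, ?_⟩
    intro b hb
    have hbij := hℓ _ hWV
    obtain ⟨a, rfl⟩ := (mem_deg_iff L 𝒮L j hj (X.basicOpen c) hW _ hbij n b).mp hb
    have htW := hc_res L 𝒮L j u n s hWV ℓ c hc
    have hu : IsUnit ((X.presheaf.map (homOfLE hWV).op).hom c) :=
      RingedSpace.isUnit_res_basicOpen _ c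
    obtain ⟨v, hv⟩ := hu
    rw [SetLike.mem_coe, Ideal.mem_span_singleton']
    refine ⟨(𝒮L.str.app (op (X.basicOpen c))).hom (a * ↑v⁻¹), ?_⟩
    rw [htW, ← hv, ← mul_assoc, ← map_mul, mul_assoc a, Units.inv_mul, mul_one]

include hL hj in
/-- on a quasi-compact scheme the opens `X_t` are quasi-compact -/
theorem isCompact_XT [CompactSpace X] (hY : IsAffineOpen (⊤ : Y.Opens)) (n : ℕ)
    (s : 𝒮.presheaf.obj (op ⊤)) (hs : s ∈ 𝒮.deg ⊤ hY n) :
    IsCompact (XT 𝒮L u n s : Set X) := by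
  classical
  have hloc : ∀ x : X, ∃ (V : X.Opens) (_ : IsAffineOpen V) (_ : x ∈ V) (ℓ : Γ(L, V)),
      ∀ (W : X.Opens) (hW : W ≤ V),
        Function.Bijective (fun r : Γ(X, W) => r • L.presheaf.map (homOfLE hW).op ℓ) :=
    fun x => exists_local_generator L hL x
  choose V hV hxV ℓ hℓ using hloc
  have hc0 : ∀ x, ∃ c : Γ(X, V x), (u.appLE ⊤ (V x) (le_pre q (V x))).hom s =
      (𝒮L.str.app (op (V x))).hom c * jU L 𝒮L.toQCAlg j (V x) (ℓ x) ^ n := by
    intro x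
    have hb := hℓ x (V x) le_rfl
    rw [map_refl_apply] at hb
    exact exists_coeff L 𝒮L j hj u hY n s hs (V x) (hV x) (ℓ x) hb
  choose c hc using hc0
  obtain ⟨F, hF⟩ := isCompact_univ.elim_finite_subcover (fun x => ((V x : X.Opens) : Set X))
    (fun x => (V x).isOpen) (fun y _ => Set.mem_iUnion.2 ⟨y, hxV y⟩)
  have hEq : (XT 𝒮L u n s : Set X) = ⋃ x ∈ F, ((X.basicOpen (c x) : X.Opens) : Set X) := by
    ext y
    constructor
    · intro hy
      obtain ⟨x, hxF, hyx⟩ := Set.mem_iUnion₂.1 (hF (Set.mem_univ y))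
      refine Set.mem_iUnion₂.2 ⟨x, hxF, ?_⟩
      have h := XT_inf_eq L 𝒮L j hj u n s (V x) (hV x) (ℓ x) (hℓ x) (c x) (hc x)
      have h' : y ∈ XT 𝒮L u n s ⊓ V x := ⟨hy, hyx⟩
      rw [h] at h'
      exact h'
    · intro hy
      obtain ⟨x, hxF, hyx⟩ := Set.mem_iUnion₂.1 hy
      have h := XT_inf_eq L 𝒮L j hj u n s (V x) (hV x) (ℓ x) (hℓ x) (c x) (hc x)
      have h' : y ∈ XT 𝒮L u n s ⊓ V x := by
        rw [h]
        exact hyx
      exact h'.1
  rw [hEq]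
  exact F.isCompact_biUnion (fun x _ => ((hV x).basicOpen (c x)).isCompact)

end XTcompact

section Main

variable {X Y P PL : Scheme.{u}}

/-- **S12692** -/
theorem main [CompactSpace X]
    (f : X ⟶ Y) (hY : IsAffineOpen (⊤ : Y.Opens))
    (L : X.Modules) (hL : PicF.IsInvertible L) (hLq : Coh.IsQCoh L)
    (𝒮L : RelProj.QCGrAlg X) (jL : L ⟶ 𝒮L.toModule) (hjL : RelProj.IsGrSymAlg L 𝒮L jL)
    (pL : PL ⟶ X) (chartL : ∀ (U : X.Opens) (hU : IsAffineOpen U), (((pL ⁻¹ᵁ U : PL.Opens) : Scheme.{u}) ≅ Proj (𝒮L.deg U hU)))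
    (hPL : RelProj.IsRelProj 𝒮L pL chartL)
    (𝒜 : RelProj.QCGrAlg Y) (u : RelProj.QGrHom f 𝒜 𝒮L)
    (p : P ⟶ Y) (chart : ∀ (U : Y.Opens) (hU : IsAffineOpen U), (((p ⁻¹ᵁ U : P.Opens) : Scheme.{u}) ≅ Proj (𝒜.deg U hU)))
    (hP : RelProj.IsRelProj 𝒜 p chart)
    (r : ((RelProj.domQ u pL chartL : PL.Opens) : Scheme.{u}) ⟶ P)
    (hr : RelProj.IsProjQMapOn u p chart pL chartL (RelProj.domQ u pL chartL) r)
    (hu : Function.Bijective (u.app ⊤).hom) :
    QuasiCompact r ∧ IsDominant r := by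
  classical
  haveI : L.IsQuasicoherent := hLq
  haveI hiso : IsIso pL := Groth.Agent.S12143.result L hL hLq 𝒮L jL hjL pL chartL hPL
  refine ⟨?_, ?_⟩
  · -- quasi-compactness
    let I := {t : ℕ × 𝒜.presheaf.obj (op ⊤) // 0 < t.1 ∧ t.2 ∈ 𝒜.deg ⊤ hY t.1}
    let U : I → P.affineOpens := fun i =>
      ⟨Dp p chart hY i.1.2, isAffineOpen_Dp hY i.1.1 i.2.1 i.1.2 i.2.2⟩
    have hUtop : ⨆ i, ((U i : P.affineOpens) : P.Opens) = ⊤ := by
      rw [eq_top_iff]
      intro z _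
      have hz : z ∈ (RelProj.emb p chart ⊤ hY).opensRange := by
        rw [Groth.Agent.Helper18.ProjQ.opensRange_emb]
        trivial
      obtain ⟨y, rfl⟩ := hz
      obtain ⟨n, hn, s, hs, hsy⟩ := exists_homogeneous_not_mem (𝒜.deg ⊤ hY) y
      exact Opens.mem_iSup.mpr ⟨⟨(n, s), hn, hs⟩,
        ⟨y, (Proj.mem_basicOpen _ _ _).mpr hsy, rfl⟩⟩
    rw [HasAffineProperty.iff_of_iSup_eq_top (P := @QuasiCompact) U hUtop]
    intro i
    have hn : 0 < i.1.1 := i.2.1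
    have hs : i.1.2 ∈ 𝒜.deg ⊤ hY i.1.1 := i.2.2
    have hXT := isCompact_XT L hL 𝒮L jL hjL u hY i.1.1 i.1.2 hs
    have heq : pL ''ᵁ ((RelProj.domQ u pL chartL).ι ''ᵁ (r ⁻¹ᵁ Dp p chart hY i.1.2)) =
        XT 𝒮L u i.1.1 i.1.2 := by
      ext x
      constructor
      · rintro ⟨_, ⟨x₀, hx₀, rfl⟩, rfl⟩
        exact (map_mem_Dp_iff L hL 𝒮L jL hjL u hP hPL r hr hY i.1.1 hn i.1.2 hs x₀).mp hx₀
      · intro hx
        obtain ⟨x₁, rfl⟩ := pL.surjective x
        have hG := mem_domQ_of_mem_XT L hL 𝒮L jL hjL u hPL hY i.1.1 hn i.1.2 hs x₁ hx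
        exact ⟨x₁, ⟨⟨x₁, hG⟩,
          (map_mem_Dp_iff L hL 𝒮L jL hjL u hP hPL r hr hY i.1.1 hn i.1.2 hs ⟨x₁, hG⟩).mpr hx,
          rfl⟩, rfl⟩
    have hc1 : IsCompact ((pL ''ᵁ ((RelProj.domQ u pL chartL).ι ''ᵁ
        (r ⁻¹ᵁ Dp p chart hY i.1.2)) : X.Opens) : Set X) := by
      rw [heq]
      exact hXT
    have hc2 : IsCompact (((RelProj.domQ u pL chartL).ι ''ᵁ
        (r ⁻¹ᵁ Dp p chart hY i.1.2) : PL.Opens) : Set PL) :=
      pL.isOpenEmbedding.isEmbedding.isCompact_iff.mpr hc1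
    have hc3 : IsCompact ((r ⁻¹ᵁ Dp p chart hY i.1.2 :
        ((RelProj.domQ u pL chartL : PL.Opens) : Scheme.{u}).Opens) :
        Set ((RelProj.domQ u pL chartL : PL.Opens) : Scheme.{u})) :=
      (RelProj.domQ u pL chartL).ι.isOpenEmbedding.isEmbedding.isCompact_iff.mpr hc2
    exact isCompact_iff_compactSpace.mp hc3
  · -- dominance
    refine (Groth.Agent.S12146.result f L hL hLq 𝒜 𝒮L jL hjL u p chart hP pL chartL hPL r hr
      hY).mpr ?_
    intro n hn s hs hloc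
    choose V hV hxV hnil using hloc
    obtain ⟨F, hF⟩ := isCompact_univ.elim_finite_subcover (fun x => ((V x : X.Opens) : Set X))
      (fun x => (V x).isOpen) (fun y _ => Set.mem_iUnion.2 ⟨y, hxV y⟩)
    choose k hk using hnil
    have hN : ∀ x ∈ F, ((u.appLE ⊤ (V x) (le_pre f (V x))).hom s) ^ (F.sup k) = 0 :=
      fun x hx => pow_eq_zero_of_le (Finset.le_sup hx) (hk x)
    have hz : (u.app ⊤).hom (s ^ (F.sup k)) = 0 := by
      refine TopCat.Sheaf.eq_of_locally_eq'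
        (⟨𝒮L.presheaf, 𝒮L.isSheaf⟩ : TopCat.Sheaf CommRingCat.{u} X.carrier)
        (fun x : F => V x.1) (f ⁻¹ᵁ ⊤) (fun x => homOfLE (le_pre f (V x.1))) ?_ _ 0
        (fun x => ?_)
      · intro y _
        obtain ⟨x, hxF, hyx⟩ := Set.mem_iUnion₂.1 (hF (Set.mem_univ y))
        exact Opens.mem_iSup.mpr ⟨⟨x, hxF⟩, hyx⟩
      · rw [map_zero]
        have h1 := hN x.1 x.2
        rw [← map_pow] at h1
        exact h1
    have h0 : s ^ (F.sup k) = 0 := hu.1 (hz.trans (map_zero _).symm)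
    exact ⟨F.sup k, h0⟩

end Main

end Groth.Agent.Helper9.RLeps
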