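import Mathlib

/-!
# A finite module over a Noetherian local ring which is projective modulo every power of the
maximal ideal is free
-/

set_option autoImplicit false
set_option linter.unusedSectionVars false
set_option linter.style.haveILetI false

universe u v

namespace Groth.Agent.Helper9.RankOmega

open IsLocalRing TensorProduct

variable {R : Type u} [CommRing R] [IsLocalRing R] [IsNoetherianRing R] {M : Type v}
  [AddCommGroup M] [Module R M] [Module.Finite R M]

theorem free_of_projective_quotients
    (h : ∀ n : ℕ, Module.Projective (R ⧸ maximalIdeal R ^ n) ((R ⧸ maximalIdeal R ^ n) ⊗[R] M)) :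
    Module.Free R M := by
  classical
  let w := Module.Free.chooseBasis (ResidueField R) (ResidueField R ⊗[R] M)
  obtain ⟨v, hv⟩ := (TensorProduct.mk_surjective R M (ResidueField R)
    Ideal.Quotient.mk_surjective).comp_left w
  have hvw : ∀ j, (1 : ResidueField R) ⊗ₜ[R] v j = w j := fun j => congr_fun hv j
  have hspan : Submodule.span R (Set.range v) = ⊤ :=
    IsLocalRing.span_eq_top_of_tmul_eq_basis v w hvw
  refine Module.Free.of_basis (Module.Basis.mk ?_ hspan.ge)
  rw [linearIndependent_iff']
  intro s f hf i hi
  have key : ∀ n : ℕ, f i ∈ maximalIdeal R ^ n := by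
    intro n
    rcases Nat.eq_zero_or_pos n with rfl | hn
    · rw [pow_zero, Ideal.one_eq_top]
      trivial
    have hle : maximalIdeal R ^ n ≤ maximalIdeal R := Ideal.pow_le_self hn.ne'
    have hne : maximalIdeal R ^ n ≠ ⊤ := fun htop =>
      (IsLocalRing.maximalIdeal.isMaximal R).ne_top (top_le_iff.mp (htop ▸ hle))
    haveI : Nontrivial (R ⧸ maximalIdeal R ^ n) := Ideal.Quotient.nontrivial_iff.mpr hne
    haveI : IsLocalRing (R ⧸ maximalIdeal R ^ n) :=
      IsLocalRing.of_surjective' (Ideal.Quotient.mk (maximalIdeal R ^ n))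
        Ideal.Quotient.mk_surjective
    haveI := h n
    haveI : Module.Free (R ⧸ maximalIdeal R ^ n) ((R ⧸ maximalIdeal R ^ n) ⊗[R] M) :=
      Module.free_of_flat_of_isLocalRing
    letI : Algebra (R ⧸ maximalIdeal R ^ n) (ResidueField R) :=
      (Ideal.Quotient.factor hle).toAlgebra
    haveI : IsScalarTower R (R ⧸ maximalIdeal R ^ n) (ResidueField R) :=
      IsScalarTower.of_algebraMap_eq (fun x => rfl)
    -- the rank
    have hrank : Fintype.card (Module.Free.ChooseBasisIndex (ResidueField R) (ResidueField R ⊗[R] M)) =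
        Module.finrank (R ⧸ maximalIdeal R ^ n) ((R ⧸ maximalIdeal R ^ n) ⊗[R] M) := by
      rw [← Module.finrank_eq_card_chooseBasisIndex,
        ← Module.finrank_baseChange (R := ResidueField R) (S := R ⧸ maximalIdeal R ^ n)
          (M' := (R ⧸ maximalIdeal R ^ n) ⊗[R] M)]
      exact (TensorProduct.AlgebraTensorModule.cancelBaseChange R (R ⧸ maximalIdeal R ^ n)
        (ResidueField R) (ResidueField R) M).finrank_eq.symm
    -- spanning
    have hspan' : ⊤ ≤ Submodule.span (R ⧸ maximalIdeal R ^ n)
        (Set.range fun j => (1 : R ⧸ maximalIdeal R ^ n) ⊗ₜ[R] v j) := by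
      rintro z -
      induction z using TensorProduct.induction_on with
      | zero => exact Submodule.zero_mem _
      | add x y hx hy => exact Submodule.add_mem _ hx hy
      | tmul a m =>
        have hm : m ∈ Submodule.span R (Set.range v) := hspan ▸ Submodule.mem_top
        induction hm using Submodule.span_induction with
        | mem x hx =>
          obtain ⟨j, rfl⟩ := hx
          have : a ⊗ₜ[R] v j = a • ((1 : R ⧸ maximalIdeal R ^ n) ⊗ₜ[R] v j) := by
            rw [TensorProduct.smul_tmul', smul_eq_mul, mul_one]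
          rw [this]
          exact Submodule.smul_mem _ _ (Submodule.subset_span ⟨j, rfl⟩)
        | zero => rw [TensorProduct.tmul_zero]; exact Submodule.zero_mem _
        | add x y _ _ hx hy => rw [TensorProduct.tmul_add]; exact Submodule.add_mem _ hx hy
        | smul r x _ hx =>
          rw [TensorProduct.tmul_smul]
          have : r • (a ⊗ₜ[R] x) = (Ideal.Quotient.mk (maximalIdeal R ^ n) r) • (a ⊗ₜ[R] x) := by
            rw [TensorProduct.smul_tmul', TensorProduct.smul_tmul']
            rfl
          rw [this]
          exact Submodule.smul_mem _ _ hx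
    have hLI := linearIndependent_of_top_le_span_of_card_eq_finrank hspan' hrank
    have h0 : ∑ j ∈ s, (Ideal.Quotient.mk (maximalIdeal R ^ n) (f j)) •
        ((1 : R ⧸ maximalIdeal R ^ n) ⊗ₜ[R] v j) = 0 := by
      have h1 : (1 : R ⧸ maximalIdeal R ^ n) ⊗ₜ[R] (∑ j ∈ s, f j • v j) = 0 := by
        rw [hf, TensorProduct.tmul_zero]
      rw [TensorProduct.tmul_sum] at h1
      rw [← h1]
      refine Finset.sum_congr rfl fun j _ => ?_
      rw [TensorProduct.tmul_smul, TensorProduct.smul_tmul', TensorProduct.smul_tmul']
      rfl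
    have h2 := (linearIndependent_iff'.mp hLI) s
      (fun j => Ideal.Quotient.mk (maximalIdeal R ^ n) (f j)) h0 i hi
    exact Ideal.Quotient.eq_zero_iff_mem.mp h2
  have hbot := Ideal.iInf_pow_eq_bot_of_isLocalRing (maximalIdeal R)
    (IsLocalRing.maximalIdeal.isMaximal R).ne_top
  have : f i ∈ (⨅ n : ℕ, maximalIdeal R ^ n) := (Ideal.mem_iInf).mpr key
  rw [hbot] at this
  exact this

end Groth.Agent.Helper9.RankOmega
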