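import Mathlib
import Groth.Prelude.Def_EGA41
import Groth.Prelude.Def_CAlgX
import Groth.Agent.Lib.Helper9.RankOmega1
import Groth.Agent.Lib.Helper9.AdicFin2
import Groth.Agent.Lib.Helper9.JacCrit5

/-!
# The completed module of differentials of a formally smooth complete local algebra is free
-/

set_option autoImplicit false
set_option linter.unusedSectionVars false
set_option linter.style.haveILetI false

universe u v

namespace Groth.Agent.Helper9.RankOmega

open IsLocalRing TensorProduct

section Quot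

variable {R : Type u} [CommRing R] (I : Ideal R) (N : Type v) [AddCommGroup N] [Module R N]

/-- `N̂ / Iⁿ N̂ ≃ N / Iⁿ N` for a finitely generated ideal `I`. -/
noncomputable def quotEquiv (hI : I.FG) (n : ℕ) :
    (AdicCompletion I N ⧸ (I ^ n • ⊤ : Submodule R (AdicCompletion I N))) ≃ₗ[R]
      N ⧸ (I ^ n • ⊤ : Submodule R N) :=
  (Submodule.quotEquivOfEq _ _ (AdicCompletion.pow_smul_top_eq_ker_eval hI)).trans
    ((AdicCompletion.eval I N n).quotKerEquivOfSurjective (AdicCompletion.eval_surjective I N n))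

/-- `(R/Iⁿ) ⊗ N̂ ≃ (R/Iⁿ) ⊗ N`. -/
noncomputable def tensorEquiv (hI : I.FG) (n : ℕ) :
    (R ⧸ I ^ n) ⊗[R] AdicCompletion I N ≃ₗ[R ⧸ I ^ n] (R ⧸ I ^ n) ⊗[R] N :=
  ((TensorProduct.quotTensorEquivQuotSMul (AdicCompletion I N) (I ^ n)).trans
    ((quotEquiv I N hI n).trans
      (TensorProduct.quotTensorEquivQuotSMul N (I ^ n)).symm)).extendScalarsOfSurjective
    Ideal.Quotient.mk_surjective

/-- `(R/I) ⊗ N̂ ≃ (R/I) ⊗ N`. -/
noncomputable def tensorEquivOne (hI : I.FG) :
    (R ⧸ I) ⊗[R] AdicCompletion I N ≃ₗ[R ⧸ I] (R ⧸ I) ⊗[R] N :=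
  ((TensorProduct.quotTensorEquivQuotSMul (AdicCompletion I N) I).trans
    ((Submodule.quotEquivOfEq _ _ (by rw [pow_one])).trans ((quotEquiv I N hI 1).trans
      ((Submodule.quotEquivOfEq _ _ (by rw [pow_one])).trans
        (TensorProduct.quotTensorEquivQuotSMul N I).symm)))).extendScalarsOfSurjective
    Ideal.Quotient.mk_surjective

end Quot

section Main

variable {k₀ A : Type u} [Field k₀] [CommRing A] [IsLocalRing A] [IsNoetherianRing A]
  [Algebra k₀ A] [IsAdicComplete (maximalIdeal A) A]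

theorem finite_free_adicCompletion_kaehler
    (hfs : CAlgX.IsAdicFormallySmooth k₀ A (maximalIdeal A))
    [Algebra.EssFiniteType k₀ (ResidueField A)] :
    Module.Finite A (AdicCompletion (maximalIdeal A) (Ω[A⁄k₀])) ∧
      Module.Free A (AdicCompletion (maximalIdeal A) (Ω[A⁄k₀])) ∧
      Module.finrank A (AdicCompletion (maximalIdeal A) (Ω[A⁄k₀])) =
        Module.finrank (ResidueField A) (ResidueField A ⊗[A] Ω[A⁄k₀]) := by
  have hfg : (maximalIdeal A).FG := (maximalIdeal A).fg_of_isNoetherianRing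
  haveI : Algebra.EssFiniteType k₀ (A ⧸ maximalIdeal A) :=
    (inferInstance : Algebra.EssFiniteType k₀ (ResidueField A))
  haveI : Module.Finite (A ⧸ maximalIdeal A) (maximalIdeal A).Cotangent :=
    (inferInstance : Module.Finite (ResidueField A) (CotangentSpace A))
  haveI hfin : Module.Finite A (AdicCompletion (maximalIdeal A) (Ω[A⁄k₀])) :=
    AdicFin.finite_adicCompletion_kaehler (A := k₀) (maximalIdeal A)
  haveI hfree : Module.Free A (AdicCompletion (maximalIdeal A) (Ω[A⁄k₀])) := by
    apply free_of_projective_quotients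
    intro n
    haveI := JacCrit.projective_of_fs (maximalIdeal A) hfs (maximalIdeal A ^ n) ⟨n, le_rfl⟩
    exact Module.Projective.of_equiv (tensorEquiv (maximalIdeal A) (Ω[A⁄k₀]) hfg n).symm
  refine ⟨hfin, hfree, ?_⟩
  have h1 : Module.finrank (ResidueField A)
      (ResidueField A ⊗[A] AdicCompletion (maximalIdeal A) (Ω[A⁄k₀])) =
      Module.finrank A (AdicCompletion (maximalIdeal A) (Ω[A⁄k₀])) :=
    Module.finrank_baseChange
  rw [← h1]
  exact (tensorEquivOne (maximalIdeal A) (Ω[A⁄k₀]) hfg).finrank_eq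

end Main

end Groth.Agent.Helper9.RankOmega
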