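import Mathlib
import Groth.Prelude.Def_EGA41
import Groth.Prelude.Def_CAlgX
import Groth.Agent.Lib.Helper9.RankOmega2
import Groth.Agent.Lib.Helper9.RankOmega4
import Groth.Agent.Lib.Helper9.Cartier6
import Groth.Agent.Lib.Helper14.AdicFSKaehler
import Groth.Agent.Lib.Helper14.AdicFSRegular2

/-!
# The rank of the completed module of differentials (EGA 0_IV 22.2.x)
-/

set_option autoImplicit false
set_option linter.unusedSectionVars false
set_option linter.style.haveILetI false

universe u v

namespace Groth.Agent.Helper9.RankOmega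

open IsLocalRing TensorProduct KaehlerDifferential Groth.Agent.Helper9.Imperf

section ThetaCoker

variable {a K L M : Type*} [CommRing a] [CommRing K] [CommRing L] [CommRing M]
  [Algebra a K] [Algebra a L] [Algebra K L] [IsScalarTower a K L]
  [Algebra K M] [Algebra L M] [IsScalarTower K L M]

lemma range_theta' : LinearMap.range (theta a K L M) =
    LinearMap.range ((mapBaseChange a K L).baseChange M) := by
  unfold theta
  rw [LinearMap.range_comp, LinearEquiv.range, Submodule.map_top]

lemma ker_baseChange_map' : LinearMap.ker ((KaehlerDifferential.map a K L L).baseChange M) =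
    LinearMap.range ((mapBaseChange a K L).baseChange M) := by
  have hex := lTensor_exact M (KaehlerDifferential.exact_mapBaseChange_map a K L)
    (KaehlerDifferential.map_surjective a K L)
  ext z
  rw [LinearMap.mem_ker, LinearMap.mem_range]
  exact hex z

lemma surj_baseChange_map' :
    Function.Surjective ((KaehlerDifferential.map a K L L).baseChange M) := by
  have := LinearMap.lTensor_surjective M (KaehlerDifferential.map_surjective a K L)
  intro z
  obtain ⟨y, hy⟩ := this z
  exact ⟨y, hy⟩

/-- The cokernel of `theta` is the base change of `Ω_{L/K}`. -/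
noncomputable def cokerThetaEquiv' :
    ((M ⊗[L] Ω[L⁄a]) ⧸ LinearMap.range (theta a K L M)) ≃ₗ[M] M ⊗[L] Ω[L⁄K] := by
  have h : LinearMap.range (theta a K L M) =
      LinearMap.ker ((KaehlerDifferential.map a K L L).baseChange M) :=
    range_theta'.trans ker_baseChange_map'.symm
  have e1 : ((M ⊗[L] Ω[L⁄a]) ⧸ LinearMap.range (theta a K L M)) ≃ₗ[M]
      ((M ⊗[L] Ω[L⁄a]) ⧸ LinearMap.ker ((KaehlerDifferential.map a K L L).baseChange M)) :=
    Submodule.quotEquivOfEq _ _ h
  have e2 : ((M ⊗[L] Ω[L⁄a]) ⧸ LinearMap.ker ((KaehlerDifferential.map a K L L).baseChange M))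
      ≃ₗ[M] M ⊗[L] Ω[L⁄K] :=
    LinearMap.quotKerEquivOfSurjective _ surj_baseChange_map'
  exact e1.trans e2

lemma theta_injective_of_lTensor
    (h : Function.Injective ((mapBaseChange a K L).lTensor M)) :
    Function.Injective (theta a K L M) := by
  unfold theta
  rw [LinearMap.coe_comp]
  refine Function.Injective.comp ?_ (LinearEquiv.injective _)
  rw [LinearMap.baseChange_eq_ltensor]
  exact h

end ThetaCoker

section PAny

/-- Cartier's equality with arbitrary `ℤ`-algebra instances. -/
theorem P_any (K L : Type u) [Field K] [Field L] [Algebra K L] [Algebra.EssFiniteType K L]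
    [iK : Algebra ℤ K] [iL : Algebra ℤ L]
    [iT : @IsScalarTower ℤ K L iK.toSMul Algebra.toSMul iL.toSMul] : Cartier.P ℤ K L := by
  obtain rfl : iK = Ring.toIntAlgebra K := Subsingleton.elim _ _
  obtain rfl : iL = Ring.toIntAlgebra L := Subsingleton.elim _ _
  exact Cartier.P.of_essFiniteType K L

end PAny

section Assembly

variable {k₀ A : Type u} [Field k₀] [CommRing A] [IsLocalRing A] [IsNoetherianRing A]
  [Algebra k₀ A] [IsAdicComplete (maximalIdeal A) A]

theorem finrank_tensor_kaehler
    (hfs : CAlgX.IsAdicFormallySmooth k₀ A (maximalIdeal A))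
    [Algebra.EssFiniteType k₀ (ResidueField A)] :
    (Module.finrank (ResidueField A) (ResidueField A ⊗[A] Ω[A⁄k₀]) : ℤ) =
      Module.finrank (ResidueField A) (CotangentSpace A) +
        Cardinal.toNat (Algebra.trdeg k₀ (ResidueField A)) := by
  obtain ⟨s, hs⟩ := exists_section k₀ A
  have hgf : mapBaseChange ℤ A (ResidueField A) ∘ₗ theta ℤ k₀ A (ResidueField A) =
      mapBaseChange ℤ k₀ (ResidueField A) := by
    apply LinearMap.ext
    intro z
    rw [LinearMap.comp_apply]
    exact mapBaseChange_theta z
  have finj : Function.Injective (theta ℤ k₀ A (ResidueField A)) :=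
    theta_injective_of_lTensor (Groth.Agent.Helper14.AdicFSKaehler.injective_of_adicFS hfs)
  have hker : LinearMap.ker (theta ℤ k₀ A (ResidueField A)) = ⊥ := LinearMap.ker_eq_bot.mpr finj
  haveI i1 : Module.Finite (ResidueField A) (LinearMap.ker (theta ℤ k₀ A (ResidueField A))) := by
    rw [hker]
    infer_instance
  haveI : Algebra.EssFiniteType k₀ (A ⧸ maximalIdeal A) :=
    (inferInstance : Algebra.EssFiniteType k₀ (ResidueField A))
  haveI : Module.Finite (A ⧸ maximalIdeal A) (maximalIdeal A).Cotangent :=
    (inferInstance : Module.Finite (ResidueField A) (CotangentSpace A))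
  haveI hfinA : Module.Finite A (ResidueField A ⊗[A] Ω[A⁄k₀]) :=
    AdicFin.finite_kaehler_tensor_quotient (A := k₀) (maximalIdeal A)
  haveI hfinK : Module.Finite (ResidueField A) (ResidueField A ⊗[A] Ω[A⁄k₀]) :=
    Module.Finite.of_restrictScalars_finite A _ _
  haveI i2 : Module.Finite (ResidueField A)
      ((ResidueField A ⊗[A] Ω[A⁄ℤ]) ⧸ LinearMap.range (theta ℤ k₀ A (ResidueField A))) :=
    Module.Finite.equiv (cokerThetaEquiv' (a := ℤ) (K := k₀) (L := A) (M := ResidueField A)).symm
  have hkerg : LinearMap.ker (mapBaseChange ℤ A (ResidueField A)) = LinearMap.range (gamma A) :=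
    (range_gamma A).symm
  haveI i3 : Module.Finite (ResidueField A) (LinearMap.ker (mapBaseChange ℤ A (ResidueField A))) := by
    rw [hkerg]
    infer_instance
  have hsurj : Function.Surjective (mapBaseChange ℤ A (ResidueField A)) :=
    KaehlerDifferential.mapBaseChange_surjective ℤ A (ResidueField A) residue_surjective
  have hrange : LinearMap.range (mapBaseChange ℤ A (ResidueField A)) = ⊤ :=
    LinearMap.range_eq_top.mpr hsurj
  haveI hsub : Subsingleton (Ω[ResidueField A⁄ℤ] ⧸
      LinearMap.range (mapBaseChange ℤ A (ResidueField A))) := by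
    rw [hrange]
    infer_instance
  haveI i4 : Module.Finite (ResidueField A) (Ω[ResidueField A⁄ℤ] ⧸
      LinearMap.range (mapBaseChange ℤ A (ResidueField A))) := inferInstance
  have hind := Fredholm.index_comp (theta ℤ k₀ A (ResidueField A))
    (mapBaseChange ℤ A (ResidueField A))
  rw [hgf] at hind
  obtain ⟨-, -, -, hC⟩ := P_any k₀ (ResidueField A)
  have e1 : Module.finrank (ResidueField A) (LinearMap.ker (theta ℤ k₀ A (ResidueField A))) = 0 := by
    rw [hker]
    exact finrank_bot _ _
  have e2 : Module.finrank (ResidueField A)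
      ((ResidueField A ⊗[A] Ω[A⁄ℤ]) ⧸ LinearMap.range (theta ℤ k₀ A (ResidueField A))) =
      Module.finrank (ResidueField A) (ResidueField A ⊗[A] Ω[A⁄k₀]) :=
    (cokerThetaEquiv' (a := ℤ) (K := k₀) (L := A) (M := ResidueField A)).finrank_eq
  have e3 : Module.finrank (ResidueField A) (Ω[ResidueField A⁄ℤ] ⧸
      LinearMap.range (mapBaseChange ℤ A (ResidueField A))) = 0 :=
    Module.finrank_zero_of_subsingleton
  have e4 : Module.finrank (ResidueField A)
      (LinearMap.ker (mapBaseChange ℤ A (ResidueField A))) =
      Module.finrank (ResidueField A) (CotangentSpace A) := by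
    rw [hkerg]
    exact LinearMap.finrank_range_of_inj (gamma_injective s hs)
  have e5 : Module.finrank (ResidueField A) (Ω[ResidueField A⁄ℤ] ⧸
      LinearMap.range (mapBaseChange ℤ k₀ (ResidueField A))) =
      Module.finrank (ResidueField A) (Ω[ResidueField A⁄k₀]) :=
    (Cartier.cokerEquiv ℤ k₀ (ResidueField A)).finrank_eq
  have e6 : Module.finrank (ResidueField A)
      (LinearMap.ker (mapBaseChange ℤ k₀ (ResidueField A))) =
      Module.finrank (ResidueField A) (EGA41.imperfection ℤ k₀ (ResidueField A)) := rfl
  rw [e1, e2, e3, e4, e5, e6, hC] at hind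
  push_cast at hind
  linarith

end Assembly

end Groth.Agent.Helper9.RankOmega
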