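import Mathlib
import Groth.Prelude.Def_DerSch2
import Groth.Agent.Lib.Helper5.PCT6

/-!
# Relative pseudo-coherence (chart form): direct summands
-/

set_option autoImplicit false
set_option linter.style.haveILetI false

universe u

open CategoryTheory CategoryTheory.Limits AlgebraicGeometry Opposite TopologicalSpace

attribute [local instance] HasDerivedCategory.standard

namespace Groth.Agent.Helper9.RelPC

variable {X Y : Scheme.{u}}

/-- the termwise functor used in `ChartPC` -/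
noncomputable abbrev chartFun (U : X.Opens) {R : Type u} [CommRing R] {n : ℕ}
    (φ : MvPolynomial (Fin n) R →+* Γ(X, U)) :
    CochainComplex X.Modules ℤ ⥤
      CochainComplex (Spec (CommRingCat.of (MvPolynomial (Fin n) R))).Modules ℤ :=
  DCoh.restrictCx U ⋙ DerSch.pushCx (DerSch.chartImm U φ)

theorem chartPC_of_iso {m : ℤ} {E E' : DCoh.D X} (e : E ≅ E') {U : X.Opens} {V : Y.Opens} {n : ℕ}
    {φ : MvPolynomial (Fin n) Γ(Y, V) →+* Γ(X, U)} (h : DerSch.ChartPC m E U V φ) :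
    DerSch.ChartPC m E' U V φ :=
  fun G ⟨eG⟩ => h G ⟨eG ≪≫ e.symm⟩

theorem isPseudoCoherentRel_of_iso {f : X ⟶ Y} {m : ℤ} {E E' : DCoh.D X} (e : E ≅ E')
    (h : DerSch.IsPseudoCoherentRel f m E) : DerSch.IsPseudoCoherentRel f m E' := by
  obtain ⟨hlft, 𝒱, h𝒱, H⟩ := h
  refine ⟨hlft, 𝒱, h𝒱, fun V hV => ?_⟩
  obtain ⟨𝒰, h𝒰, HU⟩ := H V hV
  refine ⟨𝒰, h𝒰, fun U hU hUV => ?_⟩
  obtain ⟨n, φ, hchart, hpc⟩ := HU U hU hUV
  exact ⟨n, φ, hchart, chartPC_of_iso e hpc⟩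

theorem chartPC_of_biprod (m : ℤ) (E K : DCoh.D X) [HasBinaryBiproduct E K] (U : X.Opens)
    (V : Y.Opens) {n : ℕ} (φ : MvPolynomial (Fin n) Γ(Y, V) →+* Γ(X, U))
    (h : DerSch.ChartPC m (E ⊞ K) U V φ) : DerSch.ChartPC m E U V φ := by
  intro G ⟨e₁⟩
  let G' := DerivedCategory.Q.objPreimage K
  let e₂ : DerivedCategory.Q.obj G' ≅ K := DerivedCategory.Q.objObjPreimageIso K
  haveI := preservesBinaryBiproducts_of_preservesBiproducts
    (DerivedCategory.Q (C := X.Modules))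
  let e : DCoh.toD X (G ⊞ G') ≅ E ⊞ K :=
    (DerivedCategory.Q (C := X.Modules)).mapBiprod G G' ≪≫ biprod.mapIso e₁ e₂
  have h1 := h (G ⊞ G') ⟨e⟩
  let Ψ := chartFun U φ ⋙ DerivedCategory.Q
  haveI : Ψ.Additive := inferInstance
  haveI := preservesBinaryBiproducts_of_preservesBiproducts Ψ
  let e' : Ψ.obj (G ⊞ G') ≅ Ψ.obj G ⊞ Ψ.obj G' := Ψ.mapBiprod G G'
  have h2 := Groth.Agent.Helper5.PCT.isPseudoCoherentD_of_iso e' h1
  intro x
  exact (Groth.Agent.Helper5.PCT.pcAt_of_biprod _ _ m x (h2 x)).1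

theorem isPseudoCoherentRel_of_biprod (f : X ⟶ Y) (m : ℤ) (E K : DCoh.D X)
    [HasBinaryBiproduct E K] (h : DerSch.IsPseudoCoherentRel f m (E ⊞ K)) :
    DerSch.IsPseudoCoherentRel f m E := by
  obtain ⟨hlft, 𝒱, h𝒱, H⟩ := h
  refine ⟨hlft, 𝒱, h𝒱, fun V hV => ?_⟩
  obtain ⟨𝒰, h𝒰, HU⟩ := H V hV
  refine ⟨𝒰, h𝒰, fun U hU hUV => ?_⟩
  obtain ⟨n, φ, hchart, hpc⟩ := HU U hU hUV
  exact ⟨n, φ, hchart, chartPC_of_biprod m E K _ _ φ hpc⟩

theorem isPseudoCoherentRel_of_biprod' (f : X ⟶ Y) (m : ℤ) (E K : DCoh.D X)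
    [HasBinaryBiproduct E K] (h : DerSch.IsPseudoCoherentRel f m (E ⊞ K)) :
    DerSch.IsPseudoCoherentRel f m K :=
  isPseudoCoherentRel_of_biprod f m K E (isPseudoCoherentRel_of_iso (biprod.braiding E K) h)

end Groth.Agent.Helper9.RelPC
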