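import Mathlib
import Groth.Agent.Lib.Helper9.DeltaIso
import Groth.Agent.Lib.Helper9.OpenRes1
import Groth.Agent.Lib.Helper24.Flasque
import Groth.Agent.Lib.Helper13.DeltaPsh

/-!
# Higher direct images commute with restriction to opens (helper9)
-/

universe u
open CategoryTheory CategoryTheory.Limits Opposite TopologicalSpace

namespace Groth.Agent.Helper9.RestrPush

/-- base change of higher direct images along exact functors `E`, `R` with `f_* ⋙ R ≅ E ⋙ g_*`,
`E` sending injectives to flasques. -/
theorem nonempty_iso_of_sq {X Y X' Y' : TopCat.{u}} (f : X ⟶ Y) (g : X' ⟶ Y')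
    (E : CohTop.Ab X ⥤ CohTop.Ab X') (R : CohTop.Ab Y ⥤ CohTop.Ab Y')
    [E.Additive] [R.Additive] [PreservesFiniteLimits E] [PreservesFiniteColimits E]
    [PreservesFiniteLimits R] [PreservesFiniteColimits R]
    (θ : CohTop.push f ⋙ R ≅ E ⋙ CohTop.push g)
    (hE : ∀ I : CohTop.Ab X, Injective I → TopCat.Sheaf.IsFlasque (E.obj I))
    (F : CohTop.Ab X) (p : ℕ) :
    Nonempty (R.obj ((CohTop.Rpush f p).obj F) ≅ (CohTop.Rpush g p).obj (E.obj F)) := by
  obtain ⟨i1⟩ := DeltaIso.rightDerived_iso_of_effaceable (CohTop.push f ⋙ R)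
    (Groth.Agent.Helper13.DeltaPsh.postcomp (DeltaIso.rDelta (CohTop.push f)) R)
    (fun n I hI => by
      change IsZero (R.obj (((CohTop.push f).rightDerived (n + 1)).obj I))
      exact Functor.map_isZero R
        (Functor.isZero_rightDerived_obj_injective_succ (CohTop.push f) n I))
    (Functor.isoWhiskerRight (CohTop.push f).rightDerivedZeroIsoSelf.symm R) p
  obtain ⟨i2⟩ := DeltaIso.rightDerived_iso_of_effaceable (CohTop.push f ⋙ R)
    (Groth.Agent.Helper24.CechH.comap E (DeltaIso.rDelta (CohTop.push g)))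
    (fun n I hI => by
      change IsZero (((CohTop.push g).rightDerived (n + 1)).obj (E.obj I))
      exact Groth.Agent.Helper24.Flasque.Rpush_succ_isZero g n _ (hE I hI))
    (θ ≪≫ Functor.isoWhiskerLeft E (CohTop.push g).rightDerivedZeroIsoSelf.symm) p
  exact ⟨(i1.symm ≪≫ i2).app F⟩

variable {X Y : TopCat.{u}} (f : X ⟶ Y) (V : Opens Y)

/-- the restriction of `f` over an open `V`. -/
abbrev gmap : TopCat.of ((Opens.map f).obj V) ⟶ TopCat.of V :=
  TopCat.ofHom ⟨(V : Set Y).restrictPreimage f, f.hom.continuous.restrictPreimage⟩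

lemma opens_eq (V' : Opens (TopCat.of V)) :
    (Opens.map f).obj ((V.isOpenEmbedding.isOpenMap.functor).obj V') =
      (((Opens.map f).obj V).isOpenEmbedding.isOpenMap.functor).obj
        ((Opens.map (gmap f V)).obj V') := by
  ext x
  constructor
  · rintro ⟨y, hy, hyx⟩
    have hxV : f x ∈ V := by
      have : y.1 = f x := hyx
      rw [← this]; exact y.2
    refine ⟨⟨x, hxV⟩, ?_, rfl⟩
    have h2 : (gmap f V) ⟨x, hxV⟩ = y := Subtype.ext hyx.symm
    change (gmap f V) ⟨x, hxV⟩ ∈ V'
    rw [h2]; exact hy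
  · rintro ⟨z, hz, rfl⟩
    exact ⟨(gmap f V) z, hz, rfl⟩

/-- `f_*` followed by restriction to `V` is restriction to `f⁻¹V` followed by `(f|)_*`. -/
noncomputable def θ : CohTop.push f ⋙ CohTop.restrFunctor V ≅
    CohTop.restrFunctor ((Opens.map f).obj V) ⋙ CohTop.push (gmap f V) :=
  NatIso.ofComponents (fun F =>
    { hom := ObjectProperty.homMk
        { app := fun V' => F.obj.map (eqToHom (congrArg op (opens_eq f V V'.unop)))
          naturality := by
            intro V₁ V₂ i
            change F.obj.map _ ≫ F.obj.map _ = F.obj.map _ ≫ F.obj.map _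
            rw [← F.obj.map_comp, ← F.obj.map_comp]
            congr 1 }
      inv := ObjectProperty.homMk
        { app := fun V' => F.obj.map (eqToHom (congrArg op (opens_eq f V V'.unop).symm))
          naturality := by
            intro V₁ V₂ i
            change F.obj.map _ ≫ F.obj.map _ = F.obj.map _ ≫ F.obj.map _
            rw [← F.obj.map_comp, ← F.obj.map_comp]
            congr 1 }
      hom_inv_id := by
        apply Sheaf.hom_ext
        ext V' : 2
        change F.obj.map _ ≫ F.obj.map _ = 𝟙 _
        rw [← F.obj.map_comp, eqToHom_trans, eqToHom_refl, F.obj.map_id]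
      inv_hom_id := by
        apply Sheaf.hom_ext
        ext V' : 2
        change F.obj.map _ ≫ F.obj.map _ = 𝟙 _
        rw [← F.obj.map_comp, eqToHom_trans, eqToHom_refl, F.obj.map_id] })
    (fun {F F'} φ => by
      apply Sheaf.hom_ext
      ext V' : 2
      exact (φ.hom.naturality (eqToHom (congrArg op (opens_eq f V V'.unop)))).symm)

theorem nonempty_restr_Rpush_iso (F : CohTop.Ab X) (p : ℕ) :
    Nonempty (CohTop.restr ((CohTop.Rpush f p).obj F) V ≅
      (CohTop.Rpush (gmap f V) p).obj (CohTop.restr F ((Opens.map f).obj V))) := by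
  refine nonempty_iso_of_sq f (gmap f V) (CohTop.restrFunctor ((Opens.map f).obj V))
    (CohTop.restrFunctor V) (θ f V) (fun I hI => ?_) F p
  haveI := Groth.Agent.Helper24.Flasque.isFlasque_of_injective I
  exact OpenRes.restr_isFlasque _ I

end Groth.Agent.Helper9.RestrPush
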