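import Mathlib
import Groth.Agent.Lib.Helper9.SepFS

/-!
# Separable field extensions: extension of derivations and towers (EGA 0_IV 20.6.3, 20.6.19)
-/

set_option autoImplicit false
set_option linter.unusedSectionVars false
set_option linter.style.haveILetI false

universe u

open TensorProduct KaehlerDifferential

namespace Groth.Agent.Helper9.SepFS

section Der

variable {k K : Type u} [Field k] [Field K] [Algebra k K]

theorem injective_of_forall_der_extends
    (h : ∀ D : Derivation ℤ k K, ∃ D' : Derivation ℤ K K, ∀ a : k, D' (algebraMap k K a) = D a) :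
    Function.Injective (mapBaseChange ℤ k K) := by
  rw [injective_iff_map_eq_zero]
  intro w hw
  by_contra hne
  obtain ⟨L, hL⟩ := Module.Projective.exists_dual_ne_zero K hne
  let l : Ω[k⁄ℤ] →ₗ[k] K := (L.restrictScalars k).comp (TensorProduct.mk k K (Ω[k⁄ℤ]) 1)
  let D : Derivation ℤ k K := l.compDer (KaehlerDifferential.D ℤ k)
  obtain ⟨D', hD'⟩ := h D
  let g : Ω[K⁄ℤ] →ₗ[K] K := D'.liftKaehlerDifferential
  have hcomp : (g.comp (mapBaseChange ℤ k K)).toAddMonoidHom = L.toAddMonoidHom := by
    apply Imperf.addHom_ext_tmul_D'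
    intro c a
    change g (mapBaseChange ℤ k K (c ⊗ₜ KaehlerDifferential.D ℤ k a)) =
      L (c ⊗ₜ KaehlerDifferential.D ℤ k a)
    rw [mapBaseChange_tmul, KaehlerDifferential.map_D, map_smul,
      Derivation.liftKaehlerDifferential_comp_D, hD']
    change c • L ((1 : K) ⊗ₜ KaehlerDifferential.D ℤ k a) = _
    rw [← map_smul, TensorProduct.smul_tmul', smul_eq_mul, mul_one]
  have h3 := DFunLike.congr_fun hcomp w
  apply hL
  change g (mapBaseChange ℤ k K w) = L w at h3
  rw [← h3, hw, map_zero]

theorem exists_der_extension_of_injective (h : Function.Injective (mapBaseChange ℤ k K))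
    (D : Derivation ℤ k K) :
    ∃ D' : Derivation ℤ K K, ∀ a : k, D' (algebraMap k K a) = D a := by
  obtain ⟨r, hr⟩ := LinearMap.exists_leftInverse_of_injective (mapBaseChange ℤ k K)
    (LinearMap.ker_eq_bot.mpr h)
  let l : Ω[k⁄ℤ] →ₗ[k] K := D.liftKaehlerDifferential
  let L : K ⊗[k] Ω[k⁄ℤ] →ₗ[K] K := LinearMap.liftBaseChange K l
  refine ⟨(L.comp r).compDer (KaehlerDifferential.D ℤ K), fun a => ?_⟩
  change L (r (KaehlerDifferential.D ℤ K (algebraMap k K a))) = D a
  have h1 : KaehlerDifferential.D ℤ K (algebraMap k K a) =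
      mapBaseChange ℤ k K (1 ⊗ₜ KaehlerDifferential.D ℤ k a) := by
    rw [mapBaseChange_tmul, one_smul, KaehlerDifferential.map_D]
  rw [h1]
  have h2 : r (mapBaseChange ℤ k K (1 ⊗ₜ KaehlerDifferential.D ℤ k a)) =
      1 ⊗ₜ KaehlerDifferential.D ℤ k a := DFunLike.congr_fun hr _
  rw [h2, LinearMap.liftBaseChange_tmul, one_smul, Derivation.liftKaehlerDifferential_comp_D]

theorem forall_der_extends_iff_injective :
    (∀ D : Derivation ℤ k K, ∃ D' : Derivation ℤ K K, ∀ a : k, D' (algebraMap k K a) = D a) ↔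
      Function.Injective (mapBaseChange ℤ k K) :=
  ⟨injective_of_forall_der_extends, exists_der_extension_of_injective⟩

end Der

section Tower

variable {K E F : Type u} [Field K] [Field E] [Field F] [Algebra K E] [Algebra E F] [Algebra K F]
  [IsScalarTower K E F]

theorem injective_mapBaseChange_of_tower
    (h1 : Function.Injective (mapBaseChange ℤ K F))
    (h2 : Function.Injective (mapBaseChange K E F)) :
    Function.Injective (mapBaseChange ℤ E F) := by
  rw [injective_iff_map_eq_zero]
  intro ω hω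
  have h3 := Imperf.map_mapBaseChange (a := ℤ) (b := K) (K := E) (L := F) ω
  rw [hω, map_zero] at h3
  have h4 : (KaehlerDifferential.map ℤ K E E).baseChange F ω = 0 :=
    h2 (h3.symm.trans (map_zero _).symm)
  have h5 := Imperf.mem_span_of_phi_eq_zero (a := ℤ) (b := K) (K := E) (L := F) ω h4
  have hle : Submodule.span F
      (Set.range fun x : K => (1 : F) ⊗ₜ[E] KaehlerDifferential.D ℤ E (algebraMap K E x)) ≤
      LinearMap.range (Imperf.theta ℤ K E F) := by
    rw [Submodule.span_le]
    rintro _ ⟨x, rfl⟩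
    exact ⟨1 ⊗ₜ KaehlerDifferential.D ℤ K x, Imperf.theta_tmul_D _ _⟩
  obtain ⟨η, rfl⟩ := hle h5
  have h6 := Imperf.mapBaseChange_theta (a := ℤ) (K := K) (L := E) (M := F) η
  rw [hω] at h6
  rw [h1 (h6.symm.trans (map_zero _).symm), map_zero]

/-- EGA 0_IV 20.6.19 (ii): if `F/K` is separable and `Υ_{F/E/K} = 0` then `F/E` is separable. -/
theorem isGeometricallyReduced_of_tower [Algebra.IsGeometricallyReduced K F]
    (h2 : Function.Injective (mapBaseChange K E F)) : Algebra.IsGeometricallyReduced E F :=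
  isGeometricallyReduced_of_injective (injective_mapBaseChange_of_tower
    (SepInj.mapBaseChange_injective_of_isGeometricallyReduced (k₀ := ℤ) (k := K) (L := F)) h2)

end Tower

end Groth.Agent.Helper9.SepFS
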