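import Mathlib
import Groth.Prelude.Def_DerSch
import Groth.Agent.Lib.Helper5.SkyMod2

/-!
# Separating families of homomorphisms of modules and flat pullback
-/

set_option autoImplicit false
set_option linter.style.haveILetI false
universe u

open CategoryTheory CategoryTheory.Limits AlgebraicGeometry TopologicalSpace Opposite TensorProduct

namespace Groth.Agent.Helper9.SepFam

section Ring

variable {R : Type u} [CommRing R]

theorem tensor_sep (S' : Type u) [AddCommGroup S'] [Module R S'] [Module.Flat R S']
    {ι : Type u} [Finite ι] (M : Type u) [AddCommGroup M] [Module R M]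
    (N : ι → Type u) [∀ i, AddCommGroup (N i)] [∀ i, Module R (N i)]
    (l : ∀ i, M →ₗ[R] N i) (hl : ∀ m, (∀ i, l i m = 0) → m = 0)
    (w : S' ⊗[R] M) (hw : ∀ i, (l i).lTensor S' w = 0) : w = 0 := by
  classical
  haveI := Fintype.ofFinite ι
  let L : M →ₗ[R] (∀ i, N i) := LinearMap.pi l
  have hL : Function.Injective L := by
    rw [injective_iff_map_eq_zero]
    intro m hm
    exact hl m (fun i => congrFun hm i)
  have hLT : Function.Injective (L.lTensor S') :=
    Module.Flat.lTensor_preserves_injective_linearMap L hL
  have key2 : ∀ v : S' ⊗[R] M, TensorProduct.piRightHom R R S' N ((L.lTensor S') v) =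
      fun i => ((l i).lTensor S') v := by
    intro v
    induction v using TensorProduct.induction_on with
    | zero =>
      rw [map_zero, map_zero]
      funext i
      rw [map_zero]
      rfl
    | tmul s m =>
      rw [LinearMap.lTensor_tmul, TensorProduct.piRightHom_tmul]
      funext i
      rw [LinearMap.lTensor_tmul]
      rfl
    | add a b ha hb =>
      rw [map_add, map_add, ha, hb]
      funext i
      rw [map_add]
      rfl
  apply hLT
  rw [map_zero]
  apply (TensorProduct.piRight R R S' N).injective
  rw [map_zero, TensorProduct.piRight_apply, key2]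
  funext i
  exact hw i

variable {S : Type u} [CommRing S] (f : R →+* S)

set_option backward.isDefEq.respectTransparency false in
theorem extendScalars_sep (hf : f.Flat) {ι : Type u} [Finite ι] (M : ModuleCat.{u} R)
    (N : ι → ModuleCat.{u} R) (l : ∀ i, M ⟶ N i) (hl : ∀ m : M, (∀ i, l i m = 0) → m = 0)
    (z : (ModuleCat.extendScalars f).obj M)
    (hz : ∀ i, (ModuleCat.extendScalars f).map (l i) z = 0) : z = 0 := by
  let S' : ModuleCat.{u} R := (ModuleCat.restrictScalars f).obj (ModuleCat.of S S)
  haveI : Module.Flat R S' := by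
    letI : Algebra R S := f.toAlgebra
    have h0 : Module.Flat R S := hf
    let e : S' ≃ₗ[R] S :=
      { toFun := fun s => s
        invFun := fun s => s
        map_add' := fun _ _ => rfl
        map_smul' := fun _ _ => rfl
        left_inv := fun _ => rfl
        right_inv := fun _ => rfl }
    exact Module.Flat.of_linearEquiv e
  have key1 : ∀ (i : ι) (w : S' ⊗[R] M),
      ((ModuleCat.extendScalars f).map (l i)).hom w = ((l i).hom.lTensor S') w := by
    intro i w
    induction w using TensorProduct.induction_on with
    | zero => rw [map_zero, map_zero]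
    | tmul s m => rfl
    | add a b ha hb => rw [map_add, map_add, ha, hb]
  exact tensor_sep S' M (fun i => N i) (fun i => (l i).hom) hl z
    (fun i => (key1 i z).symm.trans (hz i))

end Ring

section Scheme

variable {X X' : Scheme.{u}}

/-- separating on sections -/
def SecSep (F : X.Modules) {ι : Type u} (G : ι → X.Modules) (u : ∀ i, F ⟶ G i) : Prop :=
  ∀ (V : X.Opens) (t : ↑(F.presheaf.obj (Opposite.op V))),
    (∀ i, (Scheme.Modules.Hom.mapPresheaf (u i)).app (Opposite.op V) t = 0) → t = 0

/-- separating on stalks -/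
def StalkSep (F : X.Modules) {ι : Type u} (G : ι → X.Modules) (u : ∀ i, F ⟶ G i) : Prop :=
  ∀ (x : X) (m : (DerSch.stalkFunctor X x).obj F),
    (∀ i, (DerSch.stalkFunctor X x).map (u i) m = 0) → m = 0

variable (F : X.Modules) {ι : Type u} (G : ι → X.Modules) (u : ∀ i, F ⟶ G i)

theorem secSep_of_stalkSep (h : StalkSep F G u) : SecSep F G u := by
  intro V t ht
  apply TopCat.Presheaf.section_ext ⟨F.presheaf, F.isSheaf⟩ V t 0
  intro x hx
  rw [map_zero]
  apply h x
  intro i
  rw [DerSch.stalkFunctor_map_germ]
  have h1 : (u i).app V t = 0 := ht i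
  rw [h1, map_zero]
  rfl

theorem stalkSep_of_secSep [Finite ι] (h : SecSep F G u) : StalkSep F G u := by
  intro x m hm
  obtain ⟨U, hxU, s, rfl⟩ := F.presheaf.exists_germ_eq (x := x) m
  have key : ∀ i, ∃ (W : X.Opens) (_ : x ∈ W) (hWU : W ≤ U),
      (G i).presheaf.map (homOfLE hWU).op ((u i).app U s) = 0 := by
    intro i
    have h1 : (G i).presheaf.germ U x hxU ((u i).app U s) = (G i).presheaf.germ U x hxU 0 := by
      rw [← DerSch.stalkFunctor_map_germ, hm i, map_zero]
      rfl
    obtain ⟨W, hxW, iU, iV, e⟩ := (G i).presheaf.germ_eq x hxU hxU _ _ h1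
    refine ⟨W, hxW, iU.le, ?_⟩
    rw [map_zero] at e
    exact e
  choose W hxW hWU hW using key
  let W' : X.Opens := (⨅ i, W i) ⊓ U
  have hxW' : x ∈ W' := by
    refine ⟨?_, hxU⟩
    show x ∈ ((⨅ i, W i : X.Opens) : Set X)
    rw [Opens.coe_iInf]
    exact Set.mem_iInter.mpr hxW
  have hW'U : W' ≤ U := inf_le_right
  have hW'i : ∀ i, W' ≤ W i := fun i => inf_le_left.trans (iInf_le _ i)
  have h0 : F.presheaf.map (homOfLE hW'U).op s = 0 := by
    apply h W'
    intro i
    have e1 : (G i).presheaf.map (homOfLE hW'U).op =
        (G i).presheaf.map (homOfLE (hWU i)).op ≫ (G i).presheaf.map (homOfLE (hW'i i)).op := by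
      rw [← Functor.map_comp, ← op_comp, homOfLE_comp]
    have nat : (u i).mapPresheaf.app (op W') (F.presheaf.map (homOfLE hW'U).op s) =
        (G i).presheaf.map (homOfLE hW'U).op ((u i).mapPresheaf.app (op U) s) :=
      congr($((u i).mapPresheaf.naturality (homOfLE hW'U).op) s)
    rw [nat, e1]
    change (G i).presheaf.map (homOfLE (hW'i i)).op
      ((G i).presheaf.map (homOfLE (hWU i)).op ((u i).app U s)) = 0
    rw [hW i, map_zero]
  rw [← F.presheaf.germ_res_apply (homOfLE hW'U) x hxW' s, h0, map_zero]
  rfl

theorem stalkSep_pullback [Finite ι] (g : X' ⟶ X) [Flat g] (h : StalkSep F G u) :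
    StalkSep ((Scheme.Modules.pullback g).obj F) (fun i => (Scheme.Modules.pullback g).obj (G i))
      (fun i => (Scheme.Modules.pullback g).map (u i)) := by
  intro x' m hm
  let e := Groth.Agent.Helper5.Sky.pullbackStalkIso g x'
  have hz : (e.hom.app F) m = 0 := by
    refine extendScalars_sep (Groth.Agent.Helper5.Sky.φst g x') (Flat.stalkMap g x')
      ((DerSch.stalkFunctor X (g.base x')).obj F)
      (fun i => (DerSch.stalkFunctor X (g.base x')).obj (G i))
      (fun i => (DerSch.stalkFunctor X (g.base x')).map (u i)) (h (g.base x')) _ ?_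
    intro i
    have nat := congr($(e.hom.naturality (u i)) m)
    have h1 : (ModuleCat.extendScalars (Groth.Agent.Helper5.Sky.φst g x')).map
        ((DerSch.stalkFunctor X (g.base x')).map (u i)) ((e.hom.app F) m) =
        (e.hom.app (G i)) ((DerSch.stalkFunctor X' x').map ((Scheme.Modules.pullback g).map (u i)) m) :=
      nat.symm
    rw [h1, hm i, map_zero]
  have h2 : (e.inv.app F) ((e.hom.app F) m) = m := congr($(e.hom_inv_id_app F) m)
  rw [← h2, hz, map_zero]

theorem secSep_pullback [Finite ι] (g : X' ⟶ X) [Flat g] (h : SecSep F G u) :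
    SecSep ((Scheme.Modules.pullback g).obj F) (fun i => (Scheme.Modules.pullback g).obj (G i))
      (fun i => (Scheme.Modules.pullback g).map (u i)) :=
  secSep_of_stalkSep _ _ _ (stalkSep_pullback F G u g (stalkSep_of_secSep F G u h))

end Scheme

end Groth.Agent.Helper9.SepFam
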