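import Mathlib
import Groth.Agent.Lib.Helper9.SepFam
import Groth.Agent.Lib.Helper5.PBT1

/-!
# Separating families of homomorphisms of modules: faithfully flat descent
-/

set_option autoImplicit false
set_option linter.style.haveILetI false
universe u

open CategoryTheory CategoryTheory.Limits AlgebraicGeometry TopologicalSpace Opposite TensorProduct

namespace Groth.Agent.Helper9.SepFam

section Ring

open ChangeOfRings

variable {R S : Type u} [CommRing R] [CommRing S]

set_option backward.isDefEq.respectTransparency false in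
/-- for a flat local homomorphism of local rings, `m ↦ 1 ⊗ m` is injective -/
theorem tmul_one_eq_zero (φ : R →+* S) [IsLocalRing R] [IsLocalRing S] [IsLocalHom φ]
    (hφ : φ.Flat) (M : ModuleCat.{u} R) (m : M)
    (h : ((1 : S) ⊗ₜ[R, φ] m : (ModuleCat.extendScalars φ).obj M) = 0) : m = 0 := by
  letI : Algebra R S := φ.toAlgebra
  haveI : Module.Flat R S := hφ
  haveI : IsLocalHom (algebraMap R S) := ‹IsLocalHom φ›
  haveI : Module.FaithfullyFlat R S := Module.FaithfullyFlat.of_flat_of_isLocalHom
  have inj := Module.FaithfullyFlat.tensorProduct_mk_injective (A := R) (B := S) M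
  apply inj
  rw [map_zero]
  exact h

end Ring

section Scheme

open Groth.Agent.Helper13.PbGen Groth.Agent.Helper5.Sky

variable {X X' : Scheme.{u}}

/-- naturality of the pullback of sections -/
theorem map_ηsec {F G : X.Modules} (φ : F ⟶ G) (g : X' ⟶ X) (V : X.Opens) (t : Γ(F, V)) :
    ((Scheme.Modules.pullback g).map φ).app (g ⁻¹ᵁ V) (ηsec g F V t) = ηsec g G V (φ.app V t) := by
  have nat := (Scheme.Modules.pullbackPushforwardAdjunction g).unit.naturality φ
  have h := congrArg (fun ψ => (Scheme.Modules.Hom.app ψ V) t) nat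
  exact h.symm

variable (F : X.Modules) {ι : Type u} (G : ι → X.Modules) (u : ∀ i, F ⟶ G i)

/-- faithfully flat descent of separating families -/
theorem secSep_of_pullback (g : X' ⟶ X) [Flat g] [Surjective g]
    (h : SecSep ((Scheme.Modules.pullback g).obj F)
      (fun i => (Scheme.Modules.pullback g).obj (G i))
      (fun i => (Scheme.Modules.pullback g).map (u i))) : SecSep F G u := by
  intro V t ht
  apply TopCat.Presheaf.section_ext ⟨F.presheaf, F.isSheaf⟩ V t 0
  intro x hx
  rw [map_zero]
  obtain ⟨x', rfl⟩ := g.surjective x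
  have hx' : x' ∈ g ⁻¹ᵁ V := hx
  have h0 : ηsec g F V t = 0 := by
    apply h (g ⁻¹ᵁ V)
    intro i
    have h1 : (u i).app V t = 0 := ht i
    have h2 := map_ηsec (u i) g V t
    rw [h1, ηsec_zero] at h2
    exact h2
  have h1 := Groth.Agent.Helper5.PBT.pullbackStalkIso_hom_germ g x' F V hx hx' t
  rw [h0, map_zero] at h1
  have h2 := h1.symm.trans (map_zero ((pullbackStalkIso g x').hom.app F).hom)
  exact tmul_one_eq_zero (φst g x') (Flat.stalkMap g x')
    ((DerSch.stalkFunctor X (g.base x')).obj F) _ h2

end Scheme

end Groth.Agent.Helper9.SepFam
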