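import Mathlib
import Groth.Agent.Lib.Helper9.SepFam2
import Groth.Agent.Lib.Helper21.NilProj

/-!
# Separating families of homomorphisms of modules: flat pullback over an Artinian base
-/

set_option autoImplicit false
set_option linter.style.haveILetI false
universe u

open CategoryTheory CategoryTheory.Limits AlgebraicGeometry TopologicalSpace Opposite TensorProduct

namespace Groth.Agent.Helper9.SepFam

section Ring

variable {R : Type u} [CommRing R]

theorem tensor_sep_of_free (S' : Type u) [AddCommGroup S'] [Module R S'] [Module.Free R S']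
    {ι : Type u} (M : Type u) [AddCommGroup M] [Module R M]
    (N : ι → Type u) [∀ i, AddCommGroup (N i)] [∀ i, Module R (N i)]
    (l : ∀ i, M →ₗ[R] N i) (hl : ∀ m, (∀ i, l i m = 0) → m = 0)
    (w : S' ⊗[R] M) (hw : ∀ i, (l i).lTensor S' w = 0) : w = 0 := by
  classical
  let b := Module.Free.chooseBasis R S'
  have key : ∀ (i : ι) (v : S' ⊗[R] M) (j : Module.Free.ChooseBasisIndex R S'),
      (TensorProduct.equivFinsuppOfBasisLeft (N := N i) b ((l i).lTensor S' v)) j =
        l i ((TensorProduct.equivFinsuppOfBasisLeft (N := M) b v) j) := by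
    intro i v j
    induction v using TensorProduct.induction_on with
    | zero => simp
    | tmul s m =>
      rw [LinearMap.lTensor_tmul, TensorProduct.equivFinsuppOfBasisLeft_apply_tmul_apply,
        TensorProduct.equivFinsuppOfBasisLeft_apply_tmul_apply, map_smul]
    | add a c ha hc =>
      rw [map_add, map_add, map_add, Finsupp.add_apply, Finsupp.add_apply, ha, hc, map_add]
  apply (TensorProduct.equivFinsuppOfBasisLeft (N := M) b).injective
  rw [map_zero]
  ext j
  rw [Finsupp.zero_apply]
  apply hl
  intro i
  rw [← key, hw i, map_zero, Finsupp.zero_apply]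

variable {S : Type u} [CommRing S] (f : R →+* S)

set_option backward.isDefEq.respectTransparency false in
theorem extendScalars_sep_of_free (hf : letI := f.toAlgebra; Module.Free R S) {ι : Type u}
    (M : ModuleCat.{u} R)
    (N : ι → ModuleCat.{u} R) (l : ∀ i, M ⟶ N i) (hl : ∀ m : M, (∀ i, l i m = 0) → m = 0)
    (z : (ModuleCat.extendScalars f).obj M)
    (hz : ∀ i, (ModuleCat.extendScalars f).map (l i) z = 0) : z = 0 := by
  let S' : ModuleCat.{u} R := (ModuleCat.restrictScalars f).obj (ModuleCat.of S S)
  haveI : Module.Free R S' := by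
    letI : Algebra R S := f.toAlgebra
    haveI h0 : Module.Free R S := hf
    let e : S' ≃ₗ[R] S :=
      { toFun := fun s => s
        invFun := fun s => s
        map_add' := fun _ _ => rfl
        map_smul' := fun _ _ => rfl
        left_inv := fun _ => rfl
        right_inv := fun _ => rfl }
    exact Module.Free.of_equiv e.symm
  have key1 : ∀ (i : ι) (w : S' ⊗[R] M),
      ((ModuleCat.extendScalars f).map (l i)).hom w = ((l i).hom.lTensor S') w := by
    intro i w
    induction w using TensorProduct.induction_on with
    | zero => rw [map_zero, map_zero]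
    | tmul s m => rfl
    | add a b ha hb => rw [map_add, map_add, ha, hb]
  exact tensor_sep_of_free S' M (fun i => N i) (fun i => (l i).hom) hl z
    (fun i => (key1 i z).symm.trans (hz i))

end Ring

section Scheme

variable {X X' : Scheme.{u}}

variable (F : X.Modules) {ι : Type u} (G : ι → X.Modules) (u : ∀ i, F ⟶ G i)

/-- on a discrete scheme, a family separating on sections is separating on stalks -/
theorem stalkSep_of_secSep_of_discrete [DiscreteTopology X] (h : SecSep F G u) :
    StalkSep F G u := by
  intro x m hm
  obtain ⟨U, hxU, s, rfl⟩ := F.presheaf.exists_germ_eq (x := x) m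
  let W : X.Opens := ⟨{x}, isOpen_discrete _⟩
  have hxW : x ∈ W := rfl
  have hWU : W ≤ U := by
    rintro y (rfl : y = x)
    exact hxU
  have h0 : F.presheaf.map (homOfLE hWU).op s = 0 := by
    apply h W
    intro i
    have nat : (u i).mapPresheaf.app (op W) (F.presheaf.map (homOfLE hWU).op s) =
        (G i).presheaf.map (homOfLE hWU).op ((u i).mapPresheaf.app (op U) s) :=
      congr($((u i).mapPresheaf.naturality (homOfLE hWU).op) s)
    rw [nat]
    apply TopCat.Presheaf.section_ext ⟨(G i).presheaf, (G i).isSheaf⟩ W _ 0
    rintro y (rfl : y = x)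
    rw [map_zero, TopCat.Presheaf.germ_res_apply]
    have h3 := hm i
    rw [DerSch.stalkFunctor_map_germ] at h3
    exact h3
  rw [← F.presheaf.germ_res_apply (homOfLE hWU) x hxW s, h0, map_zero]
  rfl

/-- on a discrete locally Noetherian scheme the maximal ideals of the local rings are nilpotent -/
theorem isNilpotent_maximalIdeal_stalk [IsLocallyNoetherian X] [DiscreteTopology X] (x : X) :
    IsNilpotent (IsLocalRing.maximalIdeal (X.presheaf.stalk x)) := by
  have hmax : IsMax x := by
    intro b hb
    have hbx : b = x := (show b ⤳ x from hb).eq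
    rw [hbx]
  have h0 : Order.coheight x ≤ ((0 : ℕ) : ℕ∞) := by
    rw [Order.coheight_eq_zero.mpr hmax]
    simp
  haveI : Ring.KrullDimLE 0 (X.presheaf.stalk x) := krullDimLE_of_coheight_le h0
  haveI : IsArtinianRing (X.presheaf.stalk x) := isArtinianRing_iff_krullDimLE_zero.mpr inferInstance
  have h1 := IsArtinianRing.isNilpotent_jacobson_bot (R := X.presheaf.stalk x)
  rwa [IsLocalRing.jacobson_eq_maximalIdeal ⊥ bot_ne_top] at h1

theorem stalkSep_pullback_of_artinian [IsLocallyNoetherian X] [DiscreteTopology X]
    (g : X' ⟶ X) [Flat g] (h : StalkSep F G u) :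
    StalkSep ((Scheme.Modules.pullback g).obj F) (fun i => (Scheme.Modules.pullback g).obj (G i))
      (fun i => (Scheme.Modules.pullback g).map (u i)) := by
  intro x' m hm
  let e := Groth.Agent.Helper5.Sky.pullbackStalkIso g x'
  have hfree : letI := (Groth.Agent.Helper5.Sky.φst g x').toAlgebra
      Module.Free (X.presheaf.stalk (g.base x')) (X'.presheaf.stalk x') := by
    letI : Algebra (X.presheaf.stalk (g.base x')) (X'.presheaf.stalk x') :=
      (Groth.Agent.Helper5.Sky.φst g x').toAlgebra
    haveI : Module.Flat (X.presheaf.stalk (g.base x')) (X'.presheaf.stalk x') :=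
      Flat.stalkMap g x'
    haveI : Module.Free
        (X.presheaf.stalk (g.base x') ⧸ IsLocalRing.maximalIdeal (X.presheaf.stalk (g.base x')))
        ((X.presheaf.stalk (g.base x') ⧸ IsLocalRing.maximalIdeal (X.presheaf.stalk (g.base x')))
          ⊗[X.presheaf.stalk (g.base x')] (X'.presheaf.stalk x')) := by
      letI := Ideal.Quotient.field (IsLocalRing.maximalIdeal (X.presheaf.stalk (g.base x')))
      exact Module.Free.of_divisionRing _ _
    exact Groth.Agent.Helper21.NP.free_of_flat_of_free_quot _
      (isNilpotent_maximalIdeal_stalk (g.base x')) _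
  have hz : (e.hom.app F) m = 0 := by
    refine extendScalars_sep_of_free (Groth.Agent.Helper5.Sky.φst g x') hfree
      ((DerSch.stalkFunctor X (g.base x')).obj F)
      (fun i => (DerSch.stalkFunctor X (g.base x')).obj (G i))
      (fun i => (DerSch.stalkFunctor X (g.base x')).map (u i)) (h (g.base x')) _ ?_
    intro i
    have nat := congr($(e.hom.naturality (u i)) m)
    have h1 : (ModuleCat.extendScalars (Groth.Agent.Helper5.Sky.φst g x')).map
        ((DerSch.stalkFunctor X (g.base x')).map (u i)) ((e.hom.app F) m) =
        (e.hom.app (G i)) ((DerSch.stalkFunctor X' x').map ((Scheme.Modules.pullback g).map (u i)) m) :=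
      nat.symm
    rw [h1, hm i, map_zero]
  have h2 : (e.inv.app F) ((e.hom.app F) m) = m := congr($(e.hom_inv_id_app F) m)
  rw [← h2, hz, map_zero]

theorem secSep_pullback_of_artinian [IsLocallyNoetherian X] (hX : topologicalKrullDim X ≤ 0)
    (g : X' ⟶ X) [Flat g] (h : SecSep F G u) :
    SecSep ((Scheme.Modules.pullback g).obj F) (fun i => (Scheme.Modules.pullback g).obj (G i))
      (fun i => (Scheme.Modules.pullback g).map (u i)) := by
  haveI := IsLocallyArtinian.of_topologicalKrullDim_le_zero hX
  haveI : DiscreteTopology X := inferInstance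
  exact secSep_of_stalkSep _ _ _
    (stalkSep_pullback_of_artinian F G u g (stalkSep_of_secSep_of_discrete F G u h))

end Scheme

end Groth.Agent.Helper9.SepFam
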