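import Mathlib
import Groth.Prelude.Def_DeltaF

/-!
# Vanishing of the derived functors of a composite in low degrees (helper9)

Let `T` be a δ-functor `A → B` vanishing on injectives in positive degrees, whose degree zero part
sends injectives to injectives and monomorphisms to monomorphisms, `H : B ⥤ C` additive and `T'`
a δ-functor `A → C` vanishing on injectives in positive degrees with `T'⁰ ≅ T⁰ ⋙ H`.
If `Tⁱ X = 0` for all `i < n` then `T'ⁱ X = 0` for all `i < n`.
-/

universe v v' v'' u u' u''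
open CategoryTheory CategoryTheory.Limits

namespace Groth.Agent.Helper9.VanishComp

open DeltaF

variable {A : Type u} [Category.{v} A] [Abelian A]
  {B : Type u'} [Category.{v'} B] [Abelian B]
  {C : Type u''} [Category.{v''} C] [Abelian C]
  (T : CohDeltaFunctor A B ℕ) (T' : CohDeltaFunctor A C ℕ)

/-- if `T^{n+1} X₁ = 0` then `T^n X₂ → T^n X₃` is epi. -/
lemma epi_map_g (S : ShortComplex A) (hS : S.ShortExact) (n : ℕ)
    (h : IsZero ((T.F (n + 1)).obj S.X₁)) : Epi ((T.F n).map S.g) :=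
  (T.exact₃ S hS n (n + 1) rfl).epi_f (h.eq_of_tgt _ _)

/-- if `T^n X₂ = 0 = T^{n+1} X₁` then `T^n X₃ = 0`. -/
lemma isZero_X₃ (S : ShortComplex A) (hS : S.ShortExact) (n : ℕ)
    (h₂ : IsZero ((T.F n).obj S.X₂)) (h₁ : IsZero ((T.F (n + 1)).obj S.X₁)) :
    IsZero ((T.F n).obj S.X₃) :=
  (T.exact₃ S hS n (n + 1) rfl).isZero_X₂ (h₂.eq_of_src _ _) (h₁.eq_of_tgt _ _)

/-- if `T^n X₃ = 0 = T^{n+1} X₂` then `T^{n+1} X₁ = 0`. -/
lemma isZero_X₁ (S : ShortComplex A) (hS : S.ShortExact) (n : ℕ)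
    (h₃ : IsZero ((T.F n).obj S.X₃)) (h₂ : IsZero ((T.F (n + 1)).obj S.X₂)) :
    IsZero ((T.F (n + 1)).obj S.X₁) :=
  (T.exact₁ S hS n (n + 1) rfl).isZero_X₂ (h₃.eq_of_src _ _) (h₂.eq_of_tgt _ _)

/-- if `T^n X₂ → T^n X₃` is epi and `T^{n+1} X₂ = 0` then `T^{n+1} X₁ = 0`. -/
lemma isZero_X₁_of_epi (S : ShortComplex A) (hS : S.ShortExact) (n : ℕ)
    (h : Epi ((T.F n).map S.g)) (h₂ : IsZero ((T.F (n + 1)).obj S.X₂)) :
    IsZero ((T.F (n + 1)).obj S.X₁) := by
  have hδ : T.δ S hS n (n + 1) rfl = 0 := by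
    have h1 := T.comp_δ S hS n (n + 1) rfl
    exact (cancel_epi ((T.F n).map S.g)).1 (h1.trans comp_zero.symm)
  exact (T.exact₁ S hS n (n + 1) rfl).isZero_X₂ hδ (h₂.eq_of_tgt _ _)

variable (H : B ⥤ C) [H.Additive] (e : T.F 0 ⋙ H ≅ T'.F 0)

include e in
theorem step [EnoughInjectives A]
    (hT : ∀ (n : ℕ) (I : A), Injective I → IsZero ((T.F (n + 1)).obj I))
    (hT' : ∀ (n : ℕ) (I : A), Injective I → IsZero ((T'.F (n + 1)).obj I))
    (hinj : ∀ I : A, Injective I → Injective ((T.F 0).obj I))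
    (hmono : T.ZeroMono) :
    ∀ (n : ℕ) (X : A), Injective ((T.F 0).obj X) →
      (∀ i, i < n → IsZero ((T.F (i + 1)).obj X)) →
      ∀ i, i < n → IsZero ((T'.F (i + 1)).obj X) := by
  intro n
  induction n with
  | zero =>
    intro X _ _ i hi
    exact absurd hi (Nat.not_lt_zero i)
  | succ n ih =>
    intro X hX hv i hi
    let S : ShortComplex A := ShortComplex.mk (Injective.ι X) (cokernel.π (Injective.ι X))
      (cokernel.condition _)
    have hS : S.ShortExact :=
      { exact := ShortComplex.exact_of_g_is_cokernel _ (cokernelIsCokernel _)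
        mono_f := inferInstanceAs (Mono (Injective.ι X))
        epi_g := inferInstanceAs (Epi (cokernel.π (Injective.ι X))) }
    have hI : Injective S.X₂ := inferInstanceAs (Injective (Injective.under X))
    have hepi : Epi ((T.F 0).map S.g) := epi_map_g T S hS 0 (hv 0 (Nat.succ_pos n))
    let S0 : ShortComplex B := ShortComplex.mk ((T.F 0).map S.f) ((T.F 0).map S.g)
      (by rw [← Functor.map_comp, S.zero, Functor.map_zero])
    have hS0 : S0.ShortExact :=
      { exact := T.exact₂ S hS 0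
        mono_f := hmono S hS
        epi_g := hepi }
    haveI : Injective S0.X₁ := hX
    let sp := hS0.splittingOfInjective
    have hsg : sp.s ≫ (T.F 0).map S.g = 𝟙 ((T.F 0).obj S.X₃) := sp.s_g
    haveI hI0 : Injective ((T.F 0).obj S.X₂) := hinj _ hI
    have hQ : Injective ((T.F 0).obj S.X₃) :=
      (Retract.mk sp.s ((T.F 0).map S.g) hsg).injective
    have hvQ : ∀ j, j < n → IsZero ((T.F (j + 1)).obj S.X₃) := fun j hj =>
      isZero_X₃ T S hS (j + 1) (hT j _ hI) (hv (j + 1) (Nat.succ_lt_succ hj))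
    have hQ' := ih S.X₃ hQ hvQ
    cases i with
    | zero =>
      have hepi' : Epi ((T'.F 0).map S.g) := by
        haveI h1 : IsSplitEpi (H.map ((T.F 0).map S.g)) :=
          ⟨⟨⟨H.map sp.s, by rw [← H.map_comp, hsg, H.map_id]⟩⟩⟩
        have h2 : (T'.F 0).map S.g =
            e.inv.app S.X₂ ≫ H.map ((T.F 0).map S.g) ≫ e.hom.app S.X₃ := by
          have h3 := e.hom.naturality S.g
          have h4 : H.map ((T.F 0).map S.g) ≫ e.hom.app S.X₃ =
              e.hom.app S.X₂ ≫ (T'.F 0).map S.g := h3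
          rw [h4, ← Category.assoc, Iso.inv_hom_id_app, Category.id_comp]
        rw [h2]
        infer_instance
      exact isZero_X₁_of_epi T' S hS 0 hepi' (hT' 0 _ hI)
    | succ j =>
      exact isZero_X₁ T' S hS (j + 1) (hQ' j (by omega)) (hT' (j + 1) _ hI)

include e in
theorem isZero_of_isZero [EnoughInjectives A]
    (hT : ∀ (n : ℕ) (I : A), Injective I → IsZero ((T.F (n + 1)).obj I))
    (hT' : ∀ (n : ℕ) (I : A), Injective I → IsZero ((T'.F (n + 1)).obj I))
    (hinj : ∀ I : A, Injective I → Injective ((T.F 0).obj I))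
    (hmono : T.ZeroMono) (n : ℕ) (X : A)
    (h : ∀ i, i < n → IsZero ((T.F i).obj X)) : ∀ i, i < n → IsZero ((T'.F i).obj X) := by
  intro i hi
  cases i with
  | zero =>
    have h0 := h 0 hi
    exact (H.map_isZero h0).of_iso (e.app X).symm
  | succ j =>
    have h0 : IsZero ((T.F 0).obj X) := h 0 (by omega)
    have hX : Injective ((T.F 0).obj X) := h0.injective
    exact step T T' H e hT hT' hinj hmono (n - 1) X hX (fun i hi' => h (i + 1) (by omega)) j
      (by omega)

end Groth.Agent.Helper9.VanishComp
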