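import Mathlib
import Groth.Agent.Lib.Helper9.ShfSupp2
import Groth.Agent.Lib.Helper9.VanishComp
import Groth.Agent.Lib.Helper9.RestrInj
import Groth.Agent.Lib.Helper9.OpenRes3

/-!
# The local cohomology sheaves of a closed subset and the groups `H^i_{Z ∩ V}(V, F)` (helper9)
-/

universe u
set_option linter.style.haveILetI false
open CategoryTheory CategoryTheory.Limits Opposite TopologicalSpace
namespace Groth.Agent.Helper9.ShfSupp
open Groth.Agent.Helper13.DeltaPsh (extPsh postcomp)
open Groth.Agent.Helper24.CechH (extDelta)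
variable {X : TopCat.{u}} (U : Opens X)

/-- the pairs `V' ⊓ U ≤ V'`. -/
def closedFam : PairFam X where
  W V' := V' ⊓ U
  V V' := V'
  le _ := inf_le_left
  monoW := fun _ _ h => inf_le_inf_right U h
  monoV := fun _ _ h => h

/-- sections of `Γ_Z(F)` over `V'`. -/
noncomputable def closedData : SectData (LocCohZ.sectSuppF U) (closedFam U) where
  κ F V' := ((OpenRes.ι U F).hom.app (op V')).hom
  inj F V' := OpenRes.ι_app_injective U F V'
  ker F V' s := ⟨fun ⟨t, ht⟩ => by rw [← ht]; exact OpenRes.res_ι' U F V' t,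
    fun hs => OpenRes.exists_ι_eq' U F V' s hs⟩
  n1 F V₁ V₂ hle t :=
    ConcreteCategory.congr_hom ((OpenRes.ι U F).hom.naturality (homOfLE hle).op) t
  n2 φ V' t := OpenRes.map_ι_apply U φ V' t

theorem HZsh_iso_sheafify (q : ℕ) :
    Nonempty (LocCohZ.HZsh U q ≅ (extPsh.{u} (closedFam U).E).F q ⋙
      presheafToSheaf (Opens.grothendieckTopology X) AddCommGrpCat.{u}) :=
  rightDerived_iso_sheafify (closedData U) q

theorem isZero_HZsh_of_subsingleton (F : CohTop.Ab X) (q : ℕ)
    (h : ∀ V : Opens X, Subsingleton (LocCohZ.HZ F q (inf_le_left : V ⊓ U ≤ V))) :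
    IsZero ((LocCohZ.HZsh U q).obj F) := by
  obtain ⟨e⟩ := HZsh_iso_sheafify U q
  refine IsZero.of_iso ?_ (e.app F)
  change IsZero ((presheafToSheaf (Opens.grothendieckTopology X) AddCommGrpCat.{u}).obj
      (((extPsh.{u} (closedFam U).E).F q).obj F))
  apply Functor.map_isZero
  apply Functor.isZero
  intro d
  have := h d.unop
  exact AddCommGrpCat.isZero_of_subsingleton
    (AddCommGrpCat.of (LocCohZ.HZ F q (inf_le_left : d.unop ⊓ U ≤ d.unop)))

/-- sections over `V`. -/
noncomputable abbrev secF (V : Opens X) : CohTop.Ab X ⥤ AddCommGrpCat.{u} :=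
  sheafToPresheaf (Opens.grothendieckTopology X) AddCommGrpCat.{u} ⋙
    (evaluation (Opens X)ᵒᵖ AddCommGrpCat.{u}).obj (op V)

lemma zeroMono_rDelta {A B : Type*} [Category A] [Abelian A] [Category B] [Abelian B]
    [EnoughInjectives A] (G : A ⥤ B) [G.Additive] [PreservesFiniteLimits G] :
    (DeltaIso.rDelta G).ZeroMono := by
  intro S hS
  have := hS.mono_f
  have h1 : ((DeltaIso.rDelta G).F 0).map S.f = (G.rightDerivedZeroIsoSelf.hom.app S.X₁) ≫
      G.map S.f ≫ (G.rightDerivedZeroIsoSelf.inv.app S.X₂) := by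
    have h2 : (G.rightDerived 0).map S.f ≫ G.rightDerivedZeroIsoSelf.hom.app S.X₂ =
        G.rightDerivedZeroIsoSelf.hom.app S.X₁ ≫ G.map S.f :=
      G.rightDerivedZeroIsoSelf.hom.naturality S.f
    rw [← Category.assoc, ← h2, Category.assoc, Iso.hom_inv_id_app, Category.comp_id]
    rfl
  rw [h1]
  haveI : Mono (G.map S.f) := inferInstance
  haveI : Mono (G.map S.f ≫ G.rightDerivedZeroIsoSelf.inv.app S.X₂) := mono_comp _ _
  haveI : IsIso (G.rightDerivedZeroIsoSelf.hom.app S.X₁) :=
    inferInstanceAs (IsIso (G.rightDerivedZeroIsoSelf.app S.X₁).hom)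
  have hA : Mono (G.rightDerivedZeroIsoSelf.hom.app S.X₁) := IsIso.mono_of_iso _
  have hB : Mono (G.map S.f ≫ G.rightDerivedZeroIsoSelf.inv.app S.X₂) := mono_comp _ _
  exact @mono_comp _ _ _ _ _ _ hA _ hB

/-- the degree zero comparison. -/
noncomputable def e0 (V : Opens X) :
    (DeltaIso.rDelta (LocCohZ.sectSuppF U)).F 0 ⋙ secF V ≅
      (extDelta.{u} (LocCohZ.zq (inf_le_left : V ⊓ U ≤ V))).F 0 :=
  Functor.isoWhiskerRight (LocCohZ.sectSuppF U).rightDerivedZeroIsoSelf (secF V) ≪≫
    (Functor.associator _ _ _).symm ≪≫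
    Functor.isoWhiskerRight (closedData U).iso
      ((evaluation (Opens X)ᵒᵖ AddCommGrpCat.{u}).obj (op V)) ≪≫
    NatIso.ofComponents (fun _ => Iso.refl _) (fun {_ _} _ =>
      (Category.comp_id _).trans (Category.id_comp _).symm)

theorem subsingleton_HZ_of_isZero_HZsh (F : CohTop.Ab X) (n : ℕ)
    (h : ∀ i, i < n → IsZero ((LocCohZ.HZsh U i).obj F)) (V : Opens X) (i : ℕ) (hi : i < n) :
    Subsingleton (LocCohZ.HZ F i (inf_le_left : V ⊓ U ≤ V)) := by
  have key := VanishComp.isZero_of_isZero (DeltaIso.rDelta (LocCohZ.sectSuppF U))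
    (extDelta.{u} (LocCohZ.zq (inf_le_left : V ⊓ U ≤ V))) (secF V) (e0 U V)
    (fun n I _ => Functor.isZero_rightDerived_obj_injective_succ (LocCohZ.sectSuppF U) n I)
    (fun n I hI => Excision.hT₁ _ n I hI)
    (fun I hI => by
      have := hI
      exact Injective.of_iso ((LocCohZ.sectSuppF U).rightDerivedZeroIsoSelf.app I).symm
        (RestrInj.injective_sectSupp U I))
    (zeroMono_rDelta _) n F h i hi
  exact AddCommGrpCat.subsingleton_of_isZero key

end Groth.Agent.Helper9.ShfSupp
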