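import Mathlib
import Groth.Agent.Lib.Helper9.ShfSupp3
import Groth.Agent.Lib.Helper9.LocLES
import Groth.Agent.Lib.Helper9.OpenRes4
import Groth.Agent.Lib.Helper13.RpushShf

/-!
# `ℋ^{j+1}_Z(F) = 0` when `H^j(V, F) → H^j(V ∩ U, F)` is surjective for all `V` (helper9)
-/

universe u
set_option linter.style.haveILetI false
open CategoryTheory CategoryTheory.Limits Opposite TopologicalSpace
namespace Groth.Agent.Helper9.ShfSupp
open Groth.Agent.Helper13.DeltaPsh (extPsh postcomp)
open Groth.Agent.Helper13.RpushShf (Yfree Tpsh Tshf β)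
open Abelian
variable {X : TopCat.{u}}

/-- the map of presheaves of Ext groups induced by a natural transformation. -/
noncomputable def extPshMap {E' E : Opens X ⥤ CohTop.Ab X} (π : E' ⟶ E) (n : ℕ)
    (F : CohTop.Ab X) :
    ((extPsh.{u} E).F n).obj F ⟶ ((extPsh.{u} E').F n).obj F where
  app d := ((extFunctor.{u} n).map (π.app d.unop).op).app F
  naturality d d' g := by
    change ((extFunctor.{u} n).map (E.map g.unop).op).app F ≫
        ((extFunctor.{u} n).map (π.app d'.unop).op).app F =
      ((extFunctor.{u} n).map (π.app d.unop).op).app F ≫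
        ((extFunctor.{u} n).map (E'.map g.unop).op).app F
    rw [← NatTrans.comp_app, ← NatTrans.comp_app, ← Functor.map_comp, ← Functor.map_comp,
      ← op_comp, ← op_comp, π.naturality]

/-- the projections `ℤ_V ⟶ ℤ_V/ℤ_{V ∩ U}`. -/
noncomputable def πFam (U : Opens X) :
    𝟭 (Opens X) ⋙ Yfree (Opens.grothendieckTopology X) ⟶ (closedFam U).E where
  app V := cokernel.π (CohCx.freeSheafMap (Opens.grothendieckTopology X)
    (homOfLE (inf_le_left : V ⊓ U ≤ V)))
  naturality V₁ V₂ g := by
    change CohCx.freeSheafMap (Opens.grothendieckTopology X) g ≫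
        cokernel.π (CohCx.freeSheafMap (Opens.grothendieckTopology X)
          (homOfLE (inf_le_left : V₂ ⊓ U ≤ V₂))) =
      cokernel.π (CohCx.freeSheafMap (Opens.grothendieckTopology X)
          (homOfLE (inf_le_left : V₁ ⊓ U ≤ V₁))) ≫
        LocCohZ.zqMap (inf_le_left : V₂ ⊓ U ≤ V₂) (inf_le_left : V₁ ⊓ U ≤ V₁)
          (inf_le_inf_right U (leOfHom g)) (leOfHom g)
    unfold LocCohZ.zqMap
    rw [cokernel.π_desc]
    rfl

/-- `sheafToPresheaf ≅ sheafToPresheaf ⋙ (whiskeringLeft ..).obj (𝟭 _).op`. -/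
noncomputable def γ : sheafToPresheaf (Opens.grothendieckTopology X) AddCommGrpCat.{u} ≅
    sheafToPresheaf (Opens.grothendieckTopology X) AddCommGrpCat.{u} ⋙
      (Functor.whiskeringLeft _ _ _).obj (𝟭 (Opens X)).op :=
  NatIso.ofComponents (fun F => NatIso.ofComponents (fun _ => Iso.refl _)
    (fun {_ _} _ => (Category.comp_id _).trans (Category.id_comp _).symm))
    (fun {_ _} _ => by
      ext V : 2
      exact (Category.comp_id _).trans (Category.id_comp _).symm)

/-- the identity functor is the degree zero part of `F ↦ (V ↦ H^•(V, F))^#`. -/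
noncomputable def eId : 𝟭 (CohTop.Ab X) ≅
    (Tshf (Opens.grothendieckTopology X) (Opens.grothendieckTopology X) (𝟭 (Opens X))).F 0 :=
  sheafificationNatIso _ _ ≪≫ Functor.isoWhiskerRight
    (γ ≪≫ β (Opens.grothendieckTopology X) (𝟭 (Opens X))) (presheafToSheaf _ _)

theorem isZero_sheafify_HU (F : CohTop.Ab X) (N : ℕ) :
    IsZero ((presheafToSheaf (Opens.grothendieckTopology X) AddCommGrpCat.{u}).obj
      (((extPsh.{u} (𝟭 (Opens X) ⋙ Yfree (Opens.grothendieckTopology X))).F (N + 1)).obj F)) := by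
  have hT : ∀ (n : ℕ) (I : CohTop.Ab X), Injective I →
      IsZero (((Tshf (Opens.grothendieckTopology X) (Opens.grothendieckTopology X)
        (𝟭 (Opens X))).F (n + 1)).obj I) := by
    intro n I hI
    change IsZero ((presheafToSheaf (Opens.grothendieckTopology X) AddCommGrpCat.{u}).obj
      (((extPsh.{u} (𝟭 (Opens X) ⋙ Yfree (Opens.grothendieckTopology X))).F (n + 1)).obj I))
    apply Functor.map_isZero
    apply Functor.isZero
    intro d
    haveI : Subsingleton (Abelian.Ext.{u}
        ((𝟭 (Opens X) ⋙ Yfree (Opens.grothendieckTopology X)).obj d.unop) I (n + 1)) :=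
      subsingleton_of_forall_eq 0 fun x => Abelian.Ext.eq_zero_of_injective x
    exact AddCommGrpCat.isZero_of_subsingleton (AddCommGrpCat.of (Abelian.Ext.{u}
      ((𝟭 (Opens X) ⋙ Yfree (Opens.grothendieckTopology X)).obj d.unop) I (n + 1)))
  obtain ⟨e⟩ := DeltaIso.rightDerived_iso_of_effaceable (𝟭 (CohTop.Ab X))
    (Tshf (Opens.grothendieckTopology X) (Opens.grothendieckTopology X) (𝟭 (Opens X))) hT eId
    (N + 1)
  exact (OpenRes.isZero_rightDerived_id N F).of_iso (e.app F).symm

theorem isZero_HZsh_succ_of_surjective (U : Opens X) (F : CohTop.Ab X) (j : ℕ)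
    (hs : ∀ V : Opens X, Function.Surjective (CohTop.res F j (inf_le_left : V ⊓ U ≤ V))) :
    IsZero ((LocCohZ.HZsh U (j + 1)).obj F) := by
  obtain ⟨e⟩ := HZsh_iso_sheafify U (j + 1)
  refine IsZero.of_iso ?_ (e.app F)
  let τ := extPshMap (πFam U) (j + 1) F
  haveI : Mono τ := by
    haveI : ∀ d, Mono (τ.app d) := fun d => by
      rw [AddCommGrpCat.mono_iff_injective]
      exact LocLES.toHU_injective F (inf_le_left : d.unop ⊓ U ≤ d.unop) j (hs d.unop)
    exact NatTrans.mono_of_mono_app τ
  haveI : Mono ((presheafToSheaf (Opens.grothendieckTopology X) AddCommGrpCat.{u}).map τ) :=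
    inferInstance
  exact IsZero.of_mono ((presheafToSheaf _ _).map τ) (isZero_sheafify_HU F j)

end Groth.Agent.Helper9.ShfSupp
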