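import Mathlib
import Groth.Prelude.Def_RelSpec
import Groth.Prelude.Def_Omega3
import Groth.Agent.Lib.Helper18.SymAlg4
import Groth.Agent.Lib.Helper18.Rec3
import Groth.Agent.Lib.Helper18.PbCompat3
import Groth.Agent.Lib.Helper18.QCBasic
import Groth.Agent.Lib.Helper28.SpecCover

/-!
# Differentials of a vector bundle `V(E) = Spec Sym(E)` (helper9)

* algebra: for an `R`-algebra `B` which is a symmetric algebra on `ι : M → B`, any `B`-linear map
  `B ⊗[R] M → Ω[B⁄R]` with `1 ⊗ m ↦ D (ι m)` is bijective (`bijective_of_tmul`);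
* geometry: `main5970`, the map `p^*E → Ω_{V(E)/S}` is an isomorphism.
-/

set_option autoImplicit false
set_option linter.style.haveILetI false
set_option linter.unusedSectionVars false
set_option backward.isDefEq.respectTransparency false
universe u
open CategoryTheory CategoryTheory.Limits AlgebraicGeometry TopologicalSpace Opposite TensorProduct

namespace Groth.Agent.Helper9.SymOmega

section Alg

variable {R B M : Type u} [CommRing R] [CommRing B] [Algebra R B] [AddCommGroup M] [Module R M]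

/-- the linear map `m ↦ (ι m, 1 ⊗ m)` into the trivial square-zero extension -/
noncomputable def gT (ι : M →ₗ[R] B) : M →ₗ[R] TrivSqZeroExt B (B ⊗[R] M) where
  toFun m := TrivSqZeroExt.inl (ι m) + TrivSqZeroExt.inr ((1 : B) ⊗ₜ[R] m)
  map_add' x y := by
    ext
    · simp
    · simp [TensorProduct.tmul_add]
  map_smul' r x := by
    ext
    · simp
    · simp

theorem gT_fst (ι : M →ₗ[R] B) (m : M) : (gT ι m).fst = ι m := by
  simp [gT]

theorem gT_snd (ι : M →ₗ[R] B) (m : M) : (gT ι m).snd = (1 : B) ⊗ₜ[R] m := by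
  simp [gT]

/-- `Ω_{Sym(M)/R} ≅ Sym(M) ⊗ M`: any `B`-linear map `B ⊗[R] M → Ω[B⁄R]` sending `1 ⊗ m` to
`D (ι m)` is bijective, when `B` is a symmetric algebra on `ι`. -/
theorem bijective_of_tmul {ι : M →ₗ[R] B} (h : IsSymmetricAlgebra ι)
    (ψ : B ⊗[R] M →ₗ[B] Ω[B⁄R])
    (hψ : ∀ m, ψ ((1 : B) ⊗ₜ[R] m) = KaehlerDifferential.D R B (ι m)) :
    Function.Bijective ψ := by
  let F : B →ₐ[R] TrivSqZeroExt B (B ⊗[R] M) := h.lift (gT ι)
  have hF : ∀ m, F (ι m) = gT ι m := fun m => h.lift_eq _ m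
  have hfst : ∀ b, (F b).fst = b := by
    have h1 : (TrivSqZeroExt.fstHom R B (B ⊗[R] M)).comp F = AlgHom.id R B := by
      apply h.algHom_ext
      ext m
      change (F (ι m)).fst = ι m
      rw [hF, gT_fst]
    intro b
    exact DFunLike.congr_fun h1 b
  let D' : Derivation R B (B ⊗[R] M) := Derivation.mk'
    { toFun := fun b => (F b).snd
      map_add' := fun a b => by rw [map_add, TrivSqZeroExt.snd_add]
      map_smul' := fun r b => by rw [map_smul, TrivSqZeroExt.snd_smul, RingHom.id_apply] }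
    (fun a b => by
      change (F (a * b)).snd = a • (F b).snd + b • (F a).snd
      rw [map_mul, TrivSqZeroExt.snd_mul, hfst, hfst, op_smul_eq_smul])
  have hD' : ∀ m, D' (ι m) = (1 : B) ⊗ₜ[R] m := fun m => by
    change (F (ι m)).snd = _
    rw [hF, gT_snd]
  let L : Ω[B⁄R] →ₗ[B] (B ⊗[R] M) := D'.liftKaehlerDifferential
  have hL : ∀ b, L (KaehlerDifferential.D R B b) = D' b := fun b =>
    Derivation.liftKaehlerDifferential_comp_D D' b
  constructor
  · have hid : ∀ x, L (ψ x) = x := by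
      intro x
      induction x using TensorProduct.induction_on with
      | zero => rw [map_zero, map_zero]
      | tmul b m =>
        have e1 : b ⊗ₜ[R] m = b • ((1 : B) ⊗ₜ[R] m) := by
          rw [TensorProduct.smul_tmul', smul_eq_mul, mul_one]
        rw [e1, map_smul, map_smul, hψ, hL, hD']
      | add x y hx hy => rw [map_add, map_add, hx, hy]
    exact Function.LeftInverse.injective hid
  · have hmem : ∀ b : B, KaehlerDifferential.D R B b ∈ LinearMap.range ψ := by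
      intro b
      refine h.induction (motive := fun b => KaehlerDifferential.D R B b ∈ LinearMap.range ψ)
        ?_ ?_ ?_ ?_ b
      · intro r
        rw [Derivation.map_algebraMap]
        exact Submodule.zero_mem _
      · intro m
        exact ⟨_, hψ m⟩
      · intro a b ha hb
        rw [Derivation.leibniz]
        exact Submodule.add_mem _ (Submodule.smul_mem _ _ hb) (Submodule.smul_mem _ _ ha)
      · intro a b ha hb
        rw [map_add]
        exact Submodule.add_mem _ ha hb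
    have htop : LinearMap.range ψ = ⊤ := by
      rw [eq_top_iff, ← KaehlerDifferential.span_range_derivation R B, Submodule.span_le]
      rintro _ ⟨b, rfl⟩
      exact hmem b
    exact LinearMap.range_eq_top.mp htop

end Alg

section Geo

open OmegaSh Groth.Agent.Helper18 Groth.Agent.Helper13.Pullback

variable {S : Scheme.{u}} (E : S.Modules) [E.IsQuasicoherent] (A : RelSpec.QCAlg S)
  (j : E ⟶ A.toModule)

variable (V : S.Opens) (hV : IsAffineOpen V)

/-- the action of a morphism of modules on sections, as a linear map -/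
noncomputable def appLin {X : Scheme.{u}} {M N : X.Modules} (φ : M ⟶ N) (U : X.Opens) :
    Γ(M, U) →ₗ[Γ(X, U)] Γ(N, U) where
  toFun := φ.app U
  map_add' := map_add _
  map_smul' r x := Scheme.Modules.Hom.app_smul φ r x

/-- inverse of `gammaAff` as a ring homomorphism -/
noncomputable def gInv : A.presheaf.obj (op V) →+* Γ(A.spec, A.π ⁻¹ᵁ V) :=
  haveI := Groth.Agent.Helper28.SpecCover.isIso_gammaAff A V hV
  (inv (A.gammaAff V hV)).hom

theorem gamma_gInv (a : A.presheaf.obj (op V)) :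
    (A.gammaAff V hV).hom (gInv A V hV a) = a := by
  haveI := Groth.Agent.Helper28.SpecCover.isIso_gammaAff A V hV
  change (inv (A.gammaAff V hV) ≫ A.gammaAff V hV).hom a = a
  rw [IsIso.inv_hom_id]
  rfl

theorem gInv_gamma (b : Γ(A.spec, A.π ⁻¹ᵁ V)) :
    gInv A V hV ((A.gammaAff V hV).hom b) = b := by
  haveI := Groth.Agent.Helper28.SpecCover.isIso_gammaAff A V hV
  change (A.gammaAff V hV ≫ inv (A.gammaAff V hV)).hom b = b
  rw [IsIso.hom_inv_id]
  rfl

theorem gInv_str (r : Γ(S, V)) :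
    gInv A V hV ((A.str.app (op V)).hom r) = (A.π.appLE V (A.π ⁻¹ᵁ V) le_rfl).hom r := by
  have h := congr($(A.π_app_gammaAff V hV) r)
  have h' : (A.gammaAff V hV).hom ((A.π.app V).hom r) = (A.str.app (op V)).hom r := h
  rw [← h', gInv_gamma, Scheme.Hom.app_eq_appLE]

/-- `E(V) → O(π⁻¹V)`, the composite of `j` and the inverse of `gammaAff`. -/
noncomputable def iotaV :
    letI := (A.π.appLE V (A.π ⁻¹ᵁ V) le_rfl).hom.toAlgebra
    Γ(E, V) →ₗ[Γ(S, V)] Γ(A.spec, A.π ⁻¹ᵁ V) :=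
  letI := (A.π.appLE V (A.π ⁻¹ᵁ V) le_rfl).hom.toAlgebra
  { toFun := fun m => gInv A V hV (SymAlg.jU E A j V m)
    map_add' := fun x y => by rw [map_add, map_add]
    map_smul' := fun r m => by
      rw [RingHom.id_apply, SymAlg.jU_smul, map_mul, gInv_str, Algebra.smul_def]
      rfl }

theorem iotaV_apply (m : Γ(E, V)) :
    iotaV E A j V hV m = gInv A V hV (SymAlg.jU E A j V m) := rfl

theorem isSym_iotaV (hA : RelSpec.IsSymAlg E A j) :
    letI := (A.π.appLE V (A.π ⁻¹ᵁ V) le_rfl).hom.toAlgebra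
    IsSymmetricAlgebra (iotaV E A j V hV) := by
  letI := (A.π.appLE V (A.π ⁻¹ᵁ V) le_rfl).hom.toAlgebra
  have hcomp : (A.gammaAff V hV).hom.comp
      (SymmetricAlgebra.lift (iotaV E A j V hV)).toRingHom = SymAlg.symToA E A j V := by
    apply SymAlg.ringHom_ext
    · intro r
      rw [SymAlg.symToA_algebraMap]
      change (A.gammaAff V hV).hom
        (SymmetricAlgebra.lift (iotaV E A j V hV) (algebraMap _ _ r)) = _
      rw [AlgHom.commutes]
      change (A.gammaAff V hV).hom ((A.π.appLE V (A.π ⁻¹ᵁ V) le_rfl).hom r) = _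
      rw [← gInv_str A V hV r, gamma_gInv]
    · intro m
      rw [SymAlg.symToA_ι]
      change (A.gammaAff V hV).hom
        (SymmetricAlgebra.lift (iotaV E A j V hV) (SymmetricAlgebra.ι _ _ m)) = _
      rw [SymmetricAlgebra.lift_ι_apply]
      exact gamma_gInv A V hV _
  have hc : ∀ x, (A.gammaAff V hV).hom (SymmetricAlgebra.lift (iotaV E A j V hV) x) =
      SymAlg.symToA E A j V x := fun x => DFunLike.congr_fun hcomp x
  have hb := SymAlg.symToA_bijective E A j hA V hV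
  constructor
  · intro x y hxy
    apply hb.1
    rw [← hc, ← hc, hxy]
  · intro b
    obtain ⟨x, hx⟩ := hb.2 ((A.gammaAff V hV).hom b)
    refine ⟨x, ?_⟩
    have h1 : (A.gammaAff V hV).hom (SymmetricAlgebra.lift (iotaV E A j V hV) x) =
        (A.gammaAff V hV).hom b := by rw [hc, hx]
    have h2 := congrArg (gInv A V hV) h1
    rwa [gInv_gamma, gInv_gamma] at h2

variable {E A j}

set_option maxRecDepth 16000 in
set_option maxHeartbeats 1600000 in
theorem bijective_app_chart (hA : RelSpec.IsSymAlg E A j)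
    (Ω' : A.spec.Modules) (d : OmegaSh.Der A.π Ω') (hd : OmegaSh.IsUniversal d)
    (φ : (Scheme.Modules.pullback A.π).obj E ⟶ Ω')
    (hφ : ∀ (U : S.Opens) (t : Γ(E, U)) (t' : Γ(A.spec, A.π ⁻¹ᵁ U)),
      A.gammaMap.app (op U) t' = j.app U t →
        φ.app (A.π ⁻¹ᵁ U) (OmegaSh.pullSect A.π E U t) = d.app (A.π ⁻¹ᵁ U) t')
    (V : S.Opens) (hV : IsAffineOpen V) :
    Function.Bijective (φ.app (A.π ⁻¹ᵁ V)) := by
  have hU : IsAffineOpen (A.π ⁻¹ᵁ V) := hV.preimage A.π
  have e : A.π ⁻¹ᵁ V ≤ A.π ⁻¹ᵁ V := le_rfl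
  letI := (A.π.appLE V (A.π ⁻¹ᵁ V) le_rfl).hom.toAlgebra
  let c := sectionsPullbackEquiv A.π E hU hV e
  let r := Rec.recSec d e hd hU hV
  let ψ : Γ(A.spec, A.π ⁻¹ᵁ V) ⊗[Γ(S, V)] Γ(E, V) →ₗ[Γ(A.spec, A.π ⁻¹ᵁ V)]
      Ω[Γ(A.spec, A.π ⁻¹ᵁ V)⁄Γ(S, V)] :=
    r.toLinearMap ∘ₗ (appLin φ (A.π ⁻¹ᵁ V)) ∘ₗ c.symm.toLinearMap
  have hψ : ∀ m : Γ(E, V), ψ ((1 : Γ(A.spec, A.π ⁻¹ᵁ V)) ⊗ₜ[Γ(S, V)] m) =
      KaehlerDifferential.D Γ(S, V) Γ(A.spec, A.π ⁻¹ᵁ V) (iotaV E A j V hV m) := by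
    intro m
    have h0 := PbCompat.sectionsPullbackEquiv_pullSect A.π E hU hV e m
    have h0' : ((Scheme.Modules.pullback A.π).obj E).presheaf.map (homOfLE e).op
        (pullSect A.π E V m) = pullSect A.π E V m := PbCompat.map_self' _ _ _
    have h0'' : c (pullSect A.π E V m) = (1 : Γ(A.spec, A.π ⁻¹ᵁ V)) ⊗ₜ[Γ(S, V)] m :=
      (congrArg c h0'.symm).trans h0
    have h1 : c.symm ((1 : Γ(A.spec, A.π ⁻¹ᵁ V)) ⊗ₜ[Γ(S, V)] m) = pullSect A.π E V m := by
      rw [LinearEquiv.symm_apply_eq]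
      exact h0''.symm
    have h2 : φ.app (A.π ⁻¹ᵁ V) (pullSect A.π E V m) =
        d.app (A.π ⁻¹ᵁ V) (iotaV E A j V hV m) :=
      hφ V m (iotaV E A j V hV m) (by
        have h3 := gamma_gInv A V hV (SymAlg.jU E A j V m)
        rw [A.gammaMap_app V hV]
        exact h3)
    change r (φ.app (A.π ⁻¹ᵁ V) (c.symm ((1 : Γ(A.spec, A.π ⁻¹ᵁ V)) ⊗ₜ[Γ(S, V)] m))) = _
    rw [h1, h2]
    exact Rec.recSec_d d e hd hU hV _
  have hb := bijective_of_tmul (isSym_iotaV E A j V hV hA) ψ hψ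
  have hfun : ∀ x, φ.app (A.π ⁻¹ᵁ V) x = r.symm (ψ (c x)) := by
    intro x
    change _ = r.symm (r (φ.app (A.π ⁻¹ᵁ V) (c.symm (c x))))
    rw [LinearEquiv.symm_apply_apply, LinearEquiv.symm_apply_apply]
  constructor
  · intro x y hxy
    rw [hfun, hfun] at hxy
    exact c.injective (hb.1 (r.symm.injective hxy))
  · intro y
    obtain ⟨z, hz⟩ := hb.2 (r y)
    refine ⟨c.symm z, ?_⟩
    rw [hfun, LinearEquiv.apply_symm_apply, hz, LinearEquiv.symm_apply_apply]

theorem main5970 (hA : RelSpec.IsSymAlg E A j)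
    (Ω' : A.spec.Modules) (d : OmegaSh.Der A.π Ω') (hd : OmegaSh.IsUniversal d)
    (φ : (Scheme.Modules.pullback A.π).obj E ⟶ Ω')
    (hφ : ∀ (U : S.Opens) (t : Γ(E, U)) (t' : Γ(A.spec, A.π ⁻¹ᵁ U)),
      A.gammaMap.app (op U) t' = j.app U t →
        φ.app (A.π ⁻¹ᵁ U) (OmegaSh.pullSect A.π E U t) = d.app (A.π ⁻¹ᵁ U) t') :
    IsIso φ := by
  haveI : ((Scheme.Modules.pullback A.π).obj E).IsQuasicoherent :=
    Groth.Agent.Helper13.Pullback.isQuasicoherent_pullback A.π E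
  haveI : Ω'.IsQuasicoherent := Rec.isQuasicoherent_of_isUniversal d hd
  let 𝒰 : Set A.spec.Opens := {W | ∃ V : S.Opens, IsAffineOpen V ∧ W = A.π ⁻¹ᵁ V}
  have hAff : ∀ W ∈ 𝒰, IsAffineOpen W := by
    rintro _ ⟨V, hV, rfl⟩
    exact hV.preimage A.π
  have hcov : ∀ x : A.spec, ∃ W ∈ 𝒰, x ∈ W := by
    intro x
    obtain ⟨_, ⟨V, hV, rfl⟩, hxV, -⟩ :=
      S.isBasis_affineOpens.exists_subset_of_mem_open (Set.mem_univ (A.π x)) isOpen_univ
    exact ⟨A.π ⁻¹ᵁ V, ⟨V, hV, rfl⟩, hxV⟩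
  apply QCBasic.isIso_of_cover φ 𝒰 hAff hcov
  rintro _ ⟨V, hV, rfl⟩
  exact bijective_app_chart hA Ω' d hd φ hφ V hV

end Geo

end Groth.Agent.Helper9.SymOmega
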