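import Mathlib
import Groth.Prelude.Def_CohB1

/-!
# Morphisms from a proper scheme over a complete Noetherian base are determined by thickenings
-/

set_option autoImplicit false

open CategoryTheory CategoryTheory.Limits AlgebraicGeometry TopologicalSpace Opposite

universe u

namespace Groth.Agent.Helper9.ThickExt

/-- `Spec (R / J^(n+1)) ⟶ Spec R`. -/
noncomputable abbrev qn (R : CommRingCat.{u}) (J : Ideal R) (n : ℕ) :
    Spec (CommRingCat.of (R ⧸ J ^ (n + 1))) ⟶ Spec R :=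
  Spec.map (CommRingCat.ofHom (Ideal.Quotient.mk (J ^ (n + 1))))

theorem hom_ext_affine (R : CommRingCat.{u}) [IsLocalRing R] [IsNoetherianRing R] (J : Ideal R)
    (hJ : J ≠ ⊤) {T : Scheme.{u}} [IsAffine T] (a b : Spec R ⟶ T)
    (h : ∀ n : ℕ, qn R J n ≫ a = qn R J n ≫ b) : a = b := by
  have hK : (⨅ i : ℕ, J ^ i) = ⊥ := Ideal.iInf_pow_eq_bot_of_isLocalRing J hJ
  have main : ∀ c : Γ(T, ⊤), (Scheme.ΓSpecIso R).hom.hom (a.appTop.hom c) =
      (Scheme.ΓSpecIso R).hom.hom (b.appTop.hom c) := by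
    intro c
    rw [← sub_eq_zero, ← Ideal.mem_bot, ← hK, Ideal.mem_iInf]
    intro i
    apply Ideal.pow_le_pow_right (Nat.le_succ i)
    rw [← Ideal.Quotient.eq]
    have key : ∀ s : Γ(Spec R, ⊤),
        (Ideal.Quotient.mk (J ^ (i + 1))) ((Scheme.ΓSpecIso R).hom.hom s) =
        (Scheme.ΓSpecIso (CommRingCat.of (R ⧸ J ^ (i + 1)))).hom.hom
          ((qn R J i).appTop.hom s) :=
      fun s => (congrArg (fun φ : Γ(Spec R, ⊤) ⟶ CommRingCat.of (R ⧸ J ^ (i + 1)) => φ.hom s)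
        (Scheme.ΓSpecIso_naturality (CommRingCat.ofHom (Ideal.Quotient.mk (J ^ (i + 1)))))).symm
    have e : (qn R J i).appTop.hom (a.appTop.hom c) = (qn R J i).appTop.hom (b.appTop.hom c) :=
      congrArg (fun φ : Spec (CommRingCat.of (R ⧸ J ^ (i + 1))) ⟶ T => φ.appTop.hom c) (h i)
    rw [key, key, e]
  apply ext_of_isAffine
  ext c
  exact (ConcreteCategory.bijective_of_isIso (Scheme.ΓSpecIso R).hom).1 (main c)

theorem hom_ext_of_quot (R : CommRingCat.{u}) [IsLocalRing R] [IsNoetherianRing R] (J : Ideal R)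
    (hJ : J ≤ IsLocalRing.maximalIdeal R) {Y : Scheme.{u}} (a b : Spec R ⟶ Y)
    (h : ∀ n : ℕ, qn R J n ≫ a = qn R J n ≫ b) : a = b := by
  have hJ' : J ≠ ⊤ := by
    intro h'
    exact (IsLocalRing.maximalIdeal.isMaximal R).ne_top (top_le_iff.mp (h' ▸ hJ))
  obtain ⟨pt, hpt⟩ : ∃ pt : Spec (CommRingCat.of (R ⧸ J ^ (0 + 1))),
      (qn R J 0) pt = IsLocalRing.closedPoint R := by
    have hsurj : Function.Surjective (Ideal.Quotient.mk (J ^ (0 + 1))) :=
      Ideal.Quotient.mk_surjective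
    have hmem : IsLocalRing.closedPoint R ∈
        Set.range (PrimeSpectrum.comap (Ideal.Quotient.mk (J ^ (0 + 1)))) := by
      rw [range_comap_of_surjective _ _ hsurj, Ideal.mk_ker,
        PrimeSpectrum.mem_zeroLocus]
      intro x hx
      have hxJ : x ∈ J := by simpa using hx
      exact hJ hxJ
    obtain ⟨pt, hpt⟩ := hmem
    exact ⟨pt, hpt⟩
  have hab : a (IsLocalRing.closedPoint R) = b (IsLocalRing.closedPoint R) := by
    rw [← hpt, ← Scheme.Hom.comp_apply, ← Scheme.Hom.comp_apply, h 0]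
  obtain ⟨_, ⟨V : Y.Opens, hV, rfl⟩, hyV, -⟩ := Y.isBasis_affineOpens.exists_subset_of_mem_open
    (Set.mem_univ (a (IsLocalRing.closedPoint R))) isOpen_univ
  have hVa : a ⁻¹ᵁ V = ⊤ := (IsLocalRing.closedPoint_mem_iff (a ⁻¹ᵁ V)).mp hyV
  have hVb : b ⁻¹ᵁ V = ⊤ := (IsLocalRing.closedPoint_mem_iff (b ⁻¹ᵁ V)).mp (by
    show b (IsLocalRing.closedPoint R) ∈ V
    rw [← hab]; exact hyV)
  have hra : Set.range a ⊆ Set.range V.ι := by
    rw [Scheme.Opens.range_ι]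
    rintro _ ⟨z, rfl⟩
    have hz : z ∈ a ⁻¹ᵁ V := by rw [hVa]; trivial
    exact hz
  have hrb : Set.range b ⊆ Set.range V.ι := by
    rw [Scheme.Opens.range_ι]
    rintro _ ⟨z, rfl⟩
    have hz : z ∈ b ⁻¹ᵁ V := by rw [hVb]; trivial
    exact hz
  haveI : IsAffine (V : Scheme.{u}) := hV
  have h1 : IsOpenImmersion.lift V.ι a hra = IsOpenImmersion.lift V.ι b hrb := by
    apply hom_ext_affine R J hJ'
    intro n
    rw [← cancel_mono V.ι, Category.assoc, Category.assoc, IsOpenImmersion.lift_fac,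
      IsOpenImmersion.lift_fac, h n]
  calc a = IsOpenImmersion.lift V.ι a hra ≫ V.ι := (IsOpenImmersion.lift_fac _ _ _).symm
    _ = IsOpenImmersion.lift V.ι b hrb ≫ V.ι := by rw [h1]
    _ = b := IsOpenImmersion.lift_fac _ _ _

theorem exists_open_eq (A : Type u) [CommRing A] (I : Ideal A)
    {X Y : Scheme.{u}} (f : X ⟶ Spec (CommRingCat.of A)) [IsLocallyNoetherian X] (φ ψ : X ⟶ Y)
    (e : ∀ n : ℕ, CohB1.thickι f I n ≫ φ = CohB1.thickι f I n ≫ ψ) (x : X)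
    (hx : I ≤ (f x).asIdeal) : ∃ U : X.Opens, x ∈ U ∧ U.ι ≫ φ = U.ι ≫ ψ := by
  apply spread_out_unique_of_isGermInjective'
  obtain ⟨ρ, hρ⟩ : ∃ ρ : CommRingCat.of A ⟶ X.presheaf.stalk x,
      Spec.map ρ = X.fromSpecStalk x ≫ f := ⟨Spec.preimage _, Spec.map_preimage _⟩
  have hJ : I.map ρ.hom ≤ IsLocalRing.maximalIdeal (X.presheaf.stalk x) := by
    rw [Ideal.map_le_iff_le_comap]
    have h1 : (Spec.map ρ) (IsLocalRing.closedPoint (X.presheaf.stalk x)) = f x := by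
      rw [hρ, Scheme.Hom.comp_apply, Scheme.fromSpecStalk_closedPoint]
    have h2 : ((Spec.map ρ) (IsLocalRing.closedPoint (X.presheaf.stalk x))).asIdeal =
        Ideal.comap ρ.hom (IsLocalRing.maximalIdeal (X.presheaf.stalk x)) := rfl
    rw [← h2, h1]
    exact hx
  refine hom_ext_of_quot (X.presheaf.stalk x) (I.map ρ.hom) hJ _ _ (fun n => ?_)
  have hle : I ^ (n + 1) ≤ Ideal.comap ρ.hom ((I.map ρ.hom) ^ (n + 1)) := by
    rw [← Ideal.map_le_iff_le_comap, Ideal.map_pow]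
  have hring : ρ ≫ CommRingCat.ofHom (Ideal.Quotient.mk ((I.map ρ.hom) ^ (n + 1))) =
      CommRingCat.ofHom (Ideal.Quotient.mk (I ^ (n + 1))) ≫
        CommRingCat.ofHom (Ideal.quotientMap ((I.map ρ.hom) ^ (n + 1)) ρ.hom hle) :=
    CommRingCat.hom_ext (Ideal.quotientMap_comp_mk hle).symm
  have comm : (qn (X.presheaf.stalk x) (I.map ρ.hom) n ≫ X.fromSpecStalk x) ≫ f =
      Spec.map (CommRingCat.ofHom (Ideal.quotientMap ((I.map ρ.hom) ^ (n + 1)) ρ.hom hle)) ≫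
        CohB1.specQuot I n := by
    rw [Category.assoc, ← hρ]
    unfold CohB1.specQuot
    rw [← Spec.map_comp, ← Spec.map_comp]
    exact congrArg Spec.map hring
  obtain ⟨L, hL⟩ : ∃ L : Spec (CommRingCat.of
      (↑(X.presheaf.stalk x) ⧸ (I.map ρ.hom) ^ (n + 1))) ⟶ CohB1.thick f I n,
      L ≫ CohB1.thickι f I n = qn (X.presheaf.stalk x) (I.map ρ.hom) n ≫ X.fromSpecStalk x :=
    ⟨pullback.lift _ _ comm, pullback.lift_fst _ _ _⟩
  have h5 : (qn (X.presheaf.stalk x) (I.map ρ.hom) n ≫ X.fromSpecStalk x) ≫ φ =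
      (qn (X.presheaf.stalk x) (I.map ρ.hom) n ≫ X.fromSpecStalk x) ≫ ψ := by
    rw [← hL, Category.assoc, Category.assoc, e n]
  simpa only [Category.assoc] using h5

theorem main (A : Type u) [CommRing A] [IsNoetherianRing A] (I : Ideal A) [IsAdicComplete I A]
    {X Y : Scheme.{u}} (f : X ⟶ Spec (CommRingCat.of A)) [IsProper f] (φ ψ : X ⟶ Y)
    (e : ∀ n : ℕ, CohB1.thickι f I n ≫ φ = CohB1.thickι f I n ≫ ψ) : φ = ψ := by
  haveI : IsLocallyNoetherian X := LocallyOfFiniteType.isLocallyNoetherian f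
  have hC : IsClosed {x : X | ¬ ∃ U : X.Opens, x ∈ U ∧ U.ι ≫ φ = U.ι ≫ ψ} := by
    rw [← isOpen_compl_iff, isOpen_iff_forall_mem_open]
    intro x hx
    have hx' : ∃ U : X.Opens, x ∈ U ∧ U.ι ≫ φ = U.ι ≫ ψ := not_not.mp hx
    obtain ⟨U, hxU, hU⟩ := hx'
    refine ⟨U, ?_, U.2, hxU⟩
    intro z hz
    exact not_not.mpr ⟨U, hz, hU⟩
  have hCe : {x : X | ¬ ∃ U : X.Opens, x ∈ U ∧ U.ι ≫ φ = U.ι ≫ ψ} = ∅ := by
    by_contra hne
    obtain ⟨x, hx⟩ := Set.nonempty_iff_ne_empty.mpr hne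
    have hfC := f.isClosedMap _ hC
    obtain ⟨m, hm, hle⟩ := Ideal.exists_le_maximal (f x).asIdeal (f x).isPrime.ne_top
    obtain ⟨z, hz_def⟩ : ∃ z : Spec (CommRingCat.of A), z.asIdeal = m :=
      ⟨⟨m, hm.isPrime⟩, rfl⟩
    have hsp : f x ⤳ z := (PrimeSpectrum.le_iff_specializes _ _).mp (by
      show (f x).asIdeal ≤ z.asIdeal
      rw [hz_def]; exact hle)
    have hz := hfC.stableUnderSpecialization hsp ⟨x, hx, rfl⟩
    obtain ⟨x', hx'C, hx'z⟩ := hz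
    apply hx'C
    apply exists_open_eq A I f φ ψ e x'
    rw [hx'z, hz_def]
    exact (IsAdicComplete.le_jacobson_bot I).trans (sInf_le ⟨bot_le, hm⟩)
  apply Scheme.hom_ext_of_forall
  intro x
  by_contra hx
  have hxC : x ∈ {x : X | ¬ ∃ U : X.Opens, x ∈ U ∧ U.ι ≫ φ = U.ι ≫ ψ} := hx
  rw [hCe] at hxC
  exact hxC

end Groth.Agent.Helper9.ThickExt
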