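import Mathlib

/-!
# The third isomorphism theorem in an abelian category (helper9)
-/

universe v u
open CategoryTheory CategoryTheory.Limits

namespace Groth.Agent.Helper9.ThirdIso

variable {C : Type u} [Category.{v} C] [Abelian C]

/-- for monomorphisms `f : A ⟶ B`, `g : B ⟶ D` the sequence `0 → B/A → D/A → D/B → 0` is short exact. -/
theorem third_iso {A B D : C} (f : A ⟶ B) (g : B ⟶ D) (k : A ⟶ D) (hk : f ≫ g = k)
    [Mono f] [Mono g]
    (α : cokernel f ⟶ cokernel k) (β : cokernel k ⟶ cokernel g)
    (hα : cokernel.π f ≫ α = g ≫ cokernel.π k)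
    (hβ : cokernel.π k ≫ β = cokernel.π g) :
    ∃ w : α ≫ β = 0, (ShortComplex.mk α β w).ShortExact := by
  subst hk
  have w : α ≫ β = 0 := by
    apply (cancel_epi (cokernel.π f)).1
    rw [← Category.assoc, hα, Category.assoc, hβ, cokernel.condition, comp_zero]
  refine ⟨w, ?_⟩
  have hcok : IsColimit (CokernelCofork.ofπ β w) :=
    CokernelCofork.IsColimit.ofπ β w
      (fun {T} t ht => cokernel.desc g (cokernel.π (f ≫ g) ≫ t) (by
          rw [← Category.assoc, ← hα, Category.assoc, ht, comp_zero]))
      (fun {T} t ht => by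
          apply (cancel_epi (cokernel.π (f ≫ g))).1
          rw [← Category.assoc, hβ, cokernel.π_desc])
      (fun {T} t ht m hm => by
          apply (cancel_epi (cokernel.π g)).1
          rw [cokernel.π_desc, ← hβ, Category.assoc, hm])
  have hex : (ShortComplex.mk α β w).Exact := ShortComplex.exact_of_g_is_cokernel _ hcok
  have hepi : Epi β := by
    have : Epi (cokernel.π (f ≫ g) ≫ β) := by rw [hβ]; infer_instance
    exact epi_of_epi (cokernel.π (f ≫ g)) β
  have hmono : Mono α := by
    rw [Preadditive.mono_iff_cancel_zero]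
    intro T z hz
    obtain ⟨T', e, he, z', hz'⟩ := surjective_up_to_refinements_of_epi (cokernel.π f) z
    have h1 : (z' ≫ g) ≫ cokernel.π (f ≫ g) = 0 := by
      rw [Category.assoc, ← hα, ← Category.assoc, ← hz', Category.assoc, hz, comp_zero]
    let S : ShortComplex C := ShortComplex.mk (f ≫ g) (cokernel.π (f ≫ g)) (cokernel.condition _)
    have hS : S.Exact := ShortComplex.exact_of_g_is_cokernel _ (cokernelIsCokernel (f ≫ g))
    haveI : Mono S.f := (inferInstance : Mono (f ≫ g))
    have ha : hS.lift (z' ≫ g) h1 ≫ (f ≫ g) = z' ≫ g := hS.lift_f (z' ≫ g) h1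
    have h2 : z' = hS.lift (z' ≫ g) h1 ≫ f := by
      apply (cancel_mono g).1
      rw [Category.assoc, ha]
    have h3 : e ≫ z = 0 := by
      rw [hz', h2, Category.assoc, cokernel.condition, comp_zero]
    exact (cancel_epi e).1 (h3.trans comp_zero.symm)
  exact { exact := hex, mono_f := hmono, epi_g := hepi }

end Groth.Agent.Helper9.ThirdIso
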