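import Mathlib
import Groth.Prelude.Def_TopMod
import Groth.Prelude.Def_LinTop

/-!
# Formally left invertible maps of topological modules with deduced topologies
-/

set_option autoImplicit false
set_option linter.unusedSectionVars false
set_option linter.style.haveILetI false

universe u v w

namespace Groth.Agent.Helper9.TopModLib

open TopMod

section Alg

variable {A : Type u} {M : Type v} {N : Type w} [CommRing A]
  [AddCommGroup M] [Module A M] [AddCommGroup N] [Module A N]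

/-- Any linear map kills `J • N` modulo `J • M`. -/
lemma map_mem_smul_top (J : Ideal A) (r : N →ₗ[A] M) (y : N)
    (hy : y ∈ (J • ⊤ : Submodule A N)) : r y ∈ (J • ⊤ : Submodule A M) := by
  refine Submodule.smul_induction_on hy ?_ ?_
  · intro a ha n _
    rw [map_smul]
    exact Submodule.smul_mem_smul ha Submodule.mem_top
  · intro x y hx hy
    rw [map_add]
    exact Submodule.add_mem _ hx hy

/-- A module killed by `J`: linear maps into it kill `J • N`. -/
lemma map_eq_zero_of_killed {X : Type*} [AddCommGroup X] [Module A X] (J : Ideal A)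
    (hX : ∀ a ∈ J, ∀ x : X, a • x = 0) (r : N →ₗ[A] X) (y : N)
    (hy : y ∈ (J • ⊤ : Submodule A N)) : r y = 0 := by
  refine Submodule.smul_induction_on hy ?_ ?_
  · intro a ha n _
    rw [map_smul]
    exact hX a ha _
  · intro x y hx hy
    rw [map_add, hx, hy, add_zero]

lemma killed_quot (J : Ideal A) (a : A) (ha : a ∈ J) (x : M ⧸ (J • ⊤ : Submodule A M)) :
    a • x = 0 := by
  obtain ⟨m, rfl⟩ := Submodule.Quotient.mk_surjective _ x
  rw [← Submodule.Quotient.mk_smul, Submodule.Quotient.mk_eq_zero]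
  exact Submodule.smul_mem_smul ha Submodule.mem_top

end Alg

section Basic

variable {A : Type u} {M : Type v} {N : Type w} [CommRing A] [TopologicalSpace A]
  [AddCommGroup M] [Module A M] [TopologicalSpace M] [AddCommGroup N] [Module A N]
  [TopologicalSpace N]

lemma smul_top_mem_nhds (hM : IsDeduced A M) (J : Ideal A) (hJ : IsOpen (J : Set A)) :
    ((J • ⊤ : Submodule A M) : Set M) ∈ nhds (0 : M) :=
  hM.2.mem_of_mem hJ

/-- A linear map to a discrete module killing some `J • N`, `J` open, is continuous. -/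
lemma continuous_of_kills (hN : IsDeduced A N) {E : Type*} [AddCommGroup E] [Module A E]
    [TopologicalSpace E] [DiscreteTopology E] (w : N →ₗ[A] E) (J : Ideal A)
    (hJ : IsOpen (J : Set A)) (h : ∀ y ∈ (J • ⊤ : Submodule A N), w y = 0) : Continuous w := by
  haveI : IsTopologicalAddGroup N := hN.1
  refine continuous_of_tendsto_nhds_zero w ?_
  rw [nhds_discrete E, Filter.tendsto_pure]
  filter_upwards [smul_top_mem_nhds hN J hJ] with y hy
  exact h y hy

/-- Lemma A: formal left invertibility is left invertibility modulo every open ideal. -/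
theorem formallyLeftInvertible_iff (hM : IsDeduced A M) (hN : IsDeduced A N) (u : M →L[A] N) :
    IsFormallyLeftInvertible u ↔ ∀ J : Ideal A, IsOpen (J : Set A) →
      ∃ r : N →ₗ[A] M ⧸ (J • ⊤ : Submodule A M), ∀ x, r (u x) = Submodule.Quotient.mk x := by
  constructor
  · intro h J hJ
    letI : TopologicalSpace (M ⧸ (J • ⊤ : Submodule A M)) := ⊥
    haveI : DiscreteTopology (M ⧸ (J • ⊤ : Submodule A M)) := ⟨rfl⟩
    have hc : Continuous (Submodule.mkQ (J • ⊤ : Submodule A M)) :=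
      continuous_of_kills hM _ J hJ (fun y hy => (Submodule.Quotient.mk_eq_zero _).2 hy)
    obtain ⟨w, hw⟩ := h (M ⧸ (J • ⊤ : Submodule A M)) ⟨Submodule.mkQ _, hc⟩
    exact ⟨w.toLinearMap, hw⟩
  · intro h E _ _ _ _ v
    have hker : (v ⁻¹' {0}) ∈ nhds (0 : M) :=
      (v.continuous.isOpen_preimage _ (isOpen_discrete _)).mem_nhds (by simp)
    obtain ⟨J, hJ, hJv⟩ := hM.2.mem_iff.1 hker
    obtain ⟨r, hr⟩ := h J hJ
    have hle : (J • ⊤ : Submodule A M) ≤ LinearMap.ker v.toLinearMap := fun x hx => hJv hx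
    let vbar : (M ⧸ (J • ⊤ : Submodule A M)) →ₗ[A] E := Submodule.liftQ _ v.toLinearMap hle
    have hc : Continuous (vbar ∘ₗ r) :=
      continuous_of_kills hN _ J hJ (fun y hy => by
        rw [LinearMap.comp_apply, map_eq_zero_of_killed J (killed_quot J) r y hy, map_zero])
    refine ⟨⟨vbar ∘ₗ r, hc⟩, fun x => ?_⟩
    change vbar (r (u x)) = v x
    rw [hr x]
    rfl

end Basic

section RelProj

variable {A : Type u} [CommRing A]

/-- Relative projectivity: lifting property of `P` against surjections of modules killed by `J`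
(test modules in universe `v`). -/
def RelProj (J : Ideal A) (P : Type w) [AddCommGroup P] [Module A P] : Prop :=
  ∀ (X Y : Type v) [AddCommGroup X] [Module A X] [AddCommGroup Y] [Module A Y],
    (∀ a ∈ J, ∀ x : X, a • x = 0) → ∀ (f : X →ₗ[A] Y), Function.Surjective f →
      ∀ g : P →ₗ[A] Y, ∃ h : P →ₗ[A] X, f ∘ₗ h = g

/-- The map `A ⧸ J → X`, `1 ↦ x`, for a module `X` killed by `J`. -/
noncomputable def fromQ (J : Ideal A) {X : Type*} [AddCommGroup X] [Module A X]
    (hX : ∀ a ∈ J, ∀ x : X, a • x = 0) (x : X) : (A ⧸ J) →ₗ[A] X :=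
  Submodule.liftQ J (LinearMap.toSpanSingleton A X x) (fun a ha => by
    rw [LinearMap.mem_ker, LinearMap.toSpanSingleton_apply]
    exact hX a ha x)

lemma fromQ_mk (J : Ideal A) {X : Type*} [AddCommGroup X] [Module A X]
    (hX : ∀ a ∈ J, ∀ x : X, a • x = 0) (x : X) (a : A) :
    fromQ J hX x (Ideal.Quotient.mk J a) = a • x := by
  change Submodule.liftQ J (LinearMap.toSpanSingleton A X x) _ (Submodule.Quotient.mk a) = _
  rw [Submodule.liftQ_apply, LinearMap.toSpanSingleton_apply]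

/-- Lemma P: projectivity of `P/JP` over `A/J` gives the relative lifting property. -/
theorem relProj_of_projective (J : Ideal A) (P : Type w) [AddCommGroup P] [Module A P]
    (hP : Module.Projective (A ⧸ J) (P ⧸ (J • ⊤ : Submodule A P))) : RelProj.{u, v, w} J P := by
  intro X Y _ _ _ _ hX f hf g
  have hY : ∀ a ∈ J, ∀ y : Y, a • y = 0 := by
    intro a ha y
    obtain ⟨x, rfl⟩ := hf y
    rw [← map_smul, hX a ha x, map_zero]
  -- the induced map `P/JP → Y`
  let gbar : (P ⧸ (J • ⊤ : Submodule A P)) →ₗ[A] Y :=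
    Submodule.liftQ _ g (fun y hy => map_eq_zero_of_killed (N := P) J hY g y hy)
  obtain ⟨s, hs⟩ := Module.projective_def'.1 hP
  -- choose lifts
  choose c hc using fun pb : P ⧸ (J • ⊤ : Submodule A P) => hf (gbar pb)
  let Φ : ((P ⧸ (J • ⊤ : Submodule A P)) →₀ (A ⧸ J)) →ₗ[A] X :=
    Finsupp.lsum A (fun pb => fromQ J hX (c pb))
  have hΦ : ∀ ξ : (P ⧸ (J • ⊤ : Submodule A P)) →₀ (A ⧸ J),
      f (Φ ξ) = gbar (Finsupp.linearCombination (A ⧸ J) id ξ) := by
    intro ξ
    induction ξ using Finsupp.induction_linear with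
    | zero => simp
    | add x y hx hy => rw [map_add, map_add, hx, hy, map_add, map_add]
    | single pb cb =>
      obtain ⟨a, rfl⟩ := Ideal.Quotient.mk_surjective cb
      rw [Finsupp.linearCombination_single, id]
      change f (Finsupp.lsum A (fun pb => fromQ J hX (c pb)) (Finsupp.single pb _)) = _
      rw [Finsupp.lsum_single, fromQ_mk, map_smul, hc]
      have : (Ideal.Quotient.mk J a) • pb = a • pb := by
        obtain ⟨p, rfl⟩ := Submodule.Quotient.mk_surjective _ pb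
        rfl
      rw [this, map_smul]
  refine ⟨Φ ∘ₗ (s.restrictScalars A) ∘ₗ Submodule.mkQ _, ?_⟩
  ext p
  change f (Φ (s (Submodule.Quotient.mk p))) = g p
  rw [hΦ]
  have := LinearMap.congr_fun hs (Submodule.Quotient.mk p)
  change Finsupp.linearCombination (A ⧸ J) id (s (Submodule.Quotient.mk p)) = _ at this
  rw [this]
  rfl

/-- Relative projectivity passes to the cokernel of a map which is split injective modulo `J`. -/
theorem relProj_coker (J : Ideal A) {M : Type v} {N : Type w} [AddCommGroup M] [Module A M]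
    [AddCommGroup N] [Module A N] (u : M →ₗ[A] N) (hN : RelProj.{u, v, w} J N)
    (ρ : N →ₗ[A] M ⧸ (J • ⊤ : Submodule A M)) (hρ : ∀ x, ρ (u x) = Submodule.Quotient.mk x) :
    RelProj.{u, v, w} J (N ⧸ LinearMap.range u) := by
  intro X Y _ _ _ _ hX f hf g
  obtain ⟨h₀, hh₀⟩ := hN X Y hX f hf (g ∘ₗ Submodule.mkQ _)
  -- `h₀ ∘ u` factors through `M/JM`
  let k : (M ⧸ (J • ⊤ : Submodule A M)) →ₗ[A] X :=
    Submodule.liftQ _ (h₀ ∘ₗ u) (fun y hy => map_eq_zero_of_killed (N := M) J hX _ y hy)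
  have hk : ∀ x, k (Submodule.Quotient.mk x) = h₀ (u x) := fun x => rfl
  have hfk : ∀ z, f (k z) = 0 := by
    intro z
    obtain ⟨x, rfl⟩ := Submodule.Quotient.mk_surjective _ z
    rw [hk]
    have := LinearMap.congr_fun hh₀ (u x)
    change f (h₀ (u x)) = g (Submodule.Quotient.mk (u x)) at this
    rw [this]
    have : (Submodule.Quotient.mk (u x) : N ⧸ LinearMap.range u) = 0 :=
      (Submodule.Quotient.mk_eq_zero _).2 ⟨x, rfl⟩
    rw [this, map_zero]
  let h₁ : N →ₗ[A] X := h₀ - k ∘ₗ ρ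
  have hh₁ : LinearMap.range u ≤ LinearMap.ker h₁ := by
    rintro _ ⟨x, rfl⟩
    change h₀ (u x) - k (ρ (u x)) = 0
    rw [hρ, hk, sub_self]
  refine ⟨Submodule.liftQ _ h₁ hh₁, ?_⟩
  ext n
  change f (h₀ n - k (ρ n)) = g (Submodule.Quotient.mk n)
  rw [map_sub, hfk, sub_zero]
  exact LinearMap.congr_fun hh₀ n

end RelProj

section Complete

variable {A : Type u} {M : Type v} [CommRing A] [TopologicalSpace A]
  [AddCommGroup M] [Module A M] [UniformSpace M] [IsUniformAddGroup M]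
  (𝔍 : ℕ → Ideal A) (h𝔍open : ∀ n, IsOpen (𝔍 n : Set A)) (h𝔍anti : Antitone 𝔍)
  (h𝔍basis : (nhds (0 : A)).HasBasis (fun _ : ℕ => True) (fun n => (𝔍 n : Set A)))
  (hM : IsDeduced A M)

include h𝔍open h𝔍basis hM in
lemma hasBasis_nat :
    (nhds (0 : M)).HasBasis (fun _ : ℕ => True)
      (fun n => ((𝔍 n • ⊤ : Submodule A M) : Set M)) := by
  refine ⟨fun U => ⟨fun hU => ?_, fun ⟨n, _, hn⟩ => ?_⟩⟩
  · obtain ⟨J, hJ, hJU⟩ := hM.2.mem_iff.1 hU
    obtain ⟨n, -, hn⟩ := h𝔍basis.mem_iff.1 (hJ.mem_nhds J.zero_mem)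
    refine ⟨n, trivial, subset_trans ?_ hJU⟩
    exact Submodule.smul_mono_left (fun a ha => hn ha)
  · exact Filter.mem_of_superset (smul_top_mem_nhds hM (𝔍 n) (h𝔍open n)) hn

include h𝔍open hM in
lemma isClosed_smul_top (n : ℕ) : IsClosed ((𝔍 n • ⊤ : Submodule A M) : Set M) := by
  have h1 : IsOpen (((𝔍 n • ⊤ : Submodule A M).toAddSubgroup : AddSubgroup M) : Set M) :=
    AddSubgroup.isOpen_of_mem_nhds _ (smul_top_mem_nhds hM (𝔍 n) (h𝔍open n))
  exact AddSubgroup.isClosed_of_isOpen _ h1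

include h𝔍anti in
lemma sub_mem_of_le (x : ℕ → M) (hx : ∀ n, x (n + 1) - x n ∈ (𝔍 n • ⊤ : Submodule A M))
    (n m : ℕ) (hnm : n ≤ m) : x m - x n ∈ (𝔍 n • ⊤ : Submodule A M) := by
  induction m, hnm using Nat.le_induction with
  | base => rw [sub_self]; exact Submodule.zero_mem _
  | succ m hm ih =>
    have h1 : x (m + 1) - x m ∈ (𝔍 n • ⊤ : Submodule A M) :=
      Submodule.smul_mono_left (h𝔍anti hm) (hx m)
    have : x (m + 1) - x n = (x (m + 1) - x m) + (x m - x n) := by abel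
    rw [this]
    exact Submodule.add_mem _ h1 ih

include h𝔍open h𝔍anti h𝔍basis hM in
/-- In a complete module, a sequence with `x (n+1) - x n ∈ 𝔍 n • M` has a limit `l` with
`l - x n ∈ 𝔍 n • M` for all `n`. -/
lemma exists_limit [CompleteSpace M] (x : ℕ → M)
    (hx : ∀ n, x (n + 1) - x n ∈ (𝔍 n • ⊤ : Submodule A M)) :
    ∃ l : M, ∀ n, l - x n ∈ (𝔍 n • ⊤ : Submodule A M) := by
  have hb := hasBasis_nat 𝔍 h𝔍open h𝔍basis hM
  have hub : (uniformity M).HasBasis (fun _ : ℕ => True)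
      (fun n => {p : M × M | p.2 - p.1 ∈ (𝔍 n • ⊤ : Submodule A M)}) := by
    rw [uniformity_eq_comap_nhds_zero M]
    exact hb.comap _
  have hc : CauchySeq x := by
    rw [hub.cauchySeq_iff]
    intro n _
    refine ⟨n, fun m hm k hk => ?_⟩
    change x k - x m ∈ (𝔍 n • ⊤ : Submodule A M)
    have h1 := sub_mem_of_le 𝔍 h𝔍anti x hx n k hk
    have h2 := sub_mem_of_le 𝔍 h𝔍anti x hx n m hm
    have : x k - x m = (x k - x n) - (x m - x n) := by abel
    rw [this]
    exact Submodule.sub_mem _ h1 h2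
  obtain ⟨l, hl⟩ := cauchySeq_tendsto_of_complete hc
  refine ⟨l, fun n => ?_⟩
  have hcl : IsClosed {z : M | z - x n ∈ (𝔍 n • ⊤ : Submodule A M)} :=
    (isClosed_smul_top 𝔍 h𝔍open hM n).preimage (continuous_id.sub continuous_const)
  refine hcl.mem_of_tendsto hl ?_
  rw [Filter.eventually_atTop]
  exact ⟨n, fun m hm => sub_mem_of_le 𝔍 h𝔍anti x hx n m hm⟩

include h𝔍open h𝔍basis hM in
lemma eq_zero_of_forall_mem [T2Space M] (z : M)
    (hz : ∀ n, z ∈ (𝔍 n • ⊤ : Submodule A M)) : z = 0 := by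
  by_contra hne
  have hb := hasBasis_nat 𝔍 h𝔍open h𝔍basis hM
  have hU : ({z}ᶜ : Set M) ∈ nhds (0 : M) :=
    isOpen_compl_singleton.mem_nhds (by simpa using Ne.symm hne)
  obtain ⟨n, -, hn⟩ := hb.mem_iff.1 hU
  exact hn (hz n) rfl

end Complete

section Core

variable {A : Type u} {M : Type v} {N : Type w} [CommRing A]
  [AddCommGroup M] [Module A M] [AddCommGroup N] [Module A N]

/-- One step of the inductive construction of a compatible system of left inverses. -/
lemma step (J₁ J₀ : Ideal A) (hle : J₁ ≤ J₀) (u : M →ₗ[A] N)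
    (hRP : RelProj.{u, v, w} J₁ (N ⧸ LinearMap.range u))
    (ρ : N →ₗ[A] M ⧸ (J₀ • ⊤ : Submodule A M)) (hρ : ∀ x, ρ (u x) = Submodule.Quotient.mk x)
    (hex : ∃ ρ' : N →ₗ[A] M ⧸ (J₁ • ⊤ : Submodule A M),
      ∀ x, ρ' (u x) = Submodule.Quotient.mk x) :
    ∃ ρ₁ : N →ₗ[A] M ⧸ (J₁ • ⊤ : Submodule A M),
      (∀ x, ρ₁ (u x) = Submodule.Quotient.mk x) ∧
        (Submodule.factor (Submodule.smul_mono_left hle :
          (J₁ • ⊤ : Submodule A M) ≤ J₀ • ⊤)) ∘ₗ ρ₁ = ρ := by
  obtain ⟨ρ', hρ'⟩ := hex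
  set τ := Submodule.factor (Submodule.smul_mono_left hle :
    (J₁ • ⊤ : Submodule A M) ≤ J₀ • ⊤) with hτ
  let d : N →ₗ[A] M ⧸ (J₀ • ⊤ : Submodule A M) := ρ - τ ∘ₗ ρ'
  have hd : LinearMap.range u ≤ LinearMap.ker d := by
    rintro _ ⟨x, rfl⟩
    change ρ (u x) - τ (ρ' (u x)) = 0
    rw [hρ, hρ']
    change _ - τ (Submodule.mkQ _ x) = 0
    rw [Submodule.factor_mk]
    exact sub_self _
  obtain ⟨e, he⟩ := hRP (M ⧸ (J₁ • ⊤ : Submodule A M)) (M ⧸ (J₀ • ⊤ : Submodule A M))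
    (killed_quot J₁) τ (Submodule.factor_surjective _) (Submodule.liftQ _ d hd)
  refine ⟨ρ' + e ∘ₗ Submodule.mkQ _, fun x => ?_, ?_⟩
  · change ρ' (u x) + e (Submodule.Quotient.mk (u x)) = _
    have : (Submodule.Quotient.mk (u x) : N ⧸ LinearMap.range u) = 0 :=
      (Submodule.Quotient.mk_eq_zero _).2 ⟨x, rfl⟩
    rw [this, map_zero, add_zero, hρ']
  · ext y
    change τ (ρ' y + e (Submodule.Quotient.mk y)) = ρ y
    rw [map_add]
    have := LinearMap.congr_fun he (Submodule.Quotient.mk y)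
    change τ (e (Submodule.Quotient.mk y)) = ρ y - τ (ρ' y) at this
    rw [this]
    abel

end Core

section Main38

variable {A : Type u} {M : Type v} {N : Type w} [CommRing A] [TopologicalSpace A]
  [AddCommGroup M] [Module A M] [UniformSpace M] [IsUniformAddGroup M]
  [AddCommGroup N] [Module A N] [TopologicalSpace N]
  (𝔍 : ℕ → Ideal A) (h𝔍open : ∀ n, IsOpen (𝔍 n : Set A)) (h𝔍anti : Antitone 𝔍)
  (h𝔍basis : (nhds (0 : A)).HasBasis (fun _ : ℕ => True) (fun n => (𝔍 n : Set A)))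
  (hM : IsDeduced A M) (hN : IsDeduced A N) (u : M →L[A] N)

/-- Left inverses modulo `𝔍 n`. -/
abbrev LInv (n : ℕ) := {r : N →ₗ[A] M ⧸ (𝔍 n • ⊤ : Submodule A M) //
  ∀ x, r (u x) = Submodule.Quotient.mk x}

include h𝔍anti in
lemma step' (hRP : ∀ n, RelProj.{u, v, w} (𝔍 n) (N ⧸ LinearMap.range u.toLinearMap))
    (hex : ∀ n, Nonempty (LInv 𝔍 u n)) (n : ℕ) (r : LInv 𝔍 u n) :
    ∃ r₁ : LInv 𝔍 u (n + 1),
      (Submodule.factor (Submodule.smul_mono_left (h𝔍anti (Nat.le_succ n)) :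
        (𝔍 (n + 1) • ⊤ : Submodule A M) ≤ 𝔍 n • ⊤)) ∘ₗ r₁.1 = r.1 := by
  obtain ⟨r'⟩ := hex (n + 1)
  obtain ⟨ρ₁, h1, h2⟩ := step (𝔍 (n + 1)) (𝔍 n) (h𝔍anti (Nat.le_succ n)) u.toLinearMap
    (hRP (n + 1)) r.1 r.2 ⟨r'.1, r'.2⟩
  exact ⟨⟨ρ₁, h1⟩, h2⟩

/-- The compatible system. -/
noncomputable def seq (hRP : ∀ n, RelProj.{u, v, w} (𝔍 n) (N ⧸ LinearMap.range u.toLinearMap))
    (hex : ∀ n, Nonempty (LInv 𝔍 u n)) : (n : ℕ) → LInv 𝔍 u n
  | 0 => (hex 0).some
  | n + 1 => Classical.choose (step' 𝔍 h𝔍anti u hRP hex n (seq hRP hex n))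

lemma seq_compat (hRP : ∀ n, RelProj.{u, v, w} (𝔍 n) (N ⧸ LinearMap.range u.toLinearMap))
    (hex : ∀ n, Nonempty (LInv 𝔍 u n)) (n : ℕ) :
    (Submodule.factor (Submodule.smul_mono_left (h𝔍anti (Nat.le_succ n)) :
        (𝔍 (n + 1) • ⊤ : Submodule A M) ≤ 𝔍 n • ⊤)) ∘ₗ (seq 𝔍 h𝔍anti u hRP hex (n + 1)).1 =
      (seq 𝔍 h𝔍anti u hRP hex n).1 :=
  Classical.choose_spec (step' 𝔍 h𝔍anti u hRP hex n (seq 𝔍 h𝔍anti u hRP hex n))

include h𝔍open h𝔍anti h𝔍basis hM hN in
/-- Core of the countable case: formal left invertibility plus relative projectivity of the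
cokernel gives a linear left inverse, when `M` is Hausdorff and complete. -/
theorem exists_leftInverse [CompleteSpace M] [T2Space M]
    (hRP : ∀ n, RelProj.{u, v, w} (𝔍 n) (N ⧸ LinearMap.range u.toLinearMap))
    (hF : IsFormallyLeftInvertible u) : ∃ w : N →ₗ[A] M, ∀ x : M, w (u x) = x := by
  have hex : ∀ n, Nonempty (LInv 𝔍 u n) := fun n => by
    obtain ⟨r, hr⟩ := (formallyLeftInvertible_iff hM hN u).1 hF (𝔍 n) (h𝔍open n)
    exact ⟨⟨r, hr⟩⟩
  set S := seq 𝔍 h𝔍anti u hRP hex with hS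
  have hcompat : ∀ n (y : N), Submodule.factor (Submodule.smul_mono_left
      (h𝔍anti (Nat.le_succ n)) : (𝔍 (n + 1) • ⊤ : Submodule A M) ≤ 𝔍 n • ⊤) ((S (n + 1)).1 y) =
      (S n).1 y := fun n y => LinearMap.congr_fun (seq_compat 𝔍 h𝔍anti u hRP hex n) y
  have key : ∀ y : N, ∃ l : M, ∀ n,
      (Submodule.Quotient.mk l : M ⧸ (𝔍 n • ⊤ : Submodule A M)) = (S n).1 y := by
    intro y
    choose x hx using fun n => Submodule.Quotient.mk_surjective _ ((S n).1 y)
    have hstep : ∀ n, x (n + 1) - x n ∈ (𝔍 n • ⊤ : Submodule A M) := by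
      intro n
      rw [← Submodule.Quotient.eq, hx n, ← hcompat n y, ← hx (n + 1)]
      exact (Submodule.factor_mk _ _).symm
    obtain ⟨l, hl⟩ := exists_limit 𝔍 h𝔍open h𝔍anti h𝔍basis hM x hstep
    refine ⟨l, fun n => ?_⟩
    rw [← hx n, Submodule.Quotient.eq]
    exact hl n
  have uniq : ∀ l l' : M, (∀ n, (Submodule.Quotient.mk l : M ⧸ (𝔍 n • ⊤ : Submodule A M)) =
      Submodule.Quotient.mk l') → l = l' := by
    intro l l' h
    have := eq_zero_of_forall_mem 𝔍 h𝔍open h𝔍basis hM (l - l')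
      (fun n => (Submodule.Quotient.eq _).1 (h n))
    exact sub_eq_zero.1 this
  choose W hW using key
  refine ⟨{ toFun := W, map_add' := fun y y' => ?_, map_smul' := fun a y => ?_ }, fun x => ?_⟩
  · refine uniq _ _ fun n => ?_
    rw [hW, map_add, Submodule.Quotient.mk_add, hW, hW]
  · refine uniq _ _ fun n => ?_
    rw [hW, map_smul, RingHom.id_apply, Submodule.Quotient.mk_smul, hW]
  · refine uniq _ _ fun n => ?_
    change Submodule.Quotient.mk (W (u x)) = _
    rw [hW, (S n).2]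

end Main38

end Groth.Agent.Helper9.TopModLib
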