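import Mathlib
import Groth.Agent.Lib.Helper9.TopModLib

/-!
# Formally left invertible maps over preadmissible rings: reduction modulo an ideal of definition
-/

set_option autoImplicit false
set_option linter.unusedSectionVars false
set_option linter.style.haveILetI false

universe u v w

namespace Groth.Agent.Helper9.TopModLib

open TopMod

section Nilp

variable {A : Type u} {M : Type v} {N : Type w} [CommRing A]
  [AddCommGroup M] [Module A M] [AddCommGroup N] [Module A N]

lemma smul_top_eq_bot_of_killed {X : Type*} [AddCommGroup X] [Module A X] (J : Ideal A)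
    (hX : ∀ a ∈ J, ∀ x : X, a • x = 0) : (J • ⊤ : Submodule A X) = ⊥ := by
  rw [eq_bot_iff]
  intro y hy
  refine Submodule.smul_induction_on hy ?_ ?_
  · intro a ha x _
    rw [hX a ha x]
    exact Submodule.zero_mem _
  · intro x y hx hy
    exact Submodule.add_mem _ hx hy

lemma range_pow_le {X : Type*} [AddCommGroup X] [Module A X] (L : Ideal A)
    (ε : Module.End A X) (hε : ∀ z, ε z ∈ (L • ⊤ : Submodule A X)) (k : ℕ) :
    ∀ z, (ε ^ k) z ∈ (L ^ k • ⊤ : Submodule A X) := by
  induction k with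
  | zero =>
    intro z
    rw [pow_zero, Ideal.one_eq_top, Submodule.top_smul]
    exact Submodule.mem_top
  | succ k ih =>
    intro z
    have hz : (ε ^ (k + 1)) z = ε ((ε ^ k) z) := by rw [pow_succ', Module.End.mul_apply]
    rw [hz]
    have h1 := ih z
    have key : ∀ y ∈ (L ^ k • ⊤ : Submodule A X), ε y ∈ (L ^ (k + 1) • ⊤ : Submodule A X) := by
      intro y hy
      refine Submodule.smul_induction_on hy ?_ ?_
      · intro a ha x _
        rw [map_smul, pow_succ, Submodule.mul_smul]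
        exact Submodule.smul_mem_smul ha (hε x)
      · intro x y hx hy
        rw [map_add]
        exact Submodule.add_mem _ hx hy
    exact key _ h1

/-- Lifting a left inverse modulo `L` to a left inverse modulo `J'`, `L^n ≤ J' ≤ L`. -/
theorem lift_leftInverse_of_nilpotent (J' L : Ideal A) (hJL : J' ≤ L) (n : ℕ) (hn : L ^ n ≤ J')
    (u : M →ₗ[A] N) (hRP : RelProj.{u, v, w} J' N)
    (w₀ : N →ₗ[A] M ⧸ (L • ⊤ : Submodule A M))
    (hw₀ : ∀ x, w₀ (u x) = Submodule.Quotient.mk x) :
    ∃ r : N →ₗ[A] M ⧸ (J' • ⊤ : Submodule A M), ∀ x, r (u x) = Submodule.Quotient.mk x := by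
  set f := Submodule.factor (Submodule.smul_mono_left hJL :
    (J' • ⊤ : Submodule A M) ≤ L • ⊤) with hf
  have hX := killed_quot (M := M) J'
  obtain ⟨r₀, hr₀⟩ := hRP (M ⧸ (J' • ⊤ : Submodule A M)) (M ⧸ (L • ⊤ : Submodule A M)) hX f
    (Submodule.factor_surjective _) w₀
  let φ : Module.End A (M ⧸ (J' • ⊤ : Submodule A M)) :=
    Submodule.liftQ _ (r₀ ∘ₗ u) (fun y hy => map_eq_zero_of_killed (N := M) J' hX _ y hy)
  have hφ : ∀ x, φ (Submodule.Quotient.mk x) = r₀ (u x) := fun x => rfl
  set ε : Module.End A (M ⧸ (J' • ⊤ : Submodule A M)) := φ - 1 with hεdef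
  have hfε : ∀ z, f (ε z) = 0 := by
    intro z
    obtain ⟨x, rfl⟩ := Submodule.Quotient.mk_surjective _ z
    change f (φ (Submodule.Quotient.mk x) - Submodule.Quotient.mk x) = 0
    rw [map_sub, hφ]
    have h1 : f (r₀ (u x)) = w₀ (u x) := LinearMap.congr_fun hr₀ (u x)
    rw [h1, hw₀]
    change _ - f (Submodule.mkQ _ x) = 0
    rw [Submodule.factor_mk]
    exact sub_self _
  have hε : ∀ z, ε z ∈ (L • ⊤ : Submodule A (M ⧸ (J' • ⊤ : Submodule A M))) := by
    intro z
    obtain ⟨x, hx⟩ := Submodule.Quotient.mk_surjective _ (ε z)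
    have h0 := hfε z
    rw [← hx] at h0 ⊢
    change f (Submodule.mkQ _ x) = 0 at h0
    rw [Submodule.factor_mk] at h0
    have hxL : x ∈ (L • ⊤ : Submodule A M) := (Submodule.Quotient.mk_eq_zero _).1 h0
    have : (L • ⊤ : Submodule A (M ⧸ (J' • ⊤ : Submodule A M))) =
        (L • ⊤ : Submodule A M).map (Submodule.mkQ _) := by
      rw [Submodule.map_smul'', Submodule.map_top, Submodule.range_mkQ]
    rw [this]
    exact ⟨x, hxL, rfl⟩
  have hnil : IsNilpotent ε := by
    refine ⟨n, ?_⟩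
    apply LinearMap.ext
    intro z
    have h1 := range_pow_le L ε hε n z
    have h2 : (L ^ n • ⊤ : Submodule A (M ⧸ (J' • ⊤ : Submodule A M))) ≤ ⊥ := by
      rw [← smul_top_eq_bot_of_killed J' hX]
      exact Submodule.smul_mono_left hn
    simpa using h2 h1
  have hunit : IsUnit φ := by
    have : φ = 1 + ε := by rw [hεdef]; abel
    rw [this]
    exact hnil.isUnit_one_add
  obtain ⟨⟨_, ψ, -, hψ⟩, rfl⟩ := hunit
  refine ⟨ψ ∘ₗ r₀, fun x => ?_⟩
  change ψ (r₀ (u x)) = _
  rw [← hφ x]
  change (ψ * _) (Submodule.Quotient.mk x) = _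
  rw [hψ]
  rfl

end Nilp

section Preadm

variable {A : Type u} {M : Type v} {N : Type w} [CommRing A] [TopologicalSpace A]
  [AddCommGroup M] [Module A M] [TopologicalSpace M] [AddCommGroup N] [Module A N]
  [TopologicalSpace N]

/-- Over a ring with an ideal of definition `𝔏`, with `N/JN` projective for all open `J`:
formal left invertibility is left invertibility modulo `𝔏`. -/
theorem formallyLeftInvertible_iff_mod (𝔏 : Ideal A) (h𝔏 : LinTop.IsIdealOfDefinition A 𝔏)
    (hM : IsDeduced A M) (hN : IsDeduced A N)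
    (hproj : ∀ J : Ideal A, IsOpen (J : Set A) →
      Module.Projective (A ⧸ J) (N ⧸ (J • (⊤ : Submodule A N))))
    (u : M →L[A] N) :
    IsFormallyLeftInvertible u ↔
      ∃ w : N →ₗ[A] M ⧸ (𝔏 • ⊤ : Submodule A M), ∀ x : M, w (u x) = Submodule.Quotient.mk x := by
  rw [formallyLeftInvertible_iff hM hN u]
  constructor
  · intro h
    exact h 𝔏 h𝔏.1
  · rintro ⟨w₀, hw₀⟩ J hJ
    have hJ' : IsOpen ((J ⊓ 𝔏 : Ideal A) : Set A) := by
      rw [Submodule.coe_inf]
      exact hJ.inter h𝔏.1
    obtain ⟨n, -, hn⟩ := h𝔏.2 _ (hJ'.mem_nhds (Submodule.zero_mem _))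
    obtain ⟨r, hr⟩ := lift_leftInverse_of_nilpotent (J ⊓ 𝔏) 𝔏 inf_le_right n (fun a ha => hn ha)
      u.toLinearMap (relProj_of_projective _ _ (hproj _ hJ')) w₀ hw₀
    have hle : ((J ⊓ 𝔏) • ⊤ : Submodule A M) ≤ J • ⊤ := Submodule.smul_mono_left inf_le_left
    refine ⟨Submodule.factor hle ∘ₗ r, fun x => ?_⟩
    change Submodule.factor hle (r (u x)) = _
    have := hr x
    change r (u x) = Submodule.mkQ _ x at this
    rw [this, Submodule.factor_mk]
    rfl

end Preadm

end Groth.Agent.Helper9.TopModLib
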