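import Mathlib
import Groth.Prelude.Def_DerSch
import Groth.Prelude.Def_DTor2
import Groth.Agent.Lib.Helper5.LTen8
import Groth.Agent.Lib.Helper5.KResB1
import Groth.Agent.Lib.Helper5.FPC2
import Groth.Agent.Lib.Helper11.TorAmp9

/-!
# Absolute tor amplitude (flat representative) versus stalkwise tor amplitude
-/

set_option autoImplicit false
set_option linter.style.haveILetI false
set_option linter.unusedVariables false
universe u

open CategoryTheory CategoryTheory.Limits AlgebraicGeometry DerivedCategory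

attribute [local instance] HasDerivedCategory.standard

namespace Groth.Agent.Helper9.TorId

open Groth.Agent.Helper11.TA Groth.Agent.Helper11.DC Groth.Agent.Helper5.StalkCx
  Groth.Agent.Helper5.KRes Groth.Agent.Helper5.LDer

variable {X : Scheme.{u}}

/-- the stalk over the base of the identity is the stalk -/
noncomputable def stalkOverIdIso (x : X) :
    DerSch.stalkOver (𝟙 X) x ≅ DerSch.stalkFunctor X x :=
  Functor.isoWhiskerLeft (DerSch.stalkFunctor X x)
    (ModuleCat.restrictScalarsId'.{u} ((𝟙 X : X ⟶ X).stalkMap x).hom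
      (by rw [Scheme.Hom.stalkMap_id]; rfl)) ≪≫
    Functor.rightUnitor _

noncomputable def stalkCxIdIso (x : X) (F : CochainComplex X.Modules ℤ) :
    (DerSch.stalkCxOver (𝟙 X) x).obj F ≅ stalkCx x F :=
  HomologicalComplex.Hom.isoOfComponents (fun i => (stalkOverIdIso x).app (F.X i))
    (fun i j _ => ((stalkOverIdIso x).hom.naturality (F.d i j)).symm)

theorem hasTorAmplitudeAt_id_iff (x : X) (F : CochainComplex X.Modules ℤ) (a b : ℤ) :
    DerSch.HasTorAmplitudeAt (𝟙 X) a b F x ↔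
      DRing.HasTorAmplitudeIn (X.presheaf.stalk x) a b (DRing.toD (stalkCx x F)) := by
  constructor
  · rintro ⟨E, hE, hfl, ⟨e⟩⟩
    exact ⟨E, hE, hfl, ⟨e ≪≫ Q.mapIso (stalkCxIdIso x F)⟩⟩
  · rintro ⟨E, hE, hfl, ⟨e⟩⟩
    exact ⟨E, hE, hfl, ⟨e ≪≫ (Q.mapIso (stalkCxIdIso x F)).symm⟩⟩

/-- the stalk functor on isomorphisms in the derived category -/
noncomputable def stalkDIso (x : X) {E F : CochainComplex X.Modules ℤ}
    (e : Q.obj E ≅ Q.obj F) : DRing.toD (stalkCx x E) ≅ DRing.toD (stalkCx x F) :=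
  ((DerSch.stalkFunctor X x).mapDerivedCategoryFactors.app E).symm ≪≫
    (DerSch.stalkFunctor X x).mapDerivedCategory.mapIso e ≪≫
    (DerSch.stalkFunctor X x).mapDerivedCategoryFactors.app F

theorem hasTorAmplitude_of_hasFlatAmplitudeIn (F : CochainComplex X.Modules ℤ) (a b : ℤ)
    (h : DCoh.HasFlatAmplitudeIn a b (DCoh.toD X F)) : DerSch.HasTorAmplitude (𝟙 X) a b F := by
  obtain ⟨E, hE, hfl, ⟨e⟩⟩ := h
  intro x
  rw [hasTorAmplitudeAt_id_iff]
  exact ⟨stalkCx x E, fun i hi => (DerSch.stalkFunctor X x).map_isZero (hE i hi),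
    fun i => hfl i x, ⟨stalkDIso x e⟩⟩

/-- kernel at the top of a bounded above flat complex which is exact above `b` -/
theorem flat_ker_top {R : Type u} [CommRing R] (C : CochainComplex (ModuleCat.{u} R) ℤ) (b c : ℤ)
    (hc : ∀ i : ℤ, c < i → IsZero (C.X i)) (hflat : ∀ i : ℤ, Module.Flat R (C.X i))
    (hex : ∀ i : ℤ, b < i → C.ExactAt i) :
    Module.Flat R (LinearMap.ker (C.d b (b + 1)).hom) := by
  obtain ⟨p, hp, hex', -⟩ := exists_ses C b (b + 1) (b + 1 + 1) rfl rfl (hex (b + 1) (by omega))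
  haveI := hflat b
  haveI := Groth.Agent.Helper5.FPC.flat_ker_of_exact_above C (b + 1) c hc (fun i _ => hflat i)
    (fun i hi => hex i (by omega)) (b + 1) (b + 1 + 1) rfl le_rfl
  exact flat_of_exact (LinearMap.ker (C.d b (b + 1)).hom).subtype p
    (Submodule.injective_subtype _) hp hex'

theorem isFlat_truncLE_X (K : CochainComplex X.Modules ℤ)
    (hfl : ∀ i : ℤ, FlatMod.IsFlat (K.X i)) (b c : ℤ)
    (hc : ∀ i : ℤ, c < i → IsZero (K.X i)) (hex : ∀ i : ℤ, b < i → K.ExactAt i) (i : ℤ) :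
    FlatMod.IsFlat ((K.truncLE b).X i) := by
  rcases lt_trichotomy i b with hi | hi | hi
  · exact isFlat_of_iso (K.truncLEXIso b i hi).symm (hfl i)
  · subst hi
    refine isFlat_of_iso (K.truncLEXIsoCycles i).symm
      (isFlat_cycles_of_stalks K i (i + 1) rfl (fun x => ?_))
    refine flat_ker_top (stalkCx x K) i c
      (fun k hk => (DerSch.stalkFunctor X x).map_isZero (hc k hk)) (fun k => hfl k x)
      (fun k hk => ?_)
    rw [HomologicalComplex.exactAt_iff_isZero_homology]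
    exact isZero_homology_stalk K k
      ((HomologicalComplex.exactAt_iff_isZero_homology _ _).mp (hex k hk)) x
  · exact isFlat_of_isZero _ ((K.truncLE b).isZero_of_isStrictlyLE b i hi)

theorem isFlat_truncGE_X (K : CochainComplex X.Modules ℤ)
    (hfl : ∀ i : ℤ, FlatMod.IsFlat (K.X i)) (a : ℤ)
    (hco : FlatMod.IsFlat (cokernel (K.d (a - 1) a))) (i : ℤ) :
    FlatMod.IsFlat ((K.truncGE a).X i) := by
  rcases lt_trichotomy i a with hi | hi | hi
  · exact isFlat_of_isZero _ ((K.truncGE a).isZero_of_isStrictlyGE a i hi)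
  · subst hi
    exact isFlat_of_iso ((K.truncGEXIsoOpcycles i ≪≫
      K.opcyclesIsoSc' (i - 1) i (i + 1) (by simp) (by simp) ≪≫
      (K.sc' (i - 1) i (i + 1)).opcyclesIsoCokernel)).symm hco
  · exact isFlat_of_iso (K.truncGEXIso a i hi).symm (hfl i)

theorem torVanCx_stalk (F K : CochainComplex X.Modules ℤ) (φ : K ⟶ F) [QuasiIso φ] (a b c : ℤ)
    (hF : DerSch.HasTorAmplitude (𝟙 X) a b F) (hfl : ∀ i : ℤ, FlatMod.IsFlat (K.X i))
    (hc : ∀ i : ℤ, c < i → IsZero (K.X i)) (x : X) : TorVanCx a b (stalkCx x K) := by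
  have h1 : TorVan a b (DRing.toD (stalkCx x F)) :=
    hasTorAmplitudeIn_iff_torVan.mp ((hasTorAmplitudeAt_id_iff x F a b).mp (hF x))
  haveI : QuasiIso (((DerSch.stalkFunctor X x).mapHomologicalComplex (ComplexShape.up ℤ)).map φ) :=
    inferInstance
  have e : Q.obj (stalkCx x K) ≅ DRing.toD (stalkCx x F) :=
    asIso (Q.map (((DerSch.stalkFunctor X x).mapHomologicalComplex (ComplexShape.up ℤ)).map φ))
  exact torVanCx_of_torVan h1 (stalkCx x K) c
    (fun i hi => (DerSch.stalkFunctor X x).map_isZero (hc i hi)) (fun i => hfl i x) e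

theorem exactAt_of_torVanCx_stalks (K : CochainComplex X.Modules ℤ) (a b : ℤ)
    (h : ∀ x : X, TorVanCx a b (stalkCx x K)) (i : ℤ) (hi : i < a ∨ b < i) : K.ExactAt i := by
  rw [HomologicalComplex.exactAt_iff_isZero_homology]
  apply isZero_homology_of_stalks
  intro x
  rw [← HomologicalComplex.exactAt_iff_isZero_homology]
  exact exactAt_of_homology_isZero _ i (isZero_homology_of_torVanCx _ (h x) i hi)

theorem hasFlatAmplitudeIn_of_hasTorAmplitude (F : CochainComplex X.Modules ℤ) (d : ℤ)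
    [(DCoh.toD X F).IsLE d] (a b : ℤ) (hF : DerSch.HasTorAmplitude (𝟙 X) a b F) :
    DCoh.HasFlatAmplitudeIn a b (DCoh.toD X F) := by
  haveI : F.IsLE d := (DerivedCategory.isLE_Q_obj_iff F d).mp inferInstance
  obtain ⟨K, q, hK, hfl, hq, hKz⟩ :=
    Groth.Agent.Helper5.KResB.exists_kFlat_resolution_bddAbove (F.truncLE d) d
      (fun i hi => (F.truncLE d).isZero_of_isStrictlyLE d i hi)
  haveI := hq
  let φ : K ⟶ F := q ≫ F.ιTruncLE d
  haveI : QuasiIso φ := inferInstance
  have e0 : Q.obj K ≅ Q.obj F := asIso (Q.map φ)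
  have hv : ∀ x, TorVanCx a b (stalkCx x K) := torVanCx_stalk F K φ a b d hF hfl hKz
  have hex := exactAt_of_torVanCx_stalks K a b hv
  haveI : K.IsLE b := by
    rw [CochainComplex.isLE_iff]
    exact fun i hi => hex i (Or.inr hi)
  haveI : K.IsGE a := by
    rw [CochainComplex.isGE_iff]
    exact fun i hi => hex i (Or.inl hi)
  have hfl2 : ∀ i, FlatMod.IsFlat ((K.truncLE b).X i) :=
    isFlat_truncLE_X K hfl b d hKz (fun i hi => hex i (Or.inr hi))
  have e1 : Q.obj (K.truncLE b) ≅ Q.obj K := asIso (Q.map (K.ιTruncLE b))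
  haveI : (K.truncLE b).IsGE a :=
    (HomologicalComplex.isSupported_iff_of_quasiIso (K.ιTruncLE b) _).mpr inferInstance
  haveI : QuasiIso (K.ιTruncLE b ≫ φ) := inferInstance
  have hv2 : ∀ x, TorVanCx a b (stalkCx x (K.truncLE b)) :=
    torVanCx_stalk F (K.truncLE b) (K.ιTruncLE b ≫ φ) a b b hF hfl2
      (fun i hi => (K.truncLE b).isZero_of_isStrictlyLE b i hi)
  have hco : FlatMod.IsFlat (cokernel ((K.truncLE b).d (a - 1) a)) := by
    apply isFlat_cokernel_of_stalks
    intro x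
    exact flat_coker_of_torVanCx (stalkCx x (K.truncLE b)) (fun i => hfl2 i x) (hv2 x)
  have hfl3 := isFlat_truncGE_X (K.truncLE b) hfl2 a hco
  have e2 : Q.obj (K.truncLE b) ≅ Q.obj ((K.truncLE b).truncGE a) :=
    asIso (Q.map ((K.truncLE b).πTruncGE a))
  refine ⟨(K.truncLE b).truncGE a, ?_, hfl3, ⟨e2.symm ≪≫ e1 ≪≫ e0⟩⟩
  intro i hi
  by_cases hia : i < a
  · exact ((K.truncLE b).truncGE a).isZero_of_isStrictlyGE a i hia
  · have hbi : b < i := by omega
    have hz : IsZero ((K.truncLE b).X i) := (K.truncLE b).isZero_of_isStrictlyLE b i hbi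
    by_cases hia' : a < i
    · exact IsZero.of_iso hz ((K.truncLE b).truncGEXIso a i hia')
    · obtain rfl : i = a := by omega
      refine IsZero.of_iso ?_ ((K.truncLE b).truncGEXIsoOpcycles i ≪≫
        (K.truncLE b).opcyclesIsoSc' (i - 1) i (i + 1) (by simp) (by simp) ≪≫
        ((K.truncLE b).sc' (i - 1) i (i + 1)).opcyclesIsoCokernel)
      exact IsZero.of_epi (cokernel.π _) hz

theorem main (F : CochainComplex X.Modules ℤ) (d : ℤ) [(DCoh.toD X F).IsLE d] (a b : ℤ) :
    DCoh.HasFlatAmplitudeIn a b (DCoh.toD X F) ↔ DerSch.HasTorAmplitude (𝟙 X) a b F :=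
  ⟨hasTorAmplitude_of_hasFlatAmplitudeIn F a b, hasFlatAmplitudeIn_of_hasTorAmplitude F d a b⟩

end Groth.Agent.Helper9.TorId
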