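import Mathlib
import Groth.Prelude.Def_NonAbH2

/-!
# A pseudo-torsor with a section is trivial
-/

set_option autoImplicit false
universe u
open CategoryTheory MonoidalCategory CartesianMonoidalCategory MonObj GrpObj AlgebraicGeometry
open CategoryTheory.Limits

namespace Groth.Agent.Helper9.TorsTriv

open NonAbH1

variable {S : Scheme.{u}} {G X : Over S} [GrpObj G] (a : AlgGrp.Action G X)

theorem isPseudoTorsor_of_equivIso (e : EquivIso (trivialAction G) a) : IsPseudoTorsorSch a := by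
  have hT : IsIso (lift (μ[G] : G ⊗ G ⟶ G) (snd G G)) := isPseudoTorsorSch_trivialAction G
  have hcomm : (μ[G] : G ⊗ G ⟶ G) ≫ e.iso.hom = (G ◁ e.iso.hom) ≫ a.act := e.comm
  have key : (G ◁ e.iso.hom) ≫ lift a.act (snd G X) =
      lift (μ[G] : G ⊗ G ⟶ G) (snd G G) ≫ (e.iso.hom ⊗ₘ e.iso.hom) := by
    apply CartesianMonoidalCategory.hom_ext
    · simp [hcomm]
    · simp
  have h2 : lift a.act (snd G X) =
      (G ◁ e.iso.inv) ≫ lift (μ[G] : G ⊗ G ⟶ G) (snd G G) ≫ (e.iso.hom ⊗ₘ e.iso.hom) := by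
    rw [← key, ← Category.assoc, ← MonoidalCategory.whiskerLeft_comp, e.iso.inv_hom_id,
      MonoidalCategory.whiskerLeft_id, Category.id_comp]
  unfold IsPseudoTorsorSch
  rw [h2]
  infer_instance

theorem hasSection_of_equivIso (e : EquivIso (trivialAction G) a) :
    HasSectionOver X (𝟙 S) :=
  ⟨(η[G] ≫ e.iso.hom).left, Over.w (η[G] ≫ e.iso.hom)⟩

section Converse

variable (hps : IsPseudoTorsorSch a) (o : 𝟙_ (Over S) ⟶ X)

/-- the inverse of the orbit map. -/
noncomputable def psi : X ⟶ G :=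
  haveI : IsIso (lift a.act (snd G X)) := hps
  lift (𝟙 X) (toUnit X ≫ o) ≫ inv (lift a.act (snd G X)) ≫ fst G X

include hps in
theorem inv_act : haveI : IsIso (lift a.act (snd G X)) := hps
    inv (lift a.act (snd G X)) ≫ a.act = fst X X := by
  haveI : IsIso (lift a.act (snd G X)) := hps
  rw [IsIso.inv_comp_eq, lift_fst]

include hps in
theorem inv_snd : haveI : IsIso (lift a.act (snd G X)) := hps
    inv (lift a.act (snd G X)) ≫ snd G X = snd X X := by
  haveI : IsIso (lift a.act (snd G X)) := hps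
  rw [IsIso.inv_comp_eq, lift_snd]

theorem psi_orbit : psi a hps o ≫ a.orbitMap o = 𝟙 X := by
  haveI : IsIso (lift a.act (snd G X)) := hps
  have h1 : lift (psi a hps o) (toUnit X ≫ o) =
      lift (𝟙 X) (toUnit X ≫ o) ≫ inv (lift a.act (snd G X)) := by
    apply CartesianMonoidalCategory.hom_ext
    · simp [psi]
    · simp [inv_snd a hps]
  have h2 : psi a hps o ≫ lift (𝟙 G) (toUnit G ≫ o) = lift (psi a hps o) (toUnit X ≫ o) := by
    apply CartesianMonoidalCategory.hom_ext
    · simp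
    · simp
  unfold AlgGrp.Action.orbitMap
  rw [← Category.assoc, h2, h1, Category.assoc, inv_act a hps, lift_fst]

theorem orbit_psi : a.orbitMap o ≫ psi a hps o = 𝟙 G := by
  haveI : IsIso (lift a.act (snd G X)) := hps
  have h1 : a.orbitMap o ≫ lift (𝟙 X) (toUnit X ≫ o) =
      lift (𝟙 G) (toUnit G ≫ o) ≫ lift a.act (snd G X) := by
    apply CartesianMonoidalCategory.hom_ext
    · simp [AlgGrp.Action.orbitMap]
    · simp
  unfold psi
  rw [← Category.assoc, h1, Category.assoc, IsIso.hom_inv_id_assoc, lift_fst]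

theorem orbit_comm : (μ[G] : G ⊗ G ⟶ G) ≫ a.orbitMap o = (G ◁ a.orbitMap o) ≫ a.act := by
  have hmul : (G ◁ a.act) ≫ a.act = (α_ G G X).inv ≫ (μ[G] ▷ X) ≫ a.act := by
    rw [a.mul_act, Iso.inv_hom_id_assoc]
  have h1 : (μ[G] : G ⊗ G ⟶ G) ≫ lift (𝟙 G) (toUnit G ≫ o) =
      (G ◁ lift (𝟙 G) (toUnit G ≫ o)) ≫ (α_ G G X).inv ≫ (μ[G] ▷ X) := by
    have h0 : (G ◁ lift (𝟙 G) (toUnit G ≫ o)) ≫ (α_ G G X).inv ≫ fst (G ⊗ G) X = 𝟙 (G ⊗ G) := by
      apply CartesianMonoidalCategory.hom_ext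
      · simp
      · simp
    apply CartesianMonoidalCategory.hom_ext
    · simp
      rw [reassoc_of% h0]
    · simp
  unfold AlgGrp.Action.orbitMap
  rw [MonoidalCategory.whiskerLeft_comp, Category.assoc, hmul, ← Category.assoc, h1]
  simp only [Category.assoc]

/-- the orbit map as an equivariant isomorphism. -/
noncomputable def equivIso : EquivIso (trivialAction G) a where
  iso := ⟨a.orbitMap o, psi a hps o, orbit_psi a hps o, psi_orbit a hps o⟩
  comm := orbit_comm a o

end Converse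

theorem main : Nonempty (EquivIso (trivialAction G) a) ↔
    (IsPseudoTorsorSch a ∧ HasSectionOver X (𝟙 S)) := by
  constructor
  · rintro ⟨e⟩
    exact ⟨isPseudoTorsor_of_equivIso a e, hasSection_of_equivIso a e⟩
  · rintro ⟨hps, s, hs⟩
    exact ⟨equivIso a hps (Over.homMk s hs)⟩

end Groth.Agent.Helper9.TorsTriv
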