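import Mathlib
import Groth.Agent.Lib.Helper9.PCoh14

/-!
# Way-out functor lemmas (Hartshorne, Residues and Duality I.7.1): bounded case
-/

set_option autoImplicit false
universe w w' v v' u u'
open CategoryTheory CategoryTheory.Limits Pretriangulated

namespace Groth.Agent.Helper9.WayOut

variable {A : Type u} [Category.{v} A] [Abelian A] [HasDerivedCategory.{w} A]
  {B : Type u'} [Category.{v'} B] [Abelian B] [HasDerivedCategory.{w'} B]
  {F G : DerivedCategory A ⥤ DerivedCategory B} [F.CommShift ℤ] [G.CommShift ℤ]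
  [F.IsTriangulated] [G.IsTriangulated] (η : F ⟶ G) [NatTrans.CommShift η ℤ]

omit [F.CommShift ℤ] [G.CommShift ℤ] [F.IsTriangulated] [G.IsTriangulated]
  [NatTrans.CommShift η ℤ] in
theorem isIso_app_of_iso {X Y : DerivedCategory A} (e : X ≅ Y) (h : IsIso (η.app X)) :
    IsIso (η.app Y) := by
  have : η.app Y = F.map e.inv ≫ η.app X ≫ G.map e.hom := by
    rw [← η.naturality, ← Category.assoc, ← F.map_comp, e.inv_hom_id, F.map_id, Category.id_comp]
  rw [this]
  infer_instance

omit [F.IsTriangulated] [G.IsTriangulated] in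
theorem isIso_app_shift (X : DerivedCategory A) (n : ℤ) (h : IsIso (η.app X)) :
    IsIso (η.app ((shiftFunctor (DerivedCategory A) n).obj X)) := by
  have h1 := NatTrans.shift_app_comm η n X
  have : η.app ((shiftFunctor (DerivedCategory A) n).obj X) =
      (F.commShiftIso n).hom.app X ≫ (shiftFunctor (DerivedCategory B) n).map (η.app X) ≫
        (G.commShiftIso n).inv.app X := by
    rw [← Category.assoc, h1, Category.assoc, Iso.hom_inv_id_app]
    exact (Category.comp_id _).symm
  rw [this]
  infer_instance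

omit [NatTrans.CommShift η ℤ] in
theorem isIso_app_of_isZero (X : DerivedCategory A) (hX : IsZero X) : IsIso (η.app X) :=
  ⟨0, (F.map_isZero hX).eq_of_src _ _, (G.map_isZero hX).eq_of_src _ _⟩

theorem isIso_app_obj₂ (T : Triangle (DerivedCategory A)) (hT : T ∈ distTriang _)
    (h₁ : IsIso (η.app T.obj₁)) (h₃ : IsIso (η.app T.obj₃)) : IsIso (η.app T.obj₂) := by
  let φ : F.mapTriangle.obj T ⟶ G.mapTriangle.obj T :=
    { hom₁ := η.app T.obj₁
      hom₂ := η.app T.obj₂
      hom₃ := η.app T.obj₃
      comm₁ := η.naturality T.mor₁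
      comm₂ := η.naturality T.mor₂
      comm₃ := by
        show (F.map T.mor₃ ≫ (F.commShiftIso (1 : ℤ)).hom.app T.obj₁) ≫
          (shiftFunctor (DerivedCategory B) (1 : ℤ)).map (η.app T.obj₁) =
            η.app T.obj₃ ≫ G.map T.mor₃ ≫ (G.commShiftIso (1 : ℤ)).hom.app T.obj₁
        rw [Category.assoc, NatTrans.shift_app_comm η 1 T.obj₁, ← η.naturality_assoc] }
  exact isIso₂_of_isIso₁₃ φ (F.map_distinguished T hT) (G.map_distinguished T hT) h₁ h₃

variable (P : ObjectProperty A) [P.IsClosedUnderIsomorphisms]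
  (hη : ∀ X : A, P X → IsIso (η.app ((DerivedCategory.singleFunctor A 0).obj X)))

include hη in
omit [F.IsTriangulated] [G.IsTriangulated] [P.IsClosedUnderIsomorphisms] in
theorem isIso_app_single (n : ℤ) (M : A) (hM : P M) :
    IsIso (η.app ((DerivedCategory.singleFunctor A n).obj M)) :=
  isIso_app_of_iso η (((DerivedCategory.singleFunctors A).shiftIso (-n) n 0 (by simp)).app M)
    (isIso_app_shift η _ (-n) (hη M hM))

open DerivedCategory in
include hη in
theorem isIso_app_bounded_aux : ∀ (k : ℕ) (X : DerivedCategory A) (a b : ℤ), b - a < k →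
    X.IsGE a → X.IsLE b → (∀ i : ℤ, P ((homologyFunctor A i).obj X)) → IsIso (η.app X) := by
  intro k
  induction k with
  | zero =>
    intro X a b hab hXa hXb _
    exact isIso_app_of_isZero η X (TStructure.t.isZero X b a (by push_cast at hab; omega))
  | succ k ih =>
    intro X a b hab hXa hXb hX
    obtain ⟨X', Y, hX', hY, f, g, h, hT⟩ := TStructure.t.exists_triangle X (b - 1) b (by omega)
    haveI : X'.IsLE (b - 1) := ⟨hX'⟩
    haveI : Y.IsGE b := ⟨hY⟩
    have hXz : ∀ i, b - 1 < i → IsZero ((homologyFunctor A i).obj X') :=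
      fun i hi => X'.isZero_of_isLE (b - 1) i hi
    have hYz : ∀ i, i < b → IsZero ((homologyFunctor A i).obj Y) :=
      fun i hi => Y.isZero_of_isGE b i hi
    have hXb' : ∀ i, b < i → IsZero ((homologyFunctor A i).obj X) :=
      fun i hi => X.isZero_of_isLE b i hi
    have hP0 : ∀ Z : A, IsZero Z → P Z := fun Z hZ =>
      P.prop_of_iso ((hXb' (b + 1) (by omega)).iso hZ) (hX (b + 1))
    have hYz' : ∀ i, b < i → IsZero ((homologyFunctor A i).obj Y) := fun i hi =>
      Groth.Agent.Helper9.PCohLib.isZero_homology_obj₃ _ hT i (hXb' i hi) (hXz _ (by omega))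
    have hXF : ∀ i, i ≤ b - 1 → ((homologyFunctor A i).obj X' ≅ (homologyFunctor A i).obj X) :=
      fun i hi =>
        haveI : IsIso ((homologyFunctor A i).map f) :=
          Groth.Agent.Helper9.PCohLib.isIso_homology_mor₁ _ hT i (hYz _ (by omega)) (hYz _ (by omega))
        asIso ((homologyFunctor A i).map f)
    -- `X'`
    have h1 : IsIso (η.app X') := by
      have hX'a : X'.IsGE a := by
        rw [DerivedCategory.isGE_iff]
        intro i hi
        by_cases hib : i ≤ b - 1
        · exact (X.isZero_of_isGE a i hi).of_iso (hXF i hib)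
        · exact hXz i (by omega)
      refine ih X' a (b - 1) (by push_cast at hab; omega) hX'a inferInstance (fun i => ?_)
      by_cases hib : i ≤ b - 1
      · exact P.prop_of_iso (hXF i hib).symm (hX i)
      · exact hP0 _ (hXz i (by omega))
    -- `Y`
    have : Y.IsLE b := by
      rw [DerivedCategory.isLE_iff]
      exact fun i hi => hYz' i hi
    obtain ⟨M, ⟨eM⟩⟩ := exists_iso_singleFunctor_obj_of_isGE_of_isLE Y b
    have hFY : (homologyFunctor A b).obj X ≅ (homologyFunctor A b).obj Y :=
      haveI : IsIso ((homologyFunctor A b).map g) :=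
        Groth.Agent.Helper9.PCohLib.isIso_homology_mor₂ _ hT b (hXz _ (by omega)) (hXz _ (by omega))
      asIso ((homologyFunctor A b).map g)
    have hM : (homologyFunctor A b).obj Y ≅ M :=
      (homologyFunctor A b).mapIso eM ≪≫
        Groth.Agent.Helper9.PCohLib.homologyQIso
          ((HomologicalComplex.single A (ComplexShape.up ℤ) b).obj M) b ≪≫
        HomologicalComplex.singleObjHomologySelfIso (ComplexShape.up ℤ) b M
    have h3 : IsIso (η.app Y) :=
      isIso_app_of_iso η eM.symm
        (isIso_app_single η P hη b M (P.prop_of_iso (hFY ≪≫ hM) (hX b)))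
    exact isIso_app_obj₂ η _ hT h1 h3

end Groth.Agent.Helper9.WayOut
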