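import Mathlib
import Groth.Agent.Lib.Helper9.WayOut1

/-!
# Way-out functor lemmas: bounded below and unbounded cases
-/

set_option autoImplicit false
universe w w' v v' u u'
open CategoryTheory CategoryTheory.Limits Pretriangulated

namespace Groth.Agent.Helper9.WayOut

variable {A : Type u} [Category.{v} A] [Abelian A] [HasDerivedCategory.{w} A]
  {B : Type u'} [Category.{v'} B] [Abelian B] [HasDerivedCategory.{w'} B]
  {F G : DerivedCategory A ⥤ DerivedCategory B} [F.CommShift ℤ] [G.CommShift ℤ]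
  [F.IsTriangulated] [G.IsTriangulated] (η : F ⟶ G) [NatTrans.CommShift η ℤ]

open DerivedCategory

/-- Homology of the pieces of a truncation triangle. -/
theorem isIso_homology_trunc {X X' Y : DerivedCategory A} (f : X' ⟶ X) (g : X ⟶ Y)
    (h : Y ⟶ (shiftFunctor (DerivedCategory A) (1 : ℤ)).obj X')
    (hT : Triangle.mk f g h ∈ distTriang _) (c : ℤ) [X'.IsLE (c - 1)] [Y.IsGE c] :
    (∀ i : ℤ, i ≤ c - 1 → IsIso ((homologyFunctor A i).map f)) ∧
      (∀ i : ℤ, c ≤ i → IsIso ((homologyFunctor A i).map g)) := by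
  constructor
  · intro i hi
    exact Groth.Agent.Helper9.PCohLib.isIso_homology_mor₁ _ hT i
      (Y.isZero_of_isGE c (i - 1) (by omega)) (Y.isZero_of_isGE c i (by omega))
  · intro i hi
    exact Groth.Agent.Helper9.PCohLib.isIso_homology_mor₂ _ hT i
      (X'.isZero_of_isLE (c - 1) i (by omega)) (X'.isZero_of_isLE (c - 1) (i + 1) (by omega))

variable (P : ObjectProperty A) [P.IsClosedUnderIsomorphisms]
  (hη : ∀ X : A, P X → IsIso (η.app ((DerivedCategory.singleFunctor A 0).obj X)))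

include hη in
/-- Way-out right functors: bounded below objects. -/
theorem isIso_app_of_wayOutRight
    (hF : ∀ n₁ : ℤ, ∃ n₂ : ℤ, ∀ Y : DerivedCategory A, Y.IsGE n₂ → (F.obj Y).IsGE n₁)
    (hG : ∀ n₁ : ℤ, ∃ n₂ : ℤ, ∀ Y : DerivedCategory A, Y.IsGE n₂ → (G.obj Y).IsGE n₁)
    (X : DerivedCategory A) (a : ℤ) [X.IsGE a]
    (hX : ∀ i : ℤ, P ((homologyFunctor A i).obj X)) : IsIso (η.app X) := by
  have hP0 : ∀ Z : A, IsZero Z → P Z := fun Z hZ =>
    P.prop_of_iso ((X.isZero_of_isGE a (a - 1) (by omega)).iso hZ) (hX (a - 1))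
  rw [DerivedCategory.isIso_iff]
  intro j
  obtain ⟨n₂F, hn₂F⟩ := hF (j + 2)
  obtain ⟨n₂G, hn₂G⟩ := hG (j + 2)
  obtain ⟨X', Y, hX', hY, f, g, h, hT⟩ :=
    TStructure.t.exists_triangle X (max n₂F n₂G - 1) (max n₂F n₂G) (by omega)
  haveI : X'.IsLE (max n₂F n₂G - 1) := ⟨hX'⟩
  haveI : Y.IsGE (max n₂F n₂G) := ⟨hY⟩
  have hYF : Y.IsGE n₂F := TStructure.t.isGE_of_ge Y n₂F (max n₂F n₂G) (le_max_left _ _)
  have hYG : Y.IsGE n₂G := TStructure.t.isGE_of_ge Y n₂G (max n₂F n₂G) (le_max_right _ _)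
  haveI : (F.obj Y).IsGE (j + 2) := hn₂F Y hYF
  haveI : (G.obj Y).IsGE (j + 2) := hn₂G Y hYG
  obtain ⟨hf, -⟩ := isIso_homology_trunc f g h hT (max n₂F n₂G)
  -- `η` is an isomorphism on `X'`
  have hX'a : X'.IsGE a := by
    rw [DerivedCategory.isGE_iff]
    intro i hi
    by_cases hib : i ≤ max n₂F n₂G - 1
    · haveI := hf i hib
      exact (X.isZero_of_isGE a i hi).of_iso (asIso ((homologyFunctor A i).map f))
    · exact X'.isZero_of_isLE (max n₂F n₂G - 1) i (by omega)
  have h1 : IsIso (η.app X') := by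
    refine isIso_app_bounded_aux η P hη (max n₂F n₂G - 1 - a + 1).toNat X' a (max n₂F n₂G - 1)
      (by have := Int.self_le_toNat (max n₂F n₂G - 1 - a + 1); omega) hX'a inferInstance
      (fun i => ?_)
    by_cases hib : i ≤ max n₂F n₂G - 1
    · haveI := hf i hib
      exact P.prop_of_iso (asIso ((homologyFunctor A i).map f)).symm (hX i)
    · exact hP0 _ (X'.isZero_of_isLE (max n₂F n₂G - 1) i (by omega))
  -- comparison
  have hFf : IsIso ((homologyFunctor B j).map (F.map f)) :=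
    Groth.Agent.Helper9.PCohLib.isIso_homology_mor₁ (F.mapTriangle.obj (Triangle.mk f g h))
      (F.map_distinguished _ hT) j ((F.obj Y).isZero_of_isGE (j + 2) (j - 1) (by omega))
      ((F.obj Y).isZero_of_isGE (j + 2) j (by omega))
  have hGf : IsIso ((homologyFunctor B j).map (G.map f)) :=
    Groth.Agent.Helper9.PCohLib.isIso_homology_mor₁ (G.mapTriangle.obj (Triangle.mk f g h))
      (G.map_distinguished _ hT) j ((G.obj Y).isZero_of_isGE (j + 2) (j - 1) (by omega))
      ((G.obj Y).isZero_of_isGE (j + 2) j (by omega))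
  have hnat : (homologyFunctor B j).map (F.map f) ≫ (homologyFunctor B j).map (η.app X) =
      (homologyFunctor B j).map (η.app X') ≫ (homologyFunctor B j).map (G.map f) := by
    rw [← Functor.map_comp, ← Functor.map_comp, η.naturality]
  have : (homologyFunctor B j).map (η.app X) = inv ((homologyFunctor B j).map (F.map f)) ≫
      (homologyFunctor B j).map (η.app X') ≫ (homologyFunctor B j).map (G.map f) := by
    rw [← hnat, IsIso.inv_hom_id_assoc]
  rw [this]
  infer_instance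

include hη in
/-- Way-out functors in both directions: all objects. -/
theorem isIso_app_of_wayOut (hP : ∀ Z : A, IsZero Z → P Z)
    (hF : ∀ n₁ : ℤ, ∃ n₂ : ℤ, ∀ Y : DerivedCategory A, Y.IsGE n₂ → (F.obj Y).IsGE n₁)
    (hF' : ∀ n₁ : ℤ, ∃ n₂ : ℤ, ∀ Y : DerivedCategory A, Y.IsLE n₂ → (F.obj Y).IsLE n₁)
    (hG : ∀ n₁ : ℤ, ∃ n₂ : ℤ, ∀ Y : DerivedCategory A, Y.IsGE n₂ → (G.obj Y).IsGE n₁)
    (hG' : ∀ n₁ : ℤ, ∃ n₂ : ℤ, ∀ Y : DerivedCategory A, Y.IsLE n₂ → (G.obj Y).IsLE n₁)
    (X : DerivedCategory A)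
    (hX : ∀ i : ℤ, P ((homologyFunctor A i).obj X)) : IsIso (η.app X) := by
  rw [DerivedCategory.isIso_iff]
  intro j
  obtain ⟨n₂F, hn₂F⟩ := hF' (j - 2)
  obtain ⟨n₂G, hn₂G⟩ := hG' (j - 2)
  obtain ⟨X', Y, hX', hY, f, g, h, hT⟩ :=
    TStructure.t.exists_triangle X (min n₂F n₂G) (min n₂F n₂G + 1) rfl
  haveI : X'.IsLE (min n₂F n₂G + 1 - 1) := ⟨by simpa using hX'⟩
  haveI : X'.IsLE (min n₂F n₂G) := ⟨hX'⟩
  haveI : Y.IsGE (min n₂F n₂G + 1) := ⟨hY⟩
  have hXF : X'.IsLE n₂F := TStructure.t.isLE_of_le X' (min n₂F n₂G) n₂F (min_le_left _ _)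
  have hXG : X'.IsLE n₂G := TStructure.t.isLE_of_le X' (min n₂F n₂G) n₂G (min_le_right _ _)
  haveI : (F.obj X').IsLE (j - 2) := hn₂F X' hXF
  haveI : (G.obj X').IsLE (j - 2) := hn₂G X' hXG
  obtain ⟨-, hg⟩ := isIso_homology_trunc f g h hT (min n₂F n₂G + 1)
  have h3 : IsIso (η.app Y) := by
    refine isIso_app_of_wayOutRight η P hη hF hG Y (min n₂F n₂G + 1) (fun i => ?_)
    by_cases hib : min n₂F n₂G + 1 ≤ i
    · haveI := hg i hib
      exact P.prop_of_iso (asIso ((homologyFunctor A i).map g)) (hX i)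
    · exact hP _ (Y.isZero_of_isGE (min n₂F n₂G + 1) i (by omega))
  have hFg : IsIso ((homologyFunctor B j).map (F.map g)) :=
    Groth.Agent.Helper9.PCohLib.isIso_homology_mor₂ (F.mapTriangle.obj (Triangle.mk f g h))
      (F.map_distinguished _ hT) j ((F.obj X').isZero_of_isLE (j - 2) j (by omega))
      ((F.obj X').isZero_of_isLE (j - 2) (j + 1) (by omega))
  have hGg : IsIso ((homologyFunctor B j).map (G.map g)) :=
    Groth.Agent.Helper9.PCohLib.isIso_homology_mor₂ (G.mapTriangle.obj (Triangle.mk f g h))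
      (G.map_distinguished _ hT) j ((G.obj X').isZero_of_isLE (j - 2) j (by omega))
      ((G.obj X').isZero_of_isLE (j - 2) (j + 1) (by omega))
  have hnat : (homologyFunctor B j).map (F.map g) ≫ (homologyFunctor B j).map (η.app Y) =
      (homologyFunctor B j).map (η.app X) ≫ (homologyFunctor B j).map (G.map g) := by
    rw [← Functor.map_comp, ← Functor.map_comp, η.naturality]
  have : (homologyFunctor B j).map (η.app X) = (homologyFunctor B j).map (F.map g) ≫
      (homologyFunctor B j).map (η.app Y) ≫ inv ((homologyFunctor B j).map (G.map g)) := by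
    rw [← Category.assoc, hnat, Category.assoc, IsIso.hom_inv_id, Category.comp_id]
  rw [this]
  infer_instance

end Groth.Agent.Helper9.WayOut
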