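import Mathlib
import Groth.Agent.Lib.Helper9.WayOut2

/-!
# Way-out functor lemmas: dimension shifting (Hartshorne RD I.7.1 (iv))
-/

set_option autoImplicit false
universe w w' v v' u u'
open CategoryTheory CategoryTheory.Limits Pretriangulated

namespace Groth.Agent.Helper9.WayOut

section Four

variable {C : Type*} [Category C] [Abelian C]
  {A₀ A₁ A₂ A₃ B₀ B₁ B₂ B₃ : C}
  (f₀ : A₀ ⟶ A₁) (f₁ : A₁ ⟶ A₂) (f₂ : A₂ ⟶ A₃) (g₀ : B₀ ⟶ B₁) (g₁ : B₁ ⟶ B₂) (g₂ : B₂ ⟶ B₃)
  (a₀ : A₀ ⟶ B₀) (a₁ : A₁ ⟶ B₁) (a₂ : A₂ ⟶ B₂) (a₃ : A₃ ⟶ B₃)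

include f₀ g₀ g₁ a₀ a₁ in
theorem four_mono
    (c₀ : f₀ ≫ a₁ = a₀ ≫ g₀) (c₁ : f₁ ≫ a₂ = a₁ ≫ g₁) (c₂ : f₂ ≫ a₃ = a₂ ≫ g₂)
    (w : f₀ ≫ f₁ = 0) (wf : f₁ ≫ f₂ = 0) (hf : (ShortComplex.mk f₁ f₂ wf).Exact)
    (wg : g₀ ≫ g₁ = 0) (hg : (ShortComplex.mk g₀ g₁ wg).Exact)
    (h₀ : Epi a₀) (h₁ : Mono a₁) (h₃ : Mono a₃) : Mono a₂ := by
  apply Preadditive.mono_of_cancel_zero
  intro Z x hx
  have h₂ : x ≫ f₂ = 0 := by
    rw [← cancel_mono a₃, Category.assoc, c₂, reassoc_of% hx, zero_comp, zero_comp]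
  obtain ⟨Z₁, π₁, _, y, hy⟩ := hf.exact_up_to_refinements x h₂
  dsimp at y hy
  have h₃' : (y ≫ a₁) ≫ g₁ = 0 := by
    rw [Category.assoc, ← c₁, ← reassoc_of% hy, hx, comp_zero]
  obtain ⟨Z₂, π₂, _, z, hz⟩ := hg.exact_up_to_refinements _ h₃'
  dsimp at z hz
  obtain ⟨Z₃, π₃, _, t, ht⟩ := surjective_up_to_refinements_of_epi a₀ z
  have h₄ : t ≫ f₀ = π₃ ≫ π₂ ≫ y := by
    rw [← cancel_mono a₁, Category.assoc, Category.assoc, Category.assoc, c₀,
      ← reassoc_of% ht, hz]
  rw [← cancel_epi π₁, comp_zero, hy, ← cancel_epi π₂, ← cancel_epi π₃, comp_zero,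
    comp_zero, ← reassoc_of% h₄, w, comp_zero]

include f₂ g₀ g₂ a₀ a₃ in
theorem four_epi
    (c₀ : f₀ ≫ a₁ = a₀ ≫ g₀) (c₁ : f₁ ≫ a₂ = a₁ ≫ g₁) (c₂ : f₂ ≫ a₃ = a₂ ≫ g₂)
    (wf : f₁ ≫ f₂ = 0) (hf : (ShortComplex.mk f₁ f₂ wf).Exact)
    (wg : g₀ ≫ g₁ = 0) (hg : (ShortComplex.mk g₀ g₁ wg).Exact) (w : g₁ ≫ g₂ = 0)
    (h₀ : Epi a₀) (h₂ : Epi a₂) (h₃ : Mono a₃) : Epi a₁ := by
  rw [epi_iff_surjective_up_to_refinements]
  intro Z x
  obtain ⟨Z₁, π₁, _, y, hy⟩ := surjective_up_to_refinements_of_epi a₂ (x ≫ g₁)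
  have h₂' : y ≫ f₂ = 0 := by
    rw [← cancel_mono a₃, Category.assoc, zero_comp, c₂, ← reassoc_of% hy, w, comp_zero,
      comp_zero]
  obtain ⟨Z₂, π₂, _, z, hz⟩ := hf.exact_up_to_refinements _ h₂'
  dsimp at z hz
  have h₄ : (π₂ ≫ π₁ ≫ x - z ≫ a₁) ≫ g₁ = 0 := by
    rw [Preadditive.sub_comp, Category.assoc, Category.assoc, Category.assoc, ← c₁,
      ← reassoc_of% hz, hy, sub_self]
  obtain ⟨Z₃, π₃, _, t, ht⟩ := hg.exact_up_to_refinements _ h₄
  dsimp at t ht
  rw [Preadditive.comp_sub] at ht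
  obtain ⟨Z₄, π₄, _, s, hs⟩ := surjective_up_to_refinements_of_epi a₀ t
  refine ⟨Z₄, π₄ ≫ π₃ ≫ π₂ ≫ π₁, inferInstance, π₄ ≫ π₃ ≫ z + s ≫ f₀, ?_⟩
  rw [Category.assoc, Category.assoc, Category.assoc, Preadditive.add_comp, Category.assoc,
    Category.assoc, Category.assoc, c₀, ← reassoc_of% hs, ← ht, Preadditive.comp_sub]
  abel

end Four

variable {A : Type u} [Category.{v} A] [Abelian A] [HasDerivedCategory.{w} A]
  {B : Type u'} [Category.{v'} B] [Abelian B] [HasDerivedCategory.{w'} B]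
  {F G : DerivedCategory A ⥤ DerivedCategory B} [F.CommShift ℤ] [G.CommShift ℤ]
  [F.IsTriangulated] [G.IsTriangulated] (η : F ⟶ G) [NatTrans.CommShift η ℤ]

open DerivedCategory

omit [F.IsTriangulated] [G.IsTriangulated] in
/-- The morphism of triangles induced by a natural transformation commuting with shifts. -/
noncomputable def mapTriangleHom (T : Triangle (DerivedCategory A)) :
    F.mapTriangle.obj T ⟶ G.mapTriangle.obj T where
  hom₁ := η.app T.obj₁
  hom₂ := η.app T.obj₂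
  hom₃ := η.app T.obj₃
  comm₁ := η.naturality T.mor₁
  comm₂ := η.naturality T.mor₂
  comm₃ := by
    show (F.map T.mor₃ ≫ (F.commShiftIso (1 : ℤ)).hom.app T.obj₁) ≫
      (shiftFunctor (DerivedCategory B) (1 : ℤ)).map (η.app T.obj₁) =
        η.app T.obj₃ ≫ G.map T.mor₃ ≫ (G.commShiftIso (1 : ℤ)).hom.app T.obj₁
    rw [Category.assoc, NatTrans.shift_app_comm η 1 T.obj₁, ← η.naturality_assoc]

/-- Ladder: mono part. -/
theorem mono_homology_app_obj₁ (T : Triangle (DerivedCategory A)) (hT : T ∈ distTriang _)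
    (j₀ j : ℤ) (hj : j₀ + 1 = j)
    (h₂ : Epi ((homologyFunctor B j₀).map (η.app T.obj₂)))
    (h₃ : Mono ((homologyFunctor B j₀).map (η.app T.obj₃)))
    (h₂' : Mono ((homologyFunctor B j).map (η.app T.obj₂))) :
    Mono ((homologyFunctor B j).map (η.app T.obj₁)) := by
  have hTF := F.map_distinguished T hT
  have hTG := G.map_distinguished T hT
  have nat := (homologyFunctor B 0).homologySequenceδ_naturality _ _ (mapTriangleHom η T) j₀ j hj
  refine four_mono
    ((homologyFunctor B j₀).map (F.mapTriangle.obj T).mor₂)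
    (HomologySequence.δ (F.mapTriangle.obj T) j₀ j hj)
    ((homologyFunctor B j).map (F.mapTriangle.obj T).mor₁)
    ((homologyFunctor B j₀).map (G.mapTriangle.obj T).mor₂)
    (HomologySequence.δ (G.mapTriangle.obj T) j₀ j hj)
    ((homologyFunctor B j).map (G.mapTriangle.obj T).mor₁)
    ((homologyFunctor B j₀).map (η.app T.obj₂))
    ((homologyFunctor B j₀).map (η.app T.obj₃))
    ((homologyFunctor B j).map (η.app T.obj₁))
    ((homologyFunctor B j).map (η.app T.obj₂))
    ?_ ?_ ?_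
    (HomologySequence.comp_δ _ hTF j₀ j hj)
    (HomologySequence.δ_comp _ hTF j₀ j hj) (HomologySequence.exact₁ _ hTF j₀ j hj)
    (HomologySequence.comp_δ _ hTG j₀ j hj) (HomologySequence.exact₃ _ hTG j₀ j hj)
    h₂ h₃ h₂'
  · rw [← Functor.map_comp, ← Functor.map_comp]
    congr 1
    exact η.naturality T.mor₂
  · exact nat.symm
  · rw [← Functor.map_comp, ← Functor.map_comp]
    congr 1
    exact η.naturality T.mor₁

/-- Ladder: epi part. -/
theorem epi_homology_app_obj₁ (T : Triangle (DerivedCategory A)) (hT : T ∈ distTriang _)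
    (j₀ j : ℤ) (hj : j₀ + 1 = j)
    (h₃ : Epi ((homologyFunctor B j₀).map (η.app T.obj₃)))
    (h₂ : Epi ((homologyFunctor B j).map (η.app T.obj₂)))
    (h₃' : Mono ((homologyFunctor B j).map (η.app T.obj₃))) :
    Epi ((homologyFunctor B j).map (η.app T.obj₁)) := by
  have hTF := F.map_distinguished T hT
  have hTG := G.map_distinguished T hT
  have nat := (homologyFunctor B 0).homologySequenceδ_naturality _ _ (mapTriangleHom η T) j₀ j hj
  refine four_epi
    (HomologySequence.δ (F.mapTriangle.obj T) j₀ j hj)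
    ((homologyFunctor B j).map (F.mapTriangle.obj T).mor₁)
    ((homologyFunctor B j).map (F.mapTriangle.obj T).mor₂)
    (HomologySequence.δ (G.mapTriangle.obj T) j₀ j hj)
    ((homologyFunctor B j).map (G.mapTriangle.obj T).mor₁)
    ((homologyFunctor B j).map (G.mapTriangle.obj T).mor₂)
    ((homologyFunctor B j₀).map (η.app T.obj₃))
    ((homologyFunctor B j).map (η.app T.obj₁))
    ((homologyFunctor B j).map (η.app T.obj₂))
    ((homologyFunctor B j).map (η.app T.obj₃))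
    ?_ ?_ ?_
    _ (HomologySequence.exact₂ _ hTF j)
    (HomologySequence.δ_comp _ hTG j₀ j hj) (HomologySequence.exact₁ _ hTG j₀ j hj)
    (ShortComplex.mk _ _ (by simp only [← Functor.map_comp, comp_distTriang_mor_zero₁₂ _ hTG,
        Functor.map_zero] : (homologyFunctor B j).map (G.mapTriangle.obj T).mor₁ ≫
          (homologyFunctor B j).map (G.mapTriangle.obj T).mor₂ = 0)).zero
    h₃ h₂ h₃'
  · exact nat.symm
  · rw [← Functor.map_comp, ← Functor.map_comp]
    congr 1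
    exact η.naturality T.mor₁
  · rw [← Functor.map_comp, ← Functor.map_comp]
    congr 1
    exact η.naturality T.mor₂


omit [F.IsTriangulated] in
/-- Uniform lower bound for a way-out right functor on objects in degree `0`. -/
theorem exists_uniform_isGE
    (hF : ∀ n₁ : ℤ, ∃ n₂ : ℤ, ∀ Y : DerivedCategory A, Y.IsGE n₂ → (F.obj Y).IsGE n₁) :
    ∃ m : ℤ, ∀ X : A, (F.obj ((singleFunctor A 0).obj X)).IsGE m := by
  obtain ⟨n₂, h⟩ := hF 0
  refine ⟨-n₂, fun X => ?_⟩
  have h1 : (F.obj ((singleFunctor A n₂).obj X)).IsGE 0 := h _ inferInstance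
  let e : (shiftFunctor (DerivedCategory A) (-n₂)).obj ((singleFunctor A 0).obj X) ≅
      (singleFunctor A n₂).obj X :=
    ((DerivedCategory.singleFunctors A).shiftIso (-n₂) n₂ 0 (by simp)).app X
  have e2 : F.obj ((singleFunctor A n₂).obj X) ≅
      (shiftFunctor (DerivedCategory B) (-n₂)).obj (F.obj ((singleFunctor A 0).obj X)) :=
    (F.mapIso e).symm ≪≫ (F.commShiftIso (-n₂)).app _
  haveI : ((shiftFunctor (DerivedCategory B) (-n₂)).obj
      (F.obj ((singleFunctor A 0).obj X))).IsGE 0 := TStructure.t.isGE_of_iso e2 0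
  exact TStructure.t.isGE_of_shift _ (-n₂) (-n₂) 0 (by omega)

variable (P : ObjectProperty A)
  (hη : ∀ X : A, P X → IsIso (η.app ((DerivedCategory.singleFunctor A 0).obj X)))

include hη in
/-- Hartshorne RD I.7.1 (iv): dimension shifting. -/
theorem isIso_app_single_of_embedding
    (hP : ∀ X : A, ∃ (Y : A) (i : X ⟶ Y), P Y ∧ Mono i)
    (hF : ∀ n₁ : ℤ, ∃ n₂ : ℤ, ∀ Y : DerivedCategory A, Y.IsGE n₂ → (F.obj Y).IsGE n₁)
    (hG : ∀ n₁ : ℤ, ∃ n₂ : ℤ, ∀ Y : DerivedCategory A, Y.IsGE n₂ → (G.obj Y).IsGE n₁)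
    (X : A) : IsIso (η.app ((singleFunctor A 0).obj X)) := by
  obtain ⟨mF, hmF⟩ := exists_uniform_isGE hF
  obtain ⟨mG, hmG⟩ := exists_uniform_isGE hG
  have key : ∀ k : ℕ, ∀ j : ℤ, j < min mF mG + k → ∀ X : A,
      IsIso ((homologyFunctor B j).map (η.app ((singleFunctor A 0).obj X))) := by
    intro k
    induction k with
    | zero =>
      intro j hj X
      haveI := hmF X
      haveI := hmG X
      have h1 : IsZero ((homologyFunctor B j).obj (F.obj ((singleFunctor A 0).obj X))) :=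
        (F.obj ((singleFunctor A 0).obj X)).isZero_of_isGE mF j
          (lt_of_lt_of_le (by simpa using hj) (min_le_left _ _))
      have h2 : IsZero ((homologyFunctor B j).obj (G.obj ((singleFunctor A 0).obj X))) :=
        (G.obj ((singleFunctor A 0).obj X)).isZero_of_isGE mG j
          (lt_of_lt_of_le (by simpa using hj) (min_le_right _ _))
      exact ⟨0, h1.eq_of_src _ _, h2.eq_of_src _ _⟩
    | succ k ih =>
      intro j hj
      by_cases hjk : j < min mF mG + k
      · exact ih j hjk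
      have ih' := ih (j - 1) (by push_cast at hj; omega)
      have tri : ∀ X : A, ∃ (I X₁ : A) (T : Triangle (DerivedCategory A)), P I ∧
          T ∈ distTriang _ ∧ T.obj₁ = (singleFunctor A 0).obj X ∧
          T.obj₂ = (singleFunctor A 0).obj I ∧ T.obj₃ = (singleFunctor A 0).obj X₁ := by
        intro X
        obtain ⟨I, i, hI, hi⟩ := hP X
        have hS : (ShortComplex.mk i (cokernel.π i) (cokernel.condition i)).ShortExact :=
          { exact := ShortComplex.exact_cokernel i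
            mono_f := hi
            epi_g := by dsimp; infer_instance }
        exact ⟨I, cokernel i, hS.singleTriangle, hI, hS.singleTriangle_distinguished,
          rfl, rfl, rfl⟩
      have hmono : ∀ X : A,
          Mono ((homologyFunctor B j).map (η.app ((singleFunctor A 0).obj X))) := by
        intro X
        obtain ⟨I, X₁, T, hI, hT, h1, h2, h3⟩ := tri X
        have := mono_homology_app_obj₁ η T hT (j - 1) j (by omega)
          (by rw [h2]; haveI := hη I hI; infer_instance)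
          (by rw [h3]; haveI := ih' X₁; infer_instance)
          (by rw [h2]; haveI := hη I hI; infer_instance)
        rwa [h1] at this
      intro X
      obtain ⟨I, X₁, T, hI, hT, h1, h2, h3⟩ := tri X
      have hepi := epi_homology_app_obj₁ η T hT (j - 1) j (by omega)
        (by rw [h3]; haveI := ih' X₁; infer_instance)
        (by rw [h2]; haveI := hη I hI; infer_instance)
        (by rw [h3]; exact hmono X₁)
      rw [h1] at hepi
      haveI := hmono X
      exact isIso_of_mono_of_epi _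
  rw [DerivedCategory.isIso_iff]
  intro j
  exact key (j - min mF mG + 1).toNat j (by omega) X

end Groth.Agent.Helper9.WayOut
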