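import Mathlib
import Groth.Prelude.Def_ZClos
import Groth.Agent.Lib.Lead.ZClos6
import Groth.Agent.Lib.Lead.ZClos9
import Groth.Agent.Lib.Helper13.FlatBC4
import Groth.Agent.Lib.Helper13.FinTypeRestrict
import Groth.Agent.Lib.Helper13.FinAffine2
import Groth.Agent.Lib.Helper22.Pinch2
import Groth.Agent.Lib.Helper28.FpqcDescent
import Groth.Agent.Lib.Helper9.QCohDesc
import Groth.Agent.Lib.Helper9.PrinPart0

/-!
# The Z-closure commutes with flat base change (helper9)

`f : X' ⟶ X` flat, `X`, `X'` locally Noetherian, `Z ⊆ X` stable under specialization, `F`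
quasi-coherent: `f^*(H⁰_{X/Z}(F)) ≅ H⁰_{X'/f⁻¹Z}(f^*F)`; coherence of the Z-closure ascends and
descends (fpqc).
-/

set_option autoImplicit false
set_option backward.isDefEq.respectTransparency false
universe u

open CategoryTheory CategoryTheory.Limits AlgebraicGeometry TopologicalSpace Opposite TensorProduct

namespace Groth.Agent.Helper9.ZClosFlat

open Groth.Agent.Lead.ZClos1 Groth.Agent.Helper9.PrinPart0
open Groth.Agent.Helper5 Groth.Agent.Helper5.Sky Groth.Agent.Helper5.StalkCx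

variable {X X' : Scheme.{u}}

/-! ### Stalks -/

/-- bijectivity on stalks in terms of `DerSch.stalkFunctor` -/
theorem isIso_stalk_iff {M N : X.Modules} (φ : M ⟶ N) (x : X) :
    IsIso ((DerSch.stalkFunctor X x).map φ) ↔
      Function.Bijective ((TopCat.Presheaf.stalkFunctor (C := Ab.{u}) x).map φ.mapPresheaf) := by
  rw [ConcreteCategory.isIso_iff_bijective]
  exact Iff.rfl

/-- a morphism bijective on the stalk at `f x'` pulls back to a morphism bijective on the stalk
at `x'` -/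
theorem bijective_stalk_pullback (f : X' ⟶ X) {M N : X.Modules} (φ : M ⟶ N) (x' : X')
    (h : Function.Bijective
      ((TopCat.Presheaf.stalkFunctor (C := Ab.{u}) (f.base x')).map φ.mapPresheaf)) :
    Function.Bijective ((TopCat.Presheaf.stalkFunctor (C := Ab.{u}) x').map
      ((Scheme.Modules.pullback f).map φ).mapPresheaf) := by
  rw [← isIso_stalk_iff] at h ⊢
  haveI := h
  have h2 : IsIso ((DerSch.stalkFunctor X (f.base x') ⋙
      ModuleCat.extendScalars (φst f x')).map φ) := by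
    rw [Functor.comp_map]
    infer_instance
  have h3 : IsIso ((Scheme.Modules.pullback f ⋙ DerSch.stalkFunctor X' x').map φ) :=
    (NatIso.isIso_map_iff (pullbackStalkIso f x') φ).2 h2
  exact h3

/-! ### Restriction maps -/

theorem bijective_res_of_iso {Y : Scheme.{u}} {P Q : Y.Modules} (e : P ≅ Q) {A B : Y.Opens}
    (i : op A ⟶ op B) (h : Function.Bijective (Q.presheaf.map i)) :
    Function.Bijective (P.presheaf.map i) := by
  have hA : Function.Bijective (e.hom.app A) := app_bijective_of_isIso e.hom A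
  have hB : Function.Bijective (e.hom.app B) := app_bijective_of_isIso e.hom B
  have hcomm : ∀ x : Γ(P, A),
      e.hom.app B (P.presheaf.map i x) = Q.presheaf.map i (e.hom.app A x) :=
    fun x => hom_naturality e.hom i x
  refine ⟨fun x y hxy => ?_, fun z => ?_⟩
  · apply hA.1
    apply h.1
    rw [← hcomm, ← hcomm, hxy]
  · obtain ⟨w, hw⟩ := h.2 (e.hom.app B z)
    obtain ⟨x, rfl⟩ := hA.2 w
    exact ⟨x, hB.1 ((hcomm x).trans hw)⟩

theorem pushforward_presheaf_map {Y Y' : Scheme.{u}} (j : Y' ⟶ Y) (N : Y'.Modules)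
    {A B : Y.Opens} (i : A ⟶ B) :
    ((Scheme.Modules.pushforward j).obj N).presheaf.map i.op =
      N.presheaf.map ((Opens.map j.base).map i).op := rfl

/-- a direct image from an open `U'` is "closed with respect to `U'`" -/
theorem bijective_res_pushforward (U' : X'.Opens) (N : (U' : Scheme.{u}).Modules)
    (W' : X'.Opens) :
    Function.Bijective (((Scheme.Modules.pushforward U'.ι).obj N).presheaf.map
      (homOfLE (inf_le_left : W' ⊓ U' ≤ W')).op) := by
  have h : U'.ι ⁻¹ᵁ W' = U'.ι ⁻¹ᵁ (W' ⊓ U') := by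
    rw [Scheme.Hom.preimage_inf, Scheme.Opens.ι_preimage_self, inf_top_eq]
  rw [pushforward_presheaf_map]
  exact map_bijective_of_eq N h _

/-- flat pullback of a direct image from a (quasi-compact) open is closed with respect to the
preimage of that open -/
theorem bijective_res_pullback_pushforward [IsLocallyNoetherian X] (f : X' ⟶ X) [Flat f]
    (U : X.Opens) (M : (U : Scheme.{u}).Modules) [M.IsQuasicoherent] (G : X.Modules)
    (e1 : G ≅ (Scheme.Modules.pushforward U.ι).obj M) (W' : X'.Opens) :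
    Function.Bijective (((Scheme.Modules.pullback f).obj G).presheaf.map
      (homOfLE (inf_le_left : W' ⊓ f ⁻¹ᵁ U ≤ W')).op) := by
  have hpb : IsPullback (f ∣_ U) (f ⁻¹ᵁ U).ι U.ι f := isPullback_morphismRestrict f U
  haveI : IsIso (Groth.Agent.Helper28.AffBC.bcMap U.ι f (f ∣_ U) (f ⁻¹ᵁ U).ι hpb M) :=
    Groth.Agent.Helper13.FlatBC.isIso_bcMap U.ι f (f ∣_ U) (f ⁻¹ᵁ U).ι hpb M
  have e : (Scheme.Modules.pullback f).obj G ≅
      (Scheme.Modules.pushforward (f ⁻¹ᵁ U).ι).obj ((Scheme.Modules.pullback (f ∣_ U)).obj M) :=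
    (Scheme.Modules.pullback f).mapIso e1 ≪≫
      asIso (Groth.Agent.Helper28.AffBC.bcMap U.ι f (f ∣_ U) (f ⁻¹ᵁ U).ι hpb M)
  exact bijective_res_of_iso e _ (bijective_res_pushforward (f ⁻¹ᵁ U) _ W')

theorem bijective_of_comp' {Y : Scheme.{u}} (F : Y.Modules) {A B C : Y.Opens} (hBA : B ≤ A)
    (hCB : C ≤ B)
    (h1 : Function.Bijective (F.presheaf.map (homOfLE (hCB.trans hBA)).op))
    (h2 : Function.Bijective (F.presheaf.map (homOfLE hCB).op)) :
    Function.Bijective (F.presheaf.map (homOfLE hBA).op) := by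
  have hcomp : ∀ s : Γ(F, A),
      F.presheaf.map (homOfLE hCB).op (F.presheaf.map (homOfLE hBA).op s) =
        F.presheaf.map (homOfLE (hCB.trans hBA)).op s :=
    fun s => Groth.Agent.Helper13.QCoh.map_map_eq F _ _ _ s
  refine ⟨fun s s' hss => ?_, fun b => ?_⟩
  · apply h1.1
    exact (hcomp s).symm.trans
      ((congrArg (fun z => F.presheaf.map (homOfLE hCB).op z) hss).trans (hcomp s'))
  · obtain ⟨a, ha⟩ := h1.2 (F.presheaf.map (homOfLE hCB).op b)
    refine ⟨a, h2.1 ?_⟩
    exact (hcomp a).trans ha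

/-! ### Closed subsets -/

/-- a closed subset of `f⁻¹ Z` meets a quasi-compact open inside the preimage of a closed subset
of `Z` -/
theorem exists_cl_preimage [IsLocallyNoetherian X'] (f : X' ⟶ X) (Z : Set X)
    (hZ : StableUnderSpecialization Z) (T' : ZClos.Cl (f.base ⁻¹' Z)) (V' : X'.Opens)
    (hV' : IsCompact (V' : Set X')) :
    ∃ T : ZClos.Cl Z, ∀ y : X', y ∈ V' → y ∈ (T'.1 : Set X') → f.base y ∈ (T.1 : Set X) := by
  haveI : CompactSpace ↥(V' : Scheme.{u}) := isCompact_iff_compactSpace.1 hV'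
  haveI : IsNoetherian (V' : Scheme.{u}) := { }
  have hN : NoetherianSpace ↥V' := (inferInstance : NoetherianSpace ↥(V' : Scheme.{u}))
  have hQ : QuasiSober ↥V' := (inferInstance : QuasiSober ↥(V' : Scheme.{u}))
  have hS : IsClosed ((Subtype.val : ↥V' → X') ⁻¹' (T'.1 : Set X')) :=
    T'.1.isClosed.preimage continuous_subtype_val
  obtain ⟨𝒮, hfin, hcl, hirr, hUn⟩ :=
    @NoetherianSpace.exists_finite_set_isClosed_irreducible ↥V' _ hN _ hS
  obtain ⟨g, hgdef⟩ : ∃ g : ↥V' → X, g = fun w => f.base w.1 := ⟨_, rfl⟩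
  have hg : Continuous g := by
    rw [hgdef]
    exact f.base.hom.continuous.comp continuous_subtype_val
  have hgv : ∀ w : ↥V', g w = f.base w.1 := fun w => by rw [hgdef]
  have hT₀cl : IsClosed (⋃ C ∈ 𝒮, closure (g '' C)) :=
    hfin.isClosed_biUnion (fun C _ => isClosed_closure)
  have hT₀Z : (⋃ C ∈ 𝒮, closure (g '' C)) ⊆ Z := by
    intro y hy
    obtain ⟨C, hC, hy⟩ := Set.mem_iUnion₂.1 hy
    obtain ⟨η, hη⟩ : ∃ η : ↥V', IsGenericPoint η C := hQ.sober (hirr C hC) (hcl C hC)
    have h2 : closure {η} = C := hη.def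
    have h1 : η ∈ C := by
      rw [← h2]
      exact subset_closure rfl
    have hηS : (η : X') ∈ (T'.1 : Set X') := by
      have h3 : η ∈ (Subtype.val : ↥V' → X') ⁻¹' (T'.1 : Set X') := by
        rw [hUn]
        exact ⟨C, hC, h1⟩
      exact h3
    have h4 : g '' closure {η} ⊆ closure (g '' {η}) :=
      image_closure_subset_closure_image hg
    rw [Set.image_singleton, h2] at h4
    have h5 : closure (g '' C) ⊆ closure {g η} :=
      closure_minimal h4 isClosed_closure
    have h6 : g η ∈ Z := by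
      rw [hgv]
      exact T'.2 hηS
    exact hZ (specializes_iff_mem_closure.2 (h5 hy)) h6
  refine ⟨⟨⟨⋃ C ∈ 𝒮, closure (g '' C), hT₀cl⟩, hT₀Z⟩, ?_⟩
  intro y hyV hyT
  have hy' : (⟨y, hyV⟩ : ↥V') ∈ (Subtype.val : ↥V' → X') ⁻¹' (T'.1 : Set X') := hyT
  rw [hUn] at hy'
  obtain ⟨C, hC, hyC⟩ := hy'
  refine Set.mem_iUnion₂.2 ⟨C, hC, ?_⟩
  exact subset_closure ⟨⟨y, hyV⟩, hyC, hgv _⟩

/-! ### Z-closedness ascends along flat morphisms -/

theorem isZClosed_pullback [IsLocallyNoetherian X] [IsLocallyNoetherian X'] (f : X' ⟶ X) [Flat f]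
    (Z : Set X) (hZ : StableUnderSpecialization Z) (G : X.Modules) [G.IsQuasicoherent]
    (hG : ZClos.IsZClosed Z G) :
    ZClos.IsZClosed (f.base ⁻¹' Z) ((Scheme.Modules.pullback f).obj G) := by
  rw [isZClosed_iff]
  intro T' V' hV'
  obtain ⟨T, hT⟩ := exists_cl_preimage f Z hZ T' V' hV'
  have key : ∀ W' : X'.Opens, Function.Bijective
      (((Scheme.Modules.pullback f).obj G).presheaf.map
        (homOfLE (inf_le_left : W' ⊓ f ⁻¹ᵁ T.U ≤ W')).op) := by
    intro W'
    haveI : IsIso (ZClos.toDiagram Z G T) := (isZClosed_iff_toDiagram Z G).1 hG T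
    have e1 : G ≅ (Scheme.Modules.pushforward T.U.ι).obj
        ((Scheme.Modules.restrictFunctor T.U.ι).obj G) := asIso (ZClos.toDiagram Z G T)
    exact bijective_res_pullback_pushforward f T.U
      ((Scheme.Modules.restrictFunctor T.U.ι).obj G) G e1 W'
  have hsub : V' ⊓ f ⁻¹ᵁ T.U ≤ V' ⊓ T'.U := by
    intro y hy
    refine ⟨hy.1, fun hyT' => ?_⟩
    exact hy.2 (hT y hy.1 hyT')
  have heq : V' ⊓ T'.U ⊓ f ⁻¹ᵁ T.U = V' ⊓ f ⁻¹ᵁ T.U :=
    le_antisymm (inf_le_inf_right _ inf_le_left) (le_inf hsub inf_le_right)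
  have hBA : V' ⊓ T'.U ≤ V' := inf_le_left
  have hCB : V' ⊓ T'.U ⊓ f ⁻¹ᵁ T.U ≤ V' ⊓ T'.U := inf_le_left
  have h1 : Function.Bijective (((Scheme.Modules.pullback f).obj G).presheaf.map
      (homOfLE (hCB.trans hBA)).op) :=
    (bijective_map_congr ((Scheme.Modules.pullback f).obj G) heq inf_le_left
      (hCB.trans hBA)).2 (key V')
  exact bijective_of_comp' ((Scheme.Modules.pullback f).obj G) hBA hCB h1 (key (V' ⊓ T'.U))

/-! ### The main isomorphism -/

theorem main5853 [IsLocallyNoetherian X] [IsLocallyNoetherian X'] (f : X' ⟶ X) [Flat f]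
    (Z : Set X) (hZ : StableUnderSpecialization Z) (F : X.Modules) [F.IsQuasicoherent] :
    Nonempty ((Scheme.Modules.pullback f).obj ((ZClos.H0 Z).obj F) ≅
      (ZClos.H0 (f.base ⁻¹' Z)).obj ((Scheme.Modules.pullback f).obj F)) := by
  haveI : ((ZClos.H0 Z).obj F).IsQuasicoherent := isQuasicoherent_H0 Z F
  have hZ' : StableUnderSpecialization (f.base ⁻¹' Z) := hZ.preimage f.base.hom.continuous
  have hcl : ZClos.IsZClosed (f.base ⁻¹' Z)
      ((Scheme.Modules.pullback f).obj ((ZClos.H0 Z).obj F)) :=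
    isZClosed_pullback f Z hZ _ (isZClosed_H0 Z F)
  obtain ⟨v, hv, -⟩ := existsUnique_fac (f.base ⁻¹' Z) ((Scheme.Modules.pullback f).obj F) hcl
    ((Scheme.Modules.pullback f).map (ZClos.rhoApp Z F))
  haveI : IsIso v := isIso_of_fac (f.base ⁻¹' Z) hZ' hcl
    ((Scheme.Modules.pullback f).map (ZClos.rhoApp Z F))
    (fun x' hx' => bijective_stalk_pullback f (ZClos.rhoApp Z F) x'
      (isZClosedAt_of_not_mem Z F (f.base x') hx')) v hv
  exact ⟨(asIso v).symm⟩

/-! ### Coherence -/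

/-- fpqc descent of finite type for quasi-coherent modules -/
theorem isFiniteType_of_pullback_fpqc {S S' : Scheme.{u}} (g : S' ⟶ S) [Flat g] [Surjective g]
    [QuasiCompact g] (F : S.Modules) [F.IsQuasicoherent]
    (h : SheafOfModules.IsFiniteType (R := S'.ringCatSheaf) ((Scheme.Modules.pullback g).obj F)) :
    SheafOfModules.IsFiniteType (R := S.ringCatSheaf) F := by
  rw [Groth.Agent.Helper13.FinType.isFiniteType_iff_finite_sections]
  intro U hU
  obtain ⟨V, hV, k, e, hff⟩ := Groth.Agent.Helper28.FpqcDescent.exists_affine_faithfullyFlat g hU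
  letI alg : Algebra Γ(S, U) Γ(V, ⊤) := ((k ≫ g).appLE U ⊤ e).hom.toAlgebra
  haveI : Module.FaithfullyFlat Γ(S, U) Γ(V, ⊤) := hff
  haveI hq : ((Scheme.Modules.pullback g).obj F).IsQuasicoherent :=
    Groth.Agent.Helper13.Pullback.isQuasicoherent_pullback g F
  haveI := h
  haveI h1 : SheafOfModules.IsFiniteType (R := V.ringCatSheaf)
      ((Scheme.Modules.pullback k).obj ((Scheme.Modules.pullback g).obj F)) :=
    Groth.Agent.Helper22.Pinch.isFiniteType_pullback k _
  haveI hq2 : ((Scheme.Modules.pullback k).obj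
      ((Scheme.Modules.pullback g).obj F)).IsQuasicoherent :=
    Groth.Agent.Helper13.Pullback.isQuasicoherent_pullback k _
  haveI h2 : Module.Finite Γ(V, ⊤)
      Γ((Scheme.Modules.pullback k).obj ((Scheme.Modules.pullback g).obj F), ⊤) :=
    Groth.Agent.Helper13.FinType.finite_sections_of_isFiniteType _ (isAffineOpen_top V)
  have e0 : (Scheme.Modules.pullback k).obj ((Scheme.Modules.pullback g).obj F) ≅
      (Scheme.Modules.pullback (k ≫ g)).obj F := (Scheme.Modules.pullbackComp k g).app F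
  haveI h3 : Module.Finite Γ(V, ⊤) Γ((Scheme.Modules.pullback (k ≫ g)).obj F, ⊤) :=
    Module.Finite.equiv (Groth.Agent.Helper28.FpqcDescent.appLinEquiv e0 ⊤)
  haveI h4 : Module.Finite Γ(V, ⊤) (Γ(V, ⊤) ⊗[Γ(S, U)] Γ(F, U)) :=
    Module.Finite.equiv
      (Groth.Agent.Helper13.Pullback.sectionsPullbackEquiv (k ≫ g) F (isAffineOpen_top V) hU e)
  exact Module.Finite.of_finite_tensorProduct_of_faithfullyFlat Γ(V, ⊤)

theorem main5854 [IsLocallyNoetherian X] [IsLocallyNoetherian X'] (f : X' ⟶ X) [Flat f]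
    (Z : Set X) (hZ : StableUnderSpecialization Z) (F : X.Modules) [F.IsQuasicoherent] :
    (Coh.IsCoh ((ZClos.H0 Z).obj F) →
      Coh.IsCoh ((ZClos.H0 (f.base ⁻¹' Z)).obj ((Scheme.Modules.pullback f).obj F))) ∧
    (Surjective f → QuasiCompact f →
      Coh.IsCoh ((ZClos.H0 (f.base ⁻¹' Z)).obj ((Scheme.Modules.pullback f).obj F)) →
        Coh.IsCoh ((ZClos.H0 Z).obj F)) := by
  haveI hq0 : ((ZClos.H0 Z).obj F).IsQuasicoherent := isQuasicoherent_H0 Z F
  haveI hq1 : ((Scheme.Modules.pullback f).obj F).IsQuasicoherent :=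
    Groth.Agent.Helper13.Pullback.isQuasicoherent_pullback f F
  haveI hq2 : ((ZClos.H0 (f.base ⁻¹' Z)).obj ((Scheme.Modules.pullback f).obj F)).IsQuasicoherent :=
    isQuasicoherent_H0 _ _
  obtain ⟨e⟩ := main5853 f Z hZ F
  constructor
  · rintro ⟨_, hft⟩
    haveI : SheafOfModules.IsFiniteType (R := X.ringCatSheaf) ((ZClos.H0 Z).obj F) := hft
    haveI : SheafOfModules.IsFiniteType (R := X'.ringCatSheaf)
        ((Scheme.Modules.pullback f).obj ((ZClos.H0 Z).obj F)) :=
      Groth.Agent.Helper22.Pinch.isFiniteType_pullback f _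
    exact ⟨hq2, Groth.Agent.Helper13.FinType.isFiniteType_of_iso e⟩
  · rintro hs hqc ⟨_, hft⟩
    haveI := hs
    haveI := hqc
    haveI : SheafOfModules.IsFiniteType (R := X'.ringCatSheaf)
        ((ZClos.H0 (f.base ⁻¹' Z)).obj ((Scheme.Modules.pullback f).obj F)) := hft
    have h1 : SheafOfModules.IsFiniteType (R := X'.ringCatSheaf)
        ((Scheme.Modules.pullback f).obj ((ZClos.H0 Z).obj F)) :=
      Groth.Agent.Helper13.FinType.isFiniteType_of_iso e.symm
    exact ⟨hq0, isFiniteType_of_pullback_fpqc f _ h1⟩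

end Groth.Agent.Helper9.ZClosFlat
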