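import Mathlib

/-!
# Composites of maps which vanish on cohomology (in the derived category)
-/

set_option autoImplicit false
universe w v u
open CategoryTheory CategoryTheory.Limits Pretriangulated

namespace Groth.Agent.Helper9.ZeroComp

variable {A : Type u} [Category.{v} A] [Abelian A]

/-- A chain map from a complex strictly `≤ b` to a complex strictly `≥ b` which is zero on
`H^b` is zero. -/
theorem chain_eq_zero {K L : CochainComplex A ℤ} (b : ℤ) [K.IsStrictlyLE b] [L.IsStrictlyGE b]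
    (g : K ⟶ L) (hg : HomologicalComplex.homologyMap g b = 0) : g = 0 := by
  refine HomologicalComplex.hom_ext _ _ (fun i => ?_)
  rcases lt_trichotomy i b with hi | rfl | hi
  · exact (L.isZero_of_isStrictlyGE b i hi).eq_of_tgt _ _
  · have h1 : IsIso (K.iCycles i) :=
      K.isIso_iCycles i (i + 1) (by simp)
        ((K.isZero_of_isStrictlyLE i (i + 1) (by omega)).eq_of_tgt _ _)
    have h2 : IsIso (L.homologyπ i) :=
      L.isIso_homologyπ (i - 1) i (by simp)
        ((L.isZero_of_isStrictlyGE i (i - 1) (by omega)).eq_of_src _ _)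
    have h3 : HomologicalComplex.cyclesMap g i = 0 := by
      rw [← cancel_mono (L.homologyπ i), zero_comp, ← HomologicalComplex.homologyπ_naturality,
        hg, comp_zero]
    have h4 : K.iCycles i ≫ g.f i = 0 := by
      rw [← HomologicalComplex.cyclesMap_i, h3, zero_comp]
    rw [← cancel_epi (K.iCycles i), h4]
    simp
  · exact (K.isZero_of_isStrictlyLE b i hi).eq_of_src _ _

variable [HasDerivedCategory.{w} A]

open DerivedCategory

/-- A morphism from `D^{≤ b}` to `D^{≥ b}` which is zero on `H^b` is zero. -/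
theorem eq_zero_of_homologyMap_eq_zero {Y W : DerivedCategory A} (b : ℤ) [Y.IsLE b] [W.IsGE b]
    (u : Y ⟶ W) (h : (homologyFunctor A b).map u = 0) : u = 0 := by
  obtain ⟨Y', _, ⟨eY⟩⟩ := exists_iso_Q_obj_of_isLE Y b
  obtain ⟨W', _, ⟨eW⟩⟩ := exists_iso_Q_obj_of_isGE W b
  obtain ⟨Y'', _, s, hs, g, fac⟩ := right_fac_of_isStrictlyLE (eY.inv ≫ u ≫ eW.hom) b
  have h1 : (homologyFunctor A b).map (Q.map g) = 0 := by
    have : Q.map g = Q.map s ≫ eY.inv ≫ u ≫ eW.hom := by
      rw [fac, IsIso.hom_inv_id_assoc]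
    rw [this]
    simp only [Functor.map_comp, h, zero_comp, comp_zero]
  have h2 : HomologicalComplex.homologyMap g b = 0 := by
    have h5 := homologyFunctorFactors_hom_naturality g b
    rw [h1, zero_comp] at h5
    exact (cancel_epi ((homologyFunctorFactors A b).hom.app Y'')).1 (h5.symm.trans comp_zero.symm)
  have h3 : g = 0 := chain_eq_zero b g h2
  rw [h3, Functor.map_zero, comp_zero] at fac
  have h4 : u = eY.hom ≫ (eY.inv ≫ u ≫ eW.hom) ≫ eW.inv := by simp
  rw [h4, fac, zero_comp, comp_zero]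

/-- One step: a map from `D^{≤ b}` followed by a map which is zero on `H^b` factors through
`D^{≤ b - 1}`. -/
theorem exists_factor_step {K L Y : DerivedCategory A} (b : ℤ) [Y.IsLE b] (g : Y ⟶ K) (f : K ⟶ L)
    (hf : (homologyFunctor A b).map f = 0) :
    ∃ (Z : DerivedCategory A) (_ : Z.IsLE (b - 1)) (g' : Y ⟶ Z) (ι : Z ⟶ L), g ≫ f = g' ≫ ι := by
  obtain ⟨Z, W, hZ, hW, ι, p, δ, hT⟩ := TStructure.t.exists_triangle L (b - 1) b (by omega)
  haveI : Z.IsLE (b - 1) := ⟨hZ⟩
  haveI : W.IsGE b := ⟨hW⟩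
  have h0 : (g ≫ f) ≫ p = 0 := by
    apply eq_zero_of_homologyMap_eq_zero b
    simp only [Functor.map_comp, hf, zero_comp, comp_zero]
  obtain ⟨g', hg'⟩ := Triangle.coyoneda_exact₂ _ hT (g ≫ f) h0
  exact ⟨Z, inferInstance, g', ι, hg'⟩


/-- Iteration of `exists_factor_step` along a chain of composable arrows. -/
theorem exists_factor_iter {N : ℕ} (K : ComposableArrows (DerivedCategory A) N) (b : ℤ)
    (hf : ∀ (i : ℕ) (hi : i < N) (p : ℤ), p ≤ b →
      (homologyFunctor A p).map (K.map' i (i + 1)) = 0)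
    {Y : DerivedCategory A} [Y.IsLE b] (g : Y ⟶ K.obj' 0) :
    ∀ (n : ℕ) (hn : n ≤ N), ∃ (Z : DerivedCategory A) (_ : Z.IsLE (b - n)) (g' : Y ⟶ Z)
      (ι : Z ⟶ K.obj' n), g ≫ K.map' 0 n = g' ≫ ι := by
  intro n
  induction n with
  | zero =>
    intro hn
    refine ⟨Y, by simpa using (inferInstance : Y.IsLE b), 𝟙 Y, g, ?_⟩
    rw [K.map'_self 0, Category.comp_id, Category.id_comp]
  | succ n ih =>
    intro hn
    obtain ⟨Z, hZ, g', ι, h⟩ := ih (by omega)
    obtain ⟨Z', hZ', g'', ι', h'⟩ := exists_factor_step (b - n) ι (K.map' n (n + 1))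
      (hf n (by omega) _ (by omega))
    have e : b - ((n + 1 : ℕ) : ℤ) = b - n - 1 := by push_cast; ring
    refine ⟨Z', by rw [e]; exact hZ', g' ≫ g'', ι', ?_⟩
    rw [K.map'_comp 0 n (n + 1), ← Category.assoc, h, Category.assoc, h', Category.assoc]

/-- Main statement (Stacks-style lemma on composites of maps vanishing on low cohomology). -/
theorem main (k : ℕ)
    (K : ComposableArrows (DerivedCategory A) (2 * k))
    (hK : ∀ (i : ℕ) (hi : i ≤ 2 * k) (p : ℤ), p < 0 ∨ (k : ℤ) < p →
      IsZero ((homologyFunctor A p).obj (K.obj' i)))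
    (hf : ∀ (i : ℕ) (hi : i < 2 * k) (p : ℤ), p < (k : ℤ) →
      (homologyFunctor A p).map (K.map' i (i + 1)) = 0)
    (π : K.obj' 0 ⟶ (singleFunctor A (k : ℤ)).obj
      ((homologyFunctor A (k : ℤ)).obj (K.obj' 0)))
    (hπ : (homologyFunctor A (k : ℤ)).map π ≫
      (singleFunctorCompHomologyFunctorIso A (k : ℤ)).hom.app
        ((homologyFunctor A (k : ℤ)).obj (K.obj' 0)) = 𝟙 _) :
    ∃ φ : (singleFunctor A (k : ℤ)).obj
        ((homologyFunctor A (k : ℤ)).obj (K.obj' 0)) ⟶ K.obj' (2 * k),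
      K.map' 0 (2 * k) = π ≫ φ := by
  obtain ⟨C, c, δ, hT⟩ := distinguished_cocone_triangle₁ π
  have hπiso : IsIso ((homologyFunctor A (k : ℤ)).map π) := by
    have : IsIso ((homologyFunctor A (k : ℤ)).map π ≫
      (singleFunctorCompHomologyFunctorIso A (k : ℤ)).hom.app
        ((homologyFunctor A (k : ℤ)).obj (K.obj' 0))) := by rw [hπ]; infer_instance
    exact IsIso.of_isIso_comp_right _ ((singleFunctorCompHomologyFunctorIso A (k : ℤ)).hom.app _)
  have hC : C.IsLE ((k : ℤ) - 1) := by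
    rw [isLE_iff]
    intro i hi
    obtain ⟨j, rfl⟩ : ∃ j, i = j + 1 := ⟨i - 1, by ring⟩
    have hex := HomologySequence.exact₁ _ hT j (j + 1) rfl
    have hc0 : (homologyFunctor A (j + 1)).map c = 0 := by
      by_cases hik : j + 1 = k
      · rw [hik]
        exact (HomologySequence.mono_homologyMap_mor₂_iff _ hT (k : ℤ)).1
          (show Mono ((homologyFunctor A (k : ℤ)).map π) from inferInstance)
      · exact (hK 0 (by omega) (j + 1) (Or.inr (by omega))).eq_of_tgt _ _
    have hδ0 : HomologySequence.δ (Triangle.mk c π δ) j (j + 1) rfl = 0 := by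
      by_cases hik : j = k
      · subst hik
        exact (HomologySequence.epi_homologyMap_mor₂_iff _ hT (k : ℤ) (k + 1) rfl).1
          (show Epi ((homologyFunctor A (k : ℤ)).map π) from inferInstance)
      · have : IsZero ((homologyFunctor A j).obj ((singleFunctor A (k : ℤ)).obj
            ((homologyFunctor A (k : ℤ)).obj (K.obj' 0)))) := by
          rcases lt_or_gt_of_ne hik with h | h
          · exact isZero_of_isGE _ (k : ℤ) _ h
          · exact isZero_of_isLE _ (k : ℤ) _ h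
        exact this.eq_of_src _ _
    exact hex.isZero_of_both_zeros hδ0 hc0
  have hKk : (K.obj' k).IsGE 0 := by
    rw [isGE_iff]
    intro i hi
    exact hK k (by omega) i (Or.inl hi)
  obtain ⟨Z, hZ, g', ι, h⟩ := exists_factor_iter K ((k : ℤ) - 1)
    (fun i hi p hp => hf i hi p (by omega)) c k (by omega)
  have hZ' : Z.IsLE (-1) := by
    have e : ((k : ℤ) - 1 - k) = -1 := by ring
    rw [← e]; exact hZ
  have hι : ι = 0 := TStructure.t.zero ι (-1) 0 (by omega)
  have h0 : c ≫ K.map' 0 k = 0 := by rw [h, hι, comp_zero]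
  obtain ⟨φ', hφ'⟩ : ∃ φ' : (singleFunctor A (k : ℤ)).obj
      ((homologyFunctor A (k : ℤ)).obj (K.obj' 0)) ⟶ K.obj' k, K.map' 0 k = π ≫ φ' :=
    Triangle.yoneda_exact₂ _ hT (K.map' 0 k) h0
  refine ⟨φ' ≫ K.map' k (2 * k), ?_⟩
  rw [K.map'_comp 0 k (2 * k), hφ', Category.assoc]

end Groth.Agent.Helper9.ZeroComp
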